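import Groth.Agent.AGFLib.QuotProper
import Groth.Agent.VarDim.FibreDim
import Groth.Agent.VarDim.IrredFibres
import Groth.Agent.VarDim.Top

/-! Dimensions of fibres controlled by rational points over an algebraically closed field. -/

set_option backward.isDefEq.respectTransparency false
set_option backward.isDefEq.respectTransparency.types false
set_option linter.style.haveILetI false

universe u

open CategoryTheory Limits AlgebraicGeometry MonoidalCategory CartesianMonoidalCategory

namespace Groth.Agent.AGFLib.FibrePts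

open Groth.Agent.AGFLib.Gen

variable {k : Type u} [Field k] [IsAlgClosed k] {Z Y : Over (Spec (CommRingCat.of k))}

local notation "PT" => 𝟙_ (Over (Spec (CommRingCat.of k)))

/-- A closed set is contained in a closed set containing its rational points. -/
theorem subset_of_pts [LocallyOfFiniteType Z.hom] {T C : Set Z.left} (hT : IsClosed T) (hC : IsClosed C)
    (h : ∀ t : PT ⟶ Z, cp t ∈ T → cp t ∈ C) : T ⊆ C := by
  haveI : JacobsonSpace Z.left := LocallyOfFiniteType.jacobsonSpace Z.hom
  rw [← JacobsonSpace.closure_inter_closedPoints hT]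
  refine closure_minimal ?_ hC
  rintro z ⟨hz1, hz2⟩
  obtain ⟨t, rfl⟩ := exists_cp hz2
  exact h t hz1

/-- The points of a closed set with finitely many rational points are closed. -/
theorem isClosed_of_finite [LocallyOfFiniteType Z.hom] [IsSeparated Z.hom] {T : Set Z.left} (hT : IsClosed T)
    (h : {t : PT ⟶ Z | cp t ∈ T}.Finite) {y : Z.left} (hy : y ∈ T) : IsClosed ({y} : Set Z.left) := by
  have hfc : IsClosed (cp '' {t : PT ⟶ Z | cp t ∈ T}) := by
    rw [← Set.biUnion_of_singleton (cp '' _)]
    exact (h.image _).isClosed_biUnion fun x ⟨t, _, ht⟩ => ht ▸ isClosed_cp t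
  obtain ⟨t, -, rfl⟩ := subset_of_pts hT hfc (fun t ht => ⟨t, ht, rfl⟩) hy
  exact isClosed_cp t

/-- A point of a set on which a morphism has finite fibres has the degree of its image. -/
theorem deg_eq_of_finite [LocallyOfFiniteType Z.hom] [IsSeparated Z.hom] [LocallyOfFiniteType Y.hom] [IsSeparated Y.hom]
    (f : Z ⟶ Y) {T : Set Z.left} (hT : IsClosed T)
    (h : ∀ y : PT ⟶ Y, {t : PT ⟶ Z | cp t ∈ T ∧ t ≫ f = y}.Finite) {z : Z.left} (hz : z ∈ T) :
    VarDim.deg Z.hom z = VarDim.deg Y.hom (f.left z) := by
  haveI : LocallyOfFiniteType (f.left ≫ Y.hom) := by rw [Over.w f]; infer_instance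
  haveI : LocallyOfFiniteType f.left := locallyOfFiniteType_of_comp f.left Y.hom
  obtain ⟨c, hc, hcc⟩ := VarDim.exists_closed_specialization Z.hom z
  obtain ⟨t, rfl⟩ := exists_cp hcc
  obtain ⟨x, hx1, -, hx3, hx4⟩ := VarDim.exists_fdeg_ge (k := k) f.left Y.hom hc
  have hx : IsClosed ({x} : Set Z.left) := isClosed_of_finite
    (hT.inter ((isClosed_cp (t ≫ f)).preimage f.left.continuous))
    ((h (t ≫ f)).subset fun s hs => ⟨hs.1, cp_injective hs.2⟩) ⟨hx1.mem_closed hT hz, hx3⟩
  have h0 : VarDim.deg Z.hom x = 0 := (VarDim.closedPoint_iff_deg_eq_zero Z.hom x).1 hx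
  have h1 := VarDim.deg_eq_add f.left Y.hom (Over.w f) x
  have h2 := VarDim.deg_eq_add f.left Y.hom (Over.w f) z
  omega

/-- The degree on the closure of an image of an irreducible scheme. -/
theorem deg_le_of_mem_closure [LocallyOfFiniteType Z.hom] [LocallyOfFiniteType Y.hom] [IrreducibleSpace Z.left]
    (f : Z ⟶ Y) {y : Y.left} (hy : y ∈ closure (Set.range f.left)) :
    VarDim.deg Y.hom y ≤ VarDim.deg Z.hom (genericPoint Z.left) := by
  have h : closure (Set.range f.left) ⊆ closure {f.left (genericPoint Z.left)} := closure_minimal (by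
    rintro _ ⟨x, rfl⟩
    exact specializes_iff_mem_closure.mp ((genericPoint_specializes x).map f.left.continuous)) isClosed_closure
  exact (VarDim.deg_le_of_specializes Y.hom (specializes_iff_mem_closure.mpr (h hy))).trans
    (VarDim.deg_map_le f.left Y.hom (Over.w f) _)

/-- The generic point of a product has at least the degree of the sum. -/
theorem deg_prod [LocallyOfFiniteType Z.hom] [LocallyOfFiniteType Y.hom] [IrreducibleSpace Z.left]
    [IrreducibleSpace Y.left] [IrreducibleSpace (Z ⊗ Y).left] [LocallyOfFiniteType (Z ⊗ Y).hom] :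
    VarDim.deg Z.hom (genericPoint Z.left) + VarDim.deg Y.hom (genericPoint Y.left) ≤
      VarDim.deg (Z ⊗ Y).hom (genericPoint (Z ⊗ Y).left) := by
  haveI : JacobsonSpace Z.left := LocallyOfFiniteType.jacobsonSpace Z.hom
  let p := (fst Z Y).left
  have hp : p ≫ Z.hom = (Z ⊗ Y).hom := Over.w (fst Z Y)
  haveI : LocallyOfFiniteType (p ≫ Z.hom) := by rw [hp]; infer_instance
  haveI : LocallyOfFiniteType p := locallyOfFiniteType_of_comp p Z.hom
  set η := genericPoint (Z ⊗ Y).left
  obtain ⟨W, hW, hWle⟩ := VarDim.exists_open_fdeg_le (k := k) p Z.hom η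
  haveI : Surjective Y.hom := ⟨Function.surjective_to_subsingleton (α := Y.left)
    (β := Spec (CommRingCat.of k)) _⟩
  have hfst : p (η) = genericPoint Z.left := by
    haveI : Surjective p := MorphismProperty.pullback_fst (P := @Surjective) Z.hom Y.hom ‹_›
    obtain ⟨x, hx⟩ := p.surjective (genericPoint Z.left)
    exact ((genericPoint_specializes _).antisymm (hx ▸ (genericPoint_specializes x).map p.continuous)).eq.symm
  haveI : UniversallyOpen Y.hom := inferInstance
  haveI : UniversallyOpen p := MorphismProperty.pullback_fst (P := @UniversallyOpen) Z.hom Y.hom ‹_›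
  have hopen : IsOpenMap p := p.isOpenMap
  obtain ⟨g, hg, hgc⟩ := nonempty_inter_closedPoints (Z := p '' (W : Set (Z ⊗ Y).left)) ⟨_, ⟨η, hW, rfl⟩⟩
    (hopen _ W.2).isLocallyClosed
  obtain ⟨t, rfl⟩ := exists_cp hgc
  obtain ⟨w, hwW, hw⟩ := hg
  let j : Y ⟶ Z ⊗ Y := lift (toUnit Y ≫ t) (𝟙 Y)
  obtain ⟨y, rfl⟩ : w ∈ Set.range j.left := by
    obtain ⟨u, hu1, hu2⟩ := Scheme.Pullback.exists_preimage_pullback (f := t.left) (g := p) (IsLocalRing.closedPoint k) w
      hw.symm
    refine ⟨(pullback.snd t.left p ≫ (snd Z Y).left) u, ?_⟩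
    have e : (pullback.snd t.left p ≫ (snd Z Y).left) ≫ j.left = pullback.snd t.left p := by
      have e1 : ((toUnit Y ≫ t).left) = Y.hom ≫ t.left := rfl
      apply pullback.hom_ext
      · rw [Category.assoc, show j.left ≫ pullback.fst Z.hom Y.hom = Y.hom ≫ t.left from
          congrArg CommaMorphism.left (lift_fst (toUnit Y ≫ t) (𝟙 Y))]
        rw [show pullback.snd t.left p ≫ pullback.fst Z.hom Y.hom = pullback.fst t.left p ≫ t.left from
          pullback.condition.symm, Category.assoc, ← Category.assoc (snd Z Y).left, Over.w (snd Z Y),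
          ← Category.assoc (pullback.snd t.left p)]
        congr 1
        rw [← Over.w (fst Z Y), ← Category.assoc, show pullback.snd t.left p ≫ (fst Z Y).left =
          pullback.fst t.left p ≫ t.left from pullback.condition.symm, Category.assoc, Over.w t]
        exact Category.comp_id _
      · rw [Category.assoc, show j.left ≫ pullback.snd Z.hom Y.hom = 𝟙 _ from
          congrArg CommaMorphism.left (lift_snd (toUnit Y ≫ t) (𝟙 Y)), Category.comp_id]
        rfl
    rw [← hu2]
    exact congrArg (fun f : pullback t.left p ⟶ (Z ⊗ Y).left => f u) e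
  have hmem : j.left (genericPoint Y.left) ∈ W :=
    ((genericPoint_specializes y).map j.left.continuous).mem_open W.2 hwW
  have h1 := hWle _ hmem (genericPoint_specializes _)
  have h2 := VarDim.deg_eq_add p Z.hom hp η
  have h3 := VarDim.deg_eq_add p Z.hom hp (j.left (genericPoint Y.left))
  have h4 : VarDim.deg Y.hom ((snd Z Y).left (j.left (genericPoint Y.left))) ≤
      VarDim.deg (Z ⊗ Y).hom (j.left (genericPoint Y.left)) := VarDim.deg_map_le _ Y.hom (Over.w (snd Z Y)) _
  rw [show (snd Z Y).left (j.left (genericPoint Y.left)) = genericPoint Y.left from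
    congrArg (fun f : Y ⟶ Y => f.left (genericPoint Y.left)) (lift_snd (toUnit Y ≫ t) (𝟙 Y))] at h4
  have h5 : p (j.left (genericPoint Y.left)) = cp t := by
    rw [show p (j.left (genericPoint Y.left)) = (toUnit Y ≫ t).left (genericPoint Y.left) from
      congrArg (fun f : Y ⟶ Z => f.left (genericPoint Y.left)) (lift_fst (toUnit Y ≫ t) (𝟙 Y))]
    exact congrArg t.left (Subsingleton.elim (α := PrimeSpectrum k) _ _)
  rw [h5, (VarDim.closedPoint_iff_deg_eq_zero Z.hom _).1 hgc] at h3
  rw [hfst] at h2
  omega

end Groth.Agent.AGFLib.FibrePts
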