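import Groth.Agent.GrpSchLib.ImageFactor
import Groth.Agent.GrpSchLib.QuotAffine
import Groth.Agent.GrpSchLib.AdjointQuot
import Groth.Agent.GrpSchLib.MonoSubgroup
import Groth.Agent.SchTorsor.Props
import Groth.Agent.VarDim.Fibre
import Groth.Agent.S0348
import Groth.Prelude.Def_AlgGrp

/-! Largest smooth connected normal subgroups with a property stable under extensions and quotients. -/

set_option backward.isDefEq.respectTransparency false
set_option backward.isDefEq.respectTransparency.types false
set_option linter.style.haveILetI false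
set_option maxHeartbeats 1000000

universe u

open CategoryTheory Limits AlgebraicGeometry MonoidalCategory CartesianMonoidalCategory MonObj GrpObj

namespace Groth.Agent.AGFLib.LargestNormal

open Groth.Agent.GrpSchLib

variable {k : Type u} [Field k] {G : Over (Spec (CommRingCat.of k))} [GrpObj G] [LocallyOfFiniteType G.hom]
  [QuasiCompact G.hom]

theorem lft_sub {H : Over (Spec (CommRingCat.of k))} (j : H ⟶ G) [IsClosedImmersion j.left] :
    LocallyOfFiniteType H.hom ∧ QuasiCompact H.hom := by
  constructor <;> (rw [← Over.w j]; infer_instance)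

theorem mono_sub {A B : Over (Spec (CommRingCat.of k))} (j : A ⟶ B) [IsClosedImmersion j.left] : Mono j :=
  (Over.forget _).mono_of_mono_map (inferInstanceAs (Mono j.left))

/-- A closed immersion of an irreducible reduced scheme with the same degree is an isomorphism. -/
theorem isIso_of_deg {H M : Over (Spec (CommRingCat.of k))} (f : H ⟶ M) [IsClosedImmersion f.left]
    [LocallyOfFiniteType M.hom] [IrreducibleSpace H.left] [IrreducibleSpace M.left] [IsReduced M.left]
    (hd : VarDim.deg M.hom (genericPoint M.left) ≤ VarDim.deg M.hom (f.left (genericPoint H.left))) : IsIso f := by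
  have hgen : genericPoint M.left = f.left (genericPoint H.left) :=
    VarDim.eq_of_specializes_of_deg_le M.hom (genericPoint_specializes _) hd
  haveI : Surjective f.left := ⟨fun y =>
    ((genericPoint_specializes y).mem_closed f.left.isClosedEmbedding.isClosed_range ⟨_, hgen.symm⟩ :
      y ∈ Set.range f.left)⟩
  haveI : IsIso ((Over.forget _).map f) := isIso_of_isClosedImmersion_of_surjective f.left
  exact isIso_of_reflects_iso f (Over.forget _)

theorem mem_iff_exists_normal {N : Over (Spec (CommRingCat.of k))} [GrpObj N] {j : N ⟶ G}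
    (hn : AlgGrp.IsNormalHom j) {T : Over (Spec (CommRingCat.of k))} (g : T ⟶ G) (a : T ⟶ N) :
    ∃ a' : T ⟶ N, g⁻¹ * (a ≫ j) * g = a' ≫ j := by
  obtain ⟨a', h⟩ := hn T g⁻¹ a
  exact ⟨a', by rwa [_root_.inv_inv] at h⟩

/-- Two smooth connected normal subgroups generate one, which has the property of both. -/
theorem exists_join (P : ∀ (E : Over (Spec (CommRingCat.of k))) [GrpObj E], Prop)
    (hPa : ∀ (N E Q : Over (Spec (CommRingCat.of k))) [GrpObj N] [GrpObj E] [GrpObj Q]
      [LocallyOfFiniteType N.hom] [QuasiCompact N.hom] [LocallyOfFiniteType E.hom] [QuasiCompact E.hom]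
      [LocallyOfFiniteType Q.hom] [QuasiCompact Q.hom]
      (i : N ⟶ E) (q : E ⟶ Q) [IsMonHom i] [IsMonHom q] [Flat q.left] [Surjective q.left],
      AlgGrp.IsKernel i q → P N → P Q → P E)
    (hPb : ∀ (E Q : Over (Spec (CommRingCat.of k))) [GrpObj E] [GrpObj Q] [LocallyOfFiniteType E.hom]
      [QuasiCompact E.hom] [LocallyOfFiniteType Q.hom] [QuasiCompact Q.hom]
      (q : E ⟶ Q) [IsMonHom q] [Flat q.left] [Surjective q.left], P E → P Q)
    {H N : Over (Spec (CommRingCat.of k))} [GrpObj H] [GrpObj N] (j : H ⟶ G) (j' : N ⟶ G) [IsMonHom j] [IsMonHom j']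
    [IsClosedImmersion j.left] [IsClosedImmersion j'.left] [Smooth H.hom] [Smooth N.hom]
    [ConnectedSpace H.left] [ConnectedSpace N.left] (hn : AlgGrp.IsNormalHom j) (hn' : AlgGrp.IsNormalHom j')
    (hH : P H) (hN : P N) :
    ∃ (M : Over (Spec (CommRingCat.of k))) (_ : GrpObj M) (m : M ⟶ G), IsMonHom m ∧ IsClosedImmersion m.left ∧
      Smooth M.hom ∧ ConnectedSpace M.left ∧ AlgGrp.IsNormalHom m ∧ P M ∧
      (∃ f : H ⟶ M, f ≫ m = j) ∧ ∃ f : N ⟶ M, f ≫ m = j' := by
  obtain ⟨_, _⟩ := lft_sub j
  obtain ⟨_, _⟩ := lft_sub j'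
  haveI := mono_sub j
  haveI := mono_sub j'
  -- the semidirect product inside `G ⊗ N`, on a copy `E` of `H ⊗ N`
  obtain ⟨E, φ, -⟩ : ∃ (E : Over (Spec (CommRingCat.of k))) (_ : E ≅ H ⊗ N), True := ⟨_, Iso.refl _, trivial⟩
  let pH : E ⟶ H := φ.hom ≫ fst H N
  let pN : E ⟶ N := φ.hom ≫ snd H N
  let mk : ∀ {T : Over (Spec (CommRingCat.of k))}, (T ⟶ H) → (T ⟶ N) → (T ⟶ E) := fun a b => lift a b ≫ φ.inv
  have hmkH : ∀ {T : Over (Spec (CommRingCat.of k))} (a : T ⟶ H) (b : T ⟶ N), mk a b ≫ pH = a := fun a b => by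
    simp [mk, pH]
  have hmkN : ∀ {T : Over (Spec (CommRingCat.of k))} (a : T ⟶ H) (b : T ⟶ N), mk a b ≫ pN = b := fun a b => by
    simp [mk, pN]
  have hext : ∀ {T : Over (Spec (CommRingCat.of k))} (x y : T ⟶ E), x ≫ pH = y ≫ pH → x ≫ pN = y ≫ pN → x = y :=
    fun x y h1 h2 => by
    rw [← cancel_mono φ.hom]
    exact CartesianMonoidalCategory.hom_ext _ _ (by simpa [pH] using h1) (by simpa [pN] using h2)
  let e : E ⟶ G ⊗ N := lift ((pH ≫ j) * (pN ≫ j')) pN
  have he : ∀ {T : Over (Spec (CommRingCat.of k))} (a : T ⟶ H) (b : T ⟶ N),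
      mk a b ≫ e = lift ((a ≫ j) * (b ≫ j')) b := fun a b => by
    simp only [e, comp_lift, MonObj.comp_mul]
    rw [← Category.assoc (mk a b) pH, ← Category.assoc (mk a b) pN, hmkH, hmkN]
  haveI : Mono e := ⟨fun a b h => by
    have h1 : a ≫ pN = b ≫ pN := by
      have := congrArg (· ≫ snd G N) h
      simpa only [e, Category.assoc, lift_snd] using this
    have h2 := congrArg (· ≫ fst G N) h
    simp only [e, Category.assoc, lift_fst, MonObj.comp_mul] at h2
    rw [← Category.assoc a pN, ← Category.assoc b pN, h1] at h2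
    exact hext _ _ ((cancel_mono j).mp (by simpa only [Category.assoc] using mul_right_cancel h2)) h1⟩
  obtain ⟨aμ', haμ'⟩ := hn _ ((fst E E ≫ pN) ≫ j') (snd E E ≫ pH)
  obtain ⟨aι, haι⟩ := mem_iff_exists_normal hn (pN ≫ j') pH⁻¹
  have hμ : mk ((fst E E ≫ pH) * aμ') ((fst E E ≫ pN) * (snd E E ≫ pN)) ≫ e =
      (fst E E ≫ e) * (snd E E ≫ e) := by
    rw [he]
    apply CartesianMonoidalCategory.hom_ext
    · simp only [e, lift_fst, MonObj.mul_comp, MonObj.comp_mul, Category.assoc] at haμ' ⊢
      rw [← haμ']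
      group
    · simp only [e, lift_snd, MonObj.mul_comp, Category.assoc]
  have hι : mk aι pN⁻¹ ≫ e = e⁻¹ := by
    rw [he]
    apply CartesianMonoidalCategory.hom_ext
    · simp only [e, lift_fst, GrpObj.inv_comp, _root_.mul_inv_rev, ← haι]
      group
    · simp only [e, lift_snd, GrpObj.inv_comp]
  have hone : mk (η[H]) (η[N]) ≫ e = η[G ⊗ N] := by
    rw [he, IsMonHom.one_hom j, IsMonHom.one_hom j', MonObj.one_eq_one, _root_.mul_one]
    apply CartesianMonoidalCategory.hom_ext
    · rw [lift_fst, MonObj.one_eq_one, MonObj.one_comp]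
    · rw [lift_snd, MonObj.one_eq_one, MonObj.one_eq_one, MonObj.one_comp]
  obtain ⟨strE, he'⟩ := exists_grpObj_of_mono e _ hone _ hμ _ hι
  letI := strE
  haveI : IsMonHom e := he'
  -- the image in `G`
  haveI := Adjoint.geometricallyIrreducible (G := H)
  haveI := Adjoint.geometricallyIrreducible (G := N)
  haveI : IrreducibleSpace N.left := Groth.Agent.S0348.result k N
  haveI : IsIso φ.hom.left := ((Over.forget _).mapIso φ).isIso_hom
  haveI : LocallyOfFiniteType (H ⊗ N).hom := inferInstanceAs (LocallyOfFiniteType (pullback.fst H.hom N.hom ≫ H.hom))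
  haveI : QuasiCompact (H ⊗ N).hom := inferInstanceAs (QuasiCompact (pullback.fst H.hom N.hom ≫ H.hom))
  haveI : Smooth (H ⊗ N).hom := inferInstanceAs (Smooth (pullback.fst H.hom N.hom ≫ H.hom))
  haveI : LocallyOfFiniteType E.hom := by rw [← Over.w φ.hom]; infer_instance
  haveI : QuasiCompact E.hom := by rw [← Over.w φ.hom]; infer_instance
  haveI : Smooth E.hom := by rw [← Over.w φ.hom]; infer_instance
  haveI : IrreducibleSpace (H ⊗ N).left := by
    haveI : UniversallyOpen H.hom := inferInstance
    exact GeometricallyIrreducible.irreducibleSpace (f := pullback.snd H.hom N.hom) (pullback.snd H.hom N.hom).isOpenMap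
  haveI : IrreducibleSpace E.left := φ.hom.left.homeomorph.irreducibleSpace_iff.mpr ‹_›
  haveI : IsMonHom (e ≫ fst G N) := inferInstance
  haveI : IsMonHom (e ≫ snd G N) := inferInstance
  obtain ⟨M, _, p, m, _, _, hpm, _, _, _, _, _⟩ := ImageFactor.exists_image (e ≫ fst G N)
  haveI : Smooth M.hom := smooth_of_quotient p
  haveI : ConnectedSpace M.left := by
    rw [connectedSpace_iff_univ, ← p.left.surjective.range_eq, ← Set.image_univ]
    exact isConnected_univ.image _ p.left.continuous.continuousOn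
  -- P for the semidirect product
  have hPE : P E := by
    let i₁ : H ⟶ E := mk (𝟙 H) 1
    have hi₁ : i₁ ≫ e = lift j 1 := by
      rw [he, Category.id_comp, MonObj.one_comp, _root_.mul_one]
    haveI : IsMonHom (lift j (1 : H ⟶ N)) := by
      refine ⟨?_, ?_⟩
      · rw [comp_lift, IsMonHom.one_hom j, MonObj.comp_one]
        apply CartesianMonoidalCategory.hom_ext
        · rw [lift_fst, MonObj.one_eq_one, MonObj.one_eq_one, MonObj.one_comp]
        · rw [lift_snd, MonObj.one_eq_one, MonObj.one_comp]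
      · have key : ∀ (f g : H ⊗ H ⟶ H), lift f g ≫ ((lift j (1 : H ⟶ N) ⊗ₘ lift j (1 : H ⟶ N)) ≫ μ[G ⊗ N]) =
            lift ((f * g) ≫ j) 1 := fun f g => by
          rw [lift_map_assoc, ← Hom.mul_def]
          apply CartesianMonoidalCategory.hom_ext
          · rw [MonObj.mul_comp, Category.assoc, lift_fst, Category.assoc, lift_fst, lift_fst, MonObj.mul_comp]
          · rw [MonObj.mul_comp, Category.assoc, lift_snd, Category.assoc, lift_snd, lift_snd, MonObj.comp_one,
              MonObj.comp_one, _root_.mul_one]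
        have h2 := key (fst H H) (snd H H)
        rw [lift_fst_snd, Category.id_comp] at h2
        rw [h2, comp_lift, MonObj.comp_one, Hom.mul_def, lift_fst_snd, Category.id_comp]
    haveI : IsMonHom i₁ := by
      refine ⟨?_, ?_⟩
      · rw [← cancel_mono e, Category.assoc, hi₁, IsMonHom.one_hom e, IsMonHom.one_hom]
      · rw [← cancel_mono e, Category.assoc, hi₁, Category.assoc, IsMonHom.mul_hom e, IsMonHom.mul_hom,
          MonoidalCategory.tensorHom_comp_tensorHom_assoc, hi₁]
    haveI : Flat (snd H N).left := MorphismProperty.pullback_snd (P := @Flat) H.hom N.hom inferInstance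
    haveI : Surjective (snd H N).left := MorphismProperty.pullback_snd (P := @Surjective) H.hom N.hom
      ⟨fun x => ⟨Classical.arbitrary _, @Subsingleton.elim (PrimeSpectrum k) inferInstance _ _⟩⟩
    haveI : Flat pN.left := inferInstanceAs (Flat (φ.hom.left ≫ (snd H N).left))
    haveI : Surjective pN.left := inferInstanceAs (Surjective (φ.hom.left ≫ (snd H N).left))
    haveI : IsMonHom pN := by
      rw [show pN = e ≫ snd G N by simp [e]]; infer_instance
    refine hPa H E N i₁ pN ?_ hH hN
    refine ⟨⟨by rw [hmkN]; rfl⟩, ⟨PullbackCone.IsLimit.mk _ (fun s => s.fst ≫ pH)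
      (fun s => ?_) (fun s => toUnit_unique _ _) (fun s q h1 h2 => ?_)⟩⟩
    · refine hext _ _ ?_ ?_
      · rw [Category.assoc, hmkH, Category.comp_id]
      · rw [Category.assoc, hmkN, MonObj.comp_one, s.condition, toUnit_unique s.snd (toUnit _)]; rfl
    · rw [← h1, Category.assoc, hmkH, Category.comp_id]
  -- normality
  have hnorm : AlgGrp.IsNormalHom m := by
    haveI := mono_sub m
    haveI : Surjective (G ◁ p).left := MorphismProperty.pullbackMap (P := @Surjective)
      (h₁ := (inferInstance : Surjective (𝟙 G.left))) (h₂ := ‹Surjective p.left›) (Category.id_comp _).symm (Over.w p).symm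
    haveI : Flat (G ◁ p).left := MorphismProperty.pullbackMap (P := @Flat)
      (h₁ := (inferInstance : Flat (𝟙 G.left))) (h₂ := ‹Flat p.left›) (Category.id_comp _).symm (Over.w p).symm
    haveI : QuasiCompact p.left := by
      haveI := AntiAffine.isSeparated_grp M
      haveI : QuasiCompact (p.left ≫ M.hom) := by rw [Over.w p]; infer_instance
      exact QuasiCompact.of_comp p.left M.hom
    haveI : QuasiCompact (G ◁ p).left := MorphismProperty.pullbackMap (P := @QuasiCompact)
      (h₁ := (inferInstance : QuasiCompact (𝟙 G.left))) (h₂ := ‹QuasiCompact p.left›) (Category.id_comp _).symm (Over.w p).symm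
    let c : G ⊗ M ⟶ G := fst G M * (snd G M ≫ m) * (fst G M)⁻¹
    -- lift the conjugate
    let g₀ := fst G E
    let a₀ := snd G E ≫ pH
    let b₀ := snd G E ≫ pN
    obtain ⟨a₁, ha₁⟩ := hn _ g₀ a₀
    obtain ⟨b₁, hb₁⟩ := hn' _ g₀ b₀
    let f : G ⊗ E ⟶ M := mk a₁ b₁ ≫ p
    have hf : f ≫ m = (G ◁ p) ≫ c := by
      simp only [f, c, Category.assoc, hpm, MonObj.comp_mul, GrpObj.comp_inv, whiskerLeft_fst,
        whiskerLeft_snd_assoc]
      rw [reassoc_of% he, lift_fst, ← ha₁, ← hb₁]
      simp only [e, g₀, a₀, b₀, lift_fst, MonObj.comp_mul, Category.assoc]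
      group
    let d := EffectiveEpi.desc (G ◁ p).left f.left fun g₁ g₂ hg => by
      rw [← cancel_mono m.left, Category.assoc, Category.assoc, ← Over.comp_left, hf, Over.comp_left,
        reassoc_of% hg]
    have hd : (G ◁ p).left ≫ d = f.left := EffectiveEpi.fac _ _ _
    let d' : G ⊗ M ⟶ M := Over.homMk d (by
      rw [← cancel_epi (G ◁ p).left, reassoc_of% hd, Over.w f, Over.w (G ◁ p)])
    have hd' : d' ≫ m = c := by
      apply Over.OverMorphism.ext
      have h := congrArg CommaMorphism.left hf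
      rw [← cancel_epi (G ◁ p).left]
      show (G ◁ p).left ≫ d ≫ m.left = _
      rw [reassoc_of% hd]
      exact h
    intro T g x
    refine ⟨lift g x ≫ d', ?_⟩
    rw [Category.assoc, hd']
    simp only [c, MonObj.comp_mul, GrpObj.comp_inv, lift_fst, lift_snd_assoc]
  refine ⟨M, inferInstance, m, inferInstance, inferInstance, inferInstance, inferInstance, hnorm,
    hPb E M p hPE, ⟨mk (𝟙 H) 1 ≫ p, ?_⟩, ⟨mk 1 (𝟙 N) ≫ p, ?_⟩⟩
  · rw [Category.assoc, hpm, reassoc_of% he, lift_fst, Category.id_comp, MonObj.one_comp, _root_.mul_one]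
  · rw [Category.assoc, hpm, reassoc_of% he, lift_fst, Category.id_comp, MonObj.one_comp, _root_.one_mul]

theorem deg_sub {H M : Over (Spec (CommRingCat.of k))} (f : H ⟶ M) [IsClosedImmersion f.left]
    [LocallyOfFiniteType M.hom] [LocallyOfFiniteType H.hom] (x : H.left) :
    VarDim.deg M.hom (f.left x) = VarDim.deg H.hom x := by
  have h := VarDim.deg_eq_add f.left M.hom (Over.w f) x
  rw [show VarDim.fdeg f.left x = 0 by rw [VarDim.fdeg, VarDim.rdeg_preimmersion]; simp, add_zero] at h
  exact h.symm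

/-- The largest smooth connected normal subgroup with the property. -/
theorem exists_largest (P : ∀ (E : Over (Spec (CommRingCat.of k))) [GrpObj E], Prop)
    (hPa : ∀ (N E Q : Over (Spec (CommRingCat.of k))) [GrpObj N] [GrpObj E] [GrpObj Q]
      [LocallyOfFiniteType N.hom] [QuasiCompact N.hom] [LocallyOfFiniteType E.hom] [QuasiCompact E.hom]
      [LocallyOfFiniteType Q.hom] [QuasiCompact Q.hom]
      (i : N ⟶ E) (q : E ⟶ Q) [IsMonHom i] [IsMonHom q] [Flat q.left] [Surjective q.left],
      AlgGrp.IsKernel i q → P N → P Q → P E)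
    (hPb : ∀ (E Q : Over (Spec (CommRingCat.of k))) [GrpObj E] [GrpObj Q] [LocallyOfFiniteType E.hom]
      [QuasiCompact E.hom] [LocallyOfFiniteType Q.hom] [QuasiCompact Q.hom]
      (q : E ⟶ Q) [IsMonHom q] [Flat q.left] [Surjective q.left], P E → P Q)
    (h0 : ∃ (E : Over (Spec (CommRingCat.of k))) (_ : GrpObj E) (j : E ⟶ G), IsMonHom j ∧ IsClosedImmersion j.left ∧
      Smooth E.hom ∧ ConnectedSpace E.left ∧ AlgGrp.IsNormalHom j ∧ P E) :
    ∃ (H : Over (Spec (CommRingCat.of k))) (_ : GrpObj H) (j : H ⟶ G), IsMonHom j ∧ IsClosedImmersion j.left ∧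
      Smooth H.hom ∧ ConnectedSpace H.left ∧ AlgGrp.IsNormalHom j ∧ P H ∧
      ∀ (H' : Over (Spec (CommRingCat.of k))) [GrpObj H'] (j' : H' ⟶ G) [IsMonHom j'],
        IsClosedImmersion j'.left → Smooth H'.hom → ConnectedSpace H'.left → AlgGrp.IsNormalHom j' → P H' →
        ∃ f : H' ⟶ H, f ≫ j = j' := by
  haveI : CompactSpace G.left := (quasiCompact_iff_compactSpace G.hom).mp inferInstance
  haveI : Nonempty G.left := ⟨η[G].left (IsLocalRing.closedPoint k)⟩
  obtain ⟨η₀, -, hmax, -⟩ := VarDim.exists_deg_eq_topologicalKrullDim (p := G.hom)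
  let D : Set ℕ := {d | ∃ (E : Over (Spec (CommRingCat.of k))) (_ : GrpObj E) (j : E ⟶ G) (x : E.left),
    IsMonHom j ∧ IsClosedImmersion j.left ∧ Smooth E.hom ∧ ConnectedSpace E.left ∧ AlgGrp.IsNormalHom j ∧ P E ∧
      VarDim.deg G.hom (j.left x) = d}
  have hD : D.Finite := (Set.finite_Iic (VarDim.deg G.hom η₀)).subset
    (by rintro d ⟨_, _, _, _, _, _, _, _, _, _, rfl⟩; exact hmax _)
  have hDne : D.Nonempty := by
    obtain ⟨E, _, j, h1, h2, h3, h4, h5, h6⟩ := h0
    exact ⟨_, E, inferInstance, j, η[E].left (IsLocalRing.closedPoint k), h1, h2, h3, h4, h5, h6, rfl⟩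
  obtain ⟨d, ⟨H, _, j, x, _, _, _, _, hn, hH, hd⟩, hdmax⟩ := hD.exists_maximal hDne
  refine ⟨H, inferInstance, j, inferInstance, inferInstance, inferInstance, inferInstance, hn, hH, ?_⟩
  intro H' _ j' _ hcl hsm hco hn' hH'
  haveI := hcl
  haveI := hsm
  haveI := hco
  obtain ⟨M, _, m, _, _, _, _, hnM, hM, ⟨f, hf⟩, ⟨f', hf'⟩⟩ := exists_join P hPa hPb j j' hn hn' hH hH'
  obtain ⟨_, _⟩ := lft_sub j
  obtain ⟨_, _⟩ := lft_sub m
  haveI : IsClosedImmersion f.left := by
    haveI : IsClosedImmersion (f.left ≫ m.left) := by rw [← Over.comp_left, hf]; infer_instance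
    exact IsClosedImmersion.of_comp f.left m.left
  haveI : IrreducibleSpace H.left := Groth.Agent.S0348.result k H
  haveI : IrreducibleSpace M.left := Groth.Agent.S0348.result k M
  haveI : IsReduced M.left := isReduced_of_smooth_field M.hom
  haveI : IsIso f := isIso_of_deg f (by
    rw [← deg_sub m, ← deg_sub m]
    have h1 : VarDim.deg G.hom (j.left (genericPoint H.left)) ∈ D :=
      ⟨H, inferInstance, j, _, inferInstance, inferInstance, inferInstance, inferInstance, hn, hH, rfl⟩
    have h2 : VarDim.deg G.hom (m.left (genericPoint M.left)) ∈ D :=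
      ⟨M, inferInstance, m, _, inferInstance, inferInstance, inferInstance, inferInstance, hnM, hM, rfl⟩
    have hxle : d ≤ VarDim.deg G.hom (j.left (genericPoint H.left)) :=
      hd ▸ VarDim.deg_le_of_specializes G.hom ((genericPoint_specializes x).map j.left.continuous)
    have e : m.left (f.left (genericPoint H.left)) = j.left (genericPoint H.left) :=
      congrArg (fun g : H ⟶ G => g.left (genericPoint H.left)) hf
    rw [e]
    by_contra hlt
    have := hdmax h2 (by omega)
    omega)
  exact ⟨f' ≫ inv f, by rw [Category.assoc, ← hf, IsIso.inv_hom_id_assoc, hf']⟩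

/-- The quotient by the largest such subgroup has none but the trivial one. -/
theorem trivial_of_quot (P : ∀ (E : Over (Spec (CommRingCat.of k))) [GrpObj E], Prop)
    (hPa : ∀ (N E Q : Over (Spec (CommRingCat.of k))) [GrpObj N] [GrpObj E] [GrpObj Q]
      [LocallyOfFiniteType N.hom] [QuasiCompact N.hom] [LocallyOfFiniteType E.hom] [QuasiCompact E.hom]
      [LocallyOfFiniteType Q.hom] [QuasiCompact Q.hom]
      (i : N ⟶ E) (q : E ⟶ Q) [IsMonHom i] [IsMonHom q] [Flat q.left] [Surjective q.left],
      AlgGrp.IsKernel i q → P N → P Q → P E)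
    {H : Over (Spec (CommRingCat.of k))} [GrpObj H] (j : H ⟶ G) [IsMonHom j] [IsClosedImmersion j.left]
    [Smooth H.hom] [ConnectedSpace H.left] (hH : P H)
    (hmax : ∀ (H' : Over (Spec (CommRingCat.of k))) [GrpObj H'] (j' : H' ⟶ G) [IsMonHom j'],
        IsClosedImmersion j'.left → Smooth H'.hom → ConnectedSpace H'.left → AlgGrp.IsNormalHom j' → P H' →
        ∃ f : H' ⟶ H, f ≫ j = j')
    {Q : Over (Spec (CommRingCat.of k))} [GrpObj Q] [LocallyOfFiniteType Q.hom] [QuasiCompact Q.hom] (q : G ⟶ Q)
    [IsMonHom q] [Flat q.left] [Surjective q.left] (hker : AlgGrp.IsKernel j q)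
    {H'' : Over (Spec (CommRingCat.of k))} [GrpObj H''] (j'' : H'' ⟶ Q) [IsMonHom j'']
    [IsClosedImmersion j''.left] [Smooth H''.hom] [ConnectedSpace H''.left] (hn'' : AlgGrp.IsNormalHom j'')
    (hH'' : P H'') : IsIso η[H''] := by
  obtain ⟨_, _⟩ := lft_sub j''
  obtain ⟨_, _⟩ := lft_sub j
  haveI := mono_sub j''
  haveI := AntiAffine.isSeparated_grp Q
  haveI : QuasiCompact q.left := by
    haveI : QuasiCompact (q.left ≫ Q.hom) := by rw [Over.w q]; infer_instance
    exact QuasiCompact.of_comp q.left Q.hom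
  haveI : LocallyOfFiniteType q.left := by
    haveI : LocallyOfFiniteType (q.left ≫ Q.hom) := by rw [Over.w q]; infer_instance
    exact locallyOfFiniteType_of_comp q.left Q.hom
  haveI : IsLocallyNoetherian Q.left := LocallyOfFiniteType.isLocallyNoetherian Q.hom
  let M : Over (Spec (CommRingCat.of k)) := Over.mk (pullback.fst q.left j''.left ≫ G.hom)
  let m : M ⟶ G := Over.homMk (pullback.fst q.left j''.left) rfl
  let q'' : M ⟶ H'' := Over.homMk (pullback.snd q.left j''.left) (by
    show pullback.snd q.left j''.left ≫ H''.hom = pullback.fst q.left j''.left ≫ G.hom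
    rw [← Over.w j'', ← pullback.condition_assoc, Over.w q])
  haveI : IsClosedImmersion m.left := inferInstanceAs (IsClosedImmersion (pullback.fst q.left j''.left))
  haveI : Flat q''.left := inferInstanceAs (Flat (pullback.snd q.left j''.left))
  haveI : Surjective q''.left := inferInstanceAs (Surjective (pullback.snd q.left j''.left))
  haveI := mono_sub m
  have sq : IsPullback m q'' q j'' := IsPullback.of_map (Over.forget _)
    (Over.OverMorphism.ext pullback.condition) (IsPullback.of_hasPullback q.left j''.left)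
  have hw : m ≫ q = q'' ≫ j'' := sq.w
  have hlift : ∀ {T : Over (Spec (CommRingCat.of k))} (g : T ⟶ G) (h : T ⟶ H''), g ≫ q = h ≫ j'' →
      ∃ n : T ⟶ M, n ≫ m = g := fun g h e => ⟨sq.lift g h e, sq.lift_fst _ _ _⟩
  obtain ⟨e, he⟩ := hlift η[G] η[H''] (by rw [IsMonHom.one_hom q, IsMonHom.one_hom j''])
  obtain ⟨μ', hμ'⟩ := hlift ((fst M M ≫ m) * (snd M M ≫ m)) ((fst M M ≫ q'') * (snd M M ≫ q'')) (by
    simp only [MonObj.mul_comp, Category.assoc, hw])
  obtain ⟨ι', hι'⟩ := hlift m⁻¹ q''⁻¹ (by rw [GrpObj.inv_comp, GrpObj.inv_comp, hw])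
  obtain ⟨strM, hm'⟩ := exists_grpObj_of_mono m e he μ' hμ' ι' hι'
  letI := strM
  haveI := hm'
  haveI : IsMonHom q'' := by
    refine ⟨?_, ?_⟩
    · rw [← cancel_mono j'', Category.assoc, ← hw, IsMonHom.one_hom j'', ← Category.assoc, IsMonHom.one_hom m,
        IsMonHom.one_hom q]
    · rw [← cancel_mono j'', Category.assoc, ← hw, Category.assoc, IsMonHom.mul_hom j'', ← Category.assoc μ[M],
        IsMonHom.mul_hom m, Category.assoc, IsMonHom.mul_hom q, MonoidalCategory.tensorHom_comp_tensorHom_assoc,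
        MonoidalCategory.tensorHom_comp_tensorHom_assoc, hw]
  obtain ⟨_, _⟩ := lft_sub m
  -- the kernel
  have hjq : j ≫ q = toUnit H ≫ η[Q] := hker.w
  let i₁ : H ⟶ M := sq.lift j (toUnit H ≫ η[H'']) (by rw [hjq, Category.assoc, IsMonHom.one_hom j''])
  have hi₁ : i₁ ≫ m = j := sq.lift_fst _ _ _
  haveI : IsMonHom i₁ := by
    refine ⟨?_, ?_⟩
    · rw [← cancel_mono m, Category.assoc, hi₁, IsMonHom.one_hom j, IsMonHom.one_hom m]
    · rw [← cancel_mono m, Category.assoc, hi₁, Category.assoc, IsMonHom.mul_hom j, IsMonHom.mul_hom m,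
        MonoidalCategory.tensorHom_comp_tensorHom_assoc, hi₁]
  have hk₁ : AlgGrp.IsKernel i₁ q'' := by
    have hs : ∀ (s : PullbackCone q'' η[H'']), (s.fst ≫ m) ≫ q = s.snd ≫ η[Q] := fun s => by
      rw [Category.assoc, hw, ← Category.assoc, s.condition, Category.assoc, IsMonHom.one_hom j'']
    refine ⟨⟨sq.lift_snd _ _ _⟩, ⟨PullbackCone.IsLimit.mk _ (fun s => hker.lift (s.fst ≫ m) s.snd (hs s))
      (fun s => ?_) (fun s => toUnit_unique _ _) (fun s n h1 h2 => ?_)⟩⟩
    · rw [← cancel_mono m, Category.assoc, hi₁, hker.lift_fst]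
    · refine hker.hom_ext ?_ (toUnit_unique _ _)
      rw [hker.lift_fst, ← h1, Category.assoc, hi₁]
  -- smoothness
  haveI : Smooth q.left := by
    have sq2 : IsPullback (fst G H) (fst G H * (snd G H ≫ j)) q q := by
      have hs : ∀ s : PullbackCone q q, (s.fst⁻¹ * s.snd) ≫ q = toUnit _ ≫ η[Q] := fun s => by
        rw [MonObj.mul_comp, GrpObj.inv_comp, s.condition, inv_mul_cancel]; rfl
      refine ⟨⟨?_⟩, ⟨PullbackCone.IsLimit.mk _ (fun s => lift s.fst (hker.lift _ _ (hs s)))
        (fun s => lift_fst _ _) (fun s => ?_) (fun s n h1 h2 => ?_)⟩⟩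
      · rw [MonObj.mul_comp, Category.assoc _ j q, hjq]
        rw [← Category.assoc, comp_toUnit]
        exact (_root_.mul_one (fst G H ≫ q)).symm
      · rw [MonObj.comp_mul, lift_fst, lift_snd_assoc, hker.lift_fst, mul_inv_cancel_left]
      · apply CartesianMonoidalCategory.hom_ext
        · rw [lift_fst, h1]
        · rw [lift_snd]
          refine hker.hom_ext ?_ (toUnit_unique _ _)
          rw [hker.lift_fst, ← h1, ← h2, MonObj.comp_mul, inv_mul_cancel_left, Category.assoc]
    exact MorphismProperty.of_isPullback_of_descendsAlong (P := @Smooth) (Q := @Surjective ⊓ @Flat ⊓ @QuasiCompact)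
      (sq2.map (Over.forget _)) ⟨⟨‹_›, ‹_›⟩, ‹_›⟩
      (MorphismProperty.pullback_fst (P := @Smooth) G.hom H.hom inferInstance)
  haveI : Smooth q''.left := inferInstanceAs (Smooth (pullback.snd q.left j''.left))
  haveI : Smooth M.hom := by rw [← Over.w q'']; infer_instance
  -- connectedness
  haveI : ConnectedSpace M.left := by
    haveI := Adjoint.geometricallyIrreducible (G := H)
    haveI : IrreducibleSpace H''.left := Groth.Agent.S0348.result k H''
    have sq3 : IsPullback (fst M H) (fst M H * (snd M H ≫ i₁)) q'' q'' := by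
      have hs : ∀ s : PullbackCone q'' q'', (s.fst⁻¹ * s.snd) ≫ q'' = toUnit _ ≫ η[H''] := fun s => by
        rw [MonObj.mul_comp, GrpObj.inv_comp, s.condition, inv_mul_cancel]; rfl
      refine ⟨⟨?_⟩, ⟨PullbackCone.IsLimit.mk _ (fun s => lift s.fst (hk₁.lift _ _ (hs s)))
        (fun s => lift_fst _ _) (fun s => ?_) (fun s n h1 h2 => ?_)⟩⟩
      · rw [MonObj.mul_comp, Category.assoc _ i₁ q'', show i₁ ≫ q'' = toUnit H ≫ η[H''] from hk₁.w]
        rw [← Category.assoc, comp_toUnit]
        exact (_root_.mul_one (fst M H ≫ q'')).symm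
      · rw [MonObj.comp_mul, lift_fst, lift_snd_assoc, hk₁.lift_fst, mul_inv_cancel_left]
      · apply CartesianMonoidalCategory.hom_ext
        · rw [lift_fst, h1]
        · rw [lift_snd]
          refine hk₁.hom_ext ?_ (toUnit_unique _ _)
          rw [hk₁.lift_fst, ← h1, ← h2, MonObj.comp_mul, inv_mul_cancel_left, Category.assoc]
    have sqL : IsPullback (fst M H).left (fst M H * (snd M H ≫ i₁)).left q''.left q''.left := sq3.map (Over.forget _)
    have hfib : ∀ y : H''.left, _root_.IsConnected (q''.left ⁻¹' {y}) := fun y => by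
      obtain ⟨x, rfl⟩ := q''.left.surjective y
      have hF : _root_.IsConnected ((fst M H).left ⁻¹' {x}) := by
        have hr : Set.range (pullback.snd (M.left.fromSpecResidueField x) (fst M H).left) = (fst M H).left ⁻¹' {x} := by
          rw [Scheme.Pullback.range_snd, Scheme.range_fromSpecResidueField]
        haveI : IrreducibleSpace ↥(pullback (M.left.fromSpecResidueField x) (fst M H).left) := by
          haveI : IrreducibleSpace ↥(pullback (M.left.fromSpecResidueField x ≫ M.hom) H.hom) := by
            obtain ⟨φ', hφ'⟩ := Spec.map_surjective (M.left.fromSpecResidueField x ≫ M.hom)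
            haveI : IrreducibleSpace ↥(pullback H.hom (M.left.fromSpecResidueField x ≫ M.hom)) :=
              GeometricallyIrreducible.geometrically_irreducibleSpace (f := H.hom) _ _ _ (IsPullback.of_hasPullback _ _)
            exact (pullbackSymmetry H.hom (M.left.fromSpecResidueField x ≫ M.hom)).hom.homeomorph.irreducibleSpace_iff.mp ‹_›
          exact (pullbackRightPullbackFstIso M.hom H.hom (M.left.fromSpecResidueField x)).hom.homeomorph.irreducibleSpace_iff.mpr ‹_›
        rw [← hr, ← Set.image_univ]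
        exact isConnected_univ.image _ (Scheme.Hom.continuous _).continuousOn
      have himg : q''.left ⁻¹' {q''.left x} = (fst M H * (snd M H ≫ i₁)).left '' ((fst M H).left ⁻¹' {x}) := by
        ext z
        constructor
        · intro hz
          obtain ⟨w, hw1, hw2⟩ := Scheme.Pullback.exists_preimage_pullback (f := q''.left) (g := q''.left) x z hz.symm
          refine ⟨sqL.isoPullback.inv w, ?_, ?_⟩
          · show (fst M H).left (sqL.isoPullback.inv w) = x
            rw [← hw1, ← Scheme.Hom.comp_apply]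
            exact congrArg (fun g : pullback q''.left q''.left ⟶ M.left => g w) sqL.isoPullback_inv_fst
          · rw [← hw2, ← Scheme.Hom.comp_apply]
            exact congrArg (fun g : pullback q''.left q''.left ⟶ M.left => g w) sqL.isoPullback_inv_snd
        · rintro ⟨w, hw1, rfl⟩
          have := congrArg (fun g : (M ⊗ H).left ⟶ H''.left => g w) sqL.w
          exact this.symm.trans (congrArg q''.left hw1)
      rw [himg]
      exact hF.image _ (Scheme.Hom.continuous _).continuousOn
    haveI : IsLocallyNoetherian H''.left := LocallyOfFiniteType.isLocallyNoetherian H''.hom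
    haveI : UniversallyOpen q''.left := inferInstance
    have hq : Topology.IsQuotientMap q''.left :=
      q''.left.isOpenMap.isQuotientMap q''.left.continuous q''.left.surjective
    rw [connectedSpace_iff_univ]
    have h := hq.isCoinducing.isConnected_preimage_of_isClosed hfib isClosed_univ isConnected_univ
    rwa [Set.preimage_univ] at h
  -- normality
  have hnM : AlgGrp.IsNormalHom m := fun T g n => by
    obtain ⟨n', hn'⟩ := hn'' T (g ≫ q) (n ≫ q'')
    obtain ⟨l, hl⟩ := hlift (g * (n ≫ m) * g⁻¹) n' (by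
      rw [MonObj.mul_comp, MonObj.mul_comp, GrpObj.inv_comp, Category.assoc n m q, hw, ← Category.assoc n q'' j'']
      exact hn')
    exact ⟨l, hl.symm⟩
  obtain ⟨f, hf⟩ := hmax M m inferInstance inferInstance inferInstance hnM (hPa H M H'' i₁ q'' hk₁ hH hH'')
  have htriv : q'' = toUnit M ≫ η[H''] := by
    rw [← cancel_mono j'', ← hw, ← hf, Category.assoc, hjq, ← Category.assoc, comp_toUnit, Category.assoc,
      IsMonHom.one_hom j'']
  haveI : IsLocallyNoetherian H''.left := LocallyOfFiniteType.isLocallyNoetherian H''.hom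
  haveI : QuasiCompact q''.left := inferInstanceAs (QuasiCompact (pullback.snd q.left j''.left))
  haveI : Epi q'' := (Over.forget _).epi_of_epi_map (inferInstanceAs (Epi q''.left))
  refine ⟨⟨toUnit H'', toUnit_unique _ _, ?_⟩⟩
  rw [← cancel_epi q'', ← Category.assoc, comp_toUnit, Category.comp_id, ← htriv]

end Groth.Agent.AGFLib.LargestNormal
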