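import Groth.Agent.AGFLib.Borel
import Groth.Agent.AGFLib.LargestNormal
import Groth.Agent.AGFLib.FibrePts
import Groth.Agent.GrpSchLib.FieldDim

/-! The linear part of a normal subgroup. -/

set_option backward.isDefEq.respectTransparency false
set_option backward.isDefEq.respectTransparency.types false
set_option linter.style.haveILetI false
set_option maxHeartbeats 1000000

universe u

open CategoryTheory Limits AlgebraicGeometry MonoidalCategory CartesianMonoidalCategory MonObj GrpObj

namespace Groth.Agent.AGFLib.LinPart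

open Groth.Agent.GrpSchLib Groth.Agent.AGFLib Groth.Agent.AGFLib.Gen Groth.Agent.AGFLib.BorelFixed

variable {k : Type u} [Field k] [IsAlgClosed k]

local notation "PT" => 𝟙_ (Over (Spec (CommRingCat.of k)))

/-- Normality of a smooth subgroup in a smooth group may be checked on rational points. -/
theorem isNormal_of_pts {G N : Over (Spec (CommRingCat.of k))} [GrpObj G] [GrpObj N] [Smooth G.hom] [Smooth N.hom]
    (i : N ⟶ G) [IsClosedImmersion i.left] [LocallyOfFiniteType G.hom]
    (h : ∀ (g : PT ⟶ G) (n : PT ⟶ N), ∃ n' : PT ⟶ N, g * (n ≫ i) * g⁻¹ = n' ≫ i) : AlgGrp.IsNormalHom i := by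
  haveI : LocallyOfFiniteType N.hom := inferInstance
  haveI : IsReduced (G ⊗ N).left := by
    haveI : Smooth (G ⊗ N).hom := inferInstanceAs (Smooth (pullback.fst G.hom N.hom ≫ G.hom))
    exact isReduced_of_smooth_field (G ⊗ N).hom
  haveI : LocallyOfFiniteType (G ⊗ N).hom := inferInstanceAs (LocallyOfFiniteType (pullback.fst G.hom N.hom ≫ G.hom))
  let c : G ⊗ N ⟶ G := fst G N * (snd G N ≫ i) * (fst G N)⁻¹
  obtain ⟨d, hd⟩ := BorelExist.exists_lift_pts i c fun t => by
    obtain ⟨n', hn'⟩ := h (t ≫ fst G N) (t ≫ snd G N)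
    exact ⟨n', by simp only [c, MonObj.comp_mul, GrpObj.comp_inv, ← hn', Category.assoc]⟩
  intro T g n
  refine ⟨lift g n ≫ d, ?_⟩
  rw [Category.assoc, hd]
  simp only [c, MonObj.comp_mul, GrpObj.comp_inv, lift_fst, lift_snd_assoc]

/-- The linear part of a normal subgroup is contained in the linear part, with finite index in the intersection. -/
theorem main {G K N NK : Over (Spec (CommRingCat.of k))} [GrpObj G] [GrpObj K] [GrpObj N] [GrpObj NK]
    [Smooth G.hom] [QuasiCompact G.hom] [LocallyOfFiniteType K.hom] [QuasiCompact K.hom]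
    (j : K ⟶ G) [IsMonHom j] [IsClosedImmersion j.left] (hK : AlgGrp.IsNormalHom j)
    (i : N ⟶ G) [IsMonHom i] [IsClosedImmersion i.left] [IsAffine N.left] (hN : AlgGrp.IsNormalHom i)
    (hNmax : ∀ (N' : Over (Spec (CommRingCat.of k))) [GrpObj N'] (i' : N' ⟶ G) [IsMonHom i'] [IsClosedImmersion i'.left]
      [Smooth N'.hom] [ConnectedSpace ↥N'.left] [IsAffine N'.left], AlgGrp.IsNormalHom i' → ∃ f : N' ⟶ N, f ≫ i = i')
    (iK : NK ⟶ K) [IsMonHom iK] [IsClosedImmersion iK.left]
    [Smooth NK.hom] [ConnectedSpace ↥NK.left] [IsAffine NK.left] (hNK : AlgGrp.IsNormalHom iK)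
    (hNKmax : ∀ (N' : Over (Spec (CommRingCat.of k))) [GrpObj N'] (i' : N' ⟶ K) [IsMonHom i'] [IsClosedImmersion i'.left]
      [Smooth N'.hom] [ConnectedSpace ↥N'.left] [IsAffine N'.left], AlgGrp.IsNormalHom i' → ∃ f : N' ⟶ NK, f ≫ iK = i') :
    (∃ g : NK ⟶ N, g ≫ i = iK ≫ j) ∧
      topologicalKrullDim ↥NK.left = topologicalKrullDim ↥(pullback j.left i.left) := by
  haveI : LocallyOfFiniteType G.hom := inferInstance
  haveI := AntiAffine.isSeparated_grp G
  haveI := AntiAffine.isSeparated_grp K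
  haveI : Mono j := BorelExist.mono_of_closedImmersion j
  haveI : Mono i := BorelExist.mono_of_closedImmersion i
  haveI : LocallyOfFiniteType NK.hom := inferInstance
  haveI : IsClosedImmersion (iK ≫ j).left := inferInstanceAs (IsClosedImmersion (iK.left ≫ j.left))
  -- normality in `G`
  have hnorm : AlgGrp.IsNormalHom (iK ≫ j) := isNormal_of_pts _ fun g n => by
    obtain ⟨c, hc⟩ := hK NK (toUnit NK ≫ g) iK
    have hc' : ∀ {T : Over (Spec (CommRingCat.of k))} (x : T ⟶ NK),
        (x ≫ c) ≫ j = (toUnit T ≫ g) * ((x ≫ iK) ≫ j) * (toUnit T ≫ g)⁻¹ := fun x => by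
      rw [Category.assoc, ← hc, MonObj.comp_mul, MonObj.comp_mul, GrpObj.comp_inv, ← Category.assoc, comp_toUnit,
        Category.assoc]
    haveI : IsMonHom c := by
      refine ⟨?_, ?_⟩
      · rw [← cancel_mono j, hc', IsMonHom.one_hom iK, IsMonHom.one_hom j, MonObj.one_eq_one, _root_.mul_one,
          mul_inv_cancel]
      · rw [← cancel_mono j, hc']
        have h1 := hc' (fst NK NK)
        have h2 := hc' (snd NK NK)
        have hμ : (μ[NK] ≫ iK) ≫ j = ((fst NK NK ≫ iK) ≫ j) * ((snd NK NK ≫ iK) ≫ j) := by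
          have : μ[NK] = fst NK NK * snd NK NK := by rw [Hom.mul_def, lift_fst_snd, Category.id_comp]
          rw [this, MonObj.mul_comp, MonObj.mul_comp]
        have hr : ((c ⊗ₘ c) ≫ μ[K]) ≫ j = ((fst NK NK ≫ c) ≫ j) * ((snd NK NK ≫ c) ≫ j) := by
          rw [show (c ⊗ₘ c) = lift (fst NK NK ≫ c) (snd NK NK ≫ c) by
            apply CartesianMonoidalCategory.hom_ext <;> simp, ← Hom.mul_def, MonObj.mul_comp]
        rw [hr, h1, h2, hμ]
        group
    haveI : IsClosedImmersion c.left := by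
      have e : c ≫ j = (iK ≫ j) ≫ Borel.conjM g := by rw [Borel.comp_conjM, ← hc]
      haveI : IsClosedImmersion (c.left ≫ j.left) := by
        rw [← Over.comp_left, e]
        exact inferInstanceAs (IsClosedImmersion ((iK ≫ j).left ≫ (Borel.conjM g).left))
      exact IsClosedImmersion.of_comp c.left j.left
    obtain ⟨f, hf⟩ := hNKmax NK c (fun T x y => by
      obtain ⟨x', hx'⟩ := hK T (toUnit T ≫ g)⁻¹ x
      obtain ⟨y', hy'⟩ := hNK T x' y
      refine ⟨y', ?_⟩
      rw [← cancel_mono j, MonObj.mul_comp, MonObj.mul_comp, GrpObj.inv_comp, hc', hc', ← hy',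
        MonObj.mul_comp, MonObj.mul_comp, GrpObj.inv_comp, ← hx']
      group)
    refine ⟨n ≫ f, ?_⟩
    have := hc' n
    rw [toUnit_unique (toUnit _) (𝟙 _), Category.id_comp] at this
    rw [← hf] at this
    simpa only [Category.assoc] using this.symm
  obtain ⟨g, hg⟩ := hNmax NK (iK ≫ j) hnorm
  refine ⟨⟨g, hg⟩, ?_⟩
  -- the intersection
  let P : Over (Spec (CommRingCat.of k)) := Over.mk (pullback.fst j.left i.left ≫ K.hom)
  let a : P ⟶ K := Over.homMk (pullback.fst j.left i.left) rfl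
  let b : P ⟶ N := Over.homMk (pullback.snd j.left i.left) (by
    show pullback.snd j.left i.left ≫ N.hom = pullback.fst j.left i.left ≫ K.hom
    rw [← Over.w i, ← pullback.condition_assoc, Over.w j])
  haveI : IsClosedImmersion a.left := inferInstanceAs (IsClosedImmersion (pullback.fst j.left i.left))
  haveI : IsClosedImmersion b.left := inferInstanceAs (IsClosedImmersion (pullback.snd j.left i.left))
  haveI := BorelExist.mono_of_closedImmersion a
  have sq : IsPullback a b j i := IsPullback.of_map (Over.forget _)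
    (Over.OverMorphism.ext pullback.condition) (IsPullback.of_hasPullback j.left i.left)
  have hlift : ∀ {T : Over (Spec (CommRingCat.of k))} (x : T ⟶ K) (y : T ⟶ N), x ≫ j = y ≫ i →
      ∃ p : T ⟶ P, p ≫ a = x := fun x y e => ⟨sq.lift x y e, sq.lift_fst _ _ _⟩
  obtain ⟨e, he⟩ := hlift η[K] η[N] (by rw [IsMonHom.one_hom j, IsMonHom.one_hom i])
  obtain ⟨μ', hμ'⟩ := hlift ((fst P P ≫ a) * (snd P P ≫ a)) ((fst P P ≫ b) * (snd P P ≫ b)) (by
    simp only [MonObj.mul_comp, Category.assoc, sq.w])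
  obtain ⟨ι', hι'⟩ := hlift a⁻¹ b⁻¹ (by rw [GrpObj.inv_comp, GrpObj.inv_comp, sq.w])
  obtain ⟨strP, hP'⟩ := exists_grpObj_of_mono a e he μ' hμ' ι' hι'
  letI := strP
  haveI := hP'
  haveI : LocallyOfFiniteType P.hom := by rw [← Over.w a]; infer_instance
  haveI : QuasiCompact P.hom := by rw [← Over.w a]; infer_instance
  haveI := AntiAffine.isSeparated_grp P
  haveI : IsAffine P.left := isAffine_of_isAffineHom b.left
  obtain ⟨P0, _, r, _, _, _, _, _, S, hSfin, hS⟩ := BorelExist.exists_idComp (P := P)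
  haveI : Mono r := BorelExist.mono_of_closedImmersion r
  haveI : LocallyOfFiniteType P0.hom := inferInstance
  haveI : IrreducibleSpace P0.left := Groth.Agent.S0348.result k P0
  haveI : IrreducibleSpace NK.left := Groth.Agent.S0348.result k NK
  haveI : IsAffine P0.left := isAffine_of_isAffineHom r.left
  -- translates
  let tr : (PT ⟶ P) → (P0 ⟶ P) := fun s => (toUnit P0 ≫ s) * r
  have htr : ∀ s (q : PT ⟶ P0), q ≫ tr s = s * (q ≫ r) := fun s q => by
    simp only [tr, MonObj.comp_mul, ← Category.assoc, toUnit_unique (q ≫ toUnit P0) (𝟙 _), Category.id_comp]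
  haveI hcl : ∀ s, IsClosedImmersion (tr s).left := fun s => by
    have e : tr s = r ≫ ((toUnit P ≫ s) * 𝟙 P) := by
      simp only [tr, MonObj.comp_mul, ← Category.assoc, comp_toUnit, Category.comp_id]
    haveI : IsIso ((toUnit P ≫ s) * 𝟙 P) := ⟨(toUnit P ≫ s⁻¹) * 𝟙 P, by
      rw [MonObj.comp_mul, ← Category.assoc, comp_toUnit, Category.comp_id, GrpObj.comp_inv, inv_mul_cancel_left], by
      rw [MonObj.comp_mul, ← Category.assoc, comp_toUnit, Category.comp_id, GrpObj.comp_inv, mul_inv_cancel_left]⟩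
    haveI : IsIso ((toUnit P ≫ s) * 𝟙 P).left :=
      ((Over.forget (Spec (CommRingCat.of k))).mapIso (asIso ((toUnit P ≫ s) * 𝟙 P))).isIso_hom
    rw [e]
    exact inferInstanceAs (IsClosedImmersion (r.left ≫ ((toUnit P ≫ s) * 𝟙 P).left))
  have hcov : ∀ z : P.left, ∃ s ∈ S, z ∈ Set.range (tr s).left := by
    have hC : IsClosed (⋃ s ∈ S, Set.range (tr s).left) :=
      hSfin.isClosed_biUnion fun s _ => (tr s).left.isClosedEmbedding.isClosed_range
    intro z
    have := FibrePts.subset_of_pts isClosed_univ hC (fun p _ => by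
      obtain ⟨s, hs, q, hq⟩ := hS p
      exact Set.mem_iUnion₂.mpr ⟨s, hs, cp q, congrArg cp ((htr s q).trans hq)⟩) (Set.mem_univ z)
    obtain ⟨s, hs, hz⟩ := Set.mem_iUnion₂.mp this
    exact ⟨s, hs, hz⟩
  have hopen : IsClopen (Set.range r.left) := by
    refine ⟨r.left.isClosedEmbedding.isClosed_range, isClosed_compl_iff.mp ?_⟩
    let S' := {s ∈ S | ∀ q : PT ⟶ P0, q ≫ r ≠ s}
    have hC : IsClosed (⋃ s ∈ S', Set.range (tr s).left) :=
      (hSfin.subset fun _ h => h.1).isClosed_biUnion fun s _ => (tr s).left.isClosedEmbedding.isClosed_range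
    suffices e : (Set.range r.left)ᶜ = ⋃ s ∈ S', Set.range (tr s).left by rwa [e]
    refine subset_antisymm (fun z hz => ?_) (Set.iUnion₂_subset fun s hs z hz hzr => ?_)
    · obtain ⟨s, hsS, x, rfl⟩ := hcov z
      refine Set.mem_iUnion₂.mpr ⟨s, ⟨hsS, fun q hq => hz ?_⟩, ⟨x, rfl⟩⟩
      refine ⟨((toUnit P0 ≫ q) * 𝟙 P0).left x, ?_⟩
      have e : ((toUnit P0 ≫ q) * 𝟙 P0) ≫ r = tr s := by
        rw [MonObj.mul_comp, Category.assoc, hq, Category.id_comp]
      exact congrArg (fun f : P0 ⟶ P => f.left x) e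
    · have : Set.range (tr s).left ∩ Set.range r.left = ∅ := by
        by_contra hne
        haveI : JacobsonSpace P.left := LocallyOfFiniteType.jacobsonSpace P.hom
        obtain ⟨y, hy, hyc⟩ := nonempty_inter_closedPoints (Set.nonempty_iff_ne_empty.mpr hne)
          ((tr s).left.isClosedEmbedding.isClosed_range.inter r.left.isClosedEmbedding.isClosed_range).isLocallyClosed
        obtain ⟨t, rfl⟩ := exists_cp hyc
        obtain ⟨q, hq⟩ := exists_of_mem_range (tr s) t hy.1
        obtain ⟨q', hq'⟩ := exists_of_mem_range r t hy.2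
        rw [htr, ← hq'] at hq
        exact hs.2 (q' * q⁻¹) (by rw [MonObj.mul_comp, GrpObj.inv_comp, ← hq, mul_inv_cancel_right])
      exact Set.eq_empty_iff_forall_notMem.mp this z ⟨hz, hzr⟩
  -- the component is normal in `K`
  haveI : IsClosedImmersion (r ≫ a).left := inferInstanceAs (IsClosedImmersion (r.left ≫ a.left))
  haveI : IsClosedImmersion (r ≫ a ≫ j).left := inferInstanceAs (IsClosedImmersion (r.left ≫ (a.left ≫ j.left)))
  have hnG : AlgGrp.IsNormalHom (r ≫ a ≫ j) := isNormal_of_pts _ fun g n => by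
    obtain ⟨y, hy⟩ := hN P0 (toUnit P0 ≫ g) (r ≫ b)
    obtain ⟨x, hx⟩ := hK P0 (toUnit P0 ≫ g) (r ≫ a)
    obtain ⟨ψ, hψ⟩ := hlift x y (by
      rw [← hx, ← hy]; simp only [Category.assoc, sq.w])
    have hψ' : ∀ q : PT ⟶ P0, (q ≫ ψ) ≫ a ≫ j = g * (q ≫ r ≫ a ≫ j) * g⁻¹ := fun q => by
      rw [Category.assoc, reassoc_of% hψ, ← hx, MonObj.comp_mul, MonObj.comp_mul, GrpObj.comp_inv,
        ← Category.assoc q (toUnit P0), toUnit_unique (q ≫ toUnit P0) (𝟙 _), Category.id_comp, Category.assoc]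
    have h1 : (1 : PT ⟶ P0) ≫ ψ = 1 := by
      have := hψ' 1
      rw [show (1 : PT ⟶ P0) ≫ r ≫ a ≫ j = 1 from MonObj.one_comp (r ≫ a ≫ j), _root_.mul_one, mul_inv_cancel,
        ← MonObj.one_comp (a ≫ j)] at this
      haveI hm2 : Mono (a ≫ j) := mono_comp a j
      exact (cancel_mono (a ≫ j)).mp this
    have hsub : Set.range ψ.left ⊆ Set.range r.left :=
      (isConnected_range ψ.left.continuous).isPreconnected.subset_isClopen hopen
        ⟨cp ((1 : PT ⟶ P0) ≫ ψ), ⟨_, rfl⟩, by rw [h1, ← MonObj.one_comp r]; exact ⟨_, rfl⟩⟩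
    obtain ⟨n', hn'⟩ := exists_of_mem_range r (n ≫ ψ) (hsub ⟨_, rfl⟩)
    exact ⟨n', by rw [← Category.assoc n' r, hn', hψ']⟩
  have hn0 : AlgGrp.IsNormalHom (r ≫ a) := fun T x y => by
    obtain ⟨y', hy'⟩ := hnG T (x ≫ j) y
    exact ⟨y', by rw [← cancel_mono j, MonObj.mul_comp, MonObj.mul_comp, GrpObj.inv_comp]; simpa using hy'⟩
  obtain ⟨f, hf⟩ := hNKmax P0 (r ≫ a) hn0
  haveI : IsClosedImmersion f.left := by
    haveI : IsClosedImmersion (f.left ≫ iK.left) := by rw [← Over.comp_left, hf]; infer_instance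
    exact IsClosedImmersion.of_comp f.left iK.left
  refine le_antisymm ?_ ?_
  · obtain ⟨p, hp⟩ := hlift iK g hg.symm
    haveI : IsClosedImmersion p.left := by
      haveI : IsClosedImmersion (p.left ≫ a.left) := by rw [← Over.comp_left, hp]; infer_instance
      exact IsClosedImmersion.of_comp p.left a.left
    exact p.left.isClosedEmbedding.isInducing.topologicalKrullDim_le
  · rw [VarDim.topologicalKrullDim_eq_deg_genericPoint NK.hom]
    show topologicalKrullDim ↥P.left ≤ _
    rw [VarDim.topologicalKrullDim_eq_iSup_deg P.hom]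
    refine iSup_le fun z => ?_
    obtain ⟨s, -, hz⟩ := hcov z
    have h1 := FibrePts.deg_le_of_mem_closure (tr s) (subset_closure hz)
    have h2 := LargestNormal.deg_sub f (genericPoint P0.left)
    have h3 := VarDim.deg_le_of_specializes NK.hom (genericPoint_specializes (f.left (genericPoint P0.left)))
    have : VarDim.deg P.hom z ≤ VarDim.deg NK.hom (genericPoint NK.left) := by omega
    exact_mod_cast this

end Groth.Agent.AGFLib.LinPart
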