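import Groth.Agent.AGFLib.BorelFixed
import Groth.Agent.GrpSchLib.Core
import Groth.Agent.GrpSchLib.IdentityComp
import Groth.Agent.GrpSchLib.RedSubgroup
import Groth.Agent.H23.SepCrit
import Groth.Agent.S8014
import Groth.Prelude.Def_AGF
import Mathlib.AlgebraicGeometry.Morphisms.FlatDescent

/-! Properness of a homogeneous space over another one with proper fibre. -/

set_option backward.isDefEq.respectTransparency false
set_option backward.isDefEq.respectTransparency.types false
set_option linter.style.haveILetI false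

universe u

open CategoryTheory Limits AlgebraicGeometry MonoidalCategory CartesianMonoidalCategory MonObj GrpObj

namespace Groth.Agent.AGFLib.QuotProper

open Groth.Agent.GrpSchLib Groth.Agent.AGFLib.Gen Groth.Agent.AGFLib.BorelFixed

variable {k : Type u} [Field k]

local notation "PT" => 𝟙_ (Over (Spec (CommRingCat.of k)))

variable {G H : Over (Spec (CommRingCat.of k))} [GrpObj G] [GrpObj H] {i : H ⟶ G}
  {X : Over (Spec (CommRingCat.of k))} {a : AlgGrp.Action G X} {o : 𝟙_ (Over (Spec (CommRingCat.of k))) ⟶ X}

theorem mul_eq_comp {T : Over (Spec (CommRingCat.of k))} (m : T ⟶ G ⊗ H) :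
    (m ≫ fst G H) * (m ≫ snd G H ≫ i) = m ≫ (G ◁ i) ≫ μ[G] := by
  have : m ≫ (G ◁ i) = lift (m ≫ fst G H) (m ≫ snd G H ≫ i) := by
    apply CartesianMonoidalCategory.hom_ext <;> simp
  rw [Hom.mul_def, ← this, Category.assoc]

/-- Two points with the same image in the quotient differ by a point of the subgroup. -/
theorem exists_mul_eq (hX : AGF.IsQuotient i X a o) {T : Over (Spec (CommRingCat.of k))} (g g' : T ⟶ G)
    (h : g ≫ a.orbitMap o = g' ≫ a.orbitMap o) : ∃ h : T ⟶ H, g * (h ≫ i) = g' := by
  refine ⟨hX.2.2.2.lift _ _ h ≫ snd G H, ?_⟩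
  have h1 := hX.2.2.2.lift_fst _ _ h
  have h2 := hX.2.2.2.lift_snd _ _ h
  generalize hX.2.2.2.lift _ _ h = m at h1 h2
  rw [← h2, ← h1, Category.assoc, mul_eq_comp]

theorem quot_quasiCompact (hX : AGF.IsQuotient i X a o) [QuasiCompact G.hom] : QuasiCompact X.hom := by
  haveI := hX.2.2.1
  haveI : CompactSpace G.left := (quasiCompact_iff_compactSpace G.hom).mp inferInstance
  haveI : CompactSpace X.left := ⟨by
    rw [← Set.range_eq_univ.mpr (a.orbitMap o).left.surjective]
    exact isCompact_range (a.orbitMap o).left.continuous⟩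
  exact (quasiCompact_iff_compactSpace X.hom).mpr inferInstance

theorem quot_orbit_qc (hX : AGF.IsQuotient i X a o) [QuasiCompact G.hom] [LocallyOfFiniteType G.hom] :
    QuasiCompact (a.orbitMap o).left ∧ LocallyOfFinitePresentation (a.orbitMap o).left := by
  haveI := hX.1
  haveI : IsLocallyNoetherian X.left := LocallyOfFiniteType.isLocallyNoetherian X.hom
  haveI : QuasiCompact ((a.orbitMap o).left ≫ X.hom) := by rw [Over.w (a.orbitMap o)]; infer_instance
  haveI : LocallyOfFiniteType ((a.orbitMap o).left ≫ X.hom) := by rw [Over.w (a.orbitMap o)]; infer_instance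
  haveI : LocallyOfFiniteType (a.orbitMap o).left := locallyOfFiniteType_of_comp (a.orbitMap o).left X.hom
  exact ⟨QuasiCompact.of_comp (a.orbitMap o).left X.hom, inferInstance⟩

theorem quot_isReduced (hX : AGF.IsQuotient i X a o) [IsReduced G.left] : IsReduced X.left := by
  haveI := hX.2.1
  haveI := hX.2.2.1
  exact FBaseLib.isReduced_of_flat_surjective (a.orbitMap o).left

/-- A quotient by a closed subgroup is separated. -/
theorem quot_isSeparated (hX : AGF.IsQuotient i X a o) [LocallyOfFiniteType G.hom] [QuasiCompact G.hom]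
    [IsClosedImmersion i.left] : IsSeparated X.hom := by
  haveI := hX.1
  haveI := hX.2.1
  haveI := hX.2.2.1
  obtain ⟨_, _⟩ := quot_orbit_qc hX
  haveI : UniversallyOpen (a.orbitMap o).left := inferInstance
  set p := a.orbitMap o with hp
  let pp := pullback.map G.hom G.hom X.hom X.hom p.left p.left (𝟙 _)
    (by rw [Category.comp_id, Over.w]) (by rw [Category.comp_id, Over.w])
  refine H23.SepCrit.isSeparated_of_isClosed_range X.hom ?_
  have hfl : UniversallyOpen pp ∧ Surjective pp := by
    have e : pp = (p ⊗ₘ p).left := by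
      apply pullback.hom_ext
      · simp only [pp, pullback.lift_fst]
        exact (congrArg CommaMorphism.left (CartesianMonoidalCategory.tensorHom_fst p p)).symm
      · simp only [pp, pullback.lift_snd]
        exact (congrArg CommaMorphism.left (CartesianMonoidalCategory.tensorHom_snd p p)).symm
    have e2 : (p ⊗ₘ p).left = (p ▷ G).left ≫ (X ◁ p).left := by
      rw [← Over.comp_left, ← MonoidalCategory.tensorHom_def]
    rw [e, e2]
    haveI : UniversallyOpen (p ▷ G).left := property_whiskerRight p G @UniversallyOpen ‹_›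
    haveI : Surjective (p ▷ G).left := property_whiskerRight p G @Surjective ‹_›
    have hq := GrpSchLib.isPullback_whiskerLeft (W := X) p
    haveI : UniversallyOpen (X ◁ p).left := MorphismProperty.of_isPullback (P := @UniversallyOpen) hq.flip ‹_›
    haveI : Surjective (X ◁ p).left := MorphismProperty.of_isPullback (P := @Surjective) hq.flip ‹_›
    exact ⟨inferInstance, inferInstance⟩
  obtain ⟨_, _⟩ := hfl
  rw [← (pp.isOpenMap.isQuotientMap pp.continuous pp.surjective).isClosed_preimage]
  let σ : G ⊗ H ⟶ G ⊗ G := lift (fst G H) ((G ◁ i) ≫ μ[G])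
  have e : pp ⁻¹' Set.range (pullback.diagonal X.hom) = Set.range σ.left := by
    apply Set.Subset.antisymm
    · intro z ⟨x, hx⟩
      let T : Over (Spec (CommRingCat.of k)) := Over.mk ((G ⊗ G).left.fromSpecResidueField z ≫ (G ⊗ G).hom)
      let t : T ⟶ G ⊗ G := Over.homMk ((G ⊗ G).left.fromSpecResidueField z) rfl
      haveI : IsReduced T.left := inferInstanceAs (IsReduced (Spec ((G ⊗ G).left.residueField z)))
      have h1 : (t ≫ fst G G) ≫ p = (t ≫ snd G G) ≫ p := by
        obtain ⟨v, hv⟩ := H23.RedSub.exists_lift (t.left ≫ pp) (pullback.diagonal X.hom) (by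
          rintro _ ⟨s, rfl⟩
          refine ⟨x, hx.trans ?_⟩
          rw [Scheme.Hom.comp_apply]
          exact congrArg _ ((G ⊗ G).left.fromSpecResidueField_apply z s).symm)
        refine Over.OverMorphism.ext ?_
        have e1 := congrArg (· ≫ pullback.fst X.hom X.hom) hv
        have e2 := congrArg (· ≫ pullback.snd X.hom X.hom) hv
        simp only [Category.assoc, pullback.diagonal_fst, pullback.diagonal_snd, Category.comp_id, pp,
          pullback.lift_fst, pullback.lift_snd] at e1 e2
        exact ((Category.assoc _ _ _).trans e1.symm).trans (e2.trans (Category.assoc _ _ _).symm)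
      obtain ⟨h, hh⟩ := exists_mul_eq hX _ _ h1
      have h2 : lift (t ≫ fst G G) h ≫ σ = t := by
        apply CartesianMonoidalCategory.hom_ext
        · simp [σ]
        · rw [Category.assoc, lift_snd, ← mul_eq_comp]
          simpa using hh
      refine ⟨(lift (t ≫ fst G G) h).left (IsLocalRing.closedPoint _), ?_⟩
      rw [← Scheme.Hom.comp_apply, ← Over.comp_left, h2]
      exact (G ⊗ G).left.fromSpecResidueField_apply z _
    · rintro _ ⟨w, rfl⟩
      refine ⟨(fst G H ≫ p).left w, ?_⟩
      refine ((Scheme.Hom.comp_apply _ _ w).symm.trans ?_).trans (Scheme.Hom.comp_apply σ.left pp w)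
      refine congrArg (fun f : (G ⊗ H).left ⟶ pullback X.hom X.hom => f w) ?_
      apply pullback.hom_ext
      · simp only [Category.assoc, pullback.diagonal_fst, Category.comp_id, pp, pullback.lift_fst]
        rw [← Category.assoc]
        change _ = (σ ≫ fst G G ≫ p).left
        simp [σ]
      · simp only [Category.assoc, pullback.diagonal_snd, Category.comp_id, pp, pullback.lift_snd]
        rw [← Category.assoc]
        change _ = (σ ≫ snd G G ≫ p).left
        simp only [σ, ← Category.assoc, lift_snd]
        exact congrArg CommaMorphism.left hX.2.2.2.w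
  rw [e]
  haveI : IsClosedImmersion (G ◁ i).left :=
    MorphismProperty.of_isPullback (P := @IsClosedImmersion) (GrpSchLib.isPullback_whiskerLeft (W := G) i).flip ‹_›
  have hs : σ = (G ◁ i) ≫ lift (fst G G) μ[G] := by
    apply CartesianMonoidalCategory.hom_ext <;> simp [σ]
  let S : G ⊗ G ≅ G ⊗ G :=
    { hom := lift (fst G G) μ[G]
      inv := lift (fst G G) ((fst G G)⁻¹ * snd G G)
      hom_inv_id := by
        apply CartesianMonoidalCategory.hom_ext
        · simp
        · rw [Category.assoc, lift_snd, MonObj.comp_mul, GrpObj.comp_inv, lift_fst, lift_snd, Category.id_comp,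
            show μ[G] = fst G G * snd G G by rw [Hom.mul_def, lift_fst_snd, Category.id_comp], inv_mul_cancel_left]
      inv_hom_id := by
        apply CartesianMonoidalCategory.hom_ext
        · simp
        · rw [Category.assoc, lift_snd, Category.id_comp, ← Hom.mul_def, mul_inv_cancel_left] }
  haveI : IsIso S.hom.left := ((Over.forget _).mapIso S).isIso_hom
  haveI : IsClosedImmersion σ.left := by
    rw [hs, Over.comp_left]
    exact inferInstanceAs (IsClosedImmersion ((G ◁ i).left ≫ S.hom.left))
  exact σ.left.isClosedEmbedding.isClosed_range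

theorem orbitMap_comp {Y : Over (Spec (CommRingCat.of k))} {b : AlgGrp.Action G Y} (f : X ⟶ Y)
    (hf : (G ◁ f) ≫ b.act = a.act ≫ f) : a.orbitMap o ≫ f = b.orbitMap (o ≫ f) := by
  rw [AlgGrp.Action.orbitMap, AlgGrp.Action.orbitMap, Category.assoc, ← hf, lift_whiskerLeft_assoc, Category.assoc]

/-- A homogeneous space is proper when it maps equivariantly to a proper one with universally closed fibre. -/
theorem isProper_of_fibre [LocallyOfFiniteType G.hom] [QuasiCompact G.hom] [LocallyOfFiniteType X.hom]
    [QuasiCompact X.hom] [IsSeparated X.hom] {Y : Over (Spec (CommRingCat.of k))} [IsProper Y.hom]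
    {b : AlgGrp.Action G Y} (f : X ⟶ Y) (hf : (G ◁ f) ≫ b.act = a.act ≫ f)
    (y : PT ⟶ Y) [Flat (b.orbitMap y).left] [Surjective (b.orbitMap y).left]
    {F : Over (Spec (CommRingCat.of k))} (j : F ⟶ X) (sq : IsPullback j (toUnit F) f y)
    [UniversallyClosed F.hom] : IsProper X.hom := by
  have hw : ∀ {T : Over (Spec (CommRingCat.of k))} (g : T ⟶ G) (x : T ⟶ X),
      (lift g x ≫ a.act) ≫ f = lift g (x ≫ f) ≫ b.act := fun g x => by
    rw [Category.assoc, ← hf, lift_whiskerLeft_assoc]
  let ψ : G ⊗ F ⟶ X := lift (fst G F) (snd G F ≫ j) ≫ a.act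
  have sq2 : IsPullback ψ (fst G F) f (b.orbitMap y) := by
    have hc : ψ ≫ f = fst G F ≫ b.orbitMap y := by
      rw [hw, GrpSchLib.comp_orbitMap, Category.assoc, sq.w, ← Category.assoc, comp_toUnit]
    have hst : ∀ s : PullbackCone f (b.orbitMap y),
        (lift s.snd⁻¹ s.fst ≫ a.act) ≫ f = toUnit _ ≫ y := fun s => by
      rw [hw, s.condition, GrpSchLib.comp_orbitMap, GrpSchLib.act_mul, inv_mul_cancel, GrpSchLib.act_one]
    refine ⟨⟨hc⟩, ⟨PullbackCone.IsLimit.mk _ (fun s => lift s.snd (sq.lift _ _ (hst s))) (fun s => ?_)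
      (fun s => lift_fst _ _) (fun s m h1 h2 => ?_)⟩⟩
    · rw [← Category.assoc, comp_lift, lift_fst, ← Category.assoc, lift_snd, sq.lift_fst, GrpSchLib.act_mul,
        mul_inv_cancel, GrpSchLib.act_one]
    · apply CartesianMonoidalCategory.hom_ext
      · rw [h2, lift_fst]
      · rw [lift_snd]
        refine sq.hom_ext ?_ (toUnit_unique _ _)
        rw [sq.lift_fst, ← h1, ← h2, ← Category.assoc m, comp_lift, GrpSchLib.act_mul, inv_mul_cancel,
          GrpSchLib.act_one, Category.assoc]
  have sqL := sq2.map (Over.forget _)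
  haveI : UniversallyClosed (fst G F).left :=
    MorphismProperty.pullback_fst (P := @UniversallyClosed) G.hom F.hom ‹_›
  haveI : IsLocallyNoetherian Y.left := LocallyOfFiniteType.isLocallyNoetherian Y.hom
  haveI : QuasiCompact ((b.orbitMap y).left ≫ Y.hom) := by rw [Over.w (b.orbitMap y)]; infer_instance
  haveI : QuasiCompact (b.orbitMap y).left := QuasiCompact.of_comp (b.orbitMap y).left Y.hom
  haveI : UniversallyClosed f.left :=
    MorphismProperty.of_isPullback_of_descendsAlong (P := @UniversallyClosed)
      (Q := @Surjective ⊓ @Flat ⊓ @QuasiCompact) sqL.flip ⟨⟨‹_›, ‹_›⟩, ‹_›⟩ (inferInstanceAs (UniversallyClosed (fst G F).left))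
  haveI : UniversallyClosed X.hom := by
    rw [← Over.w f]
    infer_instance
  exact ⟨⟩

variable [IsAlgClosed k]

/-- A morphism from a proper scheme which is surjective on rational points makes the target universally closed. -/
theorem universallyClosed_of_pts {X' F : Over (Spec (CommRingCat.of k))} [IsProper X'.hom]
    [LocallyOfFiniteType F.hom] [IsSeparated F.hom] (ψ : X' ⟶ F) (h : ∀ t : PT ⟶ F, ∃ x : PT ⟶ X', x ≫ ψ = t) :
    UniversallyClosed F.hom := by
  haveI : IsProper (ψ.left ≫ F.hom) := by rw [Over.w ψ]; infer_instance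
  haveI : IsProper ψ.left := IsProper.of_comp ψ.left F.hom
  haveI : Surjective ψ.left := ⟨fun x => by
    have := eq_univ_of_forall_cp ψ.left.isClosedMap.isClosed_range (fun t => by
      obtain ⟨x, rfl⟩ := h t
      exact ⟨cp x, rfl⟩)
    exact this.ge (Set.mem_univ x)⟩
  haveI : UniversallyClosed (ψ.left ≫ F.hom) := inferInstance
  exact UniversallyClosed.of_comp_surjective ψ.left F.hom

/-- A finite type scheme with finitely many rational points is finite. -/
theorem isFinite_of_finite_pts {F : Over (Spec (CommRingCat.of k))} [LocallyOfFiniteType F.hom]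
    [IsSeparated F.hom] [QuasiCompact F.hom] (S : Set (PT ⟶ F)) (hS : S.Finite) (h : ∀ t : PT ⟶ F, t ∈ S) :
    IsFinite F.hom := by
  have hu : (cp '' S : Set F.left) = Set.univ := by
    refine eq_univ_of_forall_cp ?_ fun t => ⟨t, h t, rfl⟩
    rw [← Set.biUnion_of_singleton (cp '' S)]
    exact (hS.image _).isClosed_biUnion fun x ⟨t, _, ht⟩ => ht ▸ isClosed_cp t
  haveI : Finite F.left := Set.finite_univ_iff.mp (hu ▸ hS.image _)
  haveI : LocallyQuasiFinite F.hom := LocallyQuasiFinite.of_finite_preimage_singleton F.hom fun x => Set.toFinite _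
  exact IsFinite.of_locallyQuasiFinite F.hom

end Groth.Agent.AGFLib.QuotProper
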