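import Groth.Agent.AGFLib.Borel
import Groth.Agent.GrpSchLib.HomClosedRange
import Groth.Agent.GrpSchLib.OrbitImmersion
import Mathlib.AlgebraicGeometry.Morphisms.Proper
import Mathlib.FieldTheory.IsAlgClosed.Basic

/-! Images of Borel subgroups. -/

set_option backward.isDefEq.respectTransparency false
set_option backward.isDefEq.respectTransparency.types false
set_option linter.style.haveILetI false

universe u

open CategoryTheory Limits AlgebraicGeometry MonoidalCategory CartesianMonoidalCategory MonObj GrpObj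

namespace Groth.Agent.AGFLib.BorelImage

open Groth.Agent.GrpSchLib Groth.Agent.AGFLib.Gen Groth.Agent.AGFLib.BorelFixed Groth.Agent.AGFLib.QuotProper
open Groth.Agent.AGFLib.BorelExist Groth.Agent.AGFLib.Borel

variable {k : Type u} [Field k] [IsAlgClosed k]

local notation "PT" => 𝟙_ (Over (Spec (CommRingCat.of k)))

variable {G Q : Over (Spec (CommRingCat.of k))} [GrpObj G] [GrpObj Q]

theorem conjBy_comp {T : Over (Spec (CommRingCat.of k))} (q : G ⟶ Q) [IsMonHom q] (g : PT ⟶ G) (i : T ⟶ G) :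
    AGF.conjBy g i ≫ q = AGF.conjBy (g ≫ q) (i ≫ q) := by
  simp only [AGF.conjBy, MonObj.mul_comp, GrpObj.inv_comp, Category.assoc]

/-- A mono through which a homomorphism factors makes the factor a homomorphism. -/
theorem isMonHom_of_comp {A B C : Over (Spec (CommRingCat.of k))} [GrpObj A] [GrpObj B] [GrpObj C] (f : A ⟶ B)
    (i : B ⟶ C) [IsMonHom i] [Mono i] (h : A ⟶ C) [IsMonHom h] (e : f ≫ i = h) : IsMonHom f :=
  { one_hom := by rw [← cancel_mono i, Category.assoc, e, IsMonHom.one_hom, IsMonHom.one_hom]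
    mul_hom := by
      rw [← cancel_mono i, Category.assoc, e, IsMonHom.mul_hom, Category.assoc, IsMonHom.mul_hom, ← e,
        ← MonoidalCategory.tensorHom_comp_tensorHom_assoc] }

variable [IsAffine G.left] [Smooth G.hom] [ConnectedSpace G.left] [IsAffine Q.left] [Smooth Q.hom]
  (q : G ⟶ Q) [IsMonHom q] [Surjective q.left]

/-- The image of a Borel subgroup is a Borel subgroup. -/
theorem isBorel_image {B B' : Over (Spec (CommRingCat.of k))} [GrpObj B] [GrpObj B'] (iB : B ⟶ G)
    (hB : Red.IsBorelOver k iB) (iB' : B' ⟶ Q) [IsMonHom iB'] [IsClosedImmersion iB'.left] [Smooth B'.hom]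
    (p : B ⟶ B') [Surjective p.left] (hp : p ≫ iB' = iB ≫ q) : Red.IsBorelOver k iB' := by
  obtain ⟨_, _, _, _, hs, -⟩ := id hB
  haveI : Mono iB := mono_of_closedImmersion iB
  haveI : Mono iB' := mono_of_closedImmersion iB'
  haveI : IsMonHom p := isMonHom_of_comp p iB' (iB ≫ q) hp
  haveI : LocallyOfFiniteType B.hom := by rw [← Over.w iB]; infer_instance
  haveI : QuasiCompact B.hom := by rw [← Over.w iB]; infer_instance
  haveI : LocallyOfFiniteType B'.hom := by rw [← Over.w iB']; infer_instance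
  haveI : QuasiCompact B'.hom := by rw [← Over.w iB']; infer_instance
  haveI : ConnectedSpace B'.left := by
    rw [connectedSpace_iff_univ, ← p.left.surjective.range_eq, ← Set.image_univ]
    exact isConnected_univ.image _ p.left.continuous.continuousOn
  have hs' : Red.IsSolvableGrp B' := by
    obtain ⟨n, hn⟩ := hs
    refine ProperSpace.isSolvableGrp_of_pts n ?_
    haveI := GrpSchLib.AntiAffine.isSeparated_grp B'
    let ψ : (PT ⟶ B) →* (PT ⟶ B') := MonoidHom.mk' (· ≫ p) fun x y => MonObj.mul_comp x y p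
    have hsurj : Function.Surjective ψ := fun x => exists_of_mem_range p x (p.left.surjective _)
    rw [← map_derivedSeries_eq hsurj n, hn, Subgroup.map_bot]
  obtain ⟨X, a, o, hl, hq, hfl, hsu, hsq⟩ := HomogeneousQuot.exists_quot G B iB
  have hX : AGF.IsQuotient iB X a o := ⟨hl, hfl, hsu, hsq⟩
  haveI := isProper_borel iB hB hX
  obtain ⟨Y, b, y, hl', hq', hfl', hsu', hsq'⟩ := HomogeneousQuot.exists_quot Q B' iB'
  have hY : AGF.IsQuotient iB' Y b y := ⟨hl', hfl', hsu', hsq'⟩
  haveI := hl'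
  haveI := hq'
  haveI := hsu'
  haveI : IsSeparated Y.hom := quot_isSeparated hY
  haveI : QuasiCompact G.hom := inferInstance
  obtain ⟨c, hc⟩ := exists_restrict b q
  obtain ⟨π, ⟨-, hπ⟩, -⟩ := Groth.Agent.S8014.result k G B iB X a o hX Y c y (fun T h => by
    rw [hc, ← Category.assoc, lift_whiskerRight, Category.assoc, ← hp, ← Category.assoc]
    exact stab_of_quot hY _)
  haveI : UniversallyClosed Y.hom := universallyClosed_of_pts π fun t => by
    obtain ⟨g', hg'⟩ := exists_of_mem_range (b.orbitMap y) t ((b.orbitMap y).left.surjective _)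
    obtain ⟨g, hg⟩ := exists_of_mem_range q g' (q.left.surjective _)
    refine ⟨g ≫ a.orbitMap o, ?_⟩
    rw [Category.assoc, hπ, ← hg', pt_orbitMap, pt_orbitMap, hc, ← Category.assoc, lift_whiskerRight, hg]
  haveI : IsProper Y.hom := ⟨⟩
  exact isBorel_of_proper iB' hs' hY

/-- The image of a smooth connected subgroup. -/
theorem exists_image {B : Over (Spec (CommRingCat.of k))} [GrpObj B] (iB : B ⟶ G) [IsMonHom iB]
    [IsClosedImmersion iB.left] :
    ∃ (B' : Over (Spec (CommRingCat.of k))) (_ : GrpObj B') (iB' : B' ⟶ Q) (p : B ⟶ B'),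
      IsMonHom iB' ∧ IsClosedImmersion iB'.left ∧ Smooth B'.hom ∧ (Smooth B.hom → Surjective p.left ∧ p ≫ iB' = iB ≫ q) := by
  haveI : LocallyOfFiniteType B.hom := by rw [← Over.w iB]; infer_instance
  haveI : QuasiCompact B.hom := by rw [← Over.w iB]; infer_instance
  haveI : QuasiCompact Q.hom := inferInstance
  haveI : QuasiCompact (iB ≫ q).left := by
    haveI : QuasiCompact ((iB ≫ q).left ≫ Q.hom) := by rw [Over.w (iB ≫ q)]; infer_instance
    exact QuasiCompact.of_comp (iB ≫ q).left Q.hom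
  let Z := Set.range (iB ≫ q).left
  have hZc : IsClosed Z := HomClosedRange.isClosed_range (iB ≫ q)
  have hmem : ∀ x : PT ⟶ Q, cp x ∈ Z → ∃ b, b ≫ iB ≫ q = x := fun x hx => exists_of_mem_range _ x hx
  obtain ⟨B', _, iB', hm, hci, hsm, hred, hqc, hr⟩ := exists_subgroup Z hZc
    ⟨cp (1 : PT ⟶ B), (congrArg cp (MonObj.one_comp (iB ≫ q)))⟩
    (fun g h hg hh => by
      obtain ⟨x, rfl⟩ := hmem g hg
      obtain ⟨y, rfl⟩ := hmem h hh
      exact ⟨cp (x * y), congrArg cp (MonObj.mul_comp x y (iB ≫ q))⟩)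
    (fun g hg => by
      obtain ⟨x, rfl⟩ := hmem g hg
      exact ⟨cp x⁻¹, congrArg cp (GrpObj.inv_comp x (iB ≫ q))⟩)
  by_cases hs : Smooth B.hom
  · haveI : IsReduced B.left := isReduced_of_smooth_field B.hom
    obtain ⟨p, hp⟩ := H23.RedSub.exists_lift_closed (iB ≫ q).left iB'.left hr.ge
    refine ⟨B', inferInstance, iB', Over.homMk p (by rw [← Over.w iB', reassoc_of% hp, Over.w (iB ≫ q)]), hm, hci, hsm,
      fun _ => ⟨⟨fun x => ?_⟩, Over.OverMorphism.ext hp⟩⟩
    obtain ⟨z, hz⟩ := hr.le ⟨x, rfl⟩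
    refine ⟨z, iB'.left.isClosedEmbedding.injective ?_⟩
    rw [← hz]
    exact congrArg (fun f => f z) (congrArg (fun f : B.left ⟶ Q.left => (f : B.left → Q.left)) hp)
  · exact ⟨B', inferInstance, iB', toUnit B ≫ η[B'], hm, hci, hsm, fun h => absurd h hs⟩

/-- Every Borel subgroup of the target is the image of a Borel subgroup. -/
theorem exists_borel_over {B' : Over (Spec (CommRingCat.of k))} [GrpObj B'] (iB' : B' ⟶ Q)
    (hB' : Red.IsBorelOver k iB') [ConnectedSpace Q.left] :
    ∃ (B : Over (Spec (CommRingCat.of k))) (_ : GrpObj B) (iB : B ⟶ G) (p : B ⟶ B'),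
      Red.IsBorelOver k iB ∧ Surjective p.left ∧ p ≫ iB' = iB ≫ q := by
  obtain ⟨B₀, _, i₀, X₀, a₀, o₀, h₀, -, -⟩ := exists_borel G
  haveI := h₀.1
  haveI := h₀.2.1
  obtain ⟨B'', _, i'', p₀, _, _, _, hp₀⟩ := exists_image q i₀
  obtain ⟨hsurj, hp₀⟩ := hp₀ h₀.2.2.1
  haveI := hsurj
  obtain ⟨g, f, hf⟩ := conjugate i'' iB' (isBorel_image q i₀ h₀ i'' p₀ hp₀) hB'
  obtain ⟨g₀, hγ⟩ := exists_of_mem_range q g (q.left.surjective _)
  refine ⟨B₀, inferInstance, AGF.conjBy g₀ i₀, p₀ ≫ f.hom, isBorel_conj i₀ h₀ g₀, ?_, ?_⟩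
  · haveI : IsIso f.hom.left := ((Over.forget _).mapIso f).isIso_hom
    exact inferInstanceAs (Surjective (p₀.left ≫ f.hom.left))
  · rw [Category.assoc, hf, conjBy_comp, hγ, ← hp₀, conjBy_eq, conjBy_eq, Category.assoc]

end Groth.Agent.AGFLib.BorelImage

namespace Groth.Agent.AGFLib.BorelImage

open Groth.Agent.GrpSchLib Groth.Agent.AGFLib.Gen Groth.Agent.AGFLib.BorelFixed Groth.Agent.AGFLib.QuotProper

variable {k : Type u} [Field k] [IsAlgClosed k]

local notation "PT" => 𝟙_ (Over (Spec (CommRingCat.of k)))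

/-- An integral proper scheme over an algebraically closed field has only constant functions. -/
theorem bijective_appTop_of_isProper {X : Scheme.{u}} (f : X ⟶ Spec (CommRingCat.of k)) [IsIntegral X] [IsProper f] :
    Function.Bijective f.appTop := by
  let φ : CommRingCat.of k ⟶ Γ(X, ⊤) := (Scheme.ΓSpecIso _).inv ≫ f.appTop
  have hint : φ.hom.IsIntegral := (RingHom.isIntegral_of_surjective _
      (ConcreteCategory.bijective_of_isIso (Scheme.ΓSpecIso (CommRingCat.of k)).inv).2).trans _ _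
      (isIntegral_appTop_of_universallyClosed f)
  haveI : Nonempty (⊤ : X.Opens) := ⟨⟨Classical.arbitrary X, trivial⟩⟩
  algebraize [φ.hom]
  have hb : Function.Bijective φ.hom := IsAlgClosed.algebraMap_bijective_of_isIntegral
  have hf : f.appTop = (Scheme.ΓSpecIso _).hom ≫ φ := by simp [φ]
  rw [hf]
  exact hb.comp (ConcreteCategory.bijective_of_isIso (Scheme.ΓSpecIso (CommRingCat.of k)).hom)

/-- A morphism from a connected group constant on the cosets of a subgroup with proper quotient to an affine scheme is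
constant. -/
theorem eq_const_of_rightInvariant {G H : Over (Spec (CommRingCat.of k))} [GrpObj G] [GrpObj H] [IsAffine G.left]
    [Smooth G.hom] [ConnectedSpace G.left] (i : H ⟶ G) [IsMonHom i] [IsClosedImmersion i.left]
    {X : Over (Spec (CommRingCat.of k))} {a : AlgGrp.Action G X} {o : PT ⟶ X} (hX : AGF.IsQuotient i X a o)
    [IsProper X.hom] {Z : Over (Spec (CommRingCat.of k))} [IsAffine Z.left] (ψ : G ⟶ Z)
    (h : fst G H ≫ ψ = ((G ◁ i) ≫ μ[G]) ≫ ψ) : ψ = toUnit G ≫ (1 : PT ⟶ G) ≫ ψ := by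
  haveI := hX.2.1
  haveI := hX.2.2.1
  obtain ⟨_, _⟩ := quot_orbit_qc hX
  haveI : Mono i := BorelExist.mono_of_closedImmersion i
  haveI : QuasiCompact G.hom := inferInstance
  obtain ⟨e, he⟩ := GrpSchLib.OrbitImmersion.exists_desc hX.2.2.2 ψ h
  haveI : IsReduced G.left := isReduced_of_smooth_field G.hom
  haveI : IsReduced X.left := quot_isReduced hX
  haveI : IrreducibleSpace G.left := Groth.Agent.S0348.result k G
  haveI : IrreducibleSpace X.left := by
    haveI : Nonempty X.left := ⟨cp o⟩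
    haveI : PreirreducibleSpace X.left := ⟨by
      rw [← (a.orbitMap o).left.surjective.range_eq, ← Set.image_univ]
      exact (IrreducibleSpace.isIrreducible_univ _).2.image _ (a.orbitMap o).left.continuous.continuousOn⟩
    exact ⟨inferInstance⟩
  haveI : IsIntegral X.left := isIntegral_of_irreducibleSpace_of_isReduced _
  have hb : Function.Bijective X.hom.appTop := bijective_appTop_of_isProper X.hom
  have hc := GrpSchLib.AntiAffine.eq_const_of_isAffine hb e o
  have h1 : (1 : PT ⟶ G) ≫ a.orbitMap o = o := by rw [pt_orbitMap, GrpSchLib.act_one]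
  conv_lhs => rw [← he, hc]
  conv_rhs => rw [← he, ← Category.assoc (1 : PT ⟶ G), h1]
  rw [← Category.assoc, comp_toUnit]

end Groth.Agent.AGFLib.BorelImage
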