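import Groth.Agent.AGFLib.BorelImage
import Groth.Agent.GrpSchLib.AdjointQuot
import Groth.Agent.GrpSchLib.HomFibre
import Groth.Agent.GrpSchLib.HomFlat
import Groth.Agent.GrpSchLib.SmoothQuot

/-! Base change of homogeneous spaces and subgroups to the geometric point of a field. -/

set_option backward.isDefEq.respectTransparency false
set_option backward.isDefEq.respectTransparency.types false
set_option linter.style.haveILetI false

universe u

open CategoryTheory Limits AlgebraicGeometry MonoidalCategory CartesianMonoidalCategory MonObj GrpObj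

namespace Groth.Agent.AGFLib.GeomBC

open Functor.LaxMonoidal

section General

variable {S S' : Scheme.{u}} (σ : S' ⟶ S) {G H X : Over S} [GrpObj G]

/-- The base change of an action. -/
noncomputable def bcAction (a : AlgGrp.Action G X) : AlgGrp.Action (Red.bc σ G) (Red.bc σ X) where
  act := Functor.LaxMonoidal.μ (Over.pullback σ) G X ≫ (Over.pullback σ).map a.act
  one_act := by
    have h : (Over.pullback σ).map ((η[G] ▷ X) ≫ a.act) = (Over.pullback σ).map (λ_ X).hom := by rw [a.one_act]
    rw [show η[Red.bc σ G] = ε (Over.pullback σ) ≫ (Over.pullback σ).map η[G] from rfl, comp_whiskerRight,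
      Category.assoc, μ_natural_left_assoc, ← Functor.map_comp, h, ← left_unitality]
  mul_act := by
    rw [show μ[Red.bc σ G] = Functor.LaxMonoidal.μ (Over.pullback σ) G G ≫ (Over.pullback σ).map μ[G] from rfl,
      comp_whiskerRight, Category.assoc, μ_natural_left_assoc, ← Functor.map_comp, a.mul_act, Functor.map_comp,
      Functor.map_comp, associativity_assoc, whiskerLeft_comp, Category.assoc, μ_natural_right_assoc]

/-- The base change of a rational point. -/
noncomputable def bcPt (o : 𝟙_ (Over S) ⟶ X) : 𝟙_ (Over S') ⟶ Red.bc σ X :=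
  ε (Over.pullback σ) ≫ (Over.pullback σ).map o

theorem map_toUnit (Y : Over S) :
    (Over.pullback σ).map (toUnit Y) = toUnit ((Over.pullback σ).obj Y) ≫ ε (Over.pullback σ) := by
  rw [← cancel_mono (inv (ε (Over.pullback σ)))]
  exact toUnit_unique _ _

theorem orbitMap_bc (a : AlgGrp.Action G X) (o : 𝟙_ (Over S) ⟶ X) :
    (bcAction σ a).orbitMap (bcPt σ o) = (Over.pullback σ).map (a.orbitMap o) := by
  simp only [AlgGrp.Action.orbitMap, bcAction, bcPt]
  rw [← Category.assoc (toUnit _), ← map_toUnit, ← Functor.map_comp, ← (Over.pullback σ).map_id,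
    ← Category.assoc, Functor.Monoidal.lift_μ, ← Functor.map_comp]

/-- The quotient by a subgroup commutes with base change. -/
theorem isQuotient_bc [GrpObj H] (i : H ⟶ G) (a : AlgGrp.Action G X) (o : 𝟙_ (Over S) ⟶ X)
    (hX : AGF.IsQuotient i X a o) :
    AGF.IsQuotient ((Over.pullback σ).map i) (Red.bc σ X) (bcAction σ a) (bcPt σ o) := by
  obtain ⟨h1, h2, h3, h4⟩ := hX
  rw [AGF.IsQuotient, orbitMap_bc]
  refine ⟨?_, MorphismProperty.overPullbackMap (P := @Flat) _ _ h2,
    MorphismProperty.overPullbackMap (P := @Surjective) _ _ h3, ?_⟩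
  · exact inferInstanceAs (LocallyOfFiniteType (pullback.snd X.hom σ))
  haveI : (Over.pullback σ).IsRightAdjoint := (Over.mapPullbackAdj σ).isRightAdjoint
  have h := h4.map (Over.pullback σ)
  refine h.of_iso (Functor.Monoidal.μIso (Over.pullback σ) G H).symm (Iso.refl _) (Iso.refl _) (Iso.refl _) ?_ ?_
    (by simp) (by simp)
  · simp only [Iso.refl_hom, Category.comp_id, Iso.symm_hom]
    rw [← cancel_epi (Functor.Monoidal.μIso (Over.pullback σ) G H).hom, Iso.hom_inv_id_assoc]
    exact Functor.Monoidal.μ_fst _ _ _
  · simp only [Iso.refl_hom, Category.comp_id, Iso.symm_hom]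
    rw [← cancel_epi (Functor.Monoidal.μIso (Over.pullback σ) G H).hom, Iso.hom_inv_id_assoc,
      show μ[Red.bc σ G] = Functor.LaxMonoidal.μ (Over.pullback σ) G G ≫ (Over.pullback σ).map μ[G] from rfl,
      μ_natural_right_assoc, ← Functor.map_comp]
    rfl

end General

variable {k : Type u} [Field k]

/-- The geometric point of a field is integral. -/
theorem isIntegralHom_geomPt (s : Spec (CommRingCat.of k)) : IsIntegralHom (Red.geomPt s) := by
  haveI : IsClosedImmersion ((Spec (CommRingCat.of k)).fromSpecResidueField s) := by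
    refine IsClosedImmersion.of_isPreimmersion _ ?_
    rw [Scheme.range_fromSpecResidueField]
    exact Set.subsingleton_of_subsingleton.isClosed
  haveI : IsIntegralHom (Spec.map (CommRingCat.ofHom (algebraMap ((Spec (CommRingCat.of k)).residueField s)
      (AlgebraicClosure ((Spec (CommRingCat.of k)).residueField s))))) := by
    rw [IsIntegralHom.SpecMap_iff]
    exact algebraMap_isIntegral_iff.mpr inferInstance
  exact inferInstance

theorem flat_geomPt (s : Spec (CommRingCat.of k)) : Flat (Red.geomPt s) := by
  obtain ⟨φ, hφ⟩ := Spec.map_surjective (Red.geomPt s)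
  rw [← hφ]
  exact GrpSchLib.flat_spec_map_field φ.hom

theorem surjective_geomPt (s : Spec (CommRingCat.of k)) : Surjective (Red.geomPt s) := by
  obtain ⟨φ, hφ⟩ := Spec.map_surjective (Red.geomPt s)
  rw [← hφ]
  exact GrpSchLib.surjective_spec_map_field φ.hom

/-- The point of the spectrum of a field. -/
noncomputable abbrev pt (k : Type u) [Field k] : Spec (CommRingCat.of k) := IsLocalRing.closedPoint k

section Fibre

variable (G : Over (Spec (CommRingCat.of k))) (s : Spec (CommRingCat.of k))

instance [IsAffine G.left] : IsAffine (Red.geomFibre s G).left :=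
  haveI : IsAffineHom G.hom := isAffineHom_of_isAffine G.hom
  haveI : IsAffineHom (pullback.snd G.hom (Red.geomPt s)) := inferInstance
  isAffine_of_isAffineHom (pullback.snd G.hom (Red.geomPt s))

instance [Smooth G.hom] : Smooth (Red.geomFibre s G).hom :=
  inferInstanceAs (Smooth (pullback.snd G.hom (Red.geomPt s)))

instance [LocallyOfFiniteType G.hom] : LocallyOfFiniteType (Red.geomFibre s G).hom :=
  inferInstanceAs (LocallyOfFiniteType (pullback.snd G.hom (Red.geomPt s)))

instance [QuasiCompact G.hom] : QuasiCompact (Red.geomFibre s G).hom :=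
  inferInstanceAs (QuasiCompact (pullback.snd G.hom (Red.geomPt s)))

instance connectedSpace_geomFibre [GrpObj G] [LocallyOfFiniteType G.hom] [QuasiCompact G.hom]
    [ConnectedSpace G.left] : ConnectedSpace (Red.geomFibre s G).left := by
  haveI := GrpSchLib.Adjoint.geometricallyIrreducible (G := G)
  haveI : IrreducibleSpace ↥(pullback G.hom (Red.geomPt s)) :=
    GeometricallyIrreducible.geometrically_irreducibleSpace (f := G.hom) _ _ _ (IsPullback.of_hasPullback _ _)
  exact inferInstanceAs (ConnectedSpace ↥(pullback G.hom (Red.geomPt s)))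

end Fibre

variable {G H : Over (Spec (CommRingCat.of k))} (s : Spec (CommRingCat.of k)) (f : G ⟶ H)

instance [IsClosedImmersion f.left] : IsClosedImmersion ((Over.pullback (Red.geomPt s)).map f).left :=
  MorphismProperty.overPullbackMap (P := @IsClosedImmersion) _ f ‹_›

instance [Surjective f.left] : Surjective ((Over.pullback (Red.geomPt s)).map f).left :=
  MorphismProperty.overPullbackMap (P := @Surjective) _ f ‹_›

/-- Universal closedness descends from the geometric fibre. -/
theorem universallyClosed_of_geomFibre (X : Over (Spec (CommRingCat.of k)))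
    [UniversallyClosed (Red.geomFibre s X).hom] : UniversallyClosed X.hom := by
  haveI := isIntegralHom_geomPt s
  haveI := surjective_geomPt s
  haveI : UniversallyClosed (pullback.snd X.hom (Red.geomPt s)) := ‹_›
  haveI : UniversallyClosed (pullback.fst X.hom (Red.geomPt s) ≫ X.hom) := by
    rw [pullback.condition]; infer_instance
  exact UniversallyClosed.of_comp_surjective (pullback.fst X.hom (Red.geomPt s)) X.hom

end Groth.Agent.AGFLib.GeomBC

namespace Groth.Agent.AGFLib.GeomBC

variable {k : Type u} [Field k]

/-- A reduced group receiving a surjective homomorphism from a smooth one is smooth. -/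
theorem smooth_image {B B' : Over (Spec (CommRingCat.of k))} [GrpObj B] [GrpObj B'] (p : B ⟶ B') [IsMonHom p]
    [Surjective p.left] [Smooth B.hom] [QuasiCompact B.hom] [LocallyOfFiniteType B'.hom] [IsSeparated B'.hom]
    [AlgebraicGeometry.IsReduced B'.left] : Smooth B'.hom := by
  haveI : QuasiCompact p.left := by
    haveI : QuasiCompact (p.left ≫ B'.hom) := by rw [Over.w p]; infer_instance
    exact QuasiCompact.of_comp p.left B'.hom
  haveI : Flat p.left := GrpSchLib.flat_of_surjective_hom p
  haveI : Smooth (p.left ≫ B'.hom) := by rw [Over.w p]; infer_instance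
  exact GrpSchLib.smooth_of_flat_surjective p.left B'.hom

theorem isMonHom_of_comp {A B C : Over (Spec (CommRingCat.of k))} [GrpObj A] [GrpObj B] [GrpObj C] (f : A ⟶ B)
    (g : B ⟶ C) [IsMonHom g] [Mono g] (h : A ⟶ C) [IsMonHom h] (e : f ≫ g = h) : IsMonHom f := by
  refine ⟨?_, ?_⟩
  · rw [← cancel_mono g, Category.assoc, e, IsMonHom.one_hom, IsMonHom.one_hom]
  · rw [← cancel_mono g, Category.assoc, e, IsMonHom.mul_hom, Category.assoc, IsMonHom.mul_hom, ← e,
      ← MonoidalCategory.tensorHom_comp_tensorHom_assoc]

end Groth.Agent.AGFLib.GeomBC
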