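import Groth.Agent.AGFLib.GeomBC
import Groth.Agent.GrpSchLib.Kunneth
import Groth.Agent.GrpSchLib.AntiAffineBC

/-! Points commuting with a subgroup with proper quotient are central. -/

set_option backward.isDefEq.respectTransparency false
set_option backward.isDefEq.respectTransparency.types false
set_option linter.style.haveILetI false

universe u

open CategoryTheory Limits AlgebraicGeometry MonoidalCategory CartesianMonoidalCategory MonObj GrpObj

namespace Groth.Agent.AGFLib.CentBorel

open Groth.Agent.GrpSchLib Groth.Agent.GrpSchLib.Kunneth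

variable {k : Type u} [Field k]

/-- A morphism to an affine scheme from a product with a factor having only constant functions is constant in it. -/
theorem eq_snd {X T Z : Over (Spec (CommRingCat.of k))} [QuasiCompact X.hom] [IsSeparated X.hom] [QuasiCompact T.hom]
    [IsSeparated T.hom] [IsAffine Z.left] (hX : Function.Bijective X.hom.appTop) (e : X ⊗ T ⟶ Z)
    (o : 𝟙_ (Over (Spec (CommRingCat.of k))) ⟶ X) :
    e = snd X T ≫ lift (toUnit T ≫ o) (𝟙 T) ≫ e := by
  have hsurj : Function.Surjective (algebraMap k (Fn X)) :=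
    hX.2.comp (ConcreteCategory.bijective_of_isIso (Scheme.ΓSpecIso (CommRingCat.of k)).inv).2
  have key : ∀ w, ∃ y, toProd X T w = ev (snd X T) y := by
    intro w
    induction w using TensorProduct.induction_on with
    | zero => exact ⟨0, by simp⟩
    | tmul a b =>
      obtain ⟨c, rfl⟩ := hsurj a
      refine ⟨algebraMap k (Fn T) c * b, ?_⟩
      rw [toProd, Algebra.TensorProduct.lift_tmul, map_mul, AlgHom.commutes, AlgHom.commutes]
    | add s t hs ht =>
      obtain ⟨y, hy⟩ := hs
      obtain ⟨y', hy'⟩ := ht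
      exact ⟨y + y', by rw [map_add, map_add, hy, hy']⟩
  refine Over.OverMorphism.ext (ext_of_isAffine ?_)
  ext z
  obtain ⟨w, hw⟩ := (toProd_bijective X T).2 (ev e z)
  obtain ⟨y, hy⟩ := key w
  show ev e z = ev (snd X T) (ev (lift (toUnit T ≫ o) (𝟙 T)) (ev e z))
  rw [← hw, hy, ev_ev (lift (toUnit T ≫ o) (𝟙 T)), lift_snd, ev_id]

variable {G H : Over (Spec (CommRingCat.of k))} [GrpObj G] [GrpObj H] [IsAffine G.left] [Smooth G.hom]
  [ConnectedSpace G.left] {i : H ⟶ G} [IsMonHom i] [IsClosedImmersion i.left]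
  {X : Over (Spec (CommRingCat.of k))} {a : AlgGrp.Action G X} {o : 𝟙_ (Over (Spec (CommRingCat.of k))) ⟶ X}

omit [IsAffine G.left] [IsMonHom i] [IsClosedImmersion i.left] in
/-- A proper quotient of a connected smooth group has only constant functions. -/
theorem bijective_appTop (hX : AGF.IsQuotient i X a o) [IsProper X.hom] [QuasiCompact G.hom] :
    Function.Bijective X.hom.appTop := by
  obtain ⟨φ, hφ⟩ : ∃ φ : k →+* AlgebraicClosure k, φ = algebraMap k _ := ⟨_, rfl⟩
  refine GrpSchLib.AntiAffine.bijective_of_bijective_snd X.hom φ ?_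
  let σ := Spec.map (CommRingCat.ofHom φ)
  have hq := GeomBC.isQuotient_bc σ i a o hX
  haveI : IsProper (pullback.snd X.hom σ) := inferInstance
  haveI : IrreducibleSpace ↥(Red.bc σ G).left := by
    haveI := GrpSchLib.Adjoint.geometricallyIrreducible (G := G)
    exact GeometricallyIrreducible.geometrically_irreducibleSpace (f := G.hom) σ _ _ (IsPullback.of_hasPullback _ _)
  haveI : Smooth (Red.bc σ G).hom := inferInstanceAs (Smooth (pullback.snd G.hom σ))
  haveI : AlgebraicGeometry.IsReduced (Red.bc σ G).left := isReduced_of_smooth_field (Red.bc σ G).hom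
  haveI := hq.2.2.1
  haveI : AlgebraicGeometry.IsReduced (Red.bc σ X).left := QuotProper.quot_isReduced hq
  haveI : IrreducibleSpace (Red.bc σ X).left := by
    let p := ((GeomBC.bcAction σ a).orbitMap (GeomBC.bcPt σ o)).left
    haveI : Nonempty (Red.bc σ X).left := ⟨p (Classical.arbitrary _)⟩
    haveI : PreirreducibleSpace (Red.bc σ X).left := ⟨by
      rw [← p.surjective.range_eq, ← Set.image_univ]
      exact (IrreducibleSpace.isIrreducible_univ _).2.image _ p.continuous.continuousOn⟩
    exact ⟨inferInstance⟩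
  haveI : AlgebraicGeometry.IsIntegral (pullback X.hom σ) := by
    haveI h1 : IrreducibleSpace ↥(pullback X.hom σ) := ‹IrreducibleSpace (Red.bc σ X).left›
    haveI h2 : AlgebraicGeometry.IsReduced (pullback X.hom σ) := ‹AlgebraicGeometry.IsReduced (Red.bc σ X).left›
    exact isIntegral_of_irreducibleSpace_of_isReduced _
  exact BorelImage.bijective_appTop_of_isProper (pullback.snd X.hom σ)

/-- A point commuting with a subgroup with proper quotient is central. -/
theorem central (hX : AGF.IsQuotient i X a o) [IsProper X.hom] {T : Over (Spec (CommRingCat.of k))} (g : T ⟶ G)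
    (hg : ∀ (T' : Over (Spec (CommRingCat.of k))) (x : T' ⟶ T) (h : T' ⟶ H),
      (x ≫ g) * (h ≫ i) = (h ≫ i) * (x ≫ g)) :
    ∀ (T' : Over (Spec (CommRingCat.of k))) (x : T' ⟶ T) (h : T' ⟶ G), (x ≫ g) * h = h * (x ≫ g) := by
  intro T' x h
  suffices key : x ≫ g = h * (x ≫ g) * h⁻¹ by
    conv_lhs => rw [key]
    group
  refine Over.OverMorphism.ext (T'.left.affineCover.hom_ext _ _ fun j => ?_)
  let U : Over (Spec (CommRingCat.of k)) := Over.mk (T'.left.affineCover.f j ≫ T'.hom)
  let u : U ⟶ T' := Over.homMk (T'.left.affineCover.f j) rfl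
  haveI : IsAffine U.left := inferInstanceAs (IsAffine (T'.left.affineCover.X j))
  haveI : QuasiCompact G.hom := inferInstance
  haveI : IsAffineHom U.hom := isAffineHom_of_isAffine U.hom
  suffices (u ≫ x) ≫ g = (u ≫ h) * ((u ≫ x) ≫ g) * (u ≫ h)⁻¹ by
    have h2 : u ≫ (x ≫ g) = u ≫ (h * (x ≫ g) * h⁻¹) := by
      rw [MonObj.comp_mul, MonObj.comp_mul, GrpObj.comp_inv, ← Category.assoc]; exact this
    exact congrArg CommaMorphism.left h2
  generalize u ≫ x = y
  generalize u ≫ h = z
  -- the conjugation morphism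
  let ψ : G ⊗ U ⟶ G := fst G U * (snd G U ≫ y ≫ g) * (fst G U)⁻¹
  have hψ : ∀ (W : Over (Spec (CommRingCat.of k))) (p : W ⟶ G) (q : W ⟶ U),
      lift p q ≫ ψ = p * (q ≫ y ≫ g) * p⁻¹ := fun W p q => by
    simp only [ψ, MonObj.comp_mul, GrpObj.comp_inv, lift_fst, lift_snd_assoc]
  let p := a.orbitMap o
  haveI := hX.2.1
  haveI := hX.2.2.1
  obtain ⟨_, _⟩ := QuotProper.quot_orbit_qc hX
  -- the kernel pair of the product
  have sq : IsPullback (fst G H ▷ U) (((G ◁ i) ≫ μ[G]) ▷ U) (p ▷ U) (p ▷ U) := by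
    have e : ∀ (s : PullbackCone (p ▷ U) (p ▷ U)), (s.fst ≫ fst G U) ≫ p = (s.snd ≫ fst G U) ≫ p ∧
        s.fst ≫ snd G U = s.snd ≫ snd G U := fun s => by
      constructor
      · have := congrArg (· ≫ fst X U) s.condition
        simpa using this
      · have := congrArg (· ≫ snd X U) s.condition
        simpa using this
    refine ⟨⟨by rw [← comp_whiskerRight, ← comp_whiskerRight, hX.2.2.2.w]⟩,
      ⟨PullbackCone.IsLimit.mk _ (fun s => lift (hX.2.2.2.lift _ _ (e s).1) (s.fst ≫ snd G U))
      (fun s => ?_) (fun s => ?_) (fun s m h1 h2 => ?_)⟩⟩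
    · apply CartesianMonoidalCategory.hom_ext
      · simp
      · simp
    · apply CartesianMonoidalCategory.hom_ext
      · rw [Category.assoc, whiskerRight_fst, lift_fst_assoc]
        exact hX.2.2.2.lift_snd _ _ (e s).1
      · rw [Category.assoc, whiskerRight_snd, lift_snd]
        exact (e s).2
    · apply CartesianMonoidalCategory.hom_ext
      · rw [lift_fst]
        refine hX.2.2.2.hom_ext ?_ ?_
        · rw [hX.2.2.2.lift_fst, ← h1]; simp
        · rw [hX.2.2.2.lift_snd, ← h2, Category.assoc, Category.assoc, whiskerRight_fst]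
      · rw [lift_snd, ← h1]; simp
  have hinv : (fst G H ▷ U) ≫ ψ = (((G ◁ i) ≫ μ[G]) ▷ U) ≫ ψ := by
    have e1 : fst G H ▷ U = lift (fst (G ⊗ H) U ≫ fst G H) (snd (G ⊗ H) U) := by
      apply CartesianMonoidalCategory.hom_ext <;> simp
    have e2 : ((G ◁ i) ≫ μ[G]) ▷ U =
        lift ((fst (G ⊗ H) U ≫ fst G H) * (fst (G ⊗ H) U ≫ snd G H ≫ i)) (snd (G ⊗ H) U) := by
      apply CartesianMonoidalCategory.hom_ext
      · rw [QuotProper.mul_eq_comp, whiskerRight_fst, lift_fst]
      · rw [whiskerRight_snd, lift_snd]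
    rw [e1, e2, hψ, hψ]
    have hc := hg _ (snd (G ⊗ H) U ≫ y) (fst (G ⊗ H) U ≫ snd G H)
    simp only [Category.assoc] at hc
    generalize fst (G ⊗ H) U ≫ fst G H = P
    generalize fst (G ⊗ H) U ≫ snd G H ≫ i = Q at hc
    generalize snd (G ⊗ H) U ≫ y ≫ g = R at hc
    rw [_root_.mul_inv_rev, _root_.mul_assoc P Q R, ← hc]
    group
  haveI : Surjective (p ▷ U).left := MorphismProperty.pullbackMap (P := @Surjective) (h₁ := ‹Surjective (a.orbitMap o).left›)
    (h₂ := (inferInstance : Surjective (𝟙 U.left))) (Over.w p).symm (Category.id_comp _).symm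
  haveI : Flat (p ▷ U).left := MorphismProperty.pullbackMap (P := @Flat) (h₁ := ‹Flat (a.orbitMap o).left›)
    (h₂ := (inferInstance : Flat (𝟙 U.left))) (Over.w p).symm (Category.id_comp _).symm
  haveI : LocallyOfFinitePresentation (p ▷ U).left := MorphismProperty.pullbackMap (P := @LocallyOfFinitePresentation) (h₁ := ‹LocallyOfFinitePresentation (a.orbitMap o).left›)
    (h₂ := (inferInstance : LocallyOfFinitePresentation (𝟙 U.left))) (Over.w p).symm (Category.id_comp _).symm
  obtain ⟨e, he⟩ := GrpSchLib.OrbitImmersion.exists_desc sq ψ hinv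
  have hc := eq_snd (bijective_appTop hX) e o
  have h1 : (1 : 𝟙_ (Over (Spec (CommRingCat.of k))) ⟶ G) ≫ p = o := by
    rw [BorelFixed.pt_orbitMap, GrpSchLib.act_one]
  have hconst : ψ = snd G U ≫ lift (toUnit U ≫ 1) (𝟙 U) ≫ ψ := by
    conv_lhs => rw [← he, hc]
    rw [← he, whiskerRight_snd_assoc, ← Category.assoc (lift _ _) (p ▷ U) e, lift_whiskerRight, Category.assoc, h1]
  have h3 := hψ U z (𝟙 U)
  rw [hconst, lift_snd_assoc, Category.id_comp, hψ, MonObj.comp_one, _root_.one_mul, inv_one, _root_.mul_one,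
    Category.id_comp] at h3
  exact h3

end Groth.Agent.AGFLib.CentBorel
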