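import Groth.Agent.AGFLib.ProjAct
import Groth.Agent.AGFLib.QuotProper
import Groth.Agent.GrpSchLib.WordSeries
import Groth.Agent.GrpSchLib.ActRep
import Groth.Agent.GrpSchLib.UnitsScheme
import Groth.Agent.GrpSchLib.MonoSubgroup
import Groth.Agent.S8022
import Groth.Prelude.Def_Red2

/-! A connected affine group which is not solvable has a proper homogeneous space which is not a point. -/

set_option backward.isDefEq.respectTransparency false
set_option backward.isDefEq.respectTransparency.types false
set_option linter.style.haveILetI false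

universe u

open CategoryTheory Limits AlgebraicGeometry MonoidalCategory CartesianMonoidalCategory MonObj GrpObj
open scoped commutatorElement

namespace Groth.Agent.AGFLib.ProperSpace

open Groth.Agent.GrpSchLib Groth.Agent.GrpSchLib.Kunneth Groth.Agent.GrpSchLib.LineGroups
open Groth.Agent.GrpSchLib.ProjLine
open Groth.Agent.AGFLib.Gen Groth.Agent.AGFLib.BorelFixed Groth.Agent.AGFLib.ProjAct

variable {k : Type u} [Field k] [IsAlgClosed k] {G : Over (Spec (CommRingCat.of k))} [GrpObj G]

local notation "PT" => 𝟙_ (Over (Spec (CommRingCat.of k)))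

/-- A smooth group with solvable rational points is solvable. -/
theorem isSolvableGrp_of_pts [Smooth G.hom] (n : ℕ) (h : derivedSeries (PT ⟶ G) n = ⊥) : Red.IsSolvableGrp G := by
  refine ⟨n, (WordSeries.series_iff (G := G) k n).1.mpr ?_⟩
  let e : Over.mk (Spec.map (CommRingCat.ofHom (algebraMap k k))) ≅ (PT : Over (Spec (CommRingCat.of k))) :=
    Over.isoMk (Iso.refl _) (by
      show 𝟙 _ ≫ 𝟙 (Spec (CommRingCat.of k)) = Spec.map (CommRingCat.ofHom (algebraMap k k))
      simp)
  let ψ : (PT ⟶ G) →* (Over.mk (Spec.map (CommRingCat.ofHom (algebraMap k k))) ⟶ G) :=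
    MonoidHom.mk' (e.hom ≫ ·) fun x y => MonObj.comp_mul e.hom x y
  have hs : Function.Surjective ψ := fun x => ⟨e.inv ≫ x, by simp [ψ]⟩
  rw [← map_derivedSeries_eq hs n, h, Subgroup.map_bot]

theorem isUnit_or_eq_zero_of_pts {T : Over (Spec (CommRingCat.of k))} [IsReduced T.left] [LocallyOfFiniteType T.hom]
    (f : Fn T) (h : ∀ t : PT ⟶ T, ev t f = 0) : f = 0 :=
  eq_zero_of_forall_evPt f fun t => by
    show (Scheme.ΓSpecIso (CommRingCat.of k)).hom (ev t f) = 0
    rw [h, map_zero]

/-- Multiplicativity may be checked on rational points. -/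
theorem isRepMatrix_of_pts [IsReduced G.left] [LocallyOfFiniteType G.hom] {m : ℕ}
    {M : Matrix (Fin m) (Fin m) (Fn G)} (hmul : ∀ g h : PT ⟶ G, valM M (g * h) = valM M g * valM M h)
    (hone : valM M (1 : PT ⟶ G) = 1) : IsRepMatrix M := by
  haveI : IsReduced (G ⊗ G).left := isReduced_pullback_of_perfectField G.hom G.hom
  haveI : LocallyOfFiniteType (G ⊗ G).hom :=
    inferInstanceAs (LocallyOfFiniteType (pullback.fst G.hom G.hom ≫ G.hom))
  have key : M.map (ev (fst G G * snd G G)) = M.map (ev (fst G G)) * M.map (ev (snd G G)) := by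
    refine Matrix.ext fun x y => sub_eq_zero.mp (isUnit_or_eq_zero_of_pts _ fun t => ?_)
    have e := congrFun (congrFun (hmul (t ≫ fst G G) (t ≫ snd G G)) x) y
    simp only [valM, Matrix.map_apply, Matrix.mul_apply, ← map_mul, ← map_sum] at e
    have e2 := (toK (k := k)).injective e
    rw [map_sub, sub_eq_zero]
    simp only [Matrix.map_apply, Matrix.mul_apply, map_sum, map_mul, ev_ev, MonObj.comp_mul]
    exact e2
  refine ⟨fun T g h => ?_, fun T => ?_⟩
  · have e := congrArg (fun A : Matrix (Fin m) (Fin m) (Fn (G ⊗ G)) => A.map (ev (lift g h))) key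
    simp only [Matrix.map_mul, Matrix.map_map] at e
    have e1 : ∀ (p : G ⊗ G ⟶ G), (⇑(ev (lift g h)) ∘ ⇑(ev p) : Fn G → Fn T) = ⇑(ev (lift g h ≫ p)) :=
      fun p => funext fun f => ev_ev _ _ f
    simpa only [e1, MonObj.comp_mul, lift_fst, lift_snd] using e
  · have e : M.map (ev (1 : PT ⟶ G)) = 1 := by
      refine Matrix.ext fun x y => (toK (k := k)).injective ?_
      have e2 := congrFun (congrFun hone x) y
      simp only [valM, Matrix.map_apply] at e2
      rw [Matrix.map_apply, e2]
      by_cases hxy : x = y <;> simp [Matrix.one_apply, hxy]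
    have e3 := congrArg (fun A : Matrix (Fin m) (Fin m) (Fn PT) => A.map (ev (toUnit T))) e
    simp only [Matrix.map_map, Matrix.map_one _ (map_zero (ev (toUnit T))) (map_one (ev (toUnit T)))] at e3
    rw [← e3]
    refine Matrix.ext fun x y => ?_
    simp only [Matrix.map_apply, Function.comp_apply, ev_ev, MonObj.comp_one]

/-- No line is fixed. -/
def NoFix {n : ℕ} (M : Matrix (Fin (n + 1)) (Fin (n + 1)) (Fn G)) : Prop :=
  ∀ v : Fin (n + 1) → k, v ≠ 0 → ∃ (g : PT ⟶ G) (x q : Fin (n + 1)),
    (valM M g).mulVec v x * v q ≠ (valM M g).mulVec v q * v x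

theorem exists_noFix_or_solvable [IsReduced G.left] [LocallyOfFiniteType G.hom] :
    ∀ (m : ℕ) (M : Matrix (Fin m) (Fin m) (Fn G)), IsRepMatrix M →
      (∃ (n : ℕ) (N : Matrix (Fin (n + 1)) (Fin (n + 1)) (Fn G)), IsRepMatrix N ∧ NoFix N) ∨
        ∃ d : ℕ, ∀ g ∈ derivedSeries (PT ⟶ G) d, valM M g = 1
  | 0, M, _ => Or.inr ⟨0, fun g _ => Subsingleton.elim _ _⟩
  | j + 1, M, hM => by
    by_cases hf : NoFix M
    · exact Or.inl ⟨j, M, hM, hf⟩
    simp only [NoFix, not_forall, not_exists, not_not] at hf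
    obtain ⟨v, hv, hfix⟩ := hf
    obtain ⟨i₀, hi₀⟩ := Function.ne_iff.mp hv
    replace hi₀ : v i₀ ≠ 0 := hi₀
    let χ₀ : (PT ⟶ G) → k := fun g => (valM M g).mulVec v i₀ * (v i₀)⁻¹
    have hev : ∀ g, (valM M g).mulVec v = χ₀ g • v := fun g => funext fun x => by
      have := hfix g x i₀
      simp only [Pi.smul_apply, smul_eq_mul, χ₀]
      field_simp
      linear_combination this
    have hχ : ∀ g h, χ₀ (g * h) = χ₀ g * χ₀ h := fun g h => by
      have e : (valM M (g * h)).mulVec v = (χ₀ g * χ₀ h) • v := by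
        rw [valM_mul hM, ← Matrix.mulVec_mulVec, hev h, Matrix.mulVec_smul, hev g, smul_smul, mul_comm]
      show (valM M (g * h)).mulVec v i₀ * (v i₀)⁻¹ = _
      rw [e, Pi.smul_apply, smul_eq_mul, _root_.mul_assoc, mul_inv_cancel₀ hi₀, _root_.mul_one]
    have hχ1 : χ₀ 1 = 1 := by
      show (valM M (1 : PT ⟶ G)).mulVec v i₀ * (v i₀)⁻¹ = 1
      rw [valM_one hM, Matrix.one_mulVec, mul_inv_cancel₀ hi₀]
    let χ : (PT ⟶ G) →* kˣ := MonoidHom.toHomUnits { toFun := χ₀, map_one' := hχ1, map_mul' := hχ }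
    -- the quotient by the fixed line
    let e : Fin j → Fin (j + 1) := i₀.succAbove
    let r : Fin (j + 1) → k := Pi.single i₀ (v i₀)⁻¹
    let S : Matrix (Fin (j + 1)) (Fin j) k := (1 : Matrix _ _ k).submatrix id e
    let P : Matrix (Fin j) (Fin (j + 1)) k := (1 - Matrix.vecMulVec v r).submatrix e id
    have hPS : P * S = 1 := by
      ext a b
      rw [Matrix.mul_apply, Finset.sum_eq_single (e b) (fun c _ hc => by simp [S, Matrix.one_apply, hc])
        (fun h => absurd (Finset.mem_univ _) h)]
      simp [P, S, r, e, Matrix.one_apply, Matrix.vecMulVec_apply, Fin.succAbove_ne,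
        Fin.succAbove_right_injective.eq_iff]
    have hrv : dotProduct r v = 1 := by simp [r, single_dotProduct, hi₀]
    have hPv : P.mulVec v = 0 := by
      funext a
      have : ((1 - Matrix.vecMulVec v r).mulVec v) (e a) = 0 := by
        rw [Matrix.sub_mulVec, Matrix.one_mulVec, Matrix.vecMulVec_mulVec, hrv]
        simp
      exact this
    have hSP : S * P = 1 - Matrix.vecMulVec v r := by
      ext x c
      rw [Matrix.mul_apply]
      rcases Fin.eq_self_or_eq_succAbove i₀ x with rfl | ⟨a, rfl⟩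
      · rw [Finset.sum_eq_zero (fun b _ => by simp [S, e, Matrix.one_apply, (Fin.succAbove_ne x b).symm])]
        by_cases hc : x = c
        · subst hc; simp [r, Matrix.vecMulVec_apply, hi₀]
        · simp [r, Matrix.vecMulVec_apply, Matrix.one_apply, hc, Pi.single_eq_of_ne (Ne.symm hc)]
      · rw [Finset.sum_eq_single a (fun b _ hb => by simp [S, e, Matrix.one_apply, Fin.succAbove_right_injective.eq_iff, hb.symm])
          (fun h => absurd (Finset.mem_univ _) h)]
        simp [S, P, e, Matrix.one_apply]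
    let M' : Matrix (Fin j) (Fin j) (Fn G) :=
      P.map (algebraMap k (Fn G)) * M * S.map (algebraMap k (Fn G))
    have hval : ∀ g, valM M' g = P * valM M g * S := fun g => by
      ext a b
      simp only [valM, M', Matrix.map_apply, Matrix.mul_apply, map_sum, map_mul, AlgHom.commutes, toK_algebraMap]
    have hmul : ∀ g h, valM M' (g * h) = valM M' g * valM M' h := fun g h => by
      have h0 : P * valM M g * Matrix.vecMulVec v r = 0 := by
        rw [Matrix.mul_vecMulVec, ← Matrix.mulVec_mulVec, hev g, Matrix.mulVec_smul, hPv]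
        simp [Matrix.vecMulVec]
        ext; simp
      calc valM M' (g * h) = P * valM M g * (valM M h * S) := by
            rw [hval, valM_mul hM]; simp only [Matrix.mul_assoc]
        _ = P * valM M g * (S * P) * (valM M h * S) := by
            rw [hSP, Matrix.mul_sub, Matrix.mul_one, h0, sub_zero]
        _ = valM M' g * valM M' h := by rw [hval, hval]; simp only [Matrix.mul_assoc]
    have hone : valM M' (1 : PT ⟶ G) = 1 := by rw [hval, valM_one hM, Matrix.mul_one, hPS]
    rcases exists_noFix_or_solvable j M' (isRepMatrix_of_pts hmul hone) with h | ⟨d, hd⟩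
    · exact Or.inl h
    refine Or.inr ⟨d + 2, fun g hg => ?_⟩
    let ρ : (PT ⟶ G) →* (Matrix (Fin (j + 1)) (Fin (j + 1)) k)ˣ :=
      MonoidHom.toHomUnits { toFun := valM M, map_one' := valM_one hM, map_mul' := valM_mul hM }
    let H := derivedSeries (PT ⟶ G) (d + 1)
    have hH : ∀ x ∈ H, P * valM M x = P ∧ (valM M x).mulVec v = v := fun x hx => by
      have h1 : valM M' x = 1 := hd x (derivedSeries_antitone _ (Nat.le_succ d) hx)
      have h2 : x ∈ χ.ker := by
        have hx1 : x ∈ derivedSeries (PT ⟶ G) 1 := derivedSeries_antitone _ (Nat.le_add_left 1 d) hx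
        rw [derivedSeries_one] at hx1
        exact Abelianization.commutator_subset_ker χ hx1
      have h3 : χ₀ x = 1 := congrArg Units.val h2
      refine ⟨?_, by rw [hev, h3, one_smul]⟩
      have h4 : P * valM M x * (S * P) = P := by
        rw [← Matrix.mul_assoc, ← hval, h1, Matrix.one_mul]
      rwa [hSP, Matrix.mul_sub, Matrix.mul_one, Matrix.mul_vecMulVec, ← Matrix.mulVec_mulVec, hev, h3, one_smul,
        hPv, show Matrix.vecMulVec (0 : Fin j → k) r = 0 by ext; simp [Matrix.vecMulVec_apply], sub_zero] at h4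
    have hcomm : ∀ x ∈ H, ∀ y ∈ H, valM M x * valM M y = valM M y * valM M x := by
      intro x hx y hy
      have hd2 : ∀ x ∈ H, ∀ y ∈ H, (valM M x - 1) * (valM M y - 1) = 0 := fun x hx y hy => by
        have hy1 : valM M y - 1 = Matrix.vecMulVec v r * (valM M y - 1) := by
          have : S * P * (valM M y - 1) = 0 := by
            rw [Matrix.mul_assoc, Matrix.mul_sub, (hH y hy).1, Matrix.mul_one, sub_self, Matrix.mul_zero]
          rw [hSP, Matrix.sub_mul, Matrix.one_mul, sub_eq_zero] at this
          exact this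
        rw [hy1, ← Matrix.mul_assoc, Matrix.sub_mul, Matrix.one_mul, Matrix.mul_vecMulVec, (hH x hx).2,
          sub_self, Matrix.zero_mul]
      have e1 := hd2 x hx y hy
      have e2 := hd2 y hy x hx
      simp only [Matrix.sub_mul, Matrix.mul_sub, Matrix.one_mul, Matrix.mul_one] at e1 e2
      refine sub_eq_zero.mp ?_
      calc valM M x * valM M y - valM M y * valM M x
          = (valM M x * valM M y - valM M y - (valM M x - 1)) - (valM M y * valM M x - valM M x - (valM M y - 1)) := by abel
        _ = 0 := by rw [e1, e2, sub_self]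
    have hker : derivedSeries (PT ⟶ G) (d + 2) ≤ ρ.ker := by
      rw [derivedSeries_succ]
      refine Subgroup.commutator_le.mpr fun x hx y hy => ?_
      rw [MonoidHom.mem_ker, map_commutatorElement, commutatorElement_eq_one_iff_commute]
      exact Units.ext (hcomm x hx y hy)
    exact congrArg Units.val (MonoidHom.mem_ker.mp (hker hg))

/-- The regular representation on some finite space of functions is faithful on points. -/
theorem exists_faithful [IsAffine G.left] [LocallyOfFiniteType G.hom] :
    ∃ (N : ℕ) (B : Matrix (Fin N) (Fin N) (Fn G)), IsRepMatrix B ∧ ∀ g : PT ⟶ G, valM B g = 1 → g = 1 := by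
  classical
  haveI := GrpSchLib.AntiAffine.isSeparated_grp G
  haveI : QuasiCompact G.hom := inferInstance
  let a : AlgGrp.Action G G :=
    { act := μ[G]
      one_act := MonObj.one_mul G
      mul_act := MonObj.mul_assoc G }
  choose d M b hM hfix _hconv using fun f => ActRep.exists_stable a f
  obtain ⟨F, hF⟩ := RepFamily.exists_detect (G := G) M
  obtain ⟨N, B, hB, hBiff⟩ := RepFamily.exists_block M hM F
  refine ⟨N, B, hB, fun g hg => ext_ev (AlgHom.ext fun f => ?_)⟩
  have h1 : B.map (ev g) = 1 := by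
    refine Matrix.ext fun x y => (toK (k := k)).injective ?_
    have e2 := congrFun (congrFun hg x) y
    simp only [valM, Matrix.map_apply] at e2
    rw [Matrix.map_apply, e2]
    by_cases hxy : x = y <;> simp [Matrix.one_apply, hxy]
  have h3 := hfix f PT g 1 (hF PT g ((hBiff PT g).mp h1) f)
  rwa [show lift g (1 : PT ⟶ G) ≫ a.act = g * 1 from (Hom.mul_def _ _).symm, _root_.mul_one] at h3

/-- The stabiliser of a rational point. -/
theorem exists_stab {X : Over (Spec (CommRingCat.of k))} (a : AlgGrp.Action G X) (x : PT ⟶ X) :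
    ∃ (Go : Over (Spec (CommRingCat.of k))) (_ : GrpObj Go) (i : Go ⟶ G),
      IsMonHom i ∧ IsPullback i (toUnit Go) (a.orbitMap x) x := by
  let Go := Limits.pullback (a.orbitMap x) x
  let i : Go ⟶ G := pullback.fst _ _
  have sq : IsPullback i (toUnit Go) (a.orbitMap x) x := by
    have h := IsPullback.of_hasPullback (a.orbitMap x) x
    rwa [toUnit_unique (pullback.snd (a.orbitMap x) x) (toUnit _)] at h
  haveI : IsSplitMono x := IsSplitMono.mk' ⟨toUnit X, toUnit_unique _ _⟩
  haveI : Mono i := inferInstanceAs (Mono (pullback.fst (a.orbitMap x) x))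
  have hmem : ∀ {T : Over (Spec (CommRingCat.of k))} (g : T ⟶ G),
      (∃ z : T ⟶ Go, z ≫ i = g) ↔ lift g (toUnit T ≫ x) ≫ a.act = toUnit T ≫ x := fun {T} g => by
    rw [← GrpSchLib.comp_orbitMap]
    refine ⟨?_, fun h => ⟨sq.lift g (toUnit T) h, sq.lift_fst _ _ _⟩⟩
    rintro ⟨z, rfl⟩
    rw [Category.assoc, sq.w, ← Category.assoc, toUnit_unique (z ≫ toUnit Go) (toUnit T)]
  obtain ⟨e, he⟩ := (hmem (η[G] : PT ⟶ G)).mpr (by rw [MonObj.one_eq_one]; exact GrpSchLib.act_one a _)
  obtain ⟨m, hm⟩ := (hmem ((fst Go Go ≫ i) * (snd Go Go ≫ i))).mpr (by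
    rw [← GrpSchLib.act_mul, (hmem _).mp ⟨snd Go Go, rfl⟩, (hmem _).mp ⟨fst Go Go, rfl⟩])
  obtain ⟨v, hv⟩ := (hmem i⁻¹).mpr (by
    conv_lhs => rw [← (hmem i).mp ⟨𝟙 _, Category.id_comp _⟩, GrpSchLib.act_mul, inv_mul_cancel, GrpSchLib.act_one])
  obtain ⟨str, hi⟩ := GrpSchLib.exists_grpObj_of_mono i e he m hm v hv
  exact ⟨Go, str, i, hi, sq⟩

/-- A proper homogeneous space which is not a point. -/
theorem exists_proper_space [IsAffine G.left] [Smooth G.hom] (hns : ¬ Red.IsSolvableGrp G) :
    ∃ (P : Over (Spec (CommRingCat.of k))) (_ : GrpObj P) (i : P ⟶ G) (Y : Over (Spec (CommRingCat.of k)))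
      (b : AlgGrp.Action G Y) (y : PT ⟶ Y), IsMonHom i ∧ IsClosedImmersion i.left ∧
      Set.range i.left ≠ Set.univ ∧ AGF.IsQuotient i Y b y ∧ IsProper Y.hom := by
  haveI : IsReduced G.left := isReduced_of_smooth_field G.hom
  obtain ⟨N, B, hB, hfaith⟩ := exists_faithful (G := G)
  rcases exists_noFix_or_solvable N B hB with ⟨n, M, hM, hno⟩ | ⟨d, hd⟩
  swap
  · exact absurd (isSolvableGrp_of_pts d ((Subgroup.eq_bot_iff_forall _).mpr fun g hg => hfaith g (hd g hg))) hns
  obtain ⟨a, ha⟩ := exists_act hM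
  haveI : IsProper (Pn k n).hom := isProper_Pn
  haveI : QuasiCompact (Pn k n).hom := inferInstance
  haveI : QuasiCompact G.hom := inferInstance
  obtain ⟨_, ⟨x, -, rfl⟩, hmin⟩ := (wellFounded_lt (α := WithBot ℕ∞)).has_min
    ((fun x : PT ⟶ Pn k n => topologicalKrullDim ↥(Set.range (a.orbitMap x).left)) '' Set.univ)
    ⟨_, lineP (Pi.single 0 1) (fun h => one_ne_zero ((congrFun h 0).symm.trans (by simp)).symm), trivial, rfl⟩
  have hcl : IsClosed (Set.range (a.orbitMap x).left) := by
    by_contra hnc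
    obtain ⟨y, hy⟩ := OrbitDim.exists_orbit_subset_boundary a x hnc
    refine hmin _ ⟨y, trivial, rfl⟩ ?_
    refine lt_of_le_of_lt ?_ (OrbitDim.dim_boundary_lt (Pn k n).hom (OrbitDim.nonempty_orbit a x)
      (OrbitDim.isLocallyClosed_orbit a x))
    exact Topology.IsInducing.topologicalKrullDim_le (Topology.IsEmbedding.inclusion hy).isInducing
  obtain ⟨P, _, i, _, sq⟩ := exists_stab a x
  obtain ⟨Y, b, y, f, hq, hf, hyf, _⟩ := Groth.Agent.S8022.result k G (Pn k n) P a x i sq
  haveI : IsClosedImmersion x.left := by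
    haveI : IsClosedImmersion (x.left ≫ (Pn k n).hom) := by
      rw [Over.w x]; exact inferInstanceAs (IsClosedImmersion (𝟙 _))
    exact IsClosedImmersion.of_comp x.left (Pn k n).hom
  haveI : IsClosedImmersion i.left :=
    MorphismProperty.of_isPullback (P := @IsClosedImmersion) (sq.map (Over.forget _)).flip ‹_›
  refine ⟨P, inferInstance, i, Y, b, y, inferInstance, inferInstance, fun huniv => ?_, hq, ?_⟩
  · obtain ⟨v, hv, hxv⟩ := exists_lineP x
    obtain ⟨g, p, q, hne⟩ := hno v hv
    haveI : LocallyOfFiniteType P.hom := by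
      rw [← Over.w i]; infer_instance
    obtain ⟨z, hz⟩ := exists_of_mem_range i g (huniv.ge (Set.mem_univ (cp g)))
    have h1 : g ≫ a.orbitMap x = x := by
      rw [← hz, Category.assoc, sq.w, ← Category.assoc, toUnit_unique (z ≫ toUnit P) (𝟙 _), Category.id_comp]
    rw [pt_orbitMap, hxv, ha g v hv, lineP_eq_iff] at h1
    exact hne ((h1 p q).trans (by ring))
  · have hr : Set.range f.left = Set.range (a.orbitMap x).left := by
      rw [← hyf, ← QuotProper.orbitMap_comp f hf, Over.comp_left, Scheme.Hom.comp_base, TopCat.coe_comp]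
      haveI := hq.2.2.1
      exact ((b.orbitMap y).left.surjective.range_comp _).symm
    haveI : IsClosedImmersion f.left := IsClosedImmersion.of_isPreimmersion f.left (hr ▸ hcl)
    rw [← Over.w f]
    infer_instance

end Groth.Agent.AGFLib.ProperSpace
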