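import Groth.Agent.AGFLib.ProperSpace
import Groth.Agent.AGFLib.QuotProper
import Groth.Agent.GrpSchLib.HomogeneousQuot
import Groth.Agent.GrpSchLib.SmoothReduced

/-! Existence of a connected solvable subgroup with proper quotient, and the fixed point on it. -/

set_option backward.isDefEq.respectTransparency false
set_option backward.isDefEq.respectTransparency.types false
set_option linter.style.haveILetI false

universe u

open CategoryTheory Limits AlgebraicGeometry MonoidalCategory CartesianMonoidalCategory MonObj GrpObj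
open TopologicalSpace

namespace Groth.Agent.AGFLib.BorelExist

open Groth.Agent.GrpSchLib Groth.Agent.AGFLib.Gen Groth.Agent.AGFLib.BorelFixed Groth.Agent.AGFLib.QuotProper

variable {k : Type u} [Field k] [IsAlgClosed k]

local notation "PT" => 𝟙_ (Over (Spec (CommRingCat.of k)))

/-- A closed subgroup of a solvable group is solvable on points. -/
theorem isSolvableGrp_of_mono {G H : Over (Spec (CommRingCat.of k))} [GrpObj G] [GrpObj H] (i : H ⟶ G) [IsMonHom i]
    [Mono i] (h : Red.IsSolvableGrp G) : Red.IsSolvableGrp H := by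
  obtain ⟨n, hn⟩ := h
  refine ⟨n, fun T => ?_⟩
  let ψ : (T ⟶ H) →* (T ⟶ G) := MonoidHom.mk' (· ≫ i) fun x y => MonObj.mul_comp x y i
  rw [Subgroup.eq_bot_iff_forall]
  intro x hx
  have := map_derivedSeries_le_derivedSeries ψ n ⟨x, hx, rfl⟩
  rw [hn T, Subgroup.mem_bot] at this
  rw [← cancel_mono i]
  exact this.trans (MonObj.one_comp i).symm

theorem isSolvable_pts {G : Over (Spec (CommRingCat.of k))} [GrpObj G] (h : Red.IsSolvableGrp G) :
    Group.IsSolvable (PT ⟶ G) :=
  let ⟨n, hn⟩ := h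
  ⟨n, hn _⟩

theorem mono_of_closedImmersion {G H : Over (Spec (CommRingCat.of k))} (i : H ⟶ G) [IsClosedImmersion i.left] :
    Mono i :=
  (Over.forget _).mono_of_mono_map (inferInstanceAs (Mono i.left))

/-- Lifting through a closed immersion on rational points. -/
theorem exists_lift_pts {T G H : Over (Spec (CommRingCat.of k))} [IsReduced T.left] [LocallyOfFiniteType T.hom]
    [LocallyOfFiniteType H.hom] (i : H ⟶ G) [IsClosedImmersion i.left] (f : T ⟶ G)
    (h : ∀ t : PT ⟶ T, ∃ z : PT ⟶ H, z ≫ i = t ≫ f) : ∃ g : T ⟶ H, g ≫ i = f := by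
  obtain ⟨g, hg⟩ := H23.RedSub.exists_lift_closed f.left i.left (by
    rintro _ ⟨x, rfl⟩
    refine (eq_univ_of_forall_cp (i.left.isClosedEmbedding.isClosed_range.preimage f.left.continuous) fun t => ?_).ge
      (Set.mem_univ x)
    obtain ⟨z, hz⟩ := h t
    exact ⟨cp z, congrArg cp hz⟩)
  exact ⟨Over.homMk g (by rw [← Over.w i, reassoc_of% hg, Over.w f]), Over.OverMorphism.ext hg⟩

theorem stab_of_quot {G P Y : Over (Spec (CommRingCat.of k))} [GrpObj G] [GrpObj P] {i : P ⟶ G}
    {b : AlgGrp.Action G Y} {y : PT ⟶ Y} (hY : AGF.IsQuotient i Y b y) {T : Over (Spec (CommRingCat.of k))}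
    (h : T ⟶ P) : lift (h ≫ i) (toUnit T ≫ y) ≫ b.act = toUnit T ≫ y := by
  have e := congrArg (lift (1 : T ⟶ G) h ≫ ·) hY.2.2.2.w
  simp only [← Category.assoc] at e
  have e2 : lift (1 : T ⟶ G) h ≫ (G ◁ i) ≫ μ[G] = h ≫ i := by
    rw [← mul_eq_comp, lift_fst, ← Category.assoc, lift_snd, _root_.one_mul]
  rw [Category.assoc (lift _ _) (G ◁ i), e2, lift_fst, GrpSchLib.comp_orbitMap, GrpSchLib.comp_orbitMap,
    GrpSchLib.act_one] at e
  exact e.symm

/-- The fibre of an equivariant map between homogeneous spaces. -/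
theorem exists_fibre {G H P X Y : Over (Spec (CommRingCat.of k))} [GrpObj G] [GrpObj H] [GrpObj P]
    [LocallyOfFiniteType G.hom] [QuasiCompact G.hom] [LocallyOfFiniteType H.hom] [QuasiCompact H.hom]
    (iH : H ⟶ G) [IsMonHom iH] [IsClosedImmersion iH.left] (iP : P ⟶ G) (f : H ⟶ P) (hf : f ≫ iP = iH)
    (a : AlgGrp.Action G X) (o : PT ⟶ X) (hX : AGF.IsQuotient iH X a o)
    (b : AlgGrp.Action G Y) (y : PT ⟶ Y) (hY : AGF.IsQuotient iP Y b y) [IsProper Y.hom] :
    ∃ (π : X ⟶ Y) (F : Over (Spec (CommRingCat.of k))) (j : F ⟶ X),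
      (G ◁ π) ≫ b.act = a.act ≫ π ∧ a.orbitMap o ≫ π = b.orbitMap y ∧ IsPullback j (toUnit F) π y ∧
      LocallyOfFiniteType F.hom ∧ QuasiCompact F.hom ∧ IsSeparated F.hom ∧
      (UniversallyClosed F.hom → IsProper X.hom) ∧ Mono j ∧
      ∀ t : PT ⟶ F, ∃ p : PT ⟶ P, t ≫ j = (p ≫ iP) ≫ a.orbitMap o := by
  haveI := hX.1
  haveI := hX.2.1
  haveI := hX.2.2.1
  haveI := hY.2.1
  haveI := hY.2.2.1
  haveI : QuasiCompact Y.hom := inferInstance
  haveI : QuasiCompact X.hom := quot_quasiCompact hX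
  haveI : IsSeparated X.hom := quot_isSeparated hX
  obtain ⟨π, ⟨hπ1, hπ2⟩, -⟩ := Groth.Agent.S8014.result k G H iH X a o hX Y b y (fun T h => by
    rw [← hf, ← Category.assoc]; exact stab_of_quot hY _)
  let F := Limits.pullback π y
  let j : F ⟶ X := pullback.fst π y
  have sq : IsPullback j (toUnit F) π y := by
    have h := IsPullback.of_hasPullback π y
    rwa [toUnit_unique (pullback.snd π y) (toUnit _)] at h
  haveI : IsClosedImmersion y.left := by
    haveI : IsClosedImmersion (y.left ≫ Y.hom) := by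
      rw [Over.w y]; exact inferInstanceAs (IsClosedImmersion (𝟙 _))
    exact IsClosedImmersion.of_comp y.left Y.hom
  haveI : IsClosedImmersion j.left :=
    MorphismProperty.of_isPullback (P := @IsClosedImmersion) (sq.map (Over.forget _)).flip ‹_›
  haveI : LocallyOfFiniteType F.hom := by rw [← Over.w j]; infer_instance
  haveI : QuasiCompact F.hom := by rw [← Over.w j]; infer_instance
  haveI : IsSeparated F.hom := by rw [← Over.w j]; infer_instance
  refine ⟨π, F, j, hπ1, hπ2, sq, inferInstance, inferInstance, inferInstance,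
    fun hu => isProper_of_fibre π hπ1 y j sq, mono_of_closedImmersion j, fun t => ?_⟩
  obtain ⟨g, hg⟩ := exists_of_mem_range (a.orbitMap o) (t ≫ j) ((a.orbitMap o).left.surjective _)
  have h1 : g ≫ b.orbitMap y = (1 : PT ⟶ G) ≫ b.orbitMap y := by
    rw [← hπ2, reassoc_of% hg, sq.w, ← Category.assoc, toUnit_unique (t ≫ toUnit F) (𝟙 _), Category.id_comp,
      hπ2, pt_orbitMap, GrpSchLib.act_one]
  obtain ⟨p, hp⟩ := exists_mul_eq hY _ _ h1.symm
  exact ⟨p, by rw [← hg, ← hp, _root_.one_mul]⟩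

/-- The reduced identity component. -/
theorem exists_idComp {P : Over (Spec (CommRingCat.of k))} [GrpObj P] [LocallyOfFiniteType P.hom] [QuasiCompact P.hom] :
    ∃ (P0 : Over (Spec (CommRingCat.of k))) (_ : GrpObj P0) (i : P0 ⟶ P), IsMonHom i ∧ IsClosedImmersion i.left ∧
      Smooth P0.hom ∧ ConnectedSpace P0.left ∧ QuasiCompact P0.hom ∧
      ∃ S : Set (PT ⟶ P), S.Finite ∧ ∀ p : PT ⟶ P, ∃ s ∈ S, ∃ q : PT ⟶ P0, s * (q ≫ i) = p := by
  haveI := GrpSchLib.AntiAffine.isSeparated_grp P
  obtain ⟨C, _, ι', hι, hι1, -, hrange, hgi, hCc⟩ := GrpSchLib.exists_identityComponent (G := P)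
  haveI := hι
  haveI := hι1
  haveI : LocallyOfFiniteType C.hom := by rw [← Over.w ι']; infer_instance
  haveI : QuasiCompact C.hom := by rw [← Over.w ι']; infer_instance
  obtain ⟨P0, _, r, hr, hr1, hred, hsurj, hlft, hqc⟩ := GrpSchLib.RedSubgroup.exists_redSubgroup C
  haveI := hr
  haveI := hr1
  haveI := hred
  haveI := hsurj
  haveI := hlft
  haveI := hqc
  let i : P0 ⟶ P := r ≫ ι'
  haveI : IsClosedImmersion i.left := inferInstanceAs (IsClosedImmersion (r.left ≫ ι'.left))
  have hir : Set.range i.left = connectedComponent (cp (1 : PT ⟶ P)) := by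
    rw [Over.comp_left, Scheme.Hom.comp_base, TopCat.coe_comp, r.left.surjective.range_comp, hrange,
      ← MonObj.one_eq_one]
  have hPc : ConnectedSpace P0.left := by
    rw [connectedSpace_iff_univ]
    have h1 := isConnected_connectedComponent (x := cp (1 : PT ⟶ P))
    rw [← hir, ← Set.image_univ] at h1
    exact ⟨⟨cp (1 : PT ⟶ P0), trivial⟩, i.left.isClosedEmbedding.isInducing.isPreconnected_image.mp h1.2⟩
  refine ⟨P0, inferInstance, i, inferInstance, inferInstance, GrpSchLib.smooth_of_perfectField_of_isReduced P0,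
    hPc, inferInstance, ?_⟩
  haveI : IsLocallyNoetherian P.left := LocallyOfFiniteType.isLocallyNoetherian P.hom
  haveI : CompactSpace P.left := (quasiCompact_iff_compactSpace P.hom).mp inferInstance
  haveI : IsNoetherian P.left := {}
  haveI : Finite (irreducibleComponents (P.left : Type u)) :=
    NoetherianSpace.finite_irreducibleComponents.to_subtype
  haveI : Finite (_root_.ConnectedComponents (P.left : Type u)) :=
    Finite.of_surjective (fun Z : irreducibleComponents (P.left : Type u) =>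
      ConnectedComponents.mk Z.2.1.nonempty.some) fun c => by
        obtain ⟨x, rfl⟩ := ConnectedComponents.surjective_coe c
        refine ⟨⟨_, irreducibleComponent_mem_irreducibleComponents x⟩, ConnectedComponents.coe_eq_coe'.mpr ?_⟩
        exact isIrreducible_irreducibleComponent.isConnected.2.subset_connectedComponent mem_irreducibleComponent
          (isIrreducible_irreducibleComponent (x := x)).nonempty.some_mem
  classical
  let rep : _root_.ConnectedComponents (P.left : Type u) → (PT ⟶ P) := fun c =>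
    if h : ∃ p : PT ⟶ P, ConnectedComponents.mk (cp p) = c then h.choose else 1
  refine ⟨Set.range rep, Set.finite_range _, fun p => ?_⟩
  let c := ConnectedComponents.mk (cp p)
  have hs : ConnectedComponents.mk (cp (rep c)) = c := by
    have h : ∃ q : PT ⟶ P, ConnectedComponents.mk (cp q) = c := ⟨p, rfl⟩
    simp only [rep, dif_pos h]
    exact h.choose_spec
  refine ⟨rep c, ⟨c, rfl⟩, ?_⟩
  let L : P ⟶ P := (toUnit P ≫ (rep c)⁻¹) * 𝟙 P
  have hL : ∀ q : PT ⟶ P, L.left (cp q) = cp ((rep c)⁻¹ * q) := fun q => by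
    rw [← cp_comp]
    congr 1
    simp only [L, MonObj.comp_mul, Category.comp_id, ← Category.assoc,
      toUnit_unique (q ≫ toUnit P) (𝟙 _), Category.id_comp]
  have hsub : L.left '' connectedComponent (cp (rep c)) ⊆ connectedComponent (cp (1 : PT ⟶ P)) :=
    (isPreconnected_connectedComponent.image _ L.left.continuous.continuousOn).subset_connectedComponent
      ⟨_, mem_connectedComponent, by rw [hL, inv_mul_cancel]⟩
  have hmem : cp ((rep c)⁻¹ * p) ∈ Set.range i.left := by
    rw [hir, ← hL]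
    exact hsub ⟨cp p, ConnectedComponents.coe_eq_coe'.mp hs.symm, rfl⟩
  obtain ⟨q, hq⟩ := exists_of_mem_range i _ hmem
  exact ⟨q, by rw [hq, mul_inv_cancel_left]⟩

variable (G₀ : Over (Spec (CommRingCat.of k))) [GrpObj G₀] [IsAffine G₀.left] [LocallyOfFiniteType G₀.hom]

theorem exists_solvable_aux (C : Closeds G₀.left) : ∀ (D : Over (Spec (CommRingCat.of k))) [GrpObj D]
    (iD : D ⟶ G₀) [IsMonHom iD] [IsClosedImmersion iD.left] [Smooth D.hom] [ConnectedSpace D.left],
    Set.range iD.left = (C : Set G₀.left) →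
    ∃ (B : Over (Spec (CommRingCat.of k))) (_ : GrpObj B) (iB : B ⟶ D) (X : Over (Spec (CommRingCat.of k)))
      (a : AlgGrp.Action D X) (o : PT ⟶ X), IsMonHom iB ∧ IsClosedImmersion iB.left ∧ Smooth B.hom ∧
      ConnectedSpace B.left ∧ Red.IsSolvableGrp B ∧ AGF.IsQuotient iB X a o ∧ IsProper X.hom := by
  haveI : IsLocallyNoetherian G₀.left := LocallyOfFiniteType.isLocallyNoetherian G₀.hom
  haveI : CompactSpace G₀.left := (quasiCompact_iff_compactSpace G₀.hom).mp inferInstance
  haveI : IsNoetherian G₀.left := {}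
  induction C using WellFoundedLT.induction with
  | _ C ih =>
  intro D _ iD _ _ _ _ hC
  haveI : IsAffine D.left := isAffine_of_isAffineHom iD.left
  haveI : QuasiCompact D.hom := inferInstance
  haveI := GrpSchLib.AntiAffine.isSeparated_grp D
  haveI : IsReduced D.left := isReduced_of_smooth_field D.hom
  by_cases hs : Red.IsSolvableGrp D
  · -- the group itself
    haveI : IsMonHom (𝟙 D) := inferInstance
    haveI : IsClosedImmersion (𝟙 D : D ⟶ D).left := inferInstanceAs (IsClosedImmersion (𝟙 D.left))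
    haveI : Mono (𝟙 D) := inferInstance
    obtain ⟨X, a, o, hl, hq, hfl, hsu, hsq⟩ := GrpSchLib.HomogeneousQuot.exists_quot D D (𝟙 D)
    have hX : AGF.IsQuotient (𝟙 D) X a o := ⟨hl, hfl, hsu, hsq⟩
    haveI := hl
    haveI := hq
    haveI := hsu
    haveI : IsSeparated X.hom := quot_isSeparated hX
    haveI : IsFinite X.hom := isFinite_of_finite_pts ({o} : Set (PT ⟶ X)) (Set.finite_singleton _) fun t => by
      obtain ⟨g, hg⟩ := exists_of_mem_range (a.orbitMap o) t ((a.orbitMap o).left.surjective _)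
      have := stab_of_quot hX g
      rw [Category.comp_id, toUnit_unique (toUnit _) (𝟙 (𝟙_ _)), Category.id_comp] at this
      rw [← hg, pt_orbitMap]
      exact this
    exact ⟨D, inferInstance, 𝟙 D, X, a, o, inferInstance, inferInstance, inferInstance, inferInstance, hs, hX,
      inferInstance⟩
  obtain ⟨P, _, iP, Y, b, y, _, _, hne, hY, _⟩ := ProperSpace.exists_proper_space hs
  haveI : LocallyOfFiniteType P.hom := by rw [← Over.w iP]; infer_instance
  haveI : QuasiCompact P.hom := by rw [← Over.w iP]; infer_instance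
  obtain ⟨P0, _, i0, _, _, _, _, _, S, hS, hrep⟩ := exists_idComp (P := P)
  let j : P0 ⟶ D := i0 ≫ iP
  haveI : IsClosedImmersion j.left := inferInstanceAs (IsClosedImmersion (i0.left ≫ iP.left))
  haveI : Mono j := mono_of_closedImmersion j
  -- the quotient by the identity component
  obtain ⟨X1, a1, o1, hl1, hq1, hfl1, hsu1, hsq1⟩ := GrpSchLib.HomogeneousQuot.exists_quot D P0 j
  have hX1 : AGF.IsQuotient j X1 a1 o1 := ⟨hl1, hfl1, hsu1, hsq1⟩
  obtain ⟨π, F, jF, -, -, -, _, _, _, hprop, _, hF⟩ := exists_fibre j iP i0 rfl a1 o1 hX1 b y hY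
  haveI : IsProper X1.hom := by
    refine hprop ?_
    have hfin : (Set.range fun t : PT ⟶ F => t ≫ jF).Finite :=
      (hS.image fun s => (s ≫ iP) ≫ a1.orbitMap o1).subset (by
        rintro _ ⟨t, rfl⟩
        obtain ⟨p, hp⟩ := hF t
        obtain ⟨s, hs, q, hq⟩ := hrep p
        refine ⟨s, hs, ?_⟩
        show (s ≫ iP) ≫ a1.orbitMap o1 = t ≫ jF
        rw [hp, ← hq, MonObj.mul_comp, Category.assoc q, pt_orbitMap, pt_orbitMap, ← GrpSchLib.act_mul]
        have := stab_of_quot hX1 q
        rw [toUnit_unique (toUnit _) (𝟙 (𝟙_ _)), Category.id_comp] at this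
        rw [this])
    haveI : IsFinite F.hom := isFinite_of_finite_pts (Set.univ : Set (PT ⟶ F))
      (Set.Finite.of_finite_image (f := fun t : PT ⟶ F => t ≫ jF) (by rwa [Set.image_univ]) (fun s _ t _ h => (cancel_mono jF).mp h)) fun _ => trivial
    infer_instance
  -- induction
  haveI : IsClosedImmersion (j ≫ iD).left := inferInstanceAs (IsClosedImmersion (j.left ≫ iD.left))
  have hlt : (⟨Set.range (j ≫ iD).left, (j ≫ iD).left.isClosedEmbedding.isClosed_range⟩ : Closeds G₀.left) < C := by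
    refine lt_of_le_of_ne ?_ fun h => hne ?_
    · show Set.range (j ≫ iD).left ⊆ (C : Set G₀.left)
      rw [← hC]
      rintro _ ⟨z, rfl⟩
      exact ⟨j.left z, rfl⟩
    · refine Set.eq_univ_of_forall fun z => ?_
      have h2 : iD.left z ∈ Set.range (j ≫ iD).left :=
        (congrArg (fun K : Closeds G₀.left => (K : Set G₀.left)) h).ge (hC.le ⟨z, rfl⟩)
      obtain ⟨w, hw⟩ := h2
      exact ⟨i0.left w, iD.left.isClosedEmbedding.injective hw⟩
  haveI : IsClosedImmersion (j ≫ iD).left := inferInstanceAs (IsClosedImmersion (j.left ≫ iD.left))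
  obtain ⟨B, _, iB, X', a', o', _, _, _, _, hsolv, hX', _⟩ := ih _ hlt P0 (j ≫ iD) rfl
  let iBD : B ⟶ D := iB ≫ j
  haveI : IsClosedImmersion iBD.left := inferInstanceAs (IsClosedImmersion (iB.left ≫ j.left))
  haveI : Mono iBD := mono_of_closedImmersion iBD
  haveI : IsAffine B.left := isAffine_of_isAffineHom iBD.left
  haveI : QuasiCompact B.hom := inferInstance
  obtain ⟨X, a, o, hl, hq, hfl, hsu, hsq⟩ := GrpSchLib.HomogeneousQuot.exists_quot D B iBD
  have hX : AGF.IsQuotient iBD X a o := ⟨hl, hfl, hsu, hsq⟩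
  obtain ⟨π2, F2, jF2, hπ2a, hπ2b, sq2, _, _, _, hprop2, _, hF2⟩ := exists_fibre iBD j iB rfl a o hX a1 o1 hX1
  refine ⟨B, inferInstance, iBD, X, a, o, inferInstance, inferInstance, inferInstance, inferInstance, hsolv, hX,
    hprop2 ?_⟩
  obtain ⟨c, hc⟩ := exists_restrict a j
  haveI := hl
  haveI := hq
  obtain ⟨ψ, ⟨-, hψ⟩, -⟩ := Groth.Agent.S8014.result k P0 B iB X' a' o' hX' X c o (fun T h => by
    rw [hc, ← Category.assoc, lift_whiskerRight, Category.assoc]
    exact stab_of_quot hX h)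
  haveI : IsReduced P0.left := isReduced_of_smooth_field P0.hom
  haveI : IsReduced X'.left := quot_isReduced hX'
  haveI := hX'.2.2.1
  have hc2 : ∀ q : PT ⟶ P0, q ≫ c.orbitMap o = (q ≫ j) ≫ a.orbitMap o := fun q => by
    rw [pt_orbitMap, pt_orbitMap, hc, ← Category.assoc, lift_whiskerRight]
  have hψF : ψ ≫ π2 = toUnit X' ≫ o1 := hom_ext_pts fun t => by
    obtain ⟨q, rfl⟩ := exists_of_mem_range (a'.orbitMap o') t ((a'.orbitMap o').left.surjective _)
    rw [Category.assoc, reassoc_of% hψ, ← Category.assoc, hc2, Category.assoc, hπ2b, pt_orbitMap]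
    have h := stab_of_quot hX1 q
    rw [toUnit_unique (toUnit _) (𝟙 (𝟙_ _)), Category.id_comp] at h
    rw [h, ← Category.assoc, toUnit_unique ((q ≫ a'.orbitMap o') ≫ toUnit X') (𝟙 _), Category.id_comp]
  obtain ⟨ψ', hψ'⟩ : ∃ ψ' : X' ⟶ F2, ψ' ≫ jF2 = ψ := ⟨sq2.lift _ _ hψF, sq2.lift_fst _ _ _⟩
  refine universallyClosed_of_pts ψ' fun t => ?_
  obtain ⟨p, hp⟩ := hF2 t
  refine ⟨p ≫ a'.orbitMap o', sq2.hom_ext ?_ (toUnit_unique _ _)⟩
  rw [Category.assoc, Category.assoc, hψ', hψ, hc2, hp]

end Groth.Agent.AGFLib.BorelExist
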