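import Groth.Agent.S11188
import Mathlib.RingTheory.FiniteStability
import Mathlib.RingTheory.Ideal.MinimalPrime.Localization
import Mathlib.RingTheory.Jacobson.Ring
import Mathlib.RingTheory.LocalRing.ResidueField.Basic
import Mathlib.RingTheory.TensorProduct.Free

/-! For an observable subgroup every translation-stable ideal with a regular element has an invariant. -/

set_option backward.isDefEq.respectTransparency false
set_option backward.isDefEq.respectTransparency.types false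
set_option linter.style.haveILetI false

universe u

open CategoryTheory MonoidalCategory CartesianMonoidalCategory MonObj AlgebraicGeometry TensorProduct

namespace Groth.Agent.AGFLib

open GrpSchLib GrpSchLib.Kunneth GrpSchLib.LineGroups

section Algebra

/-- Two algebras into which a reduced finitely generated algebra embeds have a common rational point. -/
theorem exists_common_point {k : Type u} [Field k] [IsAlgClosed k] (R₀ B₁ B₂ : Type u) [CommRing R₀] [Nontrivial R₀]
    [CommRing B₁] [CommRing B₂] [Algebra k R₀] [Algebra k B₁] [Algebra k B₂] [Algebra R₀ B₁] [Algebra R₀ B₂]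
    [IsScalarTower k R₀ B₁] [IsScalarTower k R₀ B₂] [Algebra.FiniteType k B₁] [Algebra.FiniteType k B₂]
    (h₁ : Function.Injective (algebraMap R₀ B₁)) (h₂ : Function.Injective (algebraMap R₀ B₂)) :
    ∃ (ψ₁ : B₁ →ₐ[k] k) (ψ₂ : B₂ →ₐ[k] k), ∀ r : R₀, ψ₁ (algebraMap R₀ B₁ r) = ψ₂ (algebraMap R₀ B₂ r) := by
  classical
  obtain ⟨⟨p, hp⟩⟩ := Ideal.nonempty_minimalPrimes (bot_ne_top (α := Ideal R₀))
  obtain ⟨q₁, hq₁, e₁⟩ := Ideal.exists_comap_eq_of_mem_minimalPrimes_of_injective h₁ p hp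
  obtain ⟨q₂, hq₂, e₂⟩ := Ideal.exists_comap_eq_of_mem_minimalPrimes_of_injective h₂ p hp
  haveI : p.IsPrime := hp.1.1
  letI a₁ : Algebra p.ResidueField q₁.ResidueField :=
    (Ideal.ResidueField.map p q₁ (algebraMap R₀ B₁) e₁.symm).toAlgebra
  letI a₂ : Algebra p.ResidueField q₂.ResidueField :=
    (Ideal.ResidueField.map p q₂ (algebraMap R₀ B₂) e₂.symm).toAlgebra
  haveI : IsScalarTower R₀ p.ResidueField q₁.ResidueField := .of_algebraMap_eq fun r => by
    rw [RingHom.algebraMap_toAlgebra, Ideal.ResidueField.map_algebraMap,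
      ← IsScalarTower.algebraMap_apply R₀ B₁ q₁.ResidueField]
  haveI : IsScalarTower R₀ p.ResidueField q₂.ResidueField := .of_algebraMap_eq fun r => by
    rw [RingHom.algebraMap_toAlgebra, Ideal.ResidueField.map_algebraMap,
      ← IsScalarTower.algebraMap_apply R₀ B₂ q₂.ResidueField]
  let L := q₁.ResidueField ⊗[p.ResidueField] q₂.ResidueField
  have hfree : Module.Free p.ResidueField q₂.ResidueField := Module.Free.of_divisionRing _ _
  haveI : Module.FaithfullyFlat p.ResidueField q₂.ResidueField :=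
    @Module.FaithfullyFlat.instOfNontrivialOfFree _ _ _ _ _ inferInstance hfree
  haveI : Nontrivial L := Module.FaithfullyFlat.rTensor_nontrivial _ _ _
  let c₁ : B₁ →ₐ[R₀] L :=
    ((Algebra.TensorProduct.includeLeft : q₁.ResidueField →ₐ[p.ResidueField] L).restrictScalars R₀).comp
      (IsScalarTower.toAlgHom R₀ B₁ q₁.ResidueField)
  let c₂ : B₂ →ₐ[R₀] L :=
    ((Algebra.TensorProduct.includeRight : q₂.ResidueField →ₐ[p.ResidueField] L).restrictScalars R₀).comp
      (IsScalarTower.toAlgHom R₀ B₂ q₂.ResidueField)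
  haveI : Nontrivial (B₁ ⊗[R₀] B₂) :=
    (Algebra.TensorProduct.lift c₁ c₂ fun _ _ => .all _ _).toRingHom.domain_nontrivial
  haveI : Algebra.FiniteType R₀ B₂ := Algebra.FiniteType.of_restrictScalars_finiteType k R₀ B₂
  haveI : Algebra.FiniteType k (B₁ ⊗[R₀] B₂) :=
    Algebra.FiniteType.trans (R := k) (S := B₁) inferInstance inferInstance
  obtain ⟨m, hm⟩ := Ideal.exists_maximal (B₁ ⊗[R₀] B₂)
  letI := Ideal.Quotient.field m
  haveI : Algebra.FiniteType k ((B₁ ⊗[R₀] B₂) ⧸ m) := inferInstance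
  haveI : Module.Finite k ((B₁ ⊗[R₀] B₂) ⧸ m) := finite_of_finite_type_of_isJacobsonRing k _
  let e : k ≃ₐ[k] (B₁ ⊗[R₀] B₂) ⧸ m :=
    AlgEquiv.ofBijective (Algebra.ofId k _) IsAlgClosed.algebraMap_bijective_of_isIntegral
  let ψ : B₁ ⊗[R₀] B₂ →ₐ[k] k := e.symm.toAlgHom.comp (Ideal.Quotient.mkₐ k m)
  refine ⟨ψ.comp ((Algebra.TensorProduct.includeLeft : B₁ →ₐ[R₀] B₁ ⊗[R₀] B₂).restrictScalars k),
    ψ.comp ((Algebra.TensorProduct.includeRight : B₂ →ₐ[R₀] B₁ ⊗[R₀] B₂).restrictScalars k), fun r => ?_⟩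
  show ψ (Algebra.TensorProduct.includeLeft (R := R₀) (S := R₀) (algebraMap R₀ B₁ r)) = ψ (Algebra.TensorProduct.includeRight (R := R₀) (algebraMap R₀ B₂ r))
  rw [AlgHom.commutes, AlgHom.commutes]

end Algebra

variable {k : Type u} [Field k] {G H : Over (Spec (CommRingCat.of k))} [GrpObj G]

/-- Right translation of functions by a rational point. -/
noncomputable def rT (z : VecGrp.pt k k ⟶ G) : Fn G →ₐ[k] Fn G := ev (𝟙 G * (toPt G ≫ z))

theorem ev_rT {T : Over (Spec (CommRingCat.of k))} (x : T ⟶ G) (z : VecGrp.pt k k ⟶ G) (f : Fn G) :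
    ev x (rT z f) = ev (x * (toPt T ≫ z)) f := by
  rw [rT, ev_ev, MonObj.comp_mul, Category.comp_id, ← Category.assoc, hom_pt_ext (x ≫ toPt G)]

theorem rT_mul (z : VecGrp.pt k k ⟶ G) (z' : VecGrp.pt k k ⟶ G) (f : Fn G) : rT z (rT z' f) = rT (z * z') f := by
  show ev (𝟙 G * (toPt G ≫ z)) (rT z' f) = ev (𝟙 G * (toPt G ≫ (z * z'))) f
  rw [ev_rT, MonObj.comp_mul, _root_.mul_assoc]

variable [IsAffine G.left] [Smooth G.hom] [IsAlgClosed k] [IsAffine H.left] [Smooth H.hom]

/-- Invariance may be tested on rational points of the subgroup. -/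
theorem isRTransInv_of_pts (i : H ⟶ G) (f : Fn G) (h : ∀ x : VecGrp.pt k k ⟶ H, rT (x ≫ i) f = f) :
    AGF.IsRTransInv i f := by
  haveI : IsAffine (G ⊗ H).left := inferInstanceAs (IsAffine (Limits.pullback G.hom H.hom))
  haveI : Smooth (G ⊗ H).hom := inferInstanceAs (Smooth (Limits.pullback.fst G.hom H.hom ≫ G.hom))
  haveI : IsReduced (G ⊗ H).left := isReduced_of_smooth_field (G ⊗ H).hom
  refine eq_of_pts fun p => ?_
  show ev p (ev ((G ◁ i) ≫ μ[G]) f) = ev p (ev (fst G H) f)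
  rw [ev_ev, ev_ev, comp_translate]
  conv_rhs => rw [← h (p ≫ snd G H), ev_rT, ← hom_pt_ext (𝟙 _), Category.id_comp, Category.assoc]

omit [IsAlgClosed k] [IsAffine H.left] [Smooth H.hom] [IsAffine G.left] [Smooth G.hom] in
theorem rT_of_isRTransInv {i : H ⟶ G} {f : Fn G} (hf : AGF.IsRTransInv i f) (x : VecGrp.pt k k ⟶ H) :
    rT (x ≫ i) f = f :=
  (isRTransInv_pt_iff _ f).1 (isRTransInv_comp x hf)

/-- An ideal stable under right translations by an observable subgroup and with a regular element contains a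
non-zero invariant. -/
theorem exists_inv_mem [GrpObj H] (i : H ⟶ G) [IsMonHom i] [IsClosedImmersion i.left]
    (hobs : AGF.IsObservableIn k i) (J : Ideal (Fn G))
    (hJ : ∀ (x : VecGrp.pt k k ⟶ H), ∀ c ∈ J, rT (x ≫ i) c ∈ J) (b : Fn G) (hbJ : b ∈ J)
    (hb : b ∈ nonZeroDivisors (Fn G)) : ∃ P : Fn G, AGF.IsRTransInv i P ∧ P ∈ J ∧ P ≠ 0 := by
  classical
  haveI := finiteType_fn G
  obtain ⟨t, ht, hsep⟩ := ((S11188.result k G H i).out 0 2).1 hobs
  haveI : Nontrivial (Fn G) :=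
    RingHom.domain_nontrivial (pullFn (1 : VecGrp.pt k k ⟶ G)).toRingHom
  let S : Subalgebra k (Fn G) :=
    { AGF.rTransInv i with
      algebraMap_mem' := fun c => (isRTransInv_iff i _).2 fun T g a => by rw [AlgHom.commutes, AlgHom.commutes] }
  let R₀ : Subalgebra k (Fn G) := Algebra.adjoin k (t : Set (Fn G))
  have hle : R₀ ≤ S := Algebra.adjoin_le fun f hf => ht f hf
  by_contra hne
  push Not at hne
  have h₁ : Function.Injective (algebraMap R₀ (Fn G ⧸ J)) := by
    rw [injective_iff_map_eq_zero]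
    intro P hP
    exact Subtype.ext (hne P.1 (hle P.2) (Ideal.Quotient.eq_zero_iff_mem.mp hP))
  have h₂ : Function.Injective (algebraMap R₀ (Localization.Away b)) := by
    rw [IsScalarTower.algebraMap_eq R₀ (Fn G) (Localization.Away b)]
    exact (IsLocalization.injective _ (Submonoid.powers_le.mpr hb)).comp Subtype.val_injective
  obtain ⟨ψ₁, ψ₂, hψ⟩ := exists_common_point (k := k) R₀ (Fn G ⧸ J) (Localization.Away b) h₁ h₂
  let φ₁ := ψ₁.comp (Ideal.Quotient.mkₐ k J)
  let φ₂ := ψ₂.comp (IsScalarTower.toAlgHom k (Fn G) (Localization.Away b))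
  let x := VecGrp.ptMap φ₁ ≫ univ G
  let y := VecGrp.ptMap φ₂ ≫ univ G
  have hx : ∀ f, pullFn x f = φ₁ f := fun f => by rw [pullFn_ptMap, pullFn_univ]
  have hy : ∀ f, pullFn y f = φ₂ f := fun f => by rw [pullFn_ptMap, pullFn_univ]
  obtain ⟨a, ha⟩ := hsep x y fun f hf => by
    apply (Scheme.ΓSpecIso (CommRingCat.of k)).commRingCatIsoToRingEquiv.injective
    show pullFn x f = pullFn y f
    rw [hx, hy]
    exact hψ ⟨f, Algebra.subset_adjoin hf⟩
  have h0 : φ₁ (rT (a ≫ i) b) = 0 := by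
    show ψ₁ (Ideal.Quotient.mk J _) = 0
    rw [Ideal.Quotient.eq_zero_iff_mem.mpr (hJ a b hbJ), map_zero]
  have h1 : φ₂ b ≠ 0 := ((IsLocalization.Away.algebraMap_isUnit b).map ψ₂).ne_zero
  refine h1 ?_
  rw [← hy, ha, pullFn_apply, show x * (a ≫ i) = x * (toPt _ ≫ a ≫ i) by
    rw [← hom_pt_ext (𝟙 _), Category.id_comp], ← ev_rT, ← pullFn_apply, hx, h0]

end Groth.Agent.AGFLib
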