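import Groth.Agent.AGFLib.InvIdeal
import Groth.Prelude.Def_GmPts
import Mathlib.Algebra.Module.Submodule.Union
import Mathlib.Data.Fintype.EquivFin

/-! Semi-invariant functions and vectors for a character of a subgroup. -/

set_option backward.isDefEq.respectTransparency false
set_option backward.isDefEq.respectTransparency.types false
set_option linter.style.haveILetI false

universe u

open CategoryTheory MonoidalCategory CartesianMonoidalCategory MonObj AlgebraicGeometry TensorProduct WithConv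

namespace Groth.Agent.AGFLib

open GrpSchLib GrpSchLib.Kunneth GrpSchLib.LineGroups GrpSchLib.AffineHopf GrpSchLib.LineVec ComodLib

variable {k : Type u} [Field k]

/-- A function evaluated at a rational point, as a scalar. -/
noncomputable def val {X : Over (Spec (CommRingCat.of k))} (x : VecGrp.pt k k ⟶ X) (f : Fn X) : k := pullFn x f

theorem ev_eq_algebraMap {X : Over (Spec (CommRingCat.of k))} (x : VecGrp.pt k k ⟶ X) (f : Fn X) :
    ev x f = algebraMap k _ (val x f) := by
  obtain ⟨r, hr⟩ := exists_scalar (ev x f)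
  rw [← hr, val, pullFn_apply, ← hr]
  congr 1
  exact ((spEquiv (k := k) k).symm.commutes r).symm

variable {H : Over (Spec (CommRingCat.of k))} [GrpObj H]

theorem chiVal_eq {B : Type u} [CommRing B] [Algebra k B] (χ : H ⟶ Red.Gm (Spec (CommRingCat.of k)))
    (q : VecGrp.pt k B ⟶ H) : VecGrp.chiVal χ q = pullFn q (Red.gmFn χ) := by
  rw [VecGrp.chiVal, GmPts.gmFn_comp]
  rfl

theorem isMonHom_of_mul {C : Type*} [Category C] [CartesianMonoidalCategory C] {X Y : C} [GrpObj X] [GrpObj Y]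
    (f : X ⟶ Y) (h : ∀ (T : C) (g g' : T ⟶ X), (g * g') ≫ f = (g ≫ f) * (g' ≫ f)) : IsMonHom f := by
  refine ⟨?_, ?_⟩
  · have h1 := h _ (1 : 𝟙_ C ⟶ X) 1
    rw [_root_.mul_one] at h1
    have h2 : (1 : 𝟙_ C ⟶ X) ≫ f = 1 := mul_eq_left.mp h1.symm
    rwa [Hom.one_def, Hom.one_def, toUnit_unit, Category.id_comp, Category.id_comp] at h2
  · have h1 := h (X ⊗ X) (fst X X) (snd X X)
    rw [Hom.mul_def, lift_fst_snd, Category.id_comp] at h1
    rw [h1, Hom.mul_def]
    congr 1
    ext <;> simp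

set_option backward.isDefEq.respectTransparency true in
/-- A unit multiplicative on points is a character. -/
theorem isMonHom_ptOfUnit (c : (Fn H)ˣ)
    (h : ∀ (T : Over (Spec (CommRingCat.of k))) (g g' : T ⟶ H), ev (g * g') (c : Fn H) = ev g (c : Fn H) * ev g' (c : Fn H)) :
    IsMonHom (GmPts.ptOfUnit c : H ⟶ Red.Gm (Spec (CommRingCat.of k))) := by
  refine isMonHom_of_mul _ fun T g g' => GmPts.gmFn_injective ?_
  beta_reduce
  rw [GmPts.gmFn_mul, GmPts.gmFn_comp, GmPts.gmFn_comp, GmPts.gmFn_comp, GmPts.gmFn_ptOfUnit]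
  exact h T g g'

variable {G : Over (Spec (CommRingCat.of k))} [GrpObj G]

/-- Left translation of functions by a rational point. -/
noncomputable def lT (y : VecGrp.pt k k ⟶ G) : Fn G →ₐ[k] Fn G := ev ((toPt G ≫ y) * 𝟙 G)

theorem ev_lT {T : Over (Spec (CommRingCat.of k))} (x : T ⟶ G) (y : VecGrp.pt k k ⟶ G) (f : Fn G) :
    ev x (lT y f) = ev ((toPt T ≫ y) * x) f := by
  rw [lT, ev_ev, MonObj.comp_mul, Category.comp_id, ← Category.assoc, hom_pt_ext (x ≫ toPt G)]

theorem rT_lT (z y : VecGrp.pt k k ⟶ G) (f : Fn G) : rT z (lT y f) = lT y (rT z f) := by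
  show ev (𝟙 G * (toPt G ≫ z)) (lT y f) = ev ((toPt G ≫ y) * 𝟙 G) (rT z f)
  rw [ev_lT, ev_rT, _root_.mul_assoc]

theorem endHom_tmul {n : ℕ} {N : Matrix (Fin n) (Fin n) (Fn G)} (hN : IsRepMatrix N) [QuasiCompact G.hom]
    {B : Type u} [CommRing B] [Algebra k B] (q : VecGrp.pt k B ⟶ G) (a : Fin n → k) :
    endHom hN B q ((1 : B) ⊗ₜ[k] a) = ∑ l, (∑ j, a j • pullFn q (N l j)) • stdB k n B l := by
  conv_lhs => rw [← (Pi.basisFun k (Fin n)).sum_repr a, TensorProduct.tmul_sum, map_sum]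
  have hb : ∀ j : Fin n, (1 : B) ⊗ₜ[k] Pi.basisFun k (Fin n) j = stdB k n B j := fun j =>
    (Algebra.TensorProduct.basis_apply _ j).symm
  simp only [TensorProduct.tmul_smul, hb, Pi.basisFun_repr]
  have hs : ∀ j, endHom hN B q (a j • stdB k n B j) = ∑ l, (a j • pullFn q (N l j)) • stdB k n B l := fun j => by
    rw [← algebraMap_smul B (a j), map_smul, endHom_basis, Finset.smul_sum]
    refine Finset.sum_congr rfl fun l _ => ?_
    rw [smul_smul, ← Algebra.smul_def]
  simp only [hs, Finset.sum_smul]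
  exact Finset.sum_comm

theorem one_tmul_eq {n : ℕ} {B : Type u} [CommRing B] [Algebra k B] (a : Fin n → k) :
    (1 : B) ⊗ₜ[k] a = ∑ l, algebraMap k B (a l) • stdB k n B l := by
  conv_lhs => rw [← (Pi.basisFun k (Fin n)).sum_repr a, TensorProduct.tmul_sum]
  refine Finset.sum_congr rfl fun l _ => ?_
  rw [TensorProduct.tmul_smul, algebraMap_smul, Pi.basisFun_repr, Algebra.TensorProduct.basis_apply]

variable [IsAffine G.left] [Smooth G.hom] [IsAlgClosed k]

omit [Smooth G.hom] [IsAlgClosed k] in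
theorem val_matCoeff {M : Type u} [AddCommGroup M] [Module k M] (ρ : VecGrp.GMod G M) (v : M) (l : M →ₗ[k] k)
    (y : VecGrp.pt k k ⟶ G) : val y (matCoeff ρ v l) = formB l k (ρ.ρ k y ((1 : k) ⊗ₜ[k] v)) :=
  pullFn_matCoeff ρ v l y

/-- The matrix coefficient of a semi-invariant vector is semi-invariant. -/
theorem rT_matCoeff (i : H ⟶ G) (χ : H ⟶ Red.Gm (Spec (CommRingCat.of k))) {M : Type u} [AddCommGroup M]
    [Module k M] (ρ : VecGrp.GMod G M) (v : M)
    (hv : ∀ x : VecGrp.pt k k ⟶ H, ρ.ρ k (x ≫ i) ((1 : k) ⊗ₜ[k] v) = VecGrp.chiVal χ x • ((1 : k) ⊗ₜ[k] v))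
    (l : M →ₗ[k] k) (x : VecGrp.pt k k ⟶ H) :
    rT (x ≫ i) (matCoeff ρ v l) = val x (Red.gmFn χ) • matCoeff ρ v l := by
  haveI : IsReduced G.left := isReduced_of_smooth_field G.hom
  refine eq_of_pts fun y => ?_
  rw [ev_rT, ← hom_pt_ext (𝟙 _), Category.id_comp, map_smul, ev_eq_algebraMap, ev_eq_algebraMap y,
    Algebra.smul_def, ← map_mul]
  congr 1
  rw [val_matCoeff, val_matCoeff, map_mul, LinearEquiv.mul_apply, hv, map_smul, map_smul, chiVal_eq, smul_eq_mul]
  rfl

omit [IsAlgClosed k] in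
/-- A semi-invariant function is a semi-invariant vector of a rational module. -/
theorem exists_semi_vec [IsAlgClosed k] [IsAffine H.left] [Smooth H.hom] (i : H ⟶ G) (d : Fn H) (c : Fn G)
    (hc0 : c ≠ 0) (hc : ∀ x : VecGrp.pt k k ⟶ H, rT (x ≫ i) c = val x d • c) :
    ∃ (V : Type u) (_ : AddCommGroup V) (_ : Module k V) (_ : Module.Finite k V) (ρ : VecGrp.GMod G V) (v : V), v ≠ 0 ∧
      ∀ (B : Type u) [CommRing B] [Algebra k B] (h : VecGrp.pt k B ⟶ H),
        ρ.ρ B (h ≫ i) ((1 : B) ⊗ₜ[k] v) = pullFn h d • ((1 : B) ⊗ₜ[k] v) := by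
  classical
  obtain ⟨n, w, N, hN, hwli, hcw, hw⟩ := exists_stable (G := G) {c}
  obtain ⟨a, ha⟩ := (Submodule.mem_span_range_iff_exists_fun k).mp (hcw (Finset.mem_coe.mpr (Finset.mem_singleton_self c)))
  refine ⟨Fin n → k, inferInstance, inferInstance, inferInstance, hN.gmod, a, fun h0 => hc0 ?_, fun B _ _ h => ?_⟩
  · rw [← ha]; simp [h0]
  haveI : IsReduced H.left := isReduced_of_smooth_field H.hom
  have key : ∀ l, ∑ j, a j • ev i (N l j) = a l • d := fun l => by
    refine eq_of_pts fun x => ?_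
    have e : rT (x ≫ i) c = ∑ l, (∑ j, a j * val (x ≫ i) (N l j)) • w l := by
      rw [rT, ← ha, map_sum]
      simp only [map_smul, hw, ev_id, Finset.smul_sum, Finset.sum_smul]
      rw [Finset.sum_comm]
      refine Finset.sum_congr rfl fun l _ => Finset.sum_congr rfl fun j _ => ?_
      rw [← ev_ev, ev_eq_algebraMap, AlgHom.commutes, _root_.mul_comm (w l), ← Algebra.smul_def, smul_smul]
    rw [hc x, ← ha, Finset.smul_sum] at e
    simp only [smul_smul] at e
    have := Fintype.linearIndependent_iff.mp hwli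
      (fun l => ∑ j, a j * val (x ≫ i) (N l j) - val x d * a l)
      (by simp only [sub_smul, Finset.sum_sub_distrib, ← e, sub_self]) l
    simp only [map_sum, map_smul, ev_ev]
    simp only [ev_eq_algebraMap, Algebra.smul_def, ← map_mul, ← map_sum]
    rw [sub_eq_zero.mp this, _root_.mul_comm]
  show endHom hN B (h ≫ i) ((1 : B) ⊗ₜ[k] a) = _
  rw [endHom_tmul, one_tmul_eq, Finset.smul_sum]
  refine Finset.sum_congr rfl fun l _ => ?_
  rw [smul_smul]
  congr 1
  have h1 := congrArg (pullFn h) (key l)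
  simp only [map_sum, map_smul, ← pullFn_comp] at h1
  rw [h1, Algebra.smul_def, _root_.mul_comm]

/-- Some combination of left translates of a non-zero function is a regular element. -/
theorem exists_regular (f : Fn G) (hf : f ≠ 0) :
    ∃ F ∈ Submodule.span k (Set.range fun y => lT y f), F ∈ nonZeroDivisors (Fn G) := by
  classical
  haveI := finiteType_fn G
  haveI : IsNoetherianRing (Fn G) := Algebra.FiniteType.isNoetherianRing k _
  haveI : IsReduced G.left := isReduced_of_smooth_field G.hom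
  let W := Submodule.span k (Set.range fun y => lT y f)
  obtain ⟨y₀, hy₀⟩ : ∃ y : VecGrp.pt k k ⟶ G, val y f ≠ 0 := by
    by_contra h
    push Not at h
    exact hf (eq_of_pts fun y => by rw [ev_eq_algebraMap, h y, map_zero, map_zero])
  haveI : Finite (minimalPrimes (Fn G)) := (minimalPrimes.finite_of_isNoetherianRing (Fn G)).to_subtype
  let pW : minimalPrimes (Fn G) → Submodule k W := fun p => (p.1.restrictScalars k).comap W.subtype
  have hp : ∀ p, pW p ≠ ⊤ := by
    intro p htop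
    haveI : p.1.IsPrime := p.2.1.1
    obtain ⟨m, hm, hpm⟩ := Ideal.exists_le_maximal p.1 p.2.1.1.ne_top
    letI := Ideal.Quotient.field m
    haveI : Algebra.FiniteType k (Fn G ⧸ m) := inferInstance
    haveI : Module.Finite k (Fn G ⧸ m) := finite_of_finite_type_of_isJacobsonRing k _
    let e : k ≃ₐ[k] Fn G ⧸ m :=
      AlgEquiv.ofBijective (Algebra.ofId k _) IsAlgClosed.algebraMap_bijective_of_isIntegral
    let φ := e.symm.toAlgHom.comp (Ideal.Quotient.mkₐ k m)
    let y := VecGrp.ptMap φ ≫ univ G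
    have hmem : lT (y₀ * y⁻¹) f ∈ p.1 := by
      have : (⟨lT (y₀ * y⁻¹) f, Submodule.subset_span ⟨_, rfl⟩⟩ : W) ∈ pW p := htop ▸ Submodule.mem_top
      exact this
    refine hy₀ ?_
    have h0 : pullFn y (lT (y₀ * y⁻¹) f) = 0 := by
      rw [pullFn_ptMap, pullFn_univ]
      show e.symm (Ideal.Quotient.mk m _) = 0
      rw [Ideal.Quotient.eq_zero_iff_mem.mpr (hpm hmem), map_zero]
    rw [pullFn_apply, ev_lT, ← hom_pt_ext (𝟙 _), Category.id_comp, inv_mul_cancel_right] at h0
    exact h0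
  haveI : Fintype (minimalPrimes (Fn G)) := Fintype.ofFinite _
  obtain ⟨F, hF⟩ := Submodule.exists_forall_notMem_of_forall_ne_top pW hp
  refine ⟨F.1, F.2, mem_nonZeroDivisors_iff_right.mpr fun x hx => ?_⟩
  have h0 : x ∈ sInf (minimalPrimes (Fn G)) := Ideal.mem_sInf.mpr fun {p} hp' => by
    haveI : p.IsPrime := hp'.1.1
    exact (Ideal.IsPrime.mem_or_mem ‹p.IsPrime› (show x * F.1 ∈ p by rw [hx]; exact p.zero_mem)).resolve_right (hF ⟨p, hp'⟩)
  rw [minimalPrimes, Ideal.sInf_minimalPrimes] at h0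
  haveI : _root_.IsReduced (Fn G) := inferInstance
  exact IsNilpotent.eq_zero (mem_nilradical.mp h0)

/-- Chevalley: a subgroup is the stabiliser of a line, with its character. -/
theorem exists_char_vec {A : Type u} [CommRing A] [HopfAlgebra k A] [Algebra.FiniteType k A] {B : Type u}
    [CommRing B] [HopfAlgebra k B] (π : A →ₐc[k] B) (hπ : Function.Surjective π) :
    ∃ (n : ℕ) (y : Fin n → A) (j₀ : Fin n) (c : B), IsUnit c ∧
      (∀ (T : Over (Spec (CommRingCat.of k))) (g g' : T ⟶ sp k B), fn (g * g') c = fn g c * fn g' c) ∧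
      (∀ (T : Over (Spec (CommRingCat.of k))), fn (1 : T ⟶ sp k A) (y j₀) = 1) ∧
      (∀ (T : Over (Spec (CommRingCat.of k))) (g : T ⟶ sp k A) (h : T ⟶ sp k B) (x : Fin n),
        fn (g * (h ≫ spMap (π : A →ₐ[k] B))) (y x) = fn g (y x) * fn h c) ∧
      ∀ (T : Over (Spec (CommRingCat.of k))) (g : T ⟶ sp k A) (e : Fn T), IsUnit e →
        (∀ x, fn g (y x) = fn (1 : T ⟶ sp k A) (y x) * e) → ∃ h : T ⟶ sp k B, h ≫ spMap (π : A →ₐ[k] B) = g := by
  classical
  obtain ⟨d, e, M, hM, hblock, hkill⟩ := exists_block_matrix π hπ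
  let ι₀ : Fin d → Fin d ⊕ Fin e := Sum.inl
  let M₁ := powMatrix M d
  have hM₁ : IsComodMatrix k M₁ := hM.powMatrix d
  let v₁ := minorVec k ι₀
  have hv₁ : v₁ ι₀ = 1 := minorVec_self Sum.inl_injective
  obtain ⟨χ, hχl, heig⟩ := orbit_block hM π hblock
  let E := Fintype.equivFin (Fin d → Fin d ⊕ Fin e)
  refine ⟨_, fun l => orbit k M₁ v₁ (E.symm l), E ι₀, χ, ?_, fun T g g' => ?_, fun T => ?_, fun T g h x => ?_,
    fun T g e he hfix => ?_⟩
  · refine IsUnit.of_mul_eq_one (HopfAlgebra.antipode k χ) ?_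
    have h := HopfAlgebra.mul_antipode_lTensor_comul_apply (R := k) χ
    rw [hχl.comul_eq_tmul_self, hχl.counit_eq_one] at h
    simpa using h
  · rw [fn_mul]
    show (toConv (fn g) * toConv (fn g')) χ = _
    rw [AlgHom.convMul_apply, hχl.comul_eq_tmul_self]
    simp
  · simp only [Equiv.symm_apply_apply]
    rw [fn_one_orbit hM₁, hv₁, map_one]
  · have hy : ∀ s, fn (h ≫ spMap (π : A →ₐ[k] B)) (orbit k M₁ v₁ s) =
        fn (1 : T ⟶ sp k A) (orbit k M₁ v₁ s) * fn h χ := by
      intro s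
      rw [fn_one_orbit hM₁, ← aff_fn h, Category.assoc, spMap_comp, fn_aff, fn_aff]
      show fn h (π (orbit k M₁ v₁ s)) = _
      rw [heig, map_smul, Algebra.smul_def]
    rw [fn_mul_orbit hM₁]
    conv_rhs => rw [← _root_.mul_one g, fn_mul_orbit hM₁, Finset.sum_mul]
    exact Finset.sum_congr rfl fun s _ => by rw [hy, _root_.mul_assoc]
  · have hy : ∀ x, fn g (orbit k M₁ v₁ x) = algebraMap k _ (v₁ x) * e := fun x => by
      have := hfix (E x)
      simp only [Equiv.symm_apply_apply] at this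
      rwa [fn_one_orbit hM₁] at this
    have hker := hkill (Fn T) (fn g) fun r m => eq_zero_of_minors ((Matrix.of M).map (fn g)) e he
      (fun i => (map_orbit_minorVec M (fn g) i).symm.trans ((hy i).trans (Algebra.smul_def _ _).symm)) r m
    let f : B →ₐ[k] Fn T := AlgHom.liftOfSurjective (π : A →ₐ[k] B) hπ (fn g) fun a ha => hker a ha
    refine ⟨aff T ≫ spMap f, fn_injective ?_⟩
    rw [Category.assoc, spMap_comp, fn_aff]
    exact AlgHom.liftOfSurjective_comp _ _ _ _

end Groth.Agent.AGFLib
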