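import Groth.Agent.AGFLib.Stable

/-! Stabilisers of vectors in rational modules. -/

set_option backward.isDefEq.respectTransparency false
set_option backward.isDefEq.respectTransparency.types false
set_option linter.style.haveILetI false

universe u

open CategoryTheory MonoidalCategory CartesianMonoidalCategory MonObj AlgebraicGeometry TensorProduct
open scoped Kronecker

namespace Groth.Agent.AGFLib

open GrpSchLib GrpSchLib.Kunneth GrpSchLib.LineGroups

variable {k : Type u} [Field k] {G H : Over (Spec (CommRingCat.of k))} [GrpObj G] [IsAffine G.left]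
  [LocallyOfFiniteType G.hom]

/-- The matrix of several copies of a representation. -/
noncomputable def copies {n : ℕ} (N : Matrix (Fin n) (Fin n) (Fn G)) (m : ℕ) :
    Matrix (Fin (n * m)) (Fin (n * m)) (Fn G) :=
  Matrix.reindex finProdFinEquiv finProdFinEquiv (N ⊗ₖ (1 : Matrix (Fin m) (Fin m) (Fn G)))

omit [GrpObj G] [IsAffine G.left] [LocallyOfFiniteType G.hom] in
theorem copies_map {T : Over (Spec (CommRingCat.of k))} {n : ℕ} (N : Matrix (Fin n) (Fin n) (Fn G)) (m : ℕ)
    (g : T ⟶ G) : (copies N m).map (ev g) =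
      Matrix.reindex finProdFinEquiv finProdFinEquiv (N.map (ev g) ⊗ₖ (1 : Matrix (Fin m) (Fin m) (Fn T))) := by
  ext i j
  simp [copies, Matrix.one_apply, apply_ite (ev g)]

theorem isRepMatrix_copies {n : ℕ} {N : Matrix (Fin n) (Fin n) (Fn G)} (h : IsRepMatrix N) (m : ℕ) :
    IsRepMatrix (copies N m) where
  mul T g h' := by
    rw [copies_map, copies_map, copies_map, h.mul T g h', Matrix.reindex_apply, Matrix.reindex_apply,
      Matrix.reindex_apply, Matrix.submatrix_mul_equiv, ← Matrix.mul_kronecker_mul, _root_.one_mul]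
  one T := by
    rw [copies_map, h.one, Matrix.one_kronecker_one, Matrix.reindex_apply, Matrix.submatrix_one_equiv]

/-- Finitely many functions are one vector of a rational module: same stabiliser. -/
theorem exists_stab_vec (F : Finset (Fn G)) :
    ∃ (V : Type u) (_ : AddCommGroup V) (_ : Module k V) (_ : Module.Finite k V) (ρ : VecGrp.GMod G V) (v : V),
      ∀ g : VecGrp.pt k k ⟶ G,
        ρ.ρ k g ((1 : k) ⊗ₜ[k] v) = (1 : k) ⊗ₜ[k] v ↔ ∀ f ∈ F, AGF.IsRTransInv g f := by
  classical
  obtain ⟨n, w, N, hN, hwli, hFw, hw⟩ := exists_stable (G := G) F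
  let m := F.card
  let f : Fin m → Fn G := fun r => (F.equivFin.symm r : Fn G)
  have hcoef : ∀ r, ∃ c : Fin n → k, ∑ j, c j • w j = f r := fun r =>
    (Submodule.mem_span_range_iff_exists_fun k).mp (hFw (F.equivFin.symm r).2)
  choose c hc using hcoef
  let v : Fin (n * m) → k := fun p => c (finProdFinEquiv.symm p).2 (finProdFinEquiv.symm p).1
  have hM := isRepMatrix_copies hN m
  refine ⟨Fin (n * m) → k, inferInstance, inferInstance, inferInstance, hM.gmod, v, fun g => ?_⟩
  choose r hr using fun i j => exists_scalar (ev g (N i j))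
  have hpull : ∀ i j, pullFn g (N i j) = r i j := fun i j => by
    rw [pullFn_apply, ← hr i j]
    exact (spEquiv (k := k) k).symm.commutes (r i j)
  have hρ : hM.gmod.ρ k g ((1 : k) ⊗ₜ[k] v) =
      (1 : k) ⊗ₜ[k] (fun p => ∑ j, r (finProdFinEquiv.symm p).1 j * c (finProdFinEquiv.symm p).2 j) := by
    show endHom hM k g ((1 : k) ⊗ₜ[k] v) = _
    conv_lhs => rw [← (Pi.basisFun k (Fin (n * m))).sum_repr v, TensorProduct.tmul_sum, map_sum]
    conv_rhs => rw [← (Pi.basisFun k (Fin (n * m))).sum_repr
      (fun p => ∑ j, r (finProdFinEquiv.symm p).1 j * c (finProdFinEquiv.symm p).2 j), TensorProduct.tmul_sum]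
    have hb : ∀ q : Fin (n * m), (1 : k) ⊗ₜ[k] Pi.basisFun k (Fin (n * m)) q = stdB k (n * m) k q := fun q =>
      (Algebra.TensorProduct.basis_apply _ q).symm
    simp only [TensorProduct.tmul_smul, hb, ← algebraMap_smul k (Pi.basisFun k (Fin (n * m)) |>.repr v _),
      map_smul, endHom_basis, Finset.smul_sum, smul_smul]
    rw [Finset.sum_comm]
    refine Finset.sum_congr rfl fun p _ => ?_
    rw [← Finset.sum_smul]
    congr 1
    rw [← finProdFinEquiv.sum_comp, Fintype.sum_prod_type]
    have e1 : ∀ (x : Fin n) (y : Fin m), (finProdFinEquiv (x, y)).divNat = x := fun x y =>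
      congrArg Prod.fst (finProdFinEquiv.symm_apply_apply (x, y))
    have e2 : ∀ (x : Fin n) (y : Fin m), (finProdFinEquiv (x, y)).modNat = y := fun x y =>
      congrArg Prod.snd (finProdFinEquiv.symm_apply_apply (x, y))
    simp [copies, Matrix.one_apply, v, hpull, Pi.basisFun_repr, apply_ite (pullFn g), mul_comm, e1, e2]
  rw [hρ]
  have hinj : Function.Injective fun z : Fin (n * m) → k => (1 : k) ⊗ₜ[k] z :=
    (TensorProduct.lid k _).symm.injective
  rw [hinj.eq_iff]
  have hfix : ∀ l, AGF.IsRTransInv g (f l) ↔ ∀ i, ∑ j, r i j * c l j = c l i := fun l => by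
    rw [isRTransInv_pt_iff, ← hc l, map_sum]
    have e : ∀ j, ev (𝟙 G * (toPt G ≫ g)) (c l j • w j) = ∑ i, (r i j * c l j) • w i := fun j => by
      rw [map_smul, hw, Finset.smul_sum]
      refine Finset.sum_congr rfl fun i _ => ?_
      rw [← ev_ev, ev_id, ← hr i j, AlgHom.commutes, ← _root_.mul_comm (algebraMap k _ _), ← Algebra.smul_def,
        smul_smul, _root_.mul_comm]
    simp only [e]
    rw [Finset.sum_comm]
    simp only [← Finset.sum_smul]
    constructor
    · intro h i
      have := Fintype.linearIndependent_iff.mp hwli (fun i => ∑ j, r i j * c l j - c l i)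
        (by simp only [sub_smul, Finset.sum_sub_distrib, h, sub_self]) i
      exact sub_eq_zero.mp this
    · intro h
      exact Finset.sum_congr rfl fun i _ => by rw [h i]
  constructor
  · intro h f' hf'
    have := (hfix (F.equivFin ⟨f', hf'⟩)).mpr fun i => by
      have := congrFun h (finProdFinEquiv (i, F.equivFin ⟨f', hf'⟩))
      simpa only [v, Equiv.symm_apply_apply] using this
    simpa [f] using this
  · intro h
    funext p
    exact (hfix (finProdFinEquiv.symm p).2).mp (h _ (F.equivFin.symm _).2) _

omit [LocallyOfFiniteType G.hom] in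
/-- A vector fixed by the rational points of a reduced subgroup is fixed by the subgroup. -/
theorem mem_fixedUnder_of_pts [IsAlgClosed k] [GrpObj H] [IsAffine H.left] [LocallyOfFiniteType H.hom] [IsReduced H.left]
    (i : H ⟶ G) {M : Type u} [AddCommGroup M] [Module k M] (ρ : VecGrp.GMod G M) {a : M}
    (h : ∀ x : VecGrp.pt k k ⟶ H, ρ.ρ k (x ≫ i) ((1 : k) ⊗ₜ[k] a) = (1 : k) ⊗ₜ[k] a) :
    a ∈ ρ.fixedUnder i := by
  intro B _ _ q
  let b := Module.Free.chooseBasis k M
  refine (Algebra.TensorProduct.basis B b).repr.injective (Finsupp.ext fun l => ?_)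
  have key : ev i (matCoeff ρ a (b.coord l)) = algebraMap k (Fn H) (b.coord l a) := eq_of_pts fun x => by
    apply (Scheme.ΓSpecIso (CommRingCat.of k)).commRingCatIsoToRingEquiv.injective
    show pullFn x (ev i (matCoeff ρ a (b.coord l))) = pullFn x (algebraMap k (Fn H) (b.coord l a))
    rw [← pullFn_comp, pullFn_matCoeff, h, formB_tmul, AlgHom.commutes, smul_eq_mul, _root_.mul_one]
    rfl
  have h2 := congrArg (pullFn q) key
  rw [← pullFn_comp, pullFn_matCoeff, AlgHom.commutes] at h2
  have hform : ∀ z : B ⊗[k] M, (Algebra.TensorProduct.basis B b).repr z l = formB (b.coord l) B z := fun z => by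
    induction z using TensorProduct.induction_on with
    | zero => simp
    | tmul x y => simp [formB_tmul, Algebra.smul_def, _root_.mul_comm]
    | add x y hx hy => simp only [map_add, Finsupp.add_apply, hx, hy]
  rw [hform, hform, h2, formB_tmul, Algebra.smul_def, _root_.mul_one]

end Groth.Agent.AGFLib
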