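import Groth.Agent.AGFLib.Obs
import Groth.Prelude.Def_W4bk4grossh1223Act
import Mathlib.LinearAlgebra.Dual.Lemmas

/-! Matrix coefficients of a rational module of an affine group. -/

set_option backward.isDefEq.respectTransparency false
set_option backward.isDefEq.respectTransparency.types false
set_option linter.style.haveILetI false

universe u

open CategoryTheory MonoidalCategory CartesianMonoidalCategory MonObj AlgebraicGeometry TensorProduct

namespace Groth.Agent.AGFLib

open GrpSchLib GrpSchLib.Kunneth GrpSchLib.LineGroups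

variable {k : Type u} [Field k] {X : Over (Spec (CommRingCat.of k))} [IsAffine X.left]

theorem algebraMap_fn (X : Over (Spec (CommRingCat.of k))) [IsAffine X.left] :
    Spec.map (CommRingCat.ofHom (algebraMap k (Fn X))) = X.left.isoSpec.inv ≫ X.hom := by
  rw [Iso.eq_inv_comp]
  show X.left.toSpecΓ ≫ Spec.map (CommRingCat.ofHom (str X)) = X.hom
  rw [show CommRingCat.ofHom (str X) = (Scheme.ΓSpecIso (CommRingCat.of k)).inv ≫ X.hom.appTop from rfl,
    Spec.map_comp, ← Scheme.toSpecΓ_naturality_assoc, toSpecΓ_SpecMap_ΓSpecIso_inv, Category.comp_id]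

/-- The tautological point of an affine scheme with values in its functions. -/
noncomputable def univ (X : Over (Spec (CommRingCat.of k))) [IsAffine X.left] : VecGrp.pt k (Fn X) ⟶ X :=
  Over.homMk X.left.isoSpec.inv (algebraMap_fn X).symm

theorem pullFn_univ (f : Fn X) : pullFn (univ X) f = f := by
  have h : (univ X).left.appTop ≫ (Scheme.ΓSpecIso Γ(X.left, ⊤)).hom = 𝟙 _ := by
    show X.left.isoSpec.inv.appTop ≫ _ = _
    rw [← Scheme.toSpecΓ_appTop, ← Scheme.Hom.comp_appTop, Scheme.toSpecΓ_isoSpec_inv]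
    rfl
  exact ConcreteCategory.congr_hom h f

omit [IsAffine X.left] in
theorem pullFn_comp {Y : Over (Spec (CommRingCat.of k))} {B : Type u} [CommRing B] [Algebra k B]
    (q : VecGrp.pt k B ⟶ X) (m : X ⟶ Y) (f : Fn Y) : pullFn (q ≫ m) f = pullFn q (ev m f) := rfl

theorem pt_ext {B : Type u} [CommRing B] [Algebra k B] {q q' : VecGrp.pt k B ⟶ X} (h : pullFn q = pullFn q') :
    q = q' :=
  ext_ev (AlgHom.ext fun f => (Scheme.ΓSpecIso (CommRingCat.of B)).commRingCatIsoToRingEquiv.injective
    (DFunLike.congr_fun h f))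

/-- Every point comes from the tautological point. -/
theorem eq_ptMap_univ {B : Type u} [CommRing B] [Algebra k B] (q : VecGrp.pt k B ⟶ X) :
    q = VecGrp.ptMap (pullFn q) ≫ univ X :=
  pt_ext (AlgHom.ext fun f => by rw [pullFn_ptMap, pullFn_univ])

variable {M : Type u} [AddCommGroup M] [Module k M]

/-- A linear form on the values. -/
noncomputable def formB (l : M →ₗ[k] k) (B : Type u) [CommRing B] [Algebra k B] : B ⊗[k] M →ₗ[k] B :=
  (TensorProduct.rid k B).toLinearMap ∘ₗ l.lTensor B

theorem formB_tmul (l : M →ₗ[k] k) (B : Type u) [CommRing B] [Algebra k B] (b : B) (m : M) :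
    formB l B (b ⊗ₜ[k] m) = l m • b := by simp [formB]

theorem formB_Wmap (l : M →ₗ[k] k) {B B' : Type u} [CommRing B] [Algebra k B] [CommRing B'] [Algebra k B']
    (φ : B →ₐ[k] B') (x : B ⊗[k] M) : φ (formB l B x) = formB l B' (VecGrp.Wmap φ x) := by
  induction x using TensorProduct.induction_on with
  | zero => simp
  | tmul b m => rw [formB_tmul, map_smul, VecGrp.Wmap_tmul, formB_tmul]
  | add x y hx hy => simp only [map_add, hx, hy]

variable {G : Over (Spec (CommRingCat.of k))} [GrpObj G] [IsAffine G.left]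

/-- The matrix coefficient of a vector and a linear form. -/
noncomputable def matCoeff (ρ : VecGrp.GMod G M) (a : M) (l : M →ₗ[k] k) : Fn G :=
  formB l (Fn G) (ρ.ρ (Fn G) (univ G) ((1 : Fn G) ⊗ₜ[k] a))

theorem pullFn_matCoeff (ρ : VecGrp.GMod G M) (a : M) (l : M →ₗ[k] k) {B : Type u} [CommRing B] [Algebra k B]
    (q : VecGrp.pt k B ⟶ G) : pullFn q (matCoeff ρ a l) = formB l B (ρ.ρ B q ((1 : B) ⊗ₜ[k] a)) := by
  rw [matCoeff, formB_Wmap, ρ.naturality, ← eq_ptMap_univ, VecGrp.Wmap_tmul, map_one]

end Groth.Agent.AGFLib
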