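import Groth.Agent.AGFLib.Extend
import Mathlib.AlgebraicGeometry.Morphisms.OpenImmersion

/-! Observable subgroups: transitivity and open closed subgroups. -/

set_option backward.isDefEq.respectTransparency false
set_option backward.isDefEq.respectTransparency.types false
set_option linter.style.haveILetI false

universe u

open CategoryTheory MonoidalCategory CartesianMonoidalCategory MonObj AlgebraicGeometry TensorProduct

namespace Groth.Agent.AGFLib

open GrpSchLib GrpSchLib.Kunneth GrpSchLib.LineGroups GrpSchLib.LineVec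

variable {k : Type u} [Field k]

theorem algebraMap_fn_injective : Function.Injective (algebraMap k (Fn (VecGrp.pt k k))) := by
  intro a b h
  have := congrArg (spEquiv (k := k) k).symm h
  rwa [AlgEquiv.commutes, AlgEquiv.commutes] at this

/-- A character is multiplicative as a function. -/
theorem ev_gmFn_mul {H : Over (Spec (CommRingCat.of k))} [GrpObj H] (χ : H ⟶ Red.Gm (Spec (CommRingCat.of k)))
    [IsMonHom χ] {T : Over (Spec (CommRingCat.of k))} (g h : T ⟶ H) :
    ev (g * h) (Red.gmFn χ) = ev g (Red.gmFn χ) * ev h (Red.gmFn χ) := by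
  show (g * h).left.appTop (Red.gmFn χ) = g.left.appTop (Red.gmFn χ) * h.left.appTop (Red.gmFn χ)
  exact (GmPts.gmFn_comp (g * h) χ).symm.trans ((congrArg Red.gmFn (MonObj.mul_comp g h χ)).trans
    ((GmPts.gmFn_mul _ _).trans (congrArg₂ (· * ·) (GmPts.gmFn_comp g χ) (GmPts.gmFn_comp h χ))))

/-- An open and closed subgroup is observable. -/
theorem isObservableIn_of_isOpen [IsAlgClosed k] {G H : Over (Spec (CommRingCat.of k))} [GrpObj G] [GrpObj H]
    [IsAffine G.left] [Smooth G.hom] [IsAffine H.left] [Smooth H.hom] (i : H ⟶ G) [IsMonHom i]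
    [IsClosedImmersion i.left] [IsOpenImmersion i.left] : AGF.IsObservableIn k i := by
  haveI : IsReduced G.left := isReduced_of_smooth_field G.hom
  have hsurj : Function.Surjective (ev i) := surjective_ev i
  haveI : IsOpenImmersion (Spec.map i.left.appTop) := by
    rw [show Spec.map i.left.appTop = H.left.isoSpec.inv ≫ i.left ≫ G.left.isoSpec.hom by
      rw [← Scheme.isoSpec_hom_naturality, Iso.inv_hom_id_assoc]]
    infer_instance
  obtain ⟨e, he, hker⟩ := (isOpenImmersion_SpecMap_iff_of_surjective i.left.appTop hsurj).mp inferInstance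
  have hmem : ∀ f : Fn G, ev i f = 0 → f ∈ Ideal.span {e} := fun f hf => hker ▸ hf
  have hie : ev i e = 0 := (hker.symm ▸ Ideal.mem_span_singleton_self e : e ∈ RingHom.ker i.left.appTop.hom)
  have hfac : ∀ y : VecGrp.pt k k ⟶ G, val y e = 0 → ∃ h : VecGrp.pt k k ⟶ H, h ≫ i = y := by
    intro y hy
    have hle : RingHom.ker (ev i).toRingHom ≤ RingHom.ker (pullFn y).toRingHom := fun f hf => by
      obtain ⟨q, rfl⟩ := Ideal.mem_span_singleton'.mp (hmem f hf)
      show pullFn y (q * e) = 0
      rw [map_mul, show pullFn y e = 0 from hy, mul_zero]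
    let ψ : Fn H →ₐ[k] k := AlgHom.liftOfSurjective (ev i) hsurj (pullFn y) hle
    refine ⟨VecGrp.ptMap ψ ≫ univ H, pt_ext (AlgHom.ext fun f => ?_)⟩
    rw [pullFn_comp, pullFn_ptMap, pullFn_univ]
    exact DFunLike.congr_fun (AlgHom.liftOfSurjective_comp (ev i) hsurj (pullFn y) hle) f
  have hon : ∀ h : VecGrp.pt k k ⟶ H, val (h ≫ i) e = 0 := fun h => by rw [val, pullFn_comp, hie, map_zero]
  have hinv : AGF.IsRTransInv i (1 - e) := isRTransInv_of_pts i _ fun x => by
    refine eq_of_pts fun y => ?_
    rw [ev_rT, ← hom_pt_ext (𝟙 _), Category.id_comp, ev_eq_algebraMap, ev_eq_algebraMap]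
    congr 1
    have hb : ∀ z : VecGrp.pt k k ⟶ G, val z e = 0 ∨ val z e = 1 := fun z =>
      IsIdempotentElem.iff_eq_zero_or_one.mp (he.map (pullFn z))
    simp only [val, map_sub, map_one, sub_right_inj]
    rcases hb y with h0 | h1
    · obtain ⟨h, rfl⟩ := hfac y h0
      rw [← MonObj.mul_comp]
      exact (hon _).trans h0.symm
    · rcases hb (y * (x ≫ i)) with h0' | h1'
      · obtain ⟨h, hh⟩ := hfac _ h0'
        have : y = (h * x⁻¹) ≫ i := by
          rw [MonObj.mul_comp, hh, GrpObj.inv_comp, mul_inv_cancel_right]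
        exfalso
        rw [this, hon] at h1
        exact zero_ne_one h1
      · exact h1'.trans h1.symm
  intro g hg
  refine hfac g ?_
  have h1 := ev_eq_ev_one (hg _ hinv)
  have hone : val (1 : VecGrp.pt k k ⟶ G) e = 0 := (MonObj.one_comp i) ▸ hon 1
  rw [ev_eq_algebraMap, ev_eq_algebraMap] at h1
  have h2 := algebraMap_fn_injective h1
  simp only [val, map_sub, map_one] at h2 hone ⊢
  rw [hone, sub_zero, sub_eq_self] at h2
  exact h2

/-- The invariant functions see every vector fixed by the subgroup. -/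
theorem act_eq_of_inv [IsAlgClosed k] {G H : Over (Spec (CommRingCat.of k))} [GrpObj G] [GrpObj H]
    [IsAffine G.left] [Smooth G.hom] [IsAffine H.left] [Smooth H.hom] (i : H ⟶ G) [IsMonHom i]
    {V : Type u} [AddCommGroup V] [Module k V] (ρ : VecGrp.GMod G V) (v : V)
    (hv : ∀ x : VecGrp.pt k k ⟶ H, act ρ (x ≫ i) v = v) (g : VecGrp.pt k k ⟶ G)
    (hg : ∀ f : Γ(G.left, ⊤), AGF.IsRTransInv i f → AGF.IsRTransInv g f) : act ρ g v = v := by
  haveI : IsReduced G.left := isReduced_of_smooth_field G.hom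
  refine (Module.eval_apply_injective (K := k) (V := V)) (LinearMap.ext fun l => ?_)
  have hinv : AGF.IsRTransInv i (matCoeff ρ v l) := isRTransInv_of_pts i _ fun x => by
    rw [rT_matCoeff_act, hv]
  have h1 := ev_eq_ev_one (hg _ hinv)
  rw [ev_eq_algebraMap, ev_eq_algebraMap, val_matCoeff_act, val_matCoeff_act] at h1
  have h2 : act ρ (1 : VecGrp.pt k k ⟶ G) v = v := by
    rw [show (1 : VecGrp.pt k k ⟶ G) = (1 : VecGrp.pt k k ⟶ H) ≫ i from (MonObj.one_comp i).symm, hv]
  rw [h2] at h1
  exact algebraMap_fn_injective h1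

end Groth.Agent.AGFLib
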