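import Groth.Agent.AGFLib.ExtendCor
import Groth.Agent.S11195
import Mathlib.AlgebraicGeometry.AlgClosed.Basic

/-! Observability does not change along open subgroups. -/

set_option backward.isDefEq.respectTransparency false
set_option backward.isDefEq.respectTransparency.types false
set_option linter.style.haveILetI false

universe u

open CategoryTheory MonoidalCategory CartesianMonoidalCategory MonObj AlgebraicGeometry TensorProduct

namespace Groth.Agent.AGFLib

open GrpSchLib GrpSchLib.Kunneth GrpSchLib.LineGroups GrpSchLib.LineVec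

variable {k : Type u} [Field k] [IsAlgClosed k]

/-- Every closed point is a rational point. -/
theorem exists_pt_of_isClosed {Z : Over (Spec (CommRingCat.of k))} [LocallyOfFiniteType Z.hom] {z : Z.left}
    (hz : IsClosed {z}) : ∃ g : VecGrp.pt k k ⟶ Z, ∀ p, g.left p = z :=
  ⟨Over.homMk (pointOfClosedPoint Z.hom z hz) (by
      rw [pointOfClosedPoint_comp]
      show 𝟙 _ = Spec.map (CommRingCat.ofHom (RingHom.id k))
      simp),
    fun p => pointOfClosedPoint_apply Z.hom z hz p⟩

/-- An open set with every rational point is everything. -/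
theorem eq_univ_of_pts {Z : Over (Spec (CommRingCat.of k))} [LocallyOfFiniteType Z.hom] {U : Set Z.left}
    (hU : IsOpen U) (h : ∀ g : VecGrp.pt k k ⟶ Z, ∀ p, g.left p ∈ U) : U = Set.univ := by
  haveI : JacobsonSpace Z.left := LocallyOfFiniteType.jacobsonSpace Z.hom
  by_contra hne
  obtain ⟨z, hzU, hz⟩ := nonempty_inter_closedPoints (Set.nonempty_compl.mpr hne) hU.isClosed_compl.isLocallyClosed
  obtain ⟨g, hg⟩ := exists_pt_of_isClosed (mem_closedPoints_iff.mp hz)
  obtain ⟨p⟩ : Nonempty (Spec (CommRingCat.of k)) := inferInstance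
  exact hzU (hg p ▸ h g p)

omit [IsAlgClosed k] in
/-- A rational point in an open subscheme factors through it. -/
theorem exists_lift_pt {K H : Over (Spec (CommRingCat.of k))} (a : K ⟶ H) [IsOpenImmersion a.left]
    (g : VecGrp.pt k k ⟶ H) (p : (VecGrp.pt k k).left) (hp : g.left p ∈ Set.range a.left) :
    ∃ q : VecGrp.pt k k ⟶ K, q ≫ a = g := by
  haveI : Subsingleton ↥(VecGrp.pt k k).left := inferInstanceAs (Subsingleton (PrimeSpectrum k))
  have hr : Set.range g.left ⊆ Set.range a.left := by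
    rintro _ ⟨p', rfl⟩
    rwa [Subsingleton.elim p' p]
  refine ⟨Over.homMk (IsOpenImmersion.lift a.left g.left hr) ?_, Over.OverMorphism.ext (IsOpenImmersion.lift_fac _ _ _)⟩
  rw [← Over.w a, IsOpenImmersion.lift_fac_assoc, Over.w g]

variable {K H : Over (Spec (CommRingCat.of k))} [GrpObj K] [GrpObj H]

/-- The points moved into an open subgroup by a rational point. -/
noncomputable def coset (a : K ⟶ H) (x : VecGrp.pt k k ⟶ H) : Set H.left :=
  ((toPt H ≫ x⁻¹) * 𝟙 H).left ⁻¹' Set.range a.left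

omit [IsAlgClosed k] [GrpObj K] in
theorem isOpen_coset (a : K ⟶ H) [IsOpenImmersion a.left] (x : VecGrp.pt k k ⟶ H) : IsOpen (coset a x) :=
  a.left.isOpenEmbedding.isOpen_range.preimage ((toPt H ≫ x⁻¹) * 𝟙 H).left.continuous

omit [IsAlgClosed k] [GrpObj K] in
theorem mem_coset_iff (a : K ⟶ H) (x y : VecGrp.pt k k ⟶ H) (p : (VecGrp.pt k k).left) :
    y.left p ∈ coset a x ↔ (x⁻¹ * y).left p ∈ Set.range a.left := by
  have e : y ≫ ((toPt H ≫ x⁻¹) * 𝟙 H) = x⁻¹ * y := by
    rw [MonObj.comp_mul, Category.comp_id, ← Category.assoc, hom_pt_ext (y ≫ toPt H), ← hom_pt_ext (𝟙 _),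
      Category.id_comp]
  rw [← e]
  rfl

/-- An open subgroup has finitely many cosets. -/
theorem exists_reps (a : K ⟶ H) [IsMonHom a] [IsOpenImmersion a.left] [LocallyOfFiniteType H.hom] [QuasiCompact H.hom] :
    ∃ R : Finset (VecGrp.pt k k ⟶ H), ∀ y : VecGrp.pt k k ⟶ H, ∃ x ∈ R, ∃ q : VecGrp.pt k k ⟶ K, y = x * (q ≫ a) := by
  haveI : CompactSpace H.left := QuasiCompact.compactSpace_of_compactSpace H.hom
  have hcover : ⋃ x : VecGrp.pt k k ⟶ H, coset a x = Set.univ :=
    eq_univ_of_pts (isOpen_iUnion fun x => isOpen_coset a x) fun g p => Set.mem_iUnion.mpr ⟨g, by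
      rw [mem_coset_iff, inv_mul_cancel]
      refine ⟨(1 : VecGrp.pt k k ⟶ K).left p, ?_⟩
      rw [← MonObj.one_comp a]
      rfl⟩
  obtain ⟨R, hR⟩ := isCompact_univ.elim_finite_subcover _ (fun x => isOpen_coset a x) hcover.ge
  refine ⟨R, fun y => ?_⟩
  obtain ⟨p⟩ : Nonempty (VecGrp.pt k k).left := inferInstanceAs (Nonempty (PrimeSpectrum k))
  obtain ⟨x, hx, hmem⟩ := Set.mem_iUnion₂.mp (hR (Set.mem_univ (y.left p)))
  obtain ⟨q, hq⟩ := exists_lift_pt a _ p ((mem_coset_iff a x y p).mp hmem)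
  exact ⟨x, hx, q, by rw [hq, mul_inv_cancel_left]⟩

/-- An open subgroup is closed. -/
theorem isClosedImmersion_of_open (a : K ⟶ H) [IsMonHom a] [IsOpenImmersion a.left] [LocallyOfFiniteType H.hom] :
    IsClosedImmersion a.left := by
  haveI : JacobsonSpace H.left := LocallyOfFiniteType.jacobsonSpace H.hom
  let U : Set H.left := ⋃ x ∈ {x : VecGrp.pt k k ⟶ H | ∀ q : VecGrp.pt k k ⟶ K, q ≫ a ≠ x}, coset a x
  have hU : IsOpen U := isOpen_biUnion fun x _ => isOpen_coset a x
  have hr : IsOpen (Set.range a.left) := a.left.isOpenEmbedding.isOpen_range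
  have h1 : Set.range a.left ∪ U = Set.univ := eq_univ_of_pts (hr.union hU) fun g p => by
    by_cases h : ∃ q : VecGrp.pt k k ⟶ K, q ≫ a = g
    · obtain ⟨q, rfl⟩ := h
      exact Or.inl ⟨q.left p, rfl⟩
    · push Not at h
      refine Or.inr (Set.mem_iUnion₂.mpr ⟨g, h, ?_⟩)
      rw [mem_coset_iff, inv_mul_cancel]
      refine ⟨(1 : VecGrp.pt k k ⟶ K).left p, ?_⟩
      rw [← MonObj.one_comp a]
      rfl
  have h2 : Set.range a.left ∩ U = ∅ := by
    by_contra hne
    obtain ⟨z, hzmem, hz⟩ := nonempty_inter_closedPoints (Set.nonempty_iff_ne_empty.mpr hne)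
      (hr.inter hU).isLocallyClosed
    obtain ⟨g, hg⟩ := exists_pt_of_isClosed (mem_closedPoints_iff.mp hz)
    obtain ⟨p⟩ : Nonempty (VecGrp.pt k k).left := inferInstanceAs (Nonempty (PrimeSpectrum k))
    rw [← hg p] at hzmem
    obtain ⟨q, rfl⟩ := exists_lift_pt a g p hzmem.1
    obtain ⟨x, hx, hmem⟩ := Set.mem_iUnion₂.mp hzmem.2
    obtain ⟨q', hq'⟩ := exists_lift_pt a _ p ((mem_coset_iff a x _ p).mp hmem)
    exact hx (q * q'⁻¹) (by rw [MonObj.mul_comp, GrpObj.inv_comp, hq']; group)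
  refine IsClosedImmersion.of_isPreimmersion a.left ?_
  rw [← isOpen_compl_iff, show (Set.range a.left)ᶜ = U from
    (eq_compl_iff_isCompl.mpr ⟨(Set.disjoint_iff_inter_eq_empty.mpr h2).symm,
      codisjoint_iff.mpr (by rw [sup_comm]; exact h1)⟩).symm]
  exact hU

variable {G : Over (Spec (CommRingCat.of k))} [GrpObj G] [IsAffine G.left] [Smooth G.hom]

/-- An overgroup of finite index of an observable subgroup is observable. -/
theorem isObservableIn_of_open [Smooth K.hom] [Smooth H.hom] (i : H ⟶ G) [IsMonHom i] [IsClosedImmersion i.left]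
    (a : K ⟶ H) [IsMonHom a] [IsOpenImmersion a.left] (hobs : AGF.IsObservableIn k (a ≫ i)) :
    AGF.IsObservableIn k i := by
  classical
  haveI : IsAffine H.left := isAffine_of_isAffineHom i.left
  haveI : IsClosedImmersion a.left := isClosedImmersion_of_open a
  haveI : IsClosedImmersion (a ≫ i).left := inferInstanceAs (IsClosedImmersion (a.left ≫ i.left))
  haveI : IsReduced G.left := isReduced_of_smooth_field G.hom
  haveI : QuasiCompact H.hom := inferInstance
  obtain ⟨t, ht, hsep⟩ := ((S11188.result k G K (a ≫ i)).out 0 2).1 hobs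
  obtain ⟨R, hR⟩ := exists_reps a
  intro g hg
  by_contra hgH
  push Not at hgH
  have hsep' : ∀ x : VecGrp.pt k k ⟶ H, ∃ f ∈ t, val g f ≠ val (x ≫ i) f := fun x => by
    by_contra hall
    push Not at hall
    obtain ⟨q, hq⟩ := hsep (x ≫ i) g fun f hf => by
      show ev (x ≫ i) f = ev g f
      rw [ev_eq_algebraMap, ev_eq_algebraMap, hall f hf]
    exact hgH (x * (q ≫ a)) (by rw [hq, MonObj.mul_comp, Category.assoc])
  choose f hft hf using hsep'
  have hKinv : ∀ (c : Fn G), AGF.IsRTransInv (a ≫ i) c → ∀ q : VecGrp.pt k k ⟶ K, rT ((q ≫ a) ≫ i) c = c :=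
    fun c hc q => by rw [Category.assoc]; exact rT_of_isRTransInv hc q
  let F₀ : Fn G := ∏ x ∈ R, (f x - algebraMap k _ (val (x ≫ i) (f x)))
  have hF₀K : ∀ q : VecGrp.pt k k ⟶ K, rT ((q ≫ a) ≫ i) F₀ = F₀ := fun q => by
    rw [map_prod]
    exact Finset.prod_congr rfl fun x _ => by rw [map_sub, hKinv _ (ht _ (hft x)), AlgHom.commutes]
  have hg0 : val g F₀ ≠ 0 := by
    simp only [F₀, val, map_prod, Finset.prod_ne_zero_iff, map_sub, AlgHom.commutes, Algebra.algebraMap_self,
      RingHom.id_apply, sub_ne_zero]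
    exact fun x _ => hf x
  let F := (val g F₀)⁻¹ • F₀
  have hFK : ∀ q : VecGrp.pt k k ⟶ K, rT ((q ≫ a) ≫ i) F = F := fun q => by rw [map_smul, hF₀K]
  have hFH : ∀ x : VecGrp.pt k k ⟶ H, val (x ≫ i) F = 0 := fun x => by
    obtain ⟨x₀, hx₀, q, rfl⟩ := hR x
    have h1 : val ((x₀ * (q ≫ a)) ≫ i) F = val (x₀ ≫ i) F := by
      refine algebraMap_fn_injective ?_
      rw [← ev_eq_algebraMap, ← ev_eq_algebraMap, MonObj.mul_comp]
      conv_rhs => rw [← hFK q, ev_rT, ← hom_pt_ext (𝟙 _), Category.id_comp]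
    rw [h1]
    simp only [F, F₀, val, map_smul, map_prod, map_sub, AlgHom.commutes, Algebra.algebraMap_self, RingHom.id_apply,
      smul_eq_mul]
    exact mul_eq_zero_of_right _ (Finset.prod_eq_zero hx₀ (sub_self _))
  let O : Finset (Fn G) := R.image fun x => rT (x ≫ i) F
  have hO : ∀ y : VecGrp.pt k k ⟶ H, rT (y ≫ i) F ∈ O := fun y => by
    obtain ⟨x, hx, q, rfl⟩ := hR y
    rw [MonObj.mul_comp, ← rT_mul, hFK]
    exact Finset.mem_image_of_mem _ hx
  let Q : Fn G := ∏ c ∈ O, (1 - c)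
  have hQ : AGF.IsRTransInv i Q := isRTransInv_of_pts i _ fun y => by
    have hinj : Function.Injective (rT (y ≫ i)) := fun c c' h => by
      have h' := congrArg (rT ((y ≫ i)⁻¹)) h
      have h1 : ∀ d : Fn G, rT (1 : VecGrp.pt k k ⟶ G) d = d := fun d => by
        rw [rT, MonObj.comp_one, _root_.mul_one, ev_id]
      rwa [rT_mul, rT_mul, inv_mul_cancel, h1, h1] at h'
    have himg : O.image (rT (y ≫ i)) = O := by
      refine Finset.eq_of_subset_of_card_le (fun c hc => ?_) (le_of_eq (Finset.card_image_of_injective _ hinj).symm)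
      obtain ⟨d, hd, rfl⟩ := Finset.mem_image.mp hc
      obtain ⟨x, -, rfl⟩ := Finset.mem_image.mp hd
      rw [rT_mul, ← MonObj.mul_comp]
      exact hO _
    conv_rhs => rw [show Q = ∏ c ∈ O, (1 - c) from rfl, ← himg, Finset.prod_image fun c _ c' _ h => hinj h]
    simp only [Q, map_prod, map_sub, map_one]
  have h1 := algebraMap_fn_injective (by
    rw [← ev_eq_algebraMap, ← ev_eq_algebraMap]; exact ev_eq_ev_one (hg _ hQ) :
    algebraMap k (Fn (VecGrp.pt k k)) (val g Q) = algebraMap k _ (val (1 : VecGrp.pt k k ⟶ G) Q))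
  have hQg : val g Q = 0 := by
    simp only [Q, val, map_prod, map_sub, map_one]
    refine Finset.prod_eq_zero (hO 1) (sub_eq_zero.mpr ?_)
    rw [show rT ((1 : VecGrp.pt k k ⟶ H) ≫ i) F = F by
      rw [MonObj.one_comp, rT, MonObj.comp_one, _root_.mul_one, ev_id]]
    rw [map_smul, smul_eq_mul, show pullFn g F₀ = val g F₀ from rfl, inv_mul_cancel₀ hg0]
  have hQ1 : val (1 : VecGrp.pt k k ⟶ G) Q = 1 := by
    simp only [Q, val, map_prod, map_sub, map_one]
    refine Finset.prod_eq_one fun c hc => ?_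
    obtain ⟨x, -, rfl⟩ := Finset.mem_image.mp hc
    rw [sub_eq_self]
    refine algebraMap_fn_injective ?_
    show algebraMap k _ (val (1 : VecGrp.pt k k ⟶ G) (rT (x ≫ i) F)) = _
    rw [← ev_eq_algebraMap, ev_rT, ← hom_pt_ext (𝟙 _), Category.id_comp, _root_.one_mul, ev_eq_algebraMap, hFH]
  exact one_ne_zero (hQ1.symm.trans (h1.symm.trans hQg))

/-- Observability of a subgroup of an open subgroup. -/
theorem isObservableIn_iff_comp [IsAffine H.left] [Smooth H.hom] [Smooth K.hom] (j : H ⟶ G) [IsMonHom j]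
    [IsOpenImmersion j.left] (b : K ⟶ H) [IsMonHom b] [IsClosedImmersion b.left] :
    AGF.IsObservableIn k b ↔ AGF.IsObservableIn k (b ≫ j) := by
  haveI : IsClosedImmersion j.left := isClosedImmersion_of_open j
  haveI : IsAffine K.left := isAffine_of_isAffineHom b.left
  constructor
  · intro h
    exact S11195.result k G H j K b h (isObservableIn_of_isOpen j)
  · intro h g hg
    haveI : IsClosedImmersion (b ≫ j).left := inferInstanceAs (IsClosedImmersion (b.left ≫ j.left))
    obtain ⟨V, _, _, _, ρ, v, hv⟩ := ((S11188.result k G K (b ≫ j)).out 0 1).1 h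
    let σ : VecGrp.GMod H V :=
      { ρ := fun B _ _ => (ρ.ρ B).comp
          { toFun := fun h => h ≫ j, map_one' := MonObj.one_comp j, map_mul' := fun h h' => MonObj.mul_comp h h' j }
        naturality := fun φ h x => by
          show VecGrp.Wmap φ (ρ.ρ _ (h ≫ j) x) = ρ.ρ _ ((VecGrp.ptMap φ ≫ h) ≫ j) (VecGrp.Wmap φ x)
          rw [Category.assoc]
          exact ρ.naturality φ (h ≫ j) x }
    have h1 : act σ g v = v := act_eq_of_inv b σ v (fun x => by
      show TensorProduct.lid k V (ρ.ρ k ((x ≫ b) ≫ j) ((1 : k) ⊗ₜ[k] v)) = v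
      rw [Category.assoc, (hv _).mpr ⟨x, rfl⟩, TensorProduct.lid_tmul, one_smul]) g hg
    obtain ⟨x, hx⟩ := (hv (g ≫ j)).mp (by
      rw [act_spec]
      exact congrArg _ h1)
    haveI : Mono j := Over.mono_of_mono_left _
    exact ⟨x, (cancel_mono j).mp (by rw [Category.assoc]; exact hx)⟩

/-- Observability is read on open subgroups. -/
theorem isObservableIn_iff_open [Smooth K.hom] [Smooth H.hom] (i : H ⟶ G) [IsMonHom i] [IsClosedImmersion i.left]
    (a : K ⟶ H) [IsMonHom a] [IsOpenImmersion a.left] :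
    AGF.IsObservableIn k i ↔ AGF.IsObservableIn k (a ≫ i) := by
  haveI : IsAffine H.left := isAffine_of_isAffineHom i.left
  haveI : IsClosedImmersion a.left := isClosedImmersion_of_open a
  haveI : IsAffine K.left := isAffine_of_isAffineHom a.left
  exact ⟨fun h => S11195.result k G H i K a (isObservableIn_of_isOpen a) h, isObservableIn_of_open i a⟩

end Groth.Agent.AGFLib
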