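import Groth.Agent.GrpSchLib.GeomIrr
import Groth.Agent.GrpSchLib.AntiAffineHom
import Groth.Agent.GrpSchLib.Homogeneous
import Groth.Agent.GrpSchLib.FieldReduced
import Groth.Agent.GrpSchLib.MonoSubgroup
import Groth.Agent.GrpSchLib.PerfectSmooth
import Groth.Agent.GrpSchLib.FieldTop
import Groth.Agent.H23.RedSub
import Groth.Agent.VarDim.Fibre

/-! The subgroup generated by an irreducible family of elements (Chevalley). -/

set_option backward.isDefEq.respectTransparency false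
set_option backward.isDefEq.respectTransparency.types false

universe u

open CategoryTheory Limits AlgebraicGeometry MonoidalCategory CartesianMonoidalCategory MonObj GrpObj
open TopologicalSpace

namespace Groth.Agent.AGFLib.Gen

variable {k : Type u} [Field k]

local notation "PT" => 𝟙_ (Over (Spec (CommRingCat.of k)))

/-- The point of the underlying space of a rational point. -/
noncomputable abbrev cp {Z : Over (Spec (CommRingCat.of k))} (g : PT ⟶ Z) : Z.left := g.left (IsLocalRing.closedPoint k)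

theorem cp_comp {Z Z' : Over (Spec (CommRingCat.of k))} (g : PT ⟶ Z) (f : Z ⟶ Z') : cp (g ≫ f) = f.left (cp g) := rfl

variable [IsAlgClosed k]

theorem exists_cp {Z : Over (Spec (CommRingCat.of k))} [LocallyOfFiniteType Z.hom] {z : Z.left} (hz : IsClosed {z}) :
    ∃ g : PT ⟶ Z, cp g = z :=
  ⟨Over.homMk (pointOfClosedPoint Z.hom z hz) (pointOfClosedPoint_comp Z.hom z hz),
    pointOfClosedPoint_apply Z.hom z hz _⟩

omit [IsAlgClosed k] in
theorem isClosed_cp {Z : Over (Spec (CommRingCat.of k))} [LocallyOfFiniteType Z.hom] [IsSeparated Z.hom] (g : PT ⟶ Z) :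
    IsClosed ({cp g} : Set Z.left) := by
  haveI : IsClosedImmersion g.left := by
    haveI : IsClosedImmersion (g.left ≫ Z.hom) := by
      rw [Over.w g]; exact inferInstanceAs (IsClosedImmersion (𝟙 _))
    exact IsClosedImmersion.of_comp g.left Z.hom
  have h1 := g.left.isClosedEmbedding.isClosedMap _ (isClosed_discrete (α := ↥(Spec (CommRingCat.of k))) {IsLocalRing.closedPoint k})
  exact (Set.image_singleton (f := g.left)) ▸ h1

theorem cp_injective {Z : Over (Spec (CommRingCat.of k))} [LocallyOfFiniteType Z.hom] {g h : PT ⟶ Z} (e : cp g = cp h) :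
    g = h :=
  Over.OverMorphism.ext (ext_of_apply_closedPoint_eq Z.hom (Over.w g) (Over.w h) e)

/-- A closed set containing all rational points is everything. -/
theorem eq_univ_of_forall_cp {Z : Over (Spec (CommRingCat.of k))} [LocallyOfFiniteType Z.hom] {A : Set Z.left}
    (hA : IsClosed A) (h : ∀ g : PT ⟶ Z, cp g ∈ A) : A = Set.univ := by
  haveI : JacobsonSpace Z.left := LocallyOfFiniteType.jacobsonSpace Z.hom
  refine Set.eq_univ_iff_forall.mpr fun z => hA.closure_subset_iff.mpr (?_ : closedPoints Z.left ⊆ A) ?_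
  · intro x hx
    obtain ⟨g, rfl⟩ := exists_cp hx
    exact h g
  · rw [closure_closedPoints]; trivial

/-- A closed point of an image comes from a rational point. -/
theorem exists_of_mem_range {W Z : Over (Spec (CommRingCat.of k))} [LocallyOfFiniteType W.hom] [LocallyOfFiniteType Z.hom]
    [IsSeparated Z.hom] (f : W ⟶ Z) (g : PT ⟶ Z) (h : cp g ∈ Set.range f.left) : ∃ w : PT ⟶ W, w ≫ f = g := by
  haveI : JacobsonSpace W.left := LocallyOfFiniteType.jacobsonSpace W.hom
  obtain ⟨x, hx⟩ := h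
  obtain ⟨y, hy1, hy2⟩ := nonempty_inter_closedPoints (Z := f.left ⁻¹' {cp g}) ⟨x, hx⟩
    ((isClosed_cp g).preimage f.left.continuous).isLocallyClosed
  obtain ⟨w, rfl⟩ := exists_cp hy2
  exact ⟨w, cp_injective hy1⟩

variable {G : Over (Spec (CommRingCat.of k))} [GrpObj G] {W : Over (Spec (CommRingCat.of k))} (φ : W ⟶ G)

/-- Iterated products of a family. -/
noncomputable def Wn (W : Over (Spec (CommRingCat.of k))) : ℕ → Over (Spec (CommRingCat.of k))
  | 0 => PT
  | n + 1 => W ⊗ Wn W n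

/-- Iterated products of a family. -/
noncomputable def fn : ∀ n, Wn W n ⟶ G
  | 0 => η[G]
  | n + 1 => (fst W (Wn W n) ≫ φ) * (snd W (Wn W n) ≫ fn n)

/-- Products of `n` members. -/
def Pts (n : ℕ) : Set (PT ⟶ G) := {g | ∃ w : PT ⟶ Wn W n, w ≫ fn φ n = g}

theorem pts_zero : Pts φ 0 = {(1 : PT ⟶ G)} := by
  ext g
  constructor
  · rintro ⟨w, rfl⟩
    show w ≫ η[G] = (1 : PT ⟶ G)
    rw [show η[G] = (1 : PT ⟶ G) from (MonObj.one_eq_one (M := G)), MonObj.comp_one]
  · rintro rfl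
    exact ⟨𝟙 _, (Category.id_comp _).trans (MonObj.one_eq_one (M := G))⟩

theorem mem_pts_succ {n : ℕ} {g : PT ⟶ G} :
    g ∈ Pts φ (n + 1) ↔ ∃ (w : PT ⟶ W) (h : PT ⟶ G), h ∈ Pts φ n ∧ (w ≫ φ) * h = g := by
  constructor
  · rintro ⟨w, rfl⟩
    refine ⟨(w : PT ⟶ W ⊗ Wn W n) ≫ fst W (Wn W n), _, ⟨(w : PT ⟶ W ⊗ Wn W n) ≫ snd W (Wn W n), rfl⟩, ?_⟩
    show _ = (w : PT ⟶ W ⊗ Wn W n) ≫ ((fst W (Wn W n) ≫ φ) * (snd W (Wn W n) ≫ fn φ n))
    rw [MonObj.comp_mul, Category.assoc, Category.assoc]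
  · rintro ⟨w, h, ⟨v, rfl⟩, rfl⟩
    refine ⟨lift w v, ?_⟩
    show lift w v ≫ ((fst W (Wn W n) ≫ φ) * (snd W (Wn W n) ≫ fn φ n)) = _
    rw [MonObj.comp_mul, lift_fst_assoc, lift_snd_assoc]

theorem pts_mul {a b : ℕ} {g h : PT ⟶ G} (hg : g ∈ Pts φ a) (hh : h ∈ Pts φ b) : g * h ∈ Pts φ (a + b) := by
  induction a generalizing g with
  | zero =>
    rw [pts_zero] at hg
    rw [show g = 1 from hg, _root_.one_mul, zero_add]; exact hh
  | succ a ih =>
    obtain ⟨w, g', hg', rfl⟩ := (mem_pts_succ φ).mp hg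
    rw [Nat.add_right_comm, _root_.mul_assoc]
    exact (mem_pts_succ φ).mpr ⟨w, _, ih hg', rfl⟩

theorem mem_pts_one (w : PT ⟶ W) : w ≫ φ ∈ Pts φ 1 :=
  (mem_pts_succ φ).mpr ⟨w, 1, by rw [pts_zero]; rfl, _root_.mul_one _⟩

theorem pts_inv (hinv : ∀ w : PT ⟶ W, ∃ w' : PT ⟶ W, w' ≫ φ = (w ≫ φ)⁻¹) {a : ℕ} {g : PT ⟶ G}
    (hg : g ∈ Pts φ a) : g⁻¹ ∈ Pts φ a := by
  induction a generalizing g with
  | zero =>
    rw [pts_zero] at hg ⊢
    rw [show g = 1 from hg, _root_.inv_one]; rfl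
  | succ a ih =>
    obtain ⟨w, g', hg', rfl⟩ := (mem_pts_succ φ).mp hg
    obtain ⟨w', hw'⟩ := hinv w
    rw [_root_.mul_inv_rev, ← hw']
    exact pts_mul φ (ih hg') (mem_pts_one φ w')

variable [LocallyOfFiniteType W.hom] [QuasiCompact W.hom] [IrreducibleSpace W.left]

theorem wn_props : ∀ n, LocallyOfFiniteType (Wn W n).hom ∧ QuasiCompact (Wn W n).hom ∧ IrreducibleSpace (Wn W n).left
  | 0 => ⟨inferInstanceAs (LocallyOfFiniteType (𝟙 _)), inferInstanceAs (QuasiCompact (𝟙 _)),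
      inferInstanceAs (IrreducibleSpace (Spec (CommRingCat.of k)))⟩
  | n + 1 => by
    obtain ⟨_, _, _⟩ := wn_props n
    haveI := GrpSchLib.geometricallyIrreducible_of_isAlgClosed W.hom
    exact ⟨inferInstanceAs (LocallyOfFiniteType (pullback.fst W.hom (Wn W n).hom ≫ W.hom)),
      inferInstanceAs (QuasiCompact (pullback.fst W.hom (Wn W n).hom ≫ W.hom)),
      inferInstanceAs (IrreducibleSpace ↥(pullback W.hom (Wn W n).hom))⟩

/-- The subgroup generated by an irreducible symmetric family through the unit is closed and connected. -/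
theorem exists_generated [LocallyOfFiniteType G.hom] [QuasiCompact G.hom]
    (hone : ∃ w : PT ⟶ W, w ≫ φ = 1)
    (hinv : ∀ w : PT ⟶ W, ∃ w' : PT ⟶ W, w' ≫ φ = (w ≫ φ)⁻¹) :
    ∃ (D : Over (Spec (CommRingCat.of k))) (_ : GrpObj D) (i : D ⟶ G), IsMonHom i ∧ IsClosedImmersion i.left ∧
      Smooth D.hom ∧ IsReduced D.left ∧ IrreducibleSpace D.left ∧ QuasiCompact D.hom ∧
      Set.range (fun d : PT ⟶ D => d ≫ i) = (Subgroup.closure (Set.range fun w : PT ⟶ W => w ≫ φ) : Set (PT ⟶ G)) := by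
  classical
  haveI := GrpSchLib.AntiAffine.isSeparated_grp G
  haveI : IsLocallyNoetherian G.left := LocallyOfFiniteType.isLocallyNoetherian G.hom
  haveI : CompactSpace G.left := (quasiCompact_iff_compactSpace G.hom).mp inferInstance
  haveI : JacobsonSpace G.left := LocallyOfFiniteType.jacobsonSpace G.hom
  haveI : ∀ n, LocallyOfFiniteType (Wn W n).hom := fun n => (wn_props n).1
  haveI : ∀ n, QuasiCompact (Wn W n).hom := fun n => (wn_props n).2.1
  haveI : ∀ n, IrreducibleSpace (Wn W n).left := fun n => (wn_props n).2.2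
  haveI : ∀ n, LocallyOfFiniteType (fn φ n).left := fun n => by
    have : LocallyOfFiniteType ((fn φ n).left ≫ G.hom) := by rw [Over.w (fn φ n)]; infer_instance
    exact locallyOfFiniteType_of_comp (fn φ n).left G.hom
  haveI : ∀ n, QuasiCompact (fn φ n).left := fun n => by
    have : QuasiCompact ((fn φ n).left ≫ G.hom) := by rw [Over.w (fn φ n)]; infer_instance
    exact QuasiCompact.of_comp (fn φ n).left G.hom
  let S : ℕ → Set G.left := fun n => closure (Set.range (fn φ n).left)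
  have hirr : ∀ n, IsIrreducible (S n) := fun n => by
    refine IsIrreducible.closure ?_
    rw [← Set.image_univ]
    exact (IrreducibleSpace.isIrreducible_univ _).image _ (fn φ n).left.continuous.continuousOn
  have hmono : Monotone S := monotone_nat_of_le_succ fun n => closure_mono (by
    rintro _ ⟨x, rfl⟩
    obtain ⟨w₀, hw₀⟩ := hone
    let j : Wn W n ⟶ Wn W (n + 1) := lift (toUnit (Wn W n) ≫ w₀) (𝟙 _)
    have e : j ≫ fn φ (n + 1) = fn φ n := by
      show lift (toUnit (Wn W n) ≫ w₀) (𝟙 _) ≫ ((fst W (Wn W n) ≫ φ) * (snd W (Wn W n) ≫ fn φ n)) = _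
      rw [MonObj.comp_mul, lift_fst_assoc, lift_snd_assoc, Category.assoc, hw₀, MonObj.comp_one, Category.id_comp,
        _root_.one_mul]
    exact ⟨j.left x, congrArg (fun f : Wn W n ⟶ G => f.left x) e⟩)
  -- the chain stabilises
  obtain ⟨n, hn⟩ : ∃ n, ∀ m, S m ⊆ S n := by
    haveI : Nonempty G.left := ⟨cp η[G]⟩
    obtain ⟨η₀, -, hmax, -⟩ := VarDim.exists_deg_eq_topologicalKrullDim (p := G.hom)
    let e : ℕ → G.left := fun m => (hirr m).genericPoint
    have he : ∀ m, closure {e m} = S m := fun m =>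
      ((hirr m).isGenericPoint_genericPoint isClosed_closure).def
    have hfin : (Set.range fun m => VarDim.deg G.hom (e m)).Finite :=
      (Set.finite_Iic (VarDim.deg G.hom η₀)).subset (by rintro _ ⟨m, rfl⟩; exact hmax _)
    obtain ⟨_, ⟨n, rfl⟩, hnmax⟩ := hfin.exists_maximal ⟨_, 0, rfl⟩
    refine ⟨n, fun m => ?_⟩
    rcases le_total m n with h | h
    · exact hmono h
    · have hsp : e m ⤳ e n := specializes_iff_mem_closure.mpr (by
        rw [he m]; exact hmono h (he n ▸ subset_closure rfl))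
      by_contra hne
      have hlt : e n < e m := lt_iff_le_not_ge.2 ⟨hsp, fun h' => hne (by
        rw [← he m, ← he n]
        exact closure_minimal (Set.singleton_subset_iff.mpr (specializes_iff_mem_closure.mp h')) isClosed_closure)⟩
      have h3 := VarDim.deg_strictMono G.hom hlt
      exact absurd (hnmax ⟨m, rfl⟩ h3.le) (not_le.mpr h3)
  let Z : Set G.left := S n
  have hZc : IsClosed Z := isClosed_closure
  have hptsZ : ∀ {a g}, g ∈ Pts φ a → cp g ∈ Z := by
    rintro a g ⟨w, rfl⟩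
    exact hn a (subset_closure ⟨_, rfl⟩)
  -- closed sets containing the products contain `Z`
  have hclosed : ∀ A : Set G.left, IsClosed A → (∀ g ∈ Pts φ n, cp g ∈ A) → Z ⊆ A := fun A hA h => by
    refine closure_minimal ?_ hA
    rintro _ ⟨x, rfl⟩
    have := eq_univ_of_forall_cp (hA.preimage (fn φ n).left.continuous) (fun w => h _ ⟨w, rfl⟩)
    exact this.ge (Set.mem_univ x)
  let Zp : Set (PT ⟶ G) := {g | cp g ∈ Z}
  have hZinv : ∀ g ∈ Zp, g⁻¹ ∈ Zp := fun g hg => by
    have e : ∀ x : PT ⟶ G, x ≫ (𝟙 G)⁻¹ = x⁻¹ := fun x => by rw [GrpObj.comp_inv, Category.comp_id]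
    have := hclosed _ (hZc.preimage ((𝟙 G)⁻¹ : G ⟶ G).left.continuous) (fun x hx => by
      show ((𝟙 G)⁻¹ : G ⟶ G).left (cp x) ∈ Z
      rw [← cp_comp, e]
      exact hptsZ (pts_inv φ hinv hx)) hg
    rwa [Set.mem_preimage, ← cp_comp, e] at this
  have hright : ∀ {a y}, y ∈ Pts φ a → ∀ g ∈ Zp, g * y ∈ Zp := fun {a y} hy g hg => by
    have e : ∀ x : PT ⟶ G, x ≫ (𝟙 G * (toUnit G ≫ y)) = x * y := fun x => by
      rw [MonObj.comp_mul, Category.comp_id, ← Category.assoc, toUnit_unique (x ≫ toUnit G) (𝟙 _), Category.id_comp]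
    have := hclosed _ (hZc.preimage (𝟙 G * (toUnit G ≫ y)).left.continuous) (fun x hx => by
      show (𝟙 G * (toUnit G ≫ y)).left (cp x) ∈ Z
      rw [← cp_comp, e]
      exact hptsZ (pts_mul φ hx hy)) hg
    rwa [Set.mem_preimage, ← cp_comp, e] at this
  have hZmul : ∀ g ∈ Zp, ∀ y ∈ Zp, g * y ∈ Zp := fun g hg y hy => by
    have e : ∀ x : PT ⟶ G, x ≫ ((toUnit G ≫ g) * 𝟙 G) = g * x := fun x => by
      rw [MonObj.comp_mul, Category.comp_id, ← Category.assoc, toUnit_unique (x ≫ toUnit G) (𝟙 _), Category.id_comp]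
    have := hclosed _ (hZc.preimage ((toUnit G ≫ g) * 𝟙 G).left.continuous) (fun x hx => by
      show ((toUnit G ≫ g) * 𝟙 G).left (cp x) ∈ Z
      rw [← cp_comp, e]
      exact hright hx g hg) hy
    rwa [Set.mem_preimage, ← cp_comp, e] at this
  -- every point of `Z` is a product
  obtain ⟨U, hUo, ⟨x₁, hx₁⟩, hUsub⟩ :=
    GrpSchLib.exists_isOpen_inter_closure_range_subset (fn φ n).left
  have hkey : ∀ g ∈ Zp, g ∈ Pts φ (n + n) := fun g hg => by
    let h : G ⟶ G := (toUnit G ≫ g) * (𝟙 G)⁻¹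
    have eh : ∀ x : PT ⟶ G, x ≫ h = g * x⁻¹ := fun x => by
      simp only [h, MonObj.comp_mul, GrpObj.comp_inv, Category.comp_id]
      rw [← Category.assoc, toUnit_unique (x ≫ toUnit G) (𝟙 _), Category.id_comp]
    obtain ⟨c, hc1, hc2⟩ := nonempty_inter_closedPoints (Z := U ∩ Z) ⟨x₁, hx₁⟩
      (hUo.isLocallyClosed.inter hZc.isLocallyClosed)
    obtain ⟨x₀, rfl⟩ := exists_cp hc2
    have hy₀ : cp (x₀⁻¹ * g) ∈ (h.left ⁻¹' U) ∩ Z := by
      refine ⟨?_, hZmul _ (hZinv _ hc1.2) _ hg⟩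
      show h.left (cp (x₀⁻¹ * g)) ∈ U
      rw [← cp_comp, eh, _root_.mul_inv_rev, _root_.inv_inv, mul_inv_cancel_left]
      exact hc1.1
    obtain ⟨z, hzZ, hzU, hzh⟩ := (hirr n).2 U (h.left ⁻¹' U) hUo (hUo.preimage h.left.continuous)
      ⟨x₁, hx₁.2, hx₁.1⟩ ⟨_, hy₀.2, hy₀.1⟩
    obtain ⟨d, ⟨hdU, hdh, hdZ⟩, hd⟩ := nonempty_inter_closedPoints (Z := U ∩ ((h.left ⁻¹' U) ∩ Z)) ⟨z, hzU, hzh, hzZ⟩
      (hUo.isLocallyClosed.inter ((hUo.preimage h.left.continuous).isLocallyClosed.inter hZc.isLocallyClosed))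
    obtain ⟨y, rfl⟩ := exists_cp hd
    obtain ⟨w₁, hw₁⟩ := exists_of_mem_range (fn φ n) y (hUsub ⟨hdU, hdZ⟩)
    have hgy : cp (g * y⁻¹) ∈ U ∩ Z := by
      refine ⟨?_, hZmul _ hg _ (hZinv _ hdZ)⟩
      rw [← eh, cp_comp]; exact hdh
    obtain ⟨w₂, hw₂⟩ := exists_of_mem_range (fn φ n) _ (hUsub hgy)
    have := pts_mul φ ⟨w₂, hw₂⟩ ⟨w₁, hw₁⟩
    rwa [inv_mul_cancel_right] at this
  have hgroup : ((Subgroup.closure (Set.range fun w : PT ⟶ W => w ≫ φ)) : Set (PT ⟶ G)) = Zp := by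
    apply le_antisymm
    · let H : Subgroup (PT ⟶ G) :=
        { carrier := Zp
          one_mem' := hptsZ (a := 0) (by rw [pts_zero]; rfl)
          mul_mem' := fun hx hy => hZmul _ hx _ hy
          inv_mem' := fun hx => hZinv _ hx }
      exact (Subgroup.closure_le H).mpr (by rintro _ ⟨w, rfl⟩; exact hptsZ (mem_pts_one φ w))
    · intro g hg
      have : ∀ a, ∀ x ∈ Pts φ a, x ∈ Subgroup.closure (Set.range fun w : PT ⟶ W => w ≫ φ) := by
        intro a
        induction a with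
        | zero => intro x hx; rw [pts_zero] at hx; rw [show x = 1 from hx]; exact one_mem _
        | succ a ih =>
          intro x hx
          obtain ⟨w, x', hx', rfl⟩ := (mem_pts_succ φ).mp hx
          exact mul_mem (Subgroup.subset_closure ⟨w, rfl⟩) (ih _ hx')
      exact this _ _ (hkey g hg)
  -- the reduced closed subscheme
  let C : Closeds G.left := ⟨Z, hZc⟩
  let I := Scheme.IdealSheafData.vanishingIdeal C
  let D : Over (Spec (CommRingCat.of k)) := Over.mk (I.subschemeι ≫ G.hom)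
  let i : D ⟶ G := Over.homMk I.subschemeι rfl
  haveI : IsClosedImmersion i.left := inferInstanceAs (IsClosedImmersion I.subschemeι)
  haveI : IsReduced D.left := H23.RedSub.isReduced_vanishingIdeal C
  haveI : LocallyOfFiniteType D.hom := inferInstanceAs (LocallyOfFiniteType (I.subschemeι ≫ G.hom))
  haveI : QuasiCompact D.hom := inferInstanceAs (QuasiCompact (I.subschemeι ≫ G.hom))
  have hrange : Set.range i.left = Z := H23.RedSub.range_vanishingIdeal C
  haveI : Mono i.left := inferInstance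
  haveI : Mono i := (Over.forget _).mono_of_mono_map (inferInstanceAs (Mono i.left))
  haveI : IsReduced (D ⊗ D).left := GrpSchLib.isReduced_pullback_of_perfectField D.hom D.hom
  haveI : IsReduced (PT).left := inferInstanceAs (IsReduced (Spec (CommRingCat.of k)))
  haveI : LocallyOfFiniteType (D ⊗ D).hom := inferInstanceAs (LocallyOfFiniteType (pullback.fst D.hom D.hom ≫ D.hom))
  haveI : LocallyOfFiniteType (PT).hom := inferInstanceAs (LocallyOfFiniteType (𝟙 _))
  have hl : ∀ (T : Over (Spec (CommRingCat.of k))) [IsReduced T.left] [LocallyOfFiniteType T.hom] (f : T ⟶ G),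
      (∀ t : PT ⟶ T, t ≫ f ∈ Zp) → ∃ g : T ⟶ D, g ≫ i = f := by
    intro T _ _ f hf
    obtain ⟨g, hg⟩ := H23.RedSub.exists_lift_closed f.left i.left (by
      rw [hrange]
      rintro _ ⟨x, rfl⟩
      exact (eq_univ_of_forall_cp (hZc.preimage f.left.continuous) hf).ge (Set.mem_univ x))
    exact ⟨Over.homMk g (by rw [← Over.w i, reassoc_of% hg, Over.w f]), Over.OverMorphism.ext hg⟩
  have hiZ : ∀ d : PT ⟶ D, d ≫ i ∈ Zp := fun d => hrange.le ⟨_, rfl⟩
  obtain ⟨e, he⟩ := hl PT η[G] (fun t => by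
    show cp (t ≫ η[G]) ∈ Z
    rw [toUnit_unique t (𝟙 _), Category.id_comp]
    exact hptsZ (a := 0) ⟨𝟙 _, Category.id_comp _⟩)
  obtain ⟨m, hm⟩ := hl (D ⊗ D) ((fst D D ≫ i) * (snd D D ≫ i)) (fun t => by
    rw [MonObj.comp_mul, ← Category.assoc, ← Category.assoc]
    exact hZmul _ (hiZ _) _ (hiZ _))
  obtain ⟨v, hv⟩ := hl D i⁻¹ (fun t => by
    rw [GrpObj.comp_inv]; exact hZinv _ (hiZ t))
  obtain ⟨str, hi⟩ := GrpSchLib.exists_grpObj_of_mono i e he m hm v hv
  refine ⟨D, str, i, hi, inferInstance, GrpSchLib.smooth_of_perfectField_of_isReduced D, inferInstance,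
    GrpSchLib.irreducibleSpace_of_range i (hrange ▸ hirr n), inferInstance, ?_⟩
  rw [hgroup]
  ext g
  constructor
  · rintro ⟨d, rfl⟩; exact hiZ d
  · intro hg
    exact exists_of_mem_range i g (hrange.symm ▸ hg)

end Groth.Agent.AGFLib.Gen
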