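import Groth.Agent.GrpSchLib.AffinizationKer
import Groth.Agent.GrpSchLib.KernelGrp
import Groth.Agent.GrpSchLib.AntiAffineHom
import Groth.Agent.GrpSchLib.NormalQuot
import Groth.Agent.GrpSchLib.ImageFactor
import Groth.Agent.GrpSchLib.HomFlat
import Groth.Agent.GrpSchLib.AntiAffineSmoothAny
import Groth.Agent.GrpSchLib.QuotAffine
import Groth.Agent.S3280
import Groth.Agent.S14580
import Mathlib.AlgebraicGeometry.Sites.Fpqc

/-! The largest anti-affine subgroup and its behaviour under quotients. -/

set_option backward.isDefEq.respectTransparency false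
set_option backward.isDefEq.respectTransparency.types false
set_option linter.style.haveILetI false
set_option maxHeartbeats 1000000

universe u

open CategoryTheory Limits AlgebraicGeometry MonoidalCategory CartesianMonoidalCategory MonObj GrpObj

namespace Groth.Agent.AGFLib.AntPart

open Groth.Agent.GrpSchLib

variable {k : Type u} [Field k]

theorem bij_appTop_iff (X : Over (Spec (CommRingCat.of k))) :
    Function.Bijective ((Scheme.ΓSpecIso (CommRingCat.of k)).inv ≫ X.hom.appTop).hom ↔ Function.Bijective X.hom.appTop := by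
  have h : Function.Bijective (Scheme.ΓSpecIso (CommRingCat.of k)).inv :=
    ConcreteCategory.bijective_of_isIso (Scheme.ΓSpecIso (CommRingCat.of k)).inv
  exact Function.Bijective.of_comp_iff X.hom.appTop h

theorem mono_sub {A B : Over (Spec (CommRingCat.of k))} (j : A ⟶ B) [IsClosedImmersion j.left] : Mono j :=
  (Over.forget _).mono_of_mono_map (inferInstanceAs (Mono j.left))

/-- A fibre product along a surjection. -/
theorem exists_pullback {A B C : Over (Spec (CommRingCat.of k))} (f : A ⟶ C) (g : B ⟶ C) [Surjective f.left] :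
    ∃ (W : Over (Spec (CommRingCat.of k))) (a : W ⟶ A) (b : W ⟶ B), a ≫ f = b ≫ g ∧ Surjective b.left :=
  ⟨Over.mk (pullback.snd f.left g.left ≫ B.hom),
    Over.homMk (pullback.fst f.left g.left) (by
      show pullback.fst f.left g.left ≫ A.hom = pullback.snd f.left g.left ≫ B.hom
      rw [← Over.w f, pullback.condition_assoc, Over.w g]),
    Over.homMk (pullback.snd f.left g.left) rfl, Over.OverMorphism.ext pullback.condition,
    inferInstanceAs (Surjective (pullback.snd f.left g.left))⟩

/-- A morphism which factors through a closed subscheme after a faithfully flat cover factors through it. -/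
theorem exists_lift_of_cover {A B C D : Over (Spec (CommRingCat.of k))} (j : C ⟶ D) [IsClosedImmersion j.left]
    (c : B ⟶ D) (e : A ⟶ B) [QuasiCompact e.left] [Surjective e.left] [Flat e.left] (a : A ⟶ C)
    (h : a ≫ j = e ≫ c) : ∃ l : B ⟶ C, l ≫ j = c := by
  let p := pullback.fst c.left j.left
  have hl : pullback.lift e.left a.left (congrArg CommaMorphism.left h.symm) ≫ p = e.left := pullback.lift_fst _ _ _
  haveI : EffectiveEpi e.left := inferInstance
  haveI : StrongEpi (pullback.lift e.left a.left (congrArg CommaMorphism.left h.symm) ≫ p) := by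
    rw [hl]; infer_instance
  haveI : StrongEpi p := strongEpi_of_strongEpi (pullback.lift e.left a.left (congrArg CommaMorphism.left h.symm)) p
  haveI : IsIso p := isIso_of_mono_of_strongEpi p
  have hj : (inv p ≫ pullback.snd c.left j.left) ≫ j.left = c.left := by
    rw [Category.assoc, ← pullback.condition, IsIso.inv_hom_id_assoc]
  exact ⟨Over.homMk (inv p ≫ pullback.snd c.left j.left) (by rw [← Over.w j, ← Category.assoc, hj, Over.w c]),
    Over.OverMorphism.ext hj⟩

theorem property_tensorHom {A B C D : Over (Spec (CommRingCat.of k))} (g : A ⟶ B) (h : C ⟶ D)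
    (P : MorphismProperty Scheme.{u})
    [P.IsStableUnderBaseChange] [P.IsStableUnderComposition] [P.RespectsIso] (hg : P g.left) (hh : P h.left) :
    P (g ⊗ₘ h).left := by
  have h2 : P (B ◁ h).left := by
    have e : (B ◁ h) = (β_ B C).hom ≫ (h ▷ B) ≫ (β_ D B).hom := by ext <;> simp
    rw [e, Over.comp_left, Over.comp_left]
    haveI : IsIso (β_ B C).hom.left := ((Over.forget _).mapIso (β_ B C)).isIso_hom
    haveI : IsIso (β_ D B).hom.left := ((Over.forget _).mapIso (β_ D B)).isIso_hom
    rw [MorphismProperty.cancel_left_of_respectsIso P, MorphismProperty.cancel_right_of_respectsIso P]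
    exact property_whiskerRight h B P hh
  rw [MonoidalCategory.tensorHom_def, Over.comp_left]
  exact P.comp_mem _ _ (property_whiskerRight g C P hg) h2

theorem qc_hom {A B : Over (Spec (CommRingCat.of k))} (f : A ⟶ B) [QuasiCompact A.hom] [IsSeparated B.hom] :
    QuasiCompact f.left := by
  haveI : QuasiCompact (f.left ≫ B.hom) := by rw [Over.w f]; infer_instance
  exact QuasiCompact.of_comp f.left B.hom

/-- The largest subgroup with only constant functions, by its universal property. -/
structure IsAnt {M G : Over (Spec (CommRingCat.of k))} [GrpObj G] (j : M ⟶ G) : Prop where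
  bij : Function.Bijective M.hom.appTop
  factor : ∀ (X : Over (Spec (CommRingCat.of k))) (g : X ⟶ G) (x : 𝟙_ (Over (Spec (CommRingCat.of k))) ⟶ X),
    Function.Bijective X.hom.appTop → x ≫ g = 1 → ∃ l : X ⟶ M, l ≫ j = g

theorem IsAnt.range_eq {M M' G : Over (Spec (CommRingCat.of k))} [GrpObj G] [GrpObj M] [GrpObj M'] {j : M ⟶ G}
    {j' : M' ⟶ G} [IsMonHom j] [IsMonHom j'] (h : IsAnt j) (h' : IsAnt j') :
    Set.range j.left = Set.range j'.left := by
  obtain ⟨l, hl⟩ := h'.factor M j η[M] h.bij (by rw [IsMonHom.one_hom j, MonObj.one_eq_one])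
  obtain ⟨l', hl'⟩ := h.factor M' j' η[M'] h'.bij (by rw [IsMonHom.one_hom j', MonObj.one_eq_one])
  apply Set.Subset.antisymm
  · rw [← hl]; rintro _ ⟨x, rfl⟩; exact ⟨l.left x, rfl⟩
  · rw [← hl']; rintro _ ⟨x, rfl⟩; exact ⟨l'.left x, rfl⟩

section Exists

variable (G : Over (Spec (CommRingCat.of k))) [GrpObj G] [LocallyOfFiniteType G.hom] [QuasiCompact G.hom]

/-- The kernel of the affinization is the largest anti-affine subgroup. -/
theorem exists_ant :
    ∃ (N : Over (Spec (CommRingCat.of k))) (_ : GrpObj N) (n : N ⟶ G), IsMonHom n ∧ IsClosedImmersion n.left ∧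
      AlgGrp.IsNormalHom n ∧ LocallyOfFiniteType N.hom ∧ QuasiCompact N.hom ∧ IsAnt n ∧
      (∃ (I : Over (Spec (CommRingCat.of k))) (_ : GrpObj I) (p : G ⟶ I), IsMonHom p ∧ IsAffine I.left ∧
        LocallyOfFiniteType I.hom ∧ Flat p.left ∧ Surjective p.left ∧ AlgGrp.IsKernel n p) ∧
      Set.range n.left = Set.range (pullback.fst G.left.toSpecΓ (η[G].left ≫ G.left.toSpecΓ)) := by
  haveI := AntiAffine.isSeparated_grp G
  obtain ⟨I, _, p, hp, hI, hlft, hfl, hs, hb⟩ := Affinization.exists_affinization G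
  haveI := hp; haveI := hI; haveI := hlft; haveI := hfl; haveI := hs
  haveI := AntiAffine.isSeparated_grp I
  obtain ⟨N, _, n, hn, hnc, hnn, hK⟩ := exists_kernel p
  haveI := hn; haveI := hnc
  haveI : Mono n := mono_sub n
  haveI : LocallyOfFiniteType N.hom := by rw [← Over.w n]; infer_instance
  haveI : QuasiCompact N.hom := by rw [← Over.w n]; infer_instance
  haveI : IsIso p.left.appTop := (ConcreteCategory.isIso_iff_bijective _).mpr hb
  let m : I.left ⟶ Spec Γ(G.left, ⊤) := I.left.toSpecΓ ≫ inv (Spec.map p.left.appTop)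
  have hm : G.left.toSpecΓ = p.left ≫ m := by
    rw [← Category.assoc, Scheme.toSpecΓ_naturality, Category.assoc, IsIso.hom_inv_id, Category.comp_id]
  let K := AffinizationKer.ker G
  obtain ⟨_, _, _, hKb⟩ := AffinizationKer.main G
  have hw : pullback.fst G.left.toSpecΓ (η[G].left ≫ G.left.toSpecΓ) ≫ p.left =
      pullback.snd G.left.toSpecΓ (η[G].left ≫ G.left.toSpecΓ) ≫ η[I].left := by
    rw [← cancel_mono m, Category.assoc, Category.assoc, ← hm, ← IsMonHom.one_hom p, Over.comp_left,
      Category.assoc, ← hm]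
    exact pullback.condition
  let n' : K ⟶ G := Over.homMk (pullback.fst G.left.toSpecΓ (η[G].left ≫ G.left.toSpecΓ)) (by
    rw [← Over.w p, reassoc_of% hw, Over.w η[I]]
    rfl)
  have hn' : n' ≫ p = toUnit K ≫ η[I] := by
    refine Over.OverMorphism.ext (hw.trans ?_)
    congr 1
  let a : K ⟶ N := hK.lift n' (toUnit K) hn'
  have ha : a ≫ n = n' := hK.lift_fst _ _ _
  have hnp : n.left ≫ G.left.toSpecΓ = N.hom ≫ η[G].left ≫ G.left.toSpecΓ := by
    have h1 : n.left ≫ p.left = N.hom ≫ (η[G] ≫ p).left := by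
      rw [← Over.comp_left, hK.w, IsMonHom.one_hom]; rfl
    rw [hm, ← Category.assoc, h1, Over.comp_left, Category.assoc, Category.assoc]
  let b : N.left ⟶ K.left := pullback.lift n.left N.hom hnp
  have hb1 : b ≫ pullback.fst _ _ = n.left := pullback.lift_fst _ _ _
  have hba : b ≫ a.left = 𝟙 _ := by
    rw [← cancel_mono n.left, Category.assoc, ← Over.comp_left, ha, Category.id_comp]
    exact hb1
  haveI : Mono (η[G].left ≫ G.left.toSpecΓ) := by
    haveI : IsSplitMono η[I].left := ⟨⟨⟨I.hom, Over.w η[I]⟩⟩⟩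
    rw [hm, ← Category.assoc, ← Over.comp_left, IsMonHom.one_hom]
    infer_instance
  have hab : a.left ≫ b = 𝟙 _ := by
    haveI : Mono (pullback.fst G.left.toSpecΓ (η[G].left ≫ G.left.toSpecΓ)) := inferInstance
    rw [← cancel_mono (pullback.fst G.left.toSpecΓ (η[G].left ≫ G.left.toSpecΓ)), Category.assoc, hb1,
      ← Over.comp_left, ha]
    exact (Category.id_comp _).symm
  haveI : IsIso a.left := ⟨b, hab, hba⟩
  have hbij : Function.Bijective N.hom.appTop := by
    have e : N.hom.appTop ≫ a.left.appTop = K.hom.appTop := by rw [← Scheme.Hom.comp_appTop, Over.w a]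
    haveI : IsIso a.left.appTop := inferInstance
    rw [show N.hom.appTop = K.hom.appTop ≫ inv a.left.appTop from (IsIso.eq_comp_inv _).mpr e]
    exact (ConcreteCategory.bijective_of_isIso (inv a.left.appTop)).comp hKb
  have hr : Set.range n.left = Set.range (pullback.fst G.left.toSpecΓ (η[G].left ≫ G.left.toSpecΓ)) := by
    apply Set.Subset.antisymm
    · rw [← hb1]; rintro _ ⟨x, rfl⟩; exact ⟨b x, rfl⟩
    · rw [show pullback.fst G.left.toSpecΓ (η[G].left ≫ G.left.toSpecΓ) = a.left ≫ n.left from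
        (congrArg CommaMorphism.left ha).symm]
      rintro _ ⟨x, rfl⟩; exact ⟨a.left x, rfl⟩
  refine ⟨N, inferInstance, n, hn, hnc, hnn, inferInstance, inferInstance, ⟨hbij, fun X g x hX hx => ?_⟩,
    ⟨I, inferInstance, p, hp, hI, hlft, hfl, hs, hK⟩, hr⟩
  have h := AntiAffine.eq_const_of_isAffine hX (g ≫ p) x
  rw [← Category.assoc x, hx, MonObj.one_comp, MonObj.comp_one] at h
  exact ⟨hK.lift g (toUnit X) (by rw [h]; rfl), hK.lift_fst _ _ _⟩

/-- The abstract largest anti-affine subgroup has the universal property. -/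
theorem isAnt_of_max {M : Over (Spec (CommRingCat.of k))} (j : M ⟶ G)
    (hM : Function.Bijective ((Scheme.ΓSpecIso (CommRingCat.of k)).inv ≫ M.hom.appTop).hom)
    (hMmax : ∀ (M₁ : Over (Spec (CommRingCat.of k))) [GrpObj M₁] [LocallyOfFiniteType M₁.hom] [QuasiCompact M₁.hom]
      (j₁ : M₁ ⟶ G) [IsMonHom j₁] [IsClosedImmersion j₁.left],
      Function.Bijective ((Scheme.ΓSpecIso (CommRingCat.of k)).inv ≫ M₁.hom.appTop).hom → ∃ g : M₁ ⟶ M, g ≫ j = j₁) :
    IsAnt j := by
  obtain ⟨N, _, n, hn, hnc, _, _, _, hN, -, -⟩ := exists_ant G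
  haveI := hn; haveI := hnc
  obtain ⟨f, hf⟩ := hMmax N n ((bij_appTop_iff N).mpr hN.bij)
  refine ⟨(bij_appTop_iff M).mp hM, fun X g x hX hx => ?_⟩
  obtain ⟨l, hl⟩ := hN.factor X g x hX hx
  exact ⟨l ≫ f, by rw [Category.assoc, hf, hl]⟩

/-- In a connected proper group the largest anti-affine subgroup fills the space. -/
theorem range_ant_of_proper [IsProper G.hom] [ConnectedSpace G.left] {M : Over (Spec (CommRingCat.of k))} [GrpObj M]
    {j : M ⟶ G} [IsMonHom j] (hj : IsAnt j) : Set.range j.left = Set.univ := by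
  obtain ⟨N, _, n, hn, _, _, _, _, hN, -, hr⟩ := exists_ant G
  haveI := hn
  rw [hj.range_eq hN, hr]
  rw [Groth.Agent.S14580.result k G (IsLocalRing.closedPoint k)]
  exact PreconnectedSpace.connectedComponent_eq_univ _

end Exists

/-- The largest anti-affine subgroup maps onto that of a quotient. -/
theorem range_comp_quot {G Q M M' : Over (Spec (CommRingCat.of k))} [GrpObj G] [GrpObj Q] [GrpObj M] [GrpObj M']
    [LocallyOfFiniteType G.hom] [QuasiCompact G.hom] [LocallyOfFiniteType Q.hom] [QuasiCompact Q.hom]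
    (q : G ⟶ Q) [IsMonHom q] [Flat q.left] [Surjective q.left] {j : M ⟶ G} [IsMonHom j] {j' : M' ⟶ Q} [IsMonHom j']
    (hM : IsAnt j) (hM' : IsAnt j') :
    Set.range (j ≫ q).left = Set.range j'.left := by
  apply Set.Subset.antisymm
  · obtain ⟨l, hl⟩ := hM'.factor M (j ≫ q) η[M] hM.bij (by rw [IsMonHom.one_hom (j ≫ q), MonObj.one_eq_one])
    rw [← hl]; rintro _ ⟨x, rfl⟩; exact ⟨l.left x, rfl⟩
  haveI := AntiAffine.isSeparated_grp G
  haveI := AntiAffine.isSeparated_grp Q
  obtain ⟨N, _, i, hi, hic, hin, hq⟩ := exists_kernel q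
  haveI := hi; haveI := hic
  haveI : LocallyOfFiniteType N.hom := by rw [← Over.w i]; infer_instance
  haveI : QuasiCompact N.hom := by rw [← Over.w i]; infer_instance
  obtain ⟨NG, _, nG, hnG, _, _, _, _, hNG, ⟨I, _, pG, hpG, hI, hIlft, hpf, hps, hKG⟩, -⟩ := exists_ant G
  haveI := hnG; haveI := hpG; haveI := hI; haveI := hIlft; haveI := hpf; haveI := hps
  haveI := AntiAffine.isSeparated_grp I
  haveI : QuasiCompact I.hom := inferInstance
  obtain ⟨J, _, pN, j₀, hpN, hj₀, hpj, hjc, hNf, hNs, _, _⟩ := ImageFactor.exists_image (i ≫ pG)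
  haveI := hpN; haveI := hj₀; haveI := hjc; haveI := hNf; haveI := hNs
  haveI := AntiAffine.isSeparated_grp J
  haveI := qc_hom pG
  haveI := qc_hom pN
  -- the image of a normal subgroup is normal
  have hJn : AlgGrp.IsNormalHom j₀ := by
    haveI : QuasiCompact (pG ⊗ₘ pN).left := property_tensorHom _ _ @QuasiCompact ‹_› ‹_›
    haveI : Surjective (pG ⊗ₘ pN).left := property_tensorHom _ _ @Surjective ‹_› ‹_›
    haveI : Flat (pG ⊗ₘ pN).left := property_tensorHom _ _ @Flat ‹_› ‹_›
    let c : I ⊗ J ⟶ I := fst I J * (snd I J ≫ j₀) * (fst I J)⁻¹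
    obtain ⟨d, hd⟩ := hin (G ⊗ N) (fst G N) (snd G N)
    obtain ⟨l, hl⟩ := exists_lift_of_cover j₀ c (pG ⊗ₘ pN) (d ≫ pN) (by
      rw [Category.assoc, hpj, ← Category.assoc, ← hd, MonObj.mul_comp, MonObj.mul_comp, GrpObj.inv_comp]
      simp only [c, MonObj.comp_mul, GrpObj.comp_inv, ← Category.assoc, tensorHom_fst, tensorHom_snd]
      simp only [Category.assoc, hpj])
    intro T g x
    refine ⟨lift g x ≫ l, ?_⟩
    rw [Category.assoc, hl]
    simp only [c, MonObj.comp_mul, GrpObj.comp_inv, lift_fst, lift_snd_assoc]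
  obtain ⟨R, _, r, hr, hR, hRlft, hrf, hrs, hKr⟩ := NormalQuot.exists_quot I J j₀ hJn
  haveI := hr; haveI := hR; haveI := hRlft
  haveI : QuasiCompact R.hom := inferInstance
  obtain ⟨φ', hφ', hqφ, -⟩ := Groth.Agent.S3280.result k G N Q R q i hq (pG ≫ r) (by
    rw [← Category.assoc, ← hpj, Category.assoc, hKr.w, ← Category.assoc, comp_toUnit])
  haveI := hφ'
  have hconst : j' ≫ φ' = 1 := by
    rw [AntiAffine.eq_const_of_isAffine hM'.bij (j' ≫ φ') η[M'], IsMonHom.one_hom (j' ≫ φ')]
    rfl
  -- lift to the group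
  obtain ⟨W, w, v, hwv, hv⟩ := exists_pullback q j'
  have h1 : (w ≫ pG) ≫ r = toUnit W ≫ η[R] := by
    rw [Category.assoc, ← hqφ, reassoc_of% hwv, hconst, MonObj.comp_one]
    rfl
  let l := hKr.lift (w ≫ pG) (toUnit W) h1
  have hl : l ≫ j₀ = w ≫ pG := hKr.lift_fst _ _ _
  obtain ⟨W₂, b, a, hab, ha⟩ := exists_pullback pN l
  have hkill : ((a ≫ w) * (b ≫ i)⁻¹) ≫ pG = 1 := by
    rw [MonObj.mul_comp, GrpObj.inv_comp, Category.assoc, Category.assoc, ← hl, ← hpj, ← Category.assoc b,
      hab, Category.assoc, mul_inv_cancel]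
  let m := hKG.lift ((a ≫ w) * (b ≫ i)⁻¹) (toUnit W₂) hkill
  obtain ⟨f, hf⟩ := hM.factor NG nG η[NG] hNG.bij (by rw [IsMonHom.one_hom nG, MonObj.one_eq_one])
  have hkey : (m ≫ f) ≫ j ≫ q = a ≫ v ≫ j' := by
    rw [Category.assoc, reassoc_of% hf, ← Category.assoc m, hKG.lift_fst, MonObj.mul_comp, GrpObj.inv_comp,
      Category.assoc b, hq.w, Category.assoc, hwv]
    rw [show b ≫ toUnit N ≫ η[Q] = 1 by rw [← Category.assoc, comp_toUnit]; rfl, inv_one, _root_.mul_one]
  rintro _ ⟨y, rfl⟩
  haveI : Surjective (a ≫ v).left := inferInstanceAs (Surjective (a.left ≫ v.left))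
  obtain ⟨z, hz⟩ := (a ≫ v).left.surjective y
  refine ⟨(m ≫ f).left z, ?_⟩
  rw [← hz, ← Scheme.Hom.comp_apply, ← Scheme.Hom.comp_apply, ← Over.comp_left, ← Over.comp_left, hkey,
    Category.assoc]

/-- With affine kernel of a proper quotient: `G = N · M`, and `M` is in every subgroup `H` with `G = H · N`. -/
theorem main_mul {G N A M : Over (Spec (CommRingCat.of k))} [GrpObj G] [GrpObj N] [GrpObj A] [GrpObj M]
    [LocallyOfFiniteType G.hom] [QuasiCompact G.hom] [ConnectedSpace G.left]
    (i : N ⟶ G) [IsMonHom i] [IsClosedImmersion i.left] [IsAffine N.left] [IsProper A.hom]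
    (q : G ⟶ A) [IsMonHom q] [Surjective q.left] [Flat q.left] (hq : AlgGrp.IsKernel i q)
    (j : M ⟶ G) [IsMonHom j] [IsClosedImmersion j.left] (hj : IsAnt j) :
    Surjective ((i ⊗ₘ j) ≫ μ[G]).left ∧
      ∀ (H : Over (Spec (CommRingCat.of k))) [GrpObj H] (h : H ⟶ G) [IsMonHom h] [IsClosedImmersion h.left],
        Surjective ((h ⊗ₘ i) ≫ μ[G]).left → ∃ g : M ⟶ H, g ≫ h = j := by
  haveI := AntiAffine.isSeparated_grp G
  haveI : ConnectedSpace A.left := q.left.surjective.connectedSpace q.left.continuous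
  haveI : QuasiCompact A.hom := inferInstance
  obtain ⟨MA, _, jA, hjA, _, _, _, _, hA, -, -⟩ := exists_ant A
  haveI := hjA
  have hMA : Set.range (j ≫ q).left = Set.univ := by
    rw [range_comp_quot q hj hA, range_ant_of_proper A hA]
  haveI : Surjective (j ≫ q).left := ⟨Set.range_eq_univ.mp hMA⟩
  constructor
  · obtain ⟨W, b, a, hab, ha⟩ := exists_pullback (j ≫ q) q
    let m := hq.lift (a * (b ≫ j)⁻¹) (toUnit W) (by
      rw [MonObj.mul_comp, GrpObj.inv_comp, Category.assoc, hab, mul_inv_cancel]; rfl)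
    have hm : m ≫ i = a * (b ≫ j)⁻¹ := hq.lift_fst _ _ _
    have e : lift m b ≫ (i ⊗ₘ j) ≫ μ[G] = a := by
      rw [lift_map_assoc, ← Hom.mul_def, hm, inv_mul_cancel_right]
    constructor
    intro y
    obtain ⟨z, hz⟩ := a.left.surjective y
    exact ⟨(lift m b).left z, by rw [← hz, ← Scheme.Hom.comp_apply, ← Over.comp_left, e]⟩
  intro H _ h _ _ hH
  haveI : LocallyOfFiniteType H.hom := by rw [← Over.w h]; infer_instance
  haveI : QuasiCompact H.hom := by rw [← Over.w h]; infer_instance
  haveI : LocallyOfFiniteType M.hom := by rw [← Over.w j]; infer_instance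
  haveI : QuasiCompact M.hom := by rw [← Over.w j]; infer_instance
  haveI := AntiAffine.isSeparated_grp M
  haveI := AntiAffine.isSeparated_grp H
  have hhq : Surjective (h ≫ q).left := by
    have e : ((h ⊗ₘ i) ≫ μ[G]) ≫ q = fst H N ≫ h ≫ q := by
      rw [Category.assoc, IsMonHom.mul_hom q, MonoidalCategory.tensorHom_comp_tensorHom_assoc, hq.w]
      rw [show ((h ≫ q) ⊗ₘ (toUnit N ≫ η[A])) ≫ μ[A] = (fst H N ≫ h ≫ q) * (snd H N ≫ toUnit N ≫ η[A]) by
        rw [Hom.mul_def, CartesianMonoidalCategory.lift_fst_comp_snd_comp]]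
      rw [← Category.assoc (snd H N), comp_toUnit]
      exact _root_.mul_one _
    haveI : Surjective (((h ⊗ₘ i) ≫ μ[G]) ≫ q).left := inferInstanceAs (Surjective (_ ≫ q.left))
    rw [e] at this
    exact @Surjective.of_comp _ _ _ (fst H N).left (h ≫ q).left this
  -- the image of `H`
  obtain ⟨I, _, pH, iI, hpH, hiI, hpi, hiIc, hpf, hps, hIlft, hIqc⟩ := ImageFactor.exists_image (h ≫ q)
  haveI := hpH; haveI := hiI; haveI := hiIc; haveI := hpf; haveI := hps
  haveI : Surjective iI.left := by
    haveI : Surjective (pH.left ≫ iI.left) := by rw [← Over.comp_left, hpi]; exact hhq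
    exact Surjective.of_comp pH.left iI.left
  haveI : IsProper I.hom := by rw [← Over.w iI]; infer_instance
  haveI : ConnectedSpace I.left :=
    let e := iI.left.isClosedEmbedding.isEmbedding.toHomeomorphOfSurjective iI.left.surjective
    e.symm.surjective.connectedSpace e.symm.continuous
  obtain ⟨MI, _, jI, hjI, _, _, _, _, hI, -, -⟩ := exists_ant I
  haveI := hjI
  obtain ⟨MH, _, jH, hjH, hjHc, _, _, _, hH', -, -⟩ := exists_ant H
  haveI := hjH; haveI := hjHc
  have hMH : Surjective (jH ≫ h ≫ q).left := by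
    have h1 : Set.range (jH ≫ pH).left = Set.univ := by rw [range_comp_quot pH hH' hI, range_ant_of_proper I hI]
    haveI : Surjective (jH ≫ pH).left := ⟨Set.range_eq_univ.mp h1⟩
    rw [← hpi, ← Category.assoc, Over.comp_left]
    infer_instance
  obtain ⟨f, hf⟩ := hj.factor MH (jH ≫ h) η[MH] hH'.bij (by rw [IsMonHom.one_hom (jH ≫ h), MonObj.one_eq_one])
  haveI : Mono j := mono_sub j
  haveI : IsMonHom f :=
    { one_hom := by rw [← cancel_mono j, Category.assoc, hf, IsMonHom.one_hom (jH ≫ h), IsMonHom.one_hom j]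
      mul_hom := by
        rw [← cancel_mono j, Category.assoc, hf, IsMonHom.mul_hom (jH ≫ h), Category.assoc, IsMonHom.mul_hom j,
          MonoidalCategory.tensorHom_comp_tensorHom_assoc, hf] }
  haveI : IsClosedImmersion (f.left ≫ j.left) := by
    rw [← Over.comp_left, hf]; exact inferInstanceAs (IsClosedImmersion (jH.left ≫ h.left))
  haveI : IsClosedImmersion f.left := IsClosedImmersion.of_comp f.left j.left
  haveI := AntiAffine.isSeparated_grp A
  obtain ⟨K, _, iK, hiK, hiKc, _, hK⟩ := exists_kernel (j ≫ q)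
  haveI := hiK; haveI := hiKc
  let t := hq.lift (iK ≫ j) (toUnit K) (by rw [Category.assoc, hK.w])
  have ht : t ≫ i = iK ≫ j := hq.lift_fst _ _ _
  haveI : IsClosedImmersion (t.left ≫ i.left) := by
    rw [← Over.comp_left, ht]; exact inferInstanceAs (IsClosedImmersion (iK.left ≫ j.left))
  haveI : IsClosedImmersion t.left := IsClosedImmersion.of_comp t.left i.left
  haveI : IsAffine K.left := isAffine_of_isAffineHom t.left
  haveI : LocallyOfFiniteType K.hom := by rw [← Over.w iK]; infer_instance
  haveI : QuasiCompact K.hom := by rw [← Over.w iK]; infer_instance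
  haveI : LocallyOfFiniteType MH.hom := by rw [← Over.w f]; infer_instance
  haveI : QuasiCompact MH.hom := by rw [← Over.w f]; infer_instance
  have hcomm : ∀ {T : Over (Spec (CommRingCat.of k))} (x y : T ⟶ M), x * y = y * x := fun x y => by
    rw [← cancel_mono j, MonObj.mul_comp, MonObj.mul_comp]
    exact AntiAffine.commute hj.bij j (by rw [IsMonHom.one_hom j, MonObj.one_eq_one]) x (y ≫ j)
  let φ : K ⊗ MH ⟶ M := (fst K MH ≫ iK) * (snd K MH ≫ f)
  haveI : IsMonHom φ := by
    refine ⟨?_, ?_⟩
    · simp only [φ, MonObj.comp_mul, ← Category.assoc]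
      rw [show η[K ⊗ MH] ≫ fst K MH = η[K] from IsMonHom.one_hom (fst K MH),
        show η[K ⊗ MH] ≫ snd K MH = η[MH] from IsMonHom.one_hom (snd K MH), IsMonHom.one_hom iK,
        IsMonHom.one_hom f, MonObj.one_eq_one, _root_.one_mul]
    · have hprod : ∀ {X Y : Over (Spec (CommRingCat.of k))} [GrpObj X] [GrpObj Y] (g : X ⟶ Y) [IsMonHom g],
          μ[X] ≫ g = (fst X X ≫ g) * (snd X X ≫ g) := fun {X Y} _ _ g _ => by
        rw [IsMonHom.mul_hom g, Hom.mul_def, CartesianMonoidalCategory.lift_fst_comp_snd_comp]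
      have h1 := hprod (fst K MH)
      have h2 := hprod (snd K MH)
      have hr : (φ ⊗ₘ φ) ≫ μ[M] = (fst _ _ ≫ φ) * (snd _ _ ≫ φ) := by
        rw [Hom.mul_def, CartesianMonoidalCategory.lift_fst_comp_snd_comp]
      rw [hr]
      simp only [φ, MonObj.comp_mul, ← Category.assoc, h1, h2, MonObj.mul_comp]
      have key : ∀ a b c d : (K ⊗ MH) ⊗ K ⊗ MH ⟶ M, a * b * (c * d) = a * c * (b * d) := fun a b c d => by
        rw [_root_.mul_assoc, ← _root_.mul_assoc b, hcomm b c, _root_.mul_assoc c, ← _root_.mul_assoc a]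
      exact key _ _ _ _
  haveI : Surjective φ.left := by
    haveI : Surjective (f ≫ j ≫ q).left := by rw [reassoc_of% hf]; exact hMH
    obtain ⟨W, b, a, hab, ha⟩ := exists_pullback (f ≫ j ≫ q) (j ≫ q)
    let m := hK.lift (a * (b ≫ f)⁻¹) (toUnit W) (by
      rw [MonObj.mul_comp, GrpObj.inv_comp, Category.assoc, hab, mul_inv_cancel]; rfl)
    have hm : m ≫ iK = a * (b ≫ f)⁻¹ := hK.lift_fst _ _ _
    have e : lift m b ≫ φ = a := by
      simp only [φ, MonObj.comp_mul, lift_fst_assoc, lift_snd_assoc, hm, inv_mul_cancel_right]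
    constructor
    intro y
    obtain ⟨z, hz⟩ := a.left.surjective y
    exact ⟨(lift m b).left z, by rw [← hz, ← Scheme.Hom.comp_apply, ← Over.comp_left, e]⟩
  haveI : Smooth M.hom := AntiAffineSmooth.smooth hj.bij
  haveI : IsReduced M.left := isReduced_of_smooth_field M.hom
  haveI : LocallyOfFiniteType (K ⊗ MH).hom :=
    inferInstanceAs (LocallyOfFiniteType (pullback.fst K.hom MH.hom ≫ K.hom))
  haveI : QuasiCompact (K ⊗ MH).hom := inferInstanceAs (QuasiCompact (pullback.fst K.hom MH.hom ≫ K.hom))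
  haveI := qc_hom φ
  haveI : Flat φ.left := flat_of_surjective_hom φ
  obtain ⟨P, _, jP, hjP, _, _, _, _, hP, -, -⟩ := exists_ant (K ⊗ MH)
  haveI := hjP
  have hid : IsAnt (𝟙 M) := ⟨hj.bij, fun X g _ _ _ => ⟨g, Category.comp_id g⟩⟩
  have hPK : jP ≫ fst K MH = 1 := by
    rw [AntiAffine.eq_const_of_isAffine hP.bij (jP ≫ fst K MH) η[P], IsMonHom.one_hom (jP ≫ fst K MH)]
    rfl
  have hPφ : jP ≫ φ = (jP ≫ snd K MH) ≫ f := by
    simp only [φ, MonObj.comp_mul, ← Category.assoc, hPK, MonObj.one_comp, _root_.one_mul]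
  have hfs : Surjective f.left := by
    have h1 := range_comp_quot φ hP hid
    rw [hPφ] at h1
    refine ⟨fun y => ?_⟩
    obtain ⟨x, hx⟩ : y ∈ Set.range ((jP ≫ snd K MH) ≫ f).left := by
      rw [h1]; exact ⟨y, rfl⟩
    exact ⟨(jP ≫ snd K MH).left x, hx⟩
  haveI : IsIso ((Over.forget _).map f) := isIso_of_isClosedImmersion_of_surjective f.left
  haveI : IsIso f := isIso_of_reflects_iso f (Over.forget _)
  exact ⟨inv f ≫ jH, by rw [Category.assoc, ← hf, IsIso.inv_hom_id_assoc]⟩

end Groth.Agent.AGFLib.AntPart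

namespace Groth.Agent.AGFLib.AntPart

open Groth.Agent.GrpSchLib

variable {k : Type u} [Field k]

/-- A group without non-trivial anti-affine part is affine. -/
theorem isAffine_of_trivial_ant {G N : Over (Spec (CommRingCat.of k))} [GrpObj G] [GrpObj N] [LocallyOfFiniteType G.hom]
    [QuasiCompact G.hom] {n : N ⟶ G} [IsMonHom n] (hn : IsAnt n) (htriv : IsIso N.hom) : IsAffine G.left := by
  obtain ⟨N₀, _, n₀, hn₀, _, _, _, _, hN₀, ⟨I, _, p, hp, hI, hIl, hpf, hps, hK⟩, -⟩ := exists_ant G
  haveI := hn₀; haveI := hp; haveI := hI; haveI := hpf; haveI := hps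
  haveI := AntiAffine.isSeparated_grp I
  obtain ⟨l, hl⟩ := hn.factor N₀ n₀ η[N₀] hN₀.bij (by rw [IsMonHom.one_hom n₀, MonObj.one_eq_one])
  haveI := htriv
  haveI : Mono p := by
    refine ⟨fun {T} a b hab => ?_⟩
    let m := hK.lift (a * b⁻¹) (toUnit T) (by
      rw [MonObj.mul_comp, GrpObj.inv_comp, hab, mul_inv_cancel]; rfl)
    have hsub : m ≫ l = toUnit T ≫ η[N] := by
      refine Over.OverMorphism.ext ?_
      rw [← cancel_mono N.hom, Over.w, Over.w]
    have e : a * b⁻¹ = 1 := by
      have hm : m ≫ n₀ = a * b⁻¹ := hK.lift_fst _ _ _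
      rw [← hm, show m ≫ n₀ = m ≫ l ≫ n from by rw [hl], ← Category.assoc, hsub, Category.assoc, IsMonHom.one_hom n, MonObj.one_eq_one, MonObj.comp_one]
    exact mul_inv_eq_one.mp e
  haveI : QuasiCompact p.left := qc_hom p
  haveI : Mono p.left := inferInstanceAs (Mono ((Over.forget _).map p))
  haveI : EffectiveEpi p.left := inferInstance
  haveI : IsIso p.left := isIso_of_mono_of_strongEpi p.left
  exact IsAffine.of_isIso p.left

/-- An affine group with only constant functions is trivial. -/
theorem isIso_of_affine {M : Over (Spec (CommRingCat.of k))} [GrpObj M] [IsAffine M.left]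
    (hM : Function.Bijective M.hom.appTop) : IsIso M.hom := by
  have h := AntiAffine.eq_const_of_isAffine hM (𝟙 M) η[M]
  refine ⟨(η[M]).left, ?_, Over.w η[M]⟩
  have h2 := congrArg CommaMorphism.left h
  rw [Category.comp_id] at h2
  exact h2.symm

theorem ant_nonaffine_iff {G : Over (Spec (CommRingCat.of k))} [GrpObj G] [LocallyOfFiniteType G.hom] [QuasiCompact G.hom]
    (hG : ¬ Red.IsTrivialGrp G) :
    (¬ IsAffine G.left ∧ ∀ (H : Over (Spec (CommRingCat.of k))) [GrpObj H] (h : H ⟶ G) [IsMonHom h] [IsClosedImmersion h.left],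
      ¬ IsIso h → IsAffine H.left) ↔
    (Function.Bijective G.hom.appTop ∧ ∀ (H : Over (Spec (CommRingCat.of k))) [GrpObj H] (h : H ⟶ G) [IsMonHom h] [IsClosedImmersion h.left],
      ¬ IsIso h → Function.Bijective H.hom.appTop → IsIso H.hom) := by
  constructor
  · rintro ⟨haff, hsub⟩
    obtain ⟨N, _, n, hn, hnc, -, _, _, hN, -, -⟩ := exists_ant G
    haveI := hn; haveI := hnc
    have hiso : IsIso n := by
      by_contra h
      haveI := hsub N n h
      exact haff (isAffine_of_trivial_ant hN (isIso_of_affine hN.bij))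
    refine ⟨?_, fun H _ h _ _ hh hb => ?_⟩
    · haveI : IsIso n.left := inferInstanceAs (IsIso ((Over.forget _).map n))
      have e : G.hom.appTop ≫ n.left.appTop = N.hom.appTop := by rw [← Scheme.Hom.comp_appTop, Over.w n]
      haveI : IsIso n.left.appTop := inferInstance
      rw [show G.hom.appTop = N.hom.appTop ≫ inv n.left.appTop from (IsIso.eq_comp_inv _).mpr e]
      exact (ConcreteCategory.bijective_of_isIso (inv n.left.appTop)).comp hN.bij
    · haveI := hsub H h hh
      exact isIso_of_affine hb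
  · rintro ⟨hb, hsub⟩
    refine ⟨fun haff => hG (isIso_of_affine hb), fun H _ h _ _ hh => ?_⟩
    haveI : LocallyOfFiniteType H.hom := by rw [← Over.w h]; infer_instance
    haveI : QuasiCompact H.hom := by rw [← Over.w h]; infer_instance
    obtain ⟨N, _, n, hn, hnc, -, _, _, hN, -, -⟩ := exists_ant H
    haveI := hn; haveI := hnc
    haveI : IsClosedImmersion (n ≫ h).left := inferInstanceAs (IsClosedImmersion (n.left ≫ h.left))
    refine isAffine_of_trivial_ant hN (hsub N (n ≫ h) (fun hi => hh ?_) hN.bij)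
    haveI := hi
    haveI : IsSplitEpi h := ⟨⟨⟨inv (n ≫ h) ≫ n, by rw [Category.assoc, IsIso.inv_hom_id]⟩⟩⟩
    haveI : Mono h := mono_sub h
    exact isIso_of_mono_of_isSplitEpi h

/-- An anti-affine extension of an abelian variety by an affine group is minimal iff the abelian variety is simple. -/
theorem minimal_iff_simple {G N A : Over (Spec (CommRingCat.of k))} [GrpObj G] [GrpObj N] [GrpObj A]
    [LocallyOfFiniteType G.hom] [QuasiCompact G.hom]
    (i : N ⟶ G) [IsMonHom i] [IsClosedImmersion i.left] [IsAffine N.left]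
    (q : G ⟶ A) [IsMonHom q] [Surjective q.left] [Flat q.left] [IsProper A.hom] [Smooth A.hom]
    (hq : AlgGrp.IsKernel i q) (hGa : Function.Bijective G.hom.appTop) [ConnectedSpace G.left] :
    (∀ (H : Over (Spec (CommRingCat.of k))) [GrpObj H] (h : H ⟶ G) [IsMonHom h] [IsClosedImmersion h.left],
      ¬ IsIso h → Function.Bijective H.hom.appTop → IsIso H.hom) ↔
    (∀ (B : Over (Spec (CommRingCat.of k))) [GrpObj B] (b : B ⟶ A) [IsMonHom b] [IsClosedImmersion b.left],
      Smooth B.hom → ConnectedSpace B.left → IsIso b ∨ IsIso B.hom) := by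
  haveI := AntiAffine.isSeparated_grp G
  haveI := AntiAffine.isSeparated_grp A
  haveI : QuasiCompact A.hom := inferInstance
  haveI := qc_hom q
  have hidG : IsAnt (𝟙 G) := ⟨hGa, fun X g _ _ _ => ⟨g, Category.comp_id g⟩⟩
  constructor
  · intro hmin B _ b _ _ hBs hBc
    haveI := hBs
    haveI := hBc
    haveI : Mono b := mono_sub b
    by_cases hb : IsIso b
    · exact Or.inl hb
    right
    haveI : IsProper B.hom := by rw [← Over.w b]; infer_instance
    haveI : IsReduced B.left := isReduced_of_smooth_field B.hom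
    haveI : IsReduced A.left := isReduced_of_smooth_field A.hom
    haveI : LocallyOfFiniteType B.hom := @IsProper.toLocallyOfFiniteType _ _ B.hom ‹_›
    haveI := AntiAffine.isSeparated_grp B
    -- the preimage of `B`
    let H : Over (Spec (CommRingCat.of k)) := Over.mk (pullback.fst q.left b.left ≫ G.hom)
    let h : H ⟶ G := Over.homMk (pullback.fst q.left b.left) rfl
    let r : H ⟶ B := Over.homMk (pullback.snd q.left b.left) (by
      show pullback.snd q.left b.left ≫ B.hom = pullback.fst q.left b.left ≫ G.hom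
      rw [← Over.w b, ← pullback.condition_assoc, Over.w q])
    have sq : IsPullback h r q b := IsPullback.of_map (Over.forget _)
      (Over.OverMorphism.ext pullback.condition) (IsPullback.of_hasPullback q.left b.left)
    haveI : IsClosedImmersion h.left := inferInstanceAs (IsClosedImmersion (pullback.fst q.left b.left))
    haveI : Surjective r.left := inferInstanceAs (Surjective (pullback.snd q.left b.left))
    haveI : Flat r.left := inferInstanceAs (Flat (pullback.snd q.left b.left))
    haveI : Mono h := mono_sub h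
    have hlift : ∀ {T : Over (Spec (CommRingCat.of k))} (x : T ⟶ G) (y : T ⟶ B), x ≫ q = y ≫ b →
        ∃ z : T ⟶ H, z ≫ h = x := fun x y e => ⟨sq.lift x y e, sq.lift_fst _ _ _⟩
    obtain ⟨e, he⟩ := hlift η[G] η[B] (by rw [IsMonHom.one_hom q, IsMonHom.one_hom b])
    obtain ⟨μ', hμ'⟩ := hlift ((fst H H ≫ h) * (snd H H ≫ h)) ((fst H H ≫ r) * (snd H H ≫ r)) (by
      simp only [MonObj.mul_comp, Category.assoc, sq.w])
    obtain ⟨ι', hι'⟩ := hlift h⁻¹ r⁻¹ (by rw [GrpObj.inv_comp, GrpObj.inv_comp, sq.w])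
    obtain ⟨str, hh⟩ := exists_grpObj_of_mono h e he μ' hμ' ι' hι'
    letI := str
    haveI := hh
    haveI : IsMonHom r :=
      { one_hom := by rw [← cancel_mono b, Category.assoc, ← sq.w, IsMonHom.one_hom (h ≫ q), IsMonHom.one_hom b]
        mul_hom := by
          rw [← cancel_mono b, Category.assoc, ← sq.w, IsMonHom.mul_hom (h ≫ q), Category.assoc, IsMonHom.mul_hom b,
            MonoidalCategory.tensorHom_comp_tensorHom_assoc, sq.w] }
    haveI : LocallyOfFiniteType H.hom := by rw [← Over.w h]; infer_instance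
    haveI : QuasiCompact H.hom := by rw [← Over.w h]; infer_instance
    haveI : QuasiCompact B.hom := inferInstance
    obtain ⟨NH, _, n, hn, hnc, -, _, _, hNH, -, -⟩ := exists_ant H
    haveI := hn; haveI := hnc
    obtain ⟨NB, _, nB, hnB, -, -, _, _, hNB, -, -⟩ := exists_ant B
    haveI := hnB
    haveI : IsClosedImmersion (n ≫ h).left := inferInstanceAs (IsClosedImmersion (n.left ≫ h.left))
    have hne : ¬ IsIso (n ≫ h) := fun hi => hb (by
      haveI := hi
      haveI : Surjective b.left := by
        haveI : IsIso (n ≫ h).left := inferInstanceAs (IsIso ((Over.forget _).map (n ≫ h)))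
        haveI : Surjective ((n ≫ r) ≫ b).left := by
          rw [Category.assoc, ← sq.w, ← Category.assoc, Over.comp_left]; infer_instance
        haveI : Surjective ((n ≫ r).left ≫ b.left) := by rw [← Over.comp_left]; infer_instance
        exact Surjective.of_comp (n ≫ r).left b.left
      haveI : IsIso ((Over.forget _).map b) := isIso_of_isClosedImmersion_of_surjective b.left
      exact isIso_of_reflects_iso b (Over.forget _))
    haveI := hmin NH (n ≫ h) hne hNH.bij
    have hr := (range_comp_quot r hNH hNB).trans (range_ant_of_proper B hNB)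
    haveI : Subsingleton NH.left := (Scheme.Hom.isEmbedding NH.hom).injective.subsingleton
    haveI : Surjective η[B].left := ⟨fun y => by
      obtain ⟨x, hx⟩ : y ∈ Set.range (n ≫ r).left := by rw [hr]; trivial
      refine ⟨IsLocalRing.closedPoint k, ?_⟩
      rw [← hx, ← IsMonHom.one_hom (n ≫ r), Over.comp_left, Scheme.Hom.comp_apply]
      exact congrArg _ (Subsingleton.elim _ _)⟩
    haveI : IsClosedImmersion η[B].left := by
      haveI : IsClosedImmersion (η[B].left ≫ B.hom) := by
        rw [Over.w η[B]]; exact inferInstanceAs (IsClosedImmersion (𝟙 _))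
      exact IsClosedImmersion.of_comp η[B].left B.hom
    haveI : IsIso η[B].left := isIso_of_isClosedImmersion_of_surjective η[B].left
    haveI : IsIso (η[B].left ≫ B.hom) := by rw [Over.w η[B]]; exact inferInstanceAs (IsIso (𝟙 _))
    exact IsIso.of_isIso_comp_left η[B].left B.hom
  · intro hsimp H _ h _ _ hh hHb
    haveI : LocallyOfFiniteType H.hom := by rw [← Over.w h]; infer_instance
    haveI : QuasiCompact H.hom := by rw [← Over.w h]; infer_instance
    obtain ⟨I, _, p, j, hp, hj, hpj, hjc, hpf, hps, hIl, hIq⟩ := ImageFactor.exists_image (h ≫ q)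
    haveI := hp; haveI := hj; haveI := hjc; haveI := hpf; haveI := hps
    haveI : Smooth H.hom := AntiAffineSmooth.smooth hHb
    haveI : Smooth I.hom := Groth.Agent.GrpSchLib.smooth_of_quotient p
    haveI : ConnectedSpace H.left := AntiAffine.connectedSpace_of_bijective hHb
    haveI : ConnectedSpace I.left := p.left.surjective.connectedSpace p.left.continuous
    rcases hsimp I j inferInstance inferInstance with hi | hi
    · exfalso
      haveI := hi
      haveI : IsIso j.left := inferInstanceAs (IsIso ((Over.forget _).map j))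
      haveI : Surjective (h ≫ q).left := by rw [← hpj, Over.comp_left]; infer_instance
      have hmul : Surjective ((h ⊗ₘ i) ≫ μ[G]).left := by
        obtain ⟨W, b, a, hab, ha⟩ := exists_pullback (h ≫ q) q
        let m := hq.lift ((b ≫ h)⁻¹ * a) (toUnit W) (by
          rw [MonObj.mul_comp, GrpObj.inv_comp, Category.assoc, hab, inv_mul_cancel]; rfl)
        have hm : m ≫ i = (b ≫ h)⁻¹ * a := hq.lift_fst _ _ _
        have e : lift b m ≫ (h ⊗ₘ i) ≫ μ[G] = a := by
          rw [lift_map_assoc, ← Hom.mul_def, hm, mul_inv_cancel_left]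
        constructor
        intro y
        obtain ⟨z, hz⟩ := a.left.surjective y
        exact ⟨(lift b m).left z, by rw [← hz, ← Scheme.Hom.comp_apply, ← Over.comp_left, e]⟩
      haveI : IsClosedImmersion (𝟙 G : G ⟶ G).left := by rw [Over.id_left]; infer_instance
      obtain ⟨g, hg⟩ := (main_mul i q hq (𝟙 G) hidG).2 H h hmul
      haveI : IsSplitEpi h := ⟨⟨⟨g, hg⟩⟩⟩
      haveI : Mono h := mono_sub h
      exact hh (isIso_of_mono_of_isSplitEpi h)
    · haveI := hi
      have hk1 : (h ≫ q) = toUnit H ≫ η[A] := by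
        rw [← hpj]
        have : p = toUnit H ≫ η[I] := Over.OverMorphism.ext (by rw [← cancel_mono I.hom, Over.w, Over.w])
        rw [this, Category.assoc, IsMonHom.one_hom j]
      let l := hq.lift h (toUnit H) hk1
      haveI : IsClosedImmersion (l.left ≫ i.left) := by
        rw [← Over.comp_left, show l ≫ i = h from hq.lift_fst _ _ _]; infer_instance
      haveI : IsClosedImmersion l.left := IsClosedImmersion.of_comp l.left i.left
      haveI : IsAffine H.left := isAffine_of_isAffineHom l.left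
      exact isIso_of_affine hHb

end Groth.Agent.AGFLib.AntPart
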