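import Groth.Agent.AGFLib.BorelExist

/-! Borel subgroups: conjugacy and properness of the quotient. -/

set_option backward.isDefEq.respectTransparency false
set_option backward.isDefEq.respectTransparency.types false
set_option linter.style.haveILetI false

universe u

open CategoryTheory Limits AlgebraicGeometry MonoidalCategory CartesianMonoidalCategory MonObj GrpObj
open TopologicalSpace

namespace Groth.Agent.AGFLib.Borel

open Groth.Agent.GrpSchLib Groth.Agent.AGFLib.Gen Groth.Agent.AGFLib.BorelFixed Groth.Agent.AGFLib.QuotProper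
open Groth.Agent.AGFLib.BorelExist

variable {k : Type u} [Field k] {G : Over (Spec (CommRingCat.of k))} [GrpObj G]

local notation "PT" => 𝟙_ (Over (Spec (CommRingCat.of k)))

/-- Conjugation by a rational point. -/
noncomputable def conjM (g : 𝟙_ (Over (Spec (CommRingCat.of k))) ⟶ G) : G ⟶ G := AGF.conjBy g (𝟙 G)

theorem comp_conjM {T : Over (Spec (CommRingCat.of k))} (g : PT ⟶ G) (f : T ⟶ G) :
    f ≫ conjM g = (toUnit T ≫ g) * f * (toUnit T ≫ g)⁻¹ := by
  simp only [conjM, AGF.conjBy, MonObj.comp_mul, GrpObj.comp_inv, ← Category.assoc, comp_toUnit, Category.comp_id]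

theorem conjBy_eq {H : Over (Spec (CommRingCat.of k))} (g : PT ⟶ G) (i : H ⟶ G) :
    AGF.conjBy g i = i ≫ conjM g := by
  rw [comp_conjM]

theorem conjM_comp (g h : PT ⟶ G) : conjM g ≫ conjM h = conjM (h * g) := by
  rw [comp_conjM]
  simp only [conjM, AGF.conjBy, MonObj.comp_mul]
  group

theorem conjM_one : conjM (1 : PT ⟶ G) = 𝟙 G := by
  simp [conjM, AGF.conjBy, MonObj.comp_one]

instance (g : 𝟙_ (Over (Spec (CommRingCat.of k))) ⟶ G) : IsIso (conjM g) :=
  ⟨conjM g⁻¹, by rw [conjM_comp, inv_mul_cancel, conjM_one], by rw [conjM_comp, mul_inv_cancel, conjM_one]⟩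

instance (g : 𝟙_ (Over (Spec (CommRingCat.of k))) ⟶ G) : IsMonHom (conjM g) where
  one_hom := by
    rw [comp_conjM, MonObj.one_eq_one]
    group
  mul_hom := by
    rw [comp_conjM]
    have e1 : μ[G] = fst G G * snd G G := by rw [Hom.mul_def, lift_fst_snd, Category.id_comp]
    have e2 : (conjM g ⊗ₘ conjM g) ≫ μ[G] = (fst G G ≫ conjM g) * (snd G G ≫ conjM g) := by
      rw [Hom.mul_def]
      congr 1
      try apply CartesianMonoidalCategory.hom_ext <;> simp
    rw [e2, comp_conjM, comp_conjM, e1]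
    group

instance (g : 𝟙_ (Over (Spec (CommRingCat.of k))) ⟶ G) : IsIso (conjM g).left :=
  ((Over.forget _).mapIso (asIso (conjM g))).isIso_hom

variable [IsAlgClosed k] [IsAffine G.left] [Smooth G.hom]

/-- A closed immersion of a smooth connected group into itself is an isomorphism. -/
theorem isIso_endo {H : Over (Spec (CommRingCat.of k))} [GrpObj H] [Smooth H.hom] [QuasiCompact H.hom]
    [ConnectedSpace H.left] (e : H ⟶ H) [IsClosedImmersion e.left] : IsIso e := by
  haveI : IsLocallyNoetherian H.left := LocallyOfFiniteType.isLocallyNoetherian H.hom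
  haveI : CompactSpace H.left := (quasiCompact_iff_compactSpace H.hom).mp inferInstance
  haveI : IsNoetherian H.left := {}
  haveI : IsReduced H.left := isReduced_of_smooth_field H.hom
  let f : H.left → H.left := e.left
  have hcl : ∀ n, IsClosed (Set.range f^[n]) := by
    intro n
    induction n with
    | zero => simp
    | succ n ih =>
      rw [Function.iterate_succ', Set.range_comp]
      exact e.left.isClosedEmbedding.isClosedMap _ ih
  obtain ⟨_, ⟨n, rfl⟩, hmin⟩ := (wellFounded_lt (α := Closeds H.left)).has_min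
    (Set.range fun n : ℕ => (⟨Set.range f^[n], hcl n⟩ : Closeds H.left)) (Set.range_nonempty _)
  have hle : (⟨Set.range f^[n + 1], hcl _⟩ : Closeds H.left) ≤ ⟨Set.range f^[n], hcl n⟩ := by
    show Set.range f^[n + 1] ⊆ Set.range f^[n]
    rw [Function.iterate_succ, Set.range_comp]
    exact Set.image_subset_range _ _
  have heq : Set.range f^[n + 1] = Set.range f^[n] :=
    congrArg (fun K : Closeds H.left => (K : Set H.left)) (le_antisymm hle (by
      by_contra hne
      exact hmin _ ⟨n + 1, rfl⟩ (lt_of_le_not_ge hle hne)))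
  have hinj : Function.Injective f^[n] := e.left.isClosedEmbedding.injective.iterate n
  haveI : Surjective e.left := ⟨fun x => by
    obtain ⟨y, hy⟩ := heq.ge ⟨x, rfl⟩
    rw [Function.iterate_succ_apply] at hy
    exact ⟨y, hinj hy⟩⟩
  haveI : IsIso e.left := isIso_of_isClosedImmersion_of_surjective e.left
  haveI : IsIso ((Over.forget _).map e) := inferInstanceAs (IsIso e.left)
  exact isIso_of_reflects_iso e (Over.forget _)

/-- A connected solvable subgroup is conjugate into any subgroup with proper quotient. -/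
theorem exists_conj_into {H B : Over (Spec (CommRingCat.of k))} [GrpObj H] [GrpObj B] (iH : H ⟶ G)
    [IsClosedImmersion iH.left] (iB : B ⟶ G) [IsMonHom iB] [IsClosedImmersion iB.left]
    [Smooth B.hom] [ConnectedSpace B.left] (hB : Red.IsSolvableGrp B)
    {X : Over (Spec (CommRingCat.of k))} {a : AlgGrp.Action G X} {o : PT ⟶ X} (hX : AGF.IsQuotient iH X a o)
    [IsProper X.hom] :
    ∃ (g : PT ⟶ G) (f : B ⟶ H), f ≫ AGF.conjBy g iH = iB := by
  haveI : IsAffine B.left := isAffine_of_isAffineHom iB.left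
  haveI : IsReduced B.left := isReduced_of_smooth_field B.hom
  haveI := isSolvable_pts hB
  haveI : LocallyOfFiniteType H.hom := by rw [← Over.w iH]; infer_instance
  haveI : Nonempty X.left := ⟨cp o⟩
  obtain ⟨c, hc⟩ := exists_restrict a iB
  obtain ⟨x, hx⟩ := exists_isFixedPt X c
  haveI := hX.2.2.1
  obtain ⟨g, hg⟩ := exists_of_mem_range (a.orbitMap o) x ((a.orbitMap o).left.surjective _)
  obtain ⟨f, hf⟩ := exists_lift_pts iH (iB ≫ conjM g⁻¹) fun t => by
    have h := hx PT t
    rw [hc, ← Category.assoc, lift_whiskerRight, toUnit_unique (toUnit _) (𝟙 (𝟙_ _)), Category.id_comp, ← hg,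
      pt_orbitMap, GrpSchLib.act_mul] at h
    have h2 : (g⁻¹ * ((t ≫ iB) * g)) ≫ a.orbitMap o = (1 : PT ⟶ G) ≫ a.orbitMap o := by
      rw [pt_orbitMap, pt_orbitMap, ← GrpSchLib.act_mul, h, GrpSchLib.act_mul, inv_mul_cancel]
    obtain ⟨z, hz⟩ := exists_mul_eq hX _ _ h2.symm
    refine ⟨z, ?_⟩
    rw [_root_.one_mul] at hz
    rw [hz, ← Category.assoc, comp_conjM, toUnit_unique (toUnit _) (𝟙 (𝟙_ _)), Category.id_comp, _root_.inv_inv,
      _root_.mul_assoc]
  refine ⟨g, f, ?_⟩
  rw [conjBy_eq, reassoc_of% hf, conjM_comp, mul_inv_cancel, conjM_one, Category.comp_id]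

/-- Properness of a quotient passes to subgroups containing a conjugate. -/
theorem isProper_of_conj {H₀ H : Over (Spec (CommRingCat.of k))} [GrpObj H₀] [GrpObj H] (i₀ : H₀ ⟶ G) [IsMonHom i₀]
    [IsClosedImmersion i₀.left] (i : H ⟶ G) [IsClosedImmersion i.left]
    (g : PT ⟶ G) (f : H₀ ⟶ H) (hf : f ≫ AGF.conjBy g i = i₀)
    {X₀ : Over (Spec (CommRingCat.of k))} {a₀ : AlgGrp.Action G X₀} {o₀ : PT ⟶ X₀} (hX₀ : AGF.IsQuotient i₀ X₀ a₀ o₀)
    [IsProper X₀.hom]
    {X : Over (Spec (CommRingCat.of k))} {a : AlgGrp.Action G X} {o : PT ⟶ X} (hX : AGF.IsQuotient i X a o) :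
    IsProper X.hom := by
  haveI : QuasiCompact G.hom := inferInstance
  haveI : LocallyOfFiniteType H₀.hom := by rw [← Over.w i₀]; infer_instance
  haveI : QuasiCompact H₀.hom := by rw [← Over.w i₀]; infer_instance
  haveI := hX.1
  haveI := hX.2.2.1
  haveI : QuasiCompact X.hom := quot_quasiCompact hX
  haveI : IsSeparated X.hom := quot_isSeparated hX
  obtain ⟨π, ⟨-, hπ⟩, -⟩ := Groth.Agent.S8014.result k G H₀ i₀ X₀ a₀ o₀ hX₀ X a (lift g o ≫ a.act) (fun T h => by
    have hs := stab_of_quot hX (h ≫ f)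
    have e : h ≫ i₀ = (toUnit T ≫ g) * ((h ≫ f) ≫ i) * (toUnit T ≫ g)⁻¹ := by
      rw [← hf, conjBy_eq, ← Category.assoc f, ← Category.assoc h, comp_conjM, Category.assoc]
    have e2 : toUnit T ≫ (lift g o ≫ a.act) = lift (toUnit T ≫ g) (toUnit T ≫ o) ≫ a.act := by
      rw [← Category.assoc, comp_lift]
    rw [e2, GrpSchLib.act_mul, e, inv_mul_cancel_right, ← GrpSchLib.act_mul, hs])
  haveI : UniversallyClosed X.hom := universallyClosed_of_pts π fun t => by
    obtain ⟨q, hq⟩ := exists_of_mem_range (a.orbitMap o) t ((a.orbitMap o).left.surjective _)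
    refine ⟨(q * g⁻¹) ≫ a₀.orbitMap o₀, ?_⟩
    rw [Category.assoc, hπ, pt_orbitMap, GrpSchLib.act_mul, inv_mul_cancel_right, ← hq, pt_orbitMap]
  exact ⟨⟩

/-- A connected solvable subgroup with proper quotient is a Borel subgroup. -/
theorem isBorel_of_proper {H : Over (Spec (CommRingCat.of k))} [GrpObj H] (iH : H ⟶ G) [IsMonHom iH]
    [IsClosedImmersion iH.left] [Smooth H.hom] [ConnectedSpace H.left] (hs : Red.IsSolvableGrp H)
    {X : Over (Spec (CommRingCat.of k))} {a : AlgGrp.Action G X} {o : PT ⟶ X} (hX : AGF.IsQuotient iH X a o)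
    [IsProper X.hom] : Red.IsBorelOver k iH := by
  refine ⟨inferInstance, inferInstance, inferInstance, inferInstance, hs, fun B' _ i' _ f _ _ _ hs' hf => ?_⟩
  obtain ⟨g, f2, hf2⟩ := exists_conj_into iH i' hs' hX
  haveI : IsClosedImmersion f.left := by
    haveI : IsClosedImmersion (f.left ≫ i'.left) := by rw [← Over.comp_left, hf]; infer_instance
    exact IsClosedImmersion.of_comp f.left i'.left
  haveI : IsClosedImmersion f2.left := by
    haveI : IsClosedImmersion (AGF.conjBy g iH).left := by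
      rw [conjBy_eq]; exact inferInstanceAs (IsClosedImmersion (iH.left ≫ (conjM g).left))
    haveI : IsClosedImmersion (f2.left ≫ (AGF.conjBy g iH).left) := by rw [← Over.comp_left, hf2]; infer_instance
    exact IsClosedImmersion.of_comp f2.left (AGF.conjBy g iH).left
  haveI : IsClosedImmersion (f ≫ f2).left := inferInstanceAs (IsClosedImmersion (f.left ≫ f2.left))
  haveI : QuasiCompact H.hom := by rw [← Over.w iH]; infer_instance
  haveI := isIso_endo (f ≫ f2)
  haveI : Mono f2 := mono_of_closedImmersion f2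
  haveI : IsSplitEpi f2 := IsSplitEpi.mk' ⟨inv (f ≫ f2) ≫ f, by rw [Category.assoc, IsIso.inv_hom_id]⟩
  haveI : IsIso f2 := isIso_of_mono_of_isSplitEpi f2
  exact IsIso.of_isIso_comp_right f f2

variable (G) [ConnectedSpace G.left]

/-- There is a Borel subgroup with proper quotient. -/
theorem exists_borel : ∃ (B : Over (Spec (CommRingCat.of k))) (_ : GrpObj B) (iB : B ⟶ G)
    (X : Over (Spec (CommRingCat.of k))) (a : AlgGrp.Action G X) (o : PT ⟶ X),
    Red.IsBorelOver k iB ∧ AGF.IsQuotient iB X a o ∧ IsProper X.hom := by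
  haveI : IsClosedImmersion (𝟙 G : G ⟶ G).left := inferInstanceAs (IsClosedImmersion (𝟙 G.left))
  obtain ⟨B, _, iB, X, a, o, _, _, _, _, hs, hX, _⟩ := exists_solvable_aux G
    ⟨Set.range (𝟙 G : G ⟶ G).left, (𝟙 G : G ⟶ G).left.isClosedEmbedding.isClosed_range⟩ G (𝟙 G) rfl
  exact ⟨B, inferInstance, iB, X, a, o, isBorel_of_proper iB hs hX, hX, inferInstance⟩

variable {G}

omit [ConnectedSpace G.left] in
/-- A Borel subgroup is conjugate to any Borel subgroup with proper quotient. -/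
theorem exists_iso {B B₀ : Over (Spec (CommRingCat.of k))} [GrpObj B] [GrpObj B₀] (iB : B ⟶ G) (i₀ : B₀ ⟶ G)
    (hB : Red.IsBorelOver k iB) (h₀ : Red.IsBorelOver k i₀)
    {X : Over (Spec (CommRingCat.of k))} {a : AlgGrp.Action G X} {o : PT ⟶ X} (hX : AGF.IsQuotient i₀ X a o)
    [IsProper X.hom] : ∃ (g : PT ⟶ G) (f : B ≅ B₀), f.hom ≫ AGF.conjBy g i₀ = iB := by
  obtain ⟨_, _, _, _, hs, hmax⟩ := hB
  obtain ⟨_, _, _, _, hs₀, -⟩ := h₀
  obtain ⟨g, f, hf⟩ := exists_conj_into i₀ iB hs hX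
  haveI : IsMonHom (AGF.conjBy g i₀) := by rw [conjBy_eq]; infer_instance
  have hcl : IsClosedImmersion (AGF.conjBy g i₀).left := by
    rw [conjBy_eq]; exact inferInstanceAs (IsClosedImmersion (i₀.left ≫ (conjM g).left))
  haveI : IsIso f := hmax B₀ (AGF.conjBy g i₀) f hcl inferInstance inferInstance hs₀ hf
  exact ⟨g, asIso f, hf⟩

/-- The quotient by a Borel subgroup is proper. -/
theorem isProper_borel {B : Over (Spec (CommRingCat.of k))} [GrpObj B] (iB : B ⟶ G) (hB : Red.IsBorelOver k iB)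
    {X : Over (Spec (CommRingCat.of k))} {a : AlgGrp.Action G X} {o : PT ⟶ X} (hX : AGF.IsQuotient iB X a o) :
    IsProper X.hom := by
  obtain ⟨B₀, _, i₀, X₀, a₀, o₀, h₀, hX₀, _⟩ := exists_borel G
  obtain ⟨g, f, hf⟩ := exists_iso iB i₀ hB h₀ hX₀
  haveI := h₀.1
  haveI := h₀.2.1
  haveI := hB.2.1
  refine isProper_of_conj i₀ iB g⁻¹ f.inv ?_ hX₀ hX
  rw [← hf, conjBy_eq, conjBy_eq, Category.assoc, Iso.inv_hom_id_assoc, Category.assoc, conjM_comp, inv_mul_cancel, conjM_one,
    Category.comp_id]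

/-- Borel subgroups are conjugate. -/
theorem conjugate {B B' : Over (Spec (CommRingCat.of k))} [GrpObj B] [GrpObj B'] (iB : B ⟶ G) (iB' : B' ⟶ G)
    (hB : Red.IsBorelOver k iB) (hB' : Red.IsBorelOver k iB') :
    ∃ (g : PT ⟶ G) (f : B ≅ B'), f.hom ≫ iB' = AGF.conjBy g iB := by
  obtain ⟨B₀, _, i₀, X₀, a₀, o₀, h₀, hX₀, _⟩ := exists_borel G
  obtain ⟨g₁, f₁, h₁⟩ := exists_iso iB i₀ hB h₀ hX₀
  obtain ⟨g₂, f₂, h₂⟩ := exists_iso iB' i₀ hB' h₀ hX₀
  refine ⟨g₂ * g₁⁻¹, f₁ ≪≫ f₂.symm, ?_⟩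
  rw [← h₂, ← h₁, Iso.trans_hom, Iso.symm_hom, Category.assoc, Iso.inv_hom_id_assoc, conjBy_eq, conjBy_eq,
    conjBy_eq, Category.assoc, Category.assoc, conjM_comp, inv_mul_cancel_right]

/-- A conjugate of a Borel subgroup is a Borel subgroup. -/
theorem isBorel_conj {B : Over (Spec (CommRingCat.of k))} [GrpObj B] (iB : B ⟶ G) (hB : Red.IsBorelOver k iB)
    (g : PT ⟶ G) : Red.IsBorelOver k (AGF.conjBy g iB) := by
  haveI := hB.1
  haveI := hB.2.1
  haveI := hB.2.2.1
  haveI := hB.2.2.2.1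
  haveI : IsMonHom (AGF.conjBy g iB) := by rw [conjBy_eq]; infer_instance
  haveI : IsClosedImmersion (AGF.conjBy g iB).left := by
    rw [conjBy_eq]; exact inferInstanceAs (IsClosedImmersion (iB.left ≫ (conjM g).left))
  haveI : LocallyOfFiniteType B.hom := by rw [← Over.w iB]; infer_instance
  haveI : QuasiCompact B.hom := by rw [← Over.w iB]; infer_instance
  haveI : Mono iB := mono_of_closedImmersion iB
  haveI : Mono (AGF.conjBy g iB) := mono_of_closedImmersion _
  obtain ⟨X₀, a₀, o₀, hl₀, -, hf₀, hs₀, hq₀⟩ := GrpSchLib.HomogeneousQuot.exists_quot G B iB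
  have hX₀ : AGF.IsQuotient iB X₀ a₀ o₀ := ⟨hl₀, hf₀, hs₀, hq₀⟩
  haveI := isProper_borel iB hB hX₀
  obtain ⟨X, a, o, hl, -, hfl, hsu, hsq⟩ := GrpSchLib.HomogeneousQuot.exists_quot G B (AGF.conjBy g iB)
  have hX : AGF.IsQuotient (AGF.conjBy g iB) X a o := ⟨hl, hfl, hsu, hsq⟩
  haveI : IsProper X.hom := isProper_of_conj iB (AGF.conjBy g iB) g⁻¹ (𝟙 B) (by
    rw [Category.id_comp, conjBy_eq, conjBy_eq, Category.assoc, conjM_comp, inv_mul_cancel, conjM_one,
      Category.comp_id]) hX₀ hX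
  exact isBorel_of_proper _ hB.2.2.2.2.1 hX

end Groth.Agent.AGFLib.Borel
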