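import Groth.Agent.S14600
import Groth.Agent.Lib.AVFrobExists
import Groth.Agent.Lib.AVWeil
import Groth.Agent.Lib.AVEnd0
import Groth.Agent.GrpSchLib.AntiAffineHom
import Groth.Agent.TorusQI.Geom
import Groth.Agent.H23.MaxAbelian
import Groth.Agent.GrpSchLib.AVSubgroup
import Mathlib.FieldTheory.RatFunc.Degree
import Mathlib.FieldTheory.Perfect
import Mathlib.LinearAlgebra.Matrix.Charpoly.Eigs

/-! Anti-affine groups over finite fields are proper. -/

set_option autoImplicit false
set_option linter.style.haveILetI false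
set_option linter.unusedSectionVars false
set_option backward.isDefEq.respectTransparency false
set_option backward.isDefEq.respectTransparency.types false
set_option maxHeartbeats 1000000
set_option synthInstance.maxHeartbeats 400000

universe u

open CategoryTheory CategoryTheory.Limits MonoidalCategory CartesianMonoidalCategory MonObj AlgebraicGeometry
open scoped Polynomial

namespace Groth.Agent.AGFLib.AntiAffineFinite

open AVFrobExists HomRepLib

variable {k : Type u} [Field k]

local notation "Sk" => Over (Spec (CommRingCat.of k))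

/-- The iterated Frobenius of the spectrum of a field as the spectrum of a ring map. -/
theorem frobPow_Spec (p n : ℕ) [Fact p.Prime] (R : Type u) [CommRing R] [CharP R p] (e : R →+* R)
    (he : ∀ x, e x = x ^ p ^ n) : frobPow p (Spec (CommRingCat.of R)) n = Spec.map (CommRingCat.ofHom e) := by
  refine ext_of_isAffine (CommRingCat.hom_ext (RingHom.ext fun s => ?_))
  apply (Scheme.ΓSpecIso (CommRingCat.of R)).commRingCatIsoToRingEquiv.injective
  have h1 : (frobPow p (Spec (CommRingCat.of R)) n).appTop.hom s = s ^ p ^ n := by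
    show (frobPow p (Spec (CommRingCat.of R)) n).app ⊤ s = _
    rw [Scheme.Hom.app_eq_appLE, frobPow_appLE]
    exact congrArg (fun g => g.hom s ^ p ^ n) ((Spec (CommRingCat.of R)).presheaf.map_id _)
  have h2 := congrArg (fun g => g.hom s) (Scheme.ΓSpecIso_naturality (CommRingCat.ofHom e))
  rw [h1, map_pow]
  refine ((he _).symm.trans ?_)
  exact h2.symm

section Frob

variable (p n : ℕ) [Fact p.Prime] [CharP k p] (hk : frobPow p (Spec (CommRingCat.of k)) n = 𝟙 _)

/-- The Frobenius endomorphism of an object over a finite field. -/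
noncomputable def fr (X : Sk) : X ⟶ X :=
  haveI : FrobSch.IsCharP X.left p := FrobSch.IsCharP.of_hom X.hom p
  Over.homMk (frobPow p X.left n) (by rw [frobPow_comp, hk, Category.comp_id])

theorem fr_naturality {X Y : Sk} (f : X ⟶ Y) : fr p n hk X ≫ f = f ≫ fr p n hk Y := by
  haveI : FrobSch.IsCharP X.left p := FrobSch.IsCharP.of_hom X.hom p
  haveI : FrobSch.IsCharP Y.left p := FrobSch.IsCharP.of_hom Y.hom p
  exact Over.OverMorphism.ext (frobPow_comp p n f.left)

theorem fr_unit : fr p n hk (𝟙_ Sk) = 𝟙 _ := toUnit_unique _ _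

theorem isMonHom_fr (X : Sk) [GrpObj X] : IsMonHom (fr p n hk X) where
  one_hom := by rw [← fr_naturality, fr_unit, Category.id_comp]
  mul_hom := by
    have e : fr p n hk (X ⊗ X) = fr p n hk X ⊗ₘ fr p n hk X := by
      apply CartesianMonoidalCategory.hom_ext
      · rw [fr_naturality, tensorHom_fst]
      · rw [fr_naturality, tensorHom_snd]
    rw [← fr_naturality, e]

end Frob

/-- Endomorphisms intertwined by a homomorphism: so are their polynomials. -/
theorem aeval_comm {G A : Sk} [GrpObj G] [IsCommMonObj G] [GrpObj A] [IsCommMonObj A] (a : EndAV.End G)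
    (b : EndAV.End A) (f : EndAV.Hom G A) (h : a ≫ f = f ≫ b) (P : ℤ[X]) :
    (Polynomial.aeval a P : EndAV.End G) ≫ f = f ≫ (Polynomial.aeval b P : EndAV.End A) := by
  have hC : ∀ c : ℤ, (c : EndAV.End G) ≫ f = f ≫ (c : EndAV.End A) := fun c => by
    rw [← zsmul_one c, ← zsmul_one c]
    show (c • 𝟙 (CommGrp.mk G)) ≫ f = f ≫ (c • 𝟙 (CommGrp.mk A))
    rw [Preadditive.zsmul_comp, Preadditive.comp_zsmul, Category.id_comp, Category.comp_id]
  induction P using Polynomial.induction_on with
  | C c => simpa [Polynomial.aeval_C] using hC c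
  | add P Q hP hQ =>
    rw [map_add, map_add]
    exact (Preadditive.add_comp ..).trans ((congrArg₂ (· + ·) hP hQ).trans (Preadditive.comp_add ..).symm)
  | monomial m c ih =>
    rw [pow_succ, ← _root_.mul_assoc]
    simp only [map_mul, Polynomial.aeval_X] at ih ⊢
    show (a ≫ _) ≫ f = f ≫ (b ≫ _)
    rw [Category.assoc]
    exact (congrArg (a ≫ ·) ih).trans ((reassoc_of% h) _)

/-- An integral matrix divisible by `q > 1`, killed by a polynomial with all roots of absolute value `√q`, is empty. -/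
theorem eq_zero_of_weil {r : ℕ} (M : Matrix (Fin r) (Fin r) ℤ) (q : ℕ) (hq : 1 < q)
    (hdvd : ∀ i j, (q : ℤ) ∣ M i j) (P : ℤ[X]) (hP : Polynomial.aeval M P = 0)
    (hroot : ∀ z : ℂ, Polynomial.aeval z P = 0 → ‖z‖ = Real.sqrt q) : r = 0 := by
  by_contra hr
  choose D hD using hdvd
  let N : Matrix (Fin r) (Fin r) ℤ := Matrix.of fun i j => D i j
  have hMN : M = (q : ℤ) • N := by
    ext i j
    simp [N, hD i j]
  let f := (Int.castRingHom ℂ)
  let Mc : Matrix (Fin r) (Fin r) ℂ := f.mapMatrix M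
  have hPc : Polynomial.aeval Mc P = 0 := by
    rw [show Mc = (Int.castRingHom ℂ).mapMatrix.toIntAlgHom M from rfl, Polynomial.aeval_algHom_apply, hP, map_zero]
  have hroots : ∀ z ∈ Mc.charpoly.roots, ‖z‖ = Real.sqrt q := fun z hz => by
    haveI : Nonempty (Fin r) := ⟨⟨0, Nat.pos_of_ne_zero hr⟩⟩
    have hs : z ∈ spectrum ℂ Mc := Matrix.mem_spectrum_iff_isRoot_charpoly.2 (Polynomial.mem_roots'.1 hz).2
    have h1 := spectrum.subset_polynomial_aeval Mc (P.map f) ⟨z, hs, rfl⟩
    rw [show f = algebraMap ℤ ℂ from rfl, Polynomial.aeval_map_algebraMap, hPc, spectrum.zero_eq] at h1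
    refine hroot z ?_
    rw [Polynomial.aeval_def, ← Polynomial.eval_map]
    exact h1
  have hdet : ‖Mc.det‖ = Real.sqrt q ^ r := by
    rw [Matrix.det_eq_prod_roots_charpoly, show ‖Mc.charpoly.roots.prod‖ = (Mc.charpoly.roots.map (fun z => ‖z‖)).prod from
      map_multiset_prod (normHom : ℂ →*₀ ℝ) _, Multiset.map_congr rfl hroots, Multiset.map_const', Multiset.prod_replicate]
    congr 1
    rw [← (IsAlgClosed.splits Mc.charpoly).natDegree_eq_card_roots, Matrix.charpoly_natDegree_eq_dim, Fintype.card_fin]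
  have hdet2 : Mc.det = ((q : ℂ) ^ r) * ((N.det : ℤ) : ℂ) := by
    rw [← RingHom.map_det, hMN, Matrix.det_smul, Fintype.card_fin, map_mul, map_pow, map_natCast]
    rfl
  have hs1 : 1 < Real.sqrt q := by
    rw [Real.lt_sqrt zero_le_one, one_pow]
    exact_mod_cast hq
  rw [hdet2, norm_mul, norm_pow, Complex.norm_natCast, Complex.norm_intCast] at hdet
  have hs0 : 0 < Real.sqrt q := zero_lt_one.trans hs1
  have hN : N.det ≠ 0 := fun h => by
    rw [h] at hdet
    simp at hdet
    exact absurd hdet.symm (pow_ne_zero r hs0.ne')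
  have h1N : (1 : ℝ) ≤ |((N.det : ℤ) : ℝ)| := by exact_mod_cast Int.one_le_abs hN
  have h2 : Real.sqrt q ^ r < (q : ℝ) ^ r := by
    refine pow_lt_pow_left₀ ?_ hs0.le hr
    calc Real.sqrt q = Real.sqrt q * 1 := (_root_.mul_one _).symm
      _ < Real.sqrt q * Real.sqrt q := by gcongr
      _ = q := Real.mul_self_sqrt (Nat.cast_nonneg q)
  nlinarith [pow_nonneg (Nat.cast_nonneg q : (0 : ℝ) ≤ q) r]

section Torus

/-- A power in `K(t)` has degree divisible by the exponent. -/
theorem dvd_of_zpow_eq_pow {K : Type u} [Field K] (a : ℤ) (q : ℕ) (z : RatFunc K) (h : (RatFunc.X : RatFunc K) ^ a = z ^ q) :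
    (q : ℤ) ∣ a := by
  have hX : ∀ b : ℕ, ∀ w : RatFunc K, w ≠ 0 → (w ^ b).intDegree = b * w.intDegree := fun b w hw => by
    induction b with
    | zero => simp
    | succ b ih => rw [pow_succ, RatFunc.intDegree_mul (pow_ne_zero _ hw) hw, ih]; push_cast; ring
  have hX0 : (RatFunc.X : RatFunc K) ≠ 0 := RatFunc.X_ne_zero
  obtain ⟨b, rfl | rfl⟩ := a.eq_nat_or_neg
  · by_cases hz : z = 0
    · rcases Nat.eq_zero_or_pos q with hq | hq
      · rw [hq, pow_zero, zpow_natCast] at h
        have := congrArg RatFunc.intDegree h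
        rw [hX b _ hX0, RatFunc.intDegree_X, RatFunc.intDegree_one, _root_.mul_one] at this
        exact this ▸ dvd_zero _
      · rw [hz, zero_pow hq.ne', zpow_natCast] at h
        exact absurd h (pow_ne_zero _ hX0)
    rw [zpow_natCast] at h
    have := congrArg RatFunc.intDegree h
    rw [hX b _ hX0, hX q _ hz, RatFunc.intDegree_X, _root_.mul_one] at this
    exact ⟨_, this⟩
  · by_cases hz : z = 0
    · rcases Nat.eq_zero_or_pos q with hq | hq
      · rw [hq, pow_zero, zpow_neg, zpow_natCast, inv_eq_one] at h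
        have := congrArg RatFunc.intDegree h
        rw [hX b _ hX0, RatFunc.intDegree_X, RatFunc.intDegree_one, _root_.mul_one] at this
        exact this ▸ (dvd_neg.2 (dvd_zero _))
      · rw [hz, zero_pow hq.ne'] at h
        exact absurd h (zpow_ne_zero _ hX0)
    rw [zpow_neg, zpow_natCast, inv_eq_iff_eq_inv, ← inv_pow] at h
    have := congrArg RatFunc.intDegree h
    rw [hX b _ hX0, hX q _ (inv_ne_zero hz), RatFunc.intDegree_X, _root_.mul_one] at this
    exact dvd_neg.2 ⟨_, this⟩

/-- A character which is a power as a function is divisible. -/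
theorem dvd_of_ev_eq_pow {K : Type u} [Field K] {r : ℕ} (q : ℕ) (w : Fin r → ℤ) (i : Fin r)
    (t : Γ((Red.DS (Spec (CommRingCat.of K)) (Fin r → ℤ)).left, ⊤))
    (h : ev (𝟙 (Red.DS (Spec (CommRingCat.of K)) (Fin r → ℤ))) w = t ^ q) : (q : ℤ) ∣ w i := by
  let χ : Multiplicative (Fin r → ℤ) →* RatFunc K :=
    { toFun := fun m => (RatFunc.X : RatFunc K) ^ (Multiplicative.toAdd m i)
      map_one' := by rw [toAdd_one, Pi.zero_apply, zpow_zero]
      map_mul' := fun m m' => by rw [toAdd_mul, Pi.add_apply, zpow_add₀ RatFunc.X_ne_zero] }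
  obtain ⟨x, hx⟩ := exists_evB (S := Spec (CommRingCat.of K))
    (Spec.map (CommRingCat.ofHom (algebraMap K (RatFunc K)))) χ
  have h1 : evB x w = ((Scheme.ΓSpecIso (CommRingCat.of (RatFunc K))).hom.hom (x.left.appTop.hom t)) ^ q := by
    unfold evB
    conv_lhs => rw [← Category.comp_id x]
    rw [ev_comp, h, map_pow]
    exact map_pow _ _ _
  exact dvd_of_zpow_eq_pow _ _ _ ((hx w).symm.trans h1)

variable (p n : ℕ) [Fact p.Prime] [CharP k p] (hk : frobPow p (Spec (CommRingCat.of k)) n = 𝟙 _)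

/-- After extension to a perfect field every function pulled back along the Frobenius is a power. -/
theorem appTop_bc_fr (X : Sk) (K : Type u) [Field K] [CharP K p] [PerfectRing K p]
    (σ : Spec (CommRingCat.of K) ⟶ Spec (CommRingCat.of k)) (s : Γ((Red.bc σ X).left, ⊤)) :
    ∃ t, ((Over.pullback σ).map (fr p n hk X)).left.appTop.hom s = t ^ p ^ n := by
  haveI : FrobSch.IsCharP (pullback X.hom σ) p := FrobSch.IsCharP.of_hom (pullback.snd X.hom σ) p
  haveI : FrobSch.IsCharP X.left p := FrobSch.IsCharP.of_hom X.hom p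
  let φ := frobPow p (Spec (CommRingCat.of K)) n
  haveI : IsIso φ := by
    rw [show φ = Spec.map (CommRingCat.ofHom (iterateFrobeniusEquiv K p n).toRingHom) from
      frobPow_Spec p n K _ fun x => iterateFrobeniusEquiv_def K p n x]
    exact inferInstanceAs (IsIso (Spec.map (iterateFrobeniusEquiv K p n).toCommRingCatIso.hom))
  have hφσ : φ ≫ σ = σ := by rw [frobPow_comp, hk, Category.comp_id]
  let θ : pullback X.hom σ ⟶ pullback X.hom σ := pullback.map _ _ _ _ (𝟙 _) φ (𝟙 _) (by simp) (by simp [hφσ])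
  haveI : IsIso θ := inferInstanceAs (IsIso (pullback.map _ _ _ _ _ _ _ _ _))
  let F : pullback X.hom σ ⟶ pullback X.hom σ := ((Over.pullback σ).map (fr p n hk X)).left
  have hF : F ≫ θ = frobPow p (pullback X.hom σ) n := by
    apply pullback.hom_ext
    · rw [Category.assoc, pullback.lift_fst, Category.comp_id, frobPow_comp]
      exact pullback.lift_fst _ _ _
    · rw [Category.assoc, pullback.lift_snd, frobPow_comp, ← Category.assoc]
      exact congrArg (· ≫ φ) (pullback.lift_snd _ _ _)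
  refine ⟨(inv θ).appTop.hom s, ?_⟩
  show F.appTop.hom s = _
  have h1 : (inv θ).appTop.hom s ^ p ^ n = (frobPow p (pullback X.hom σ) n).appTop.hom ((inv θ).appTop.hom s) := by
    symm
    show (frobPow p (pullback X.hom σ) n).app ⊤ _ = _
    rw [Scheme.Hom.app_eq_appLE, frobPow_appLE]
    exact congrArg (fun g => g.hom ((inv θ).appTop.hom s) ^ p ^ n) ((pullback X.hom σ).presheaf.map_id _)
  rw [h1, ← hF]
  show F.appTop.hom s = ((F ≫ θ).appTop ≫ 𝟙 _).hom ((inv θ).appTop.hom s)
  rw [Category.comp_id]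
  show _ = F.appTop.hom (θ.appTop.hom ((inv θ).appTop.hom s))
  refine congrArg _ ?_
  show s = ((θ ≫ inv θ).appTop).hom s
  rw [IsIso.hom_inv_id]
  rfl

/-- A torus over a finite field whose Frobenius satisfies a Weil polynomial of weight one is trivial. -/
theorem id_eq_one_of_weil (hn : 0 < n) (T : Sk) [GrpObj T] [IsCommMonObj T] (hT : Red.IsTorus T) (P : ℤ[X])
    (hfr : IsMonHom (fr p n hk T)) (hP : Polynomial.aeval (EndAV.End.of (fr p n hk T)) P = 0)
    (hroot : ∀ z : ℂ, Polynomial.aeval z P = 0 → ‖z‖ = Real.sqrt ((p ^ n : ℕ) : ℝ)) : 𝟙 T = 1 := by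
  let K := AlgebraicClosure k
  haveI : CharP K p := charP_of_injective_algebraMap (algebraMap k K).injective p
  haveI : ExpChar K p := ExpChar.prime Fact.out
  let σ : Spec (CommRingCat.of K) ⟶ Spec (CommRingCat.of k) := Spec.map (CommRingCat.ofHom (algebraMap k K))
  obtain ⟨r, ⟨e⟩⟩ := TorusQI.exists_split_geom hT σ
  let SK := Spec (CommRingCat.of K)
  haveI : Subsingleton ↥SK := inferInstanceAs (Subsingleton (PrimeSpectrum K))
  haveI : Nonempty ↥SK := inferInstanceAs (Nonempty (PrimeSpectrum K))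
  haveI : AddGroup.FG (Fin r → ℤ) := Module.Finite.iff_addGroup_fg.1 inferInstance
  let a : Red.DS SK (Fin r → ℤ) ⟶ Red.bc σ T := e.inv.hom.hom
  let c : Red.bc σ T ⟶ Red.DS SK (Fin r → ℤ) := e.hom.hom.hom
  haveI : IsMonHom a := e.inv.hom.isMonHom_hom
  haveI : IsMonHom c := e.hom.hom.isMonHom_hom
  have hca : c ≫ a = 𝟙 _ := congrArg (fun k => k.hom.hom) e.hom_inv_id
  have hac : a ≫ c = 𝟙 _ := congrArg (fun k => k.hom.hom) e.inv_hom_id
  let F := Over.pullback σ
  have hex : ∀ χ : EndAV.End T, ∃ ψ : Module.End ℤ (Fin r → ℤ),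
      a ≫ F.map χ.toHom ≫ c = Red.DSmap SK ψ.toAddMonoidHom := fun χ => by
    haveI : IsMonHom (F.map χ.toHom) := inferInstanceAs (IsMonHom ((Over.pullback σ).map χ.toHom))
    obtain ⟨y⟩ := ‹Nonempty ↥SK›
    obtain ⟨ψ, V, hy, hV⟩ := TorusQI.exists_induced (a ≫ F.map χ.toHom ≫ c) y
    refine ⟨ψ.toIntLinearMap, ?_⟩
    have h0 := hV _ (𝟙 _) (fun z _ => (Subsingleton.elim y z) ▸ hy)
    rwa [Category.id_comp, Category.id_comp] at h0
  choose Ψ hΨ using hex
  have hinj : ∀ {ψ ψ' : Module.End ℤ (Fin r → ℤ)}, Red.DSmap SK ψ.toAddMonoidHom = Red.DSmap SK ψ'.toAddMonoidHom →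
      ψ = ψ' := fun h => LinearMap.toAddMonoidHom_injective (TorusQI.DSmap_injective h)
  have hadd : ∀ χ χ', Ψ (χ + χ') = Ψ χ + Ψ χ' := fun χ χ' => by
    refine hinj (ev_ext fun m => ?_)
    rw [← hΨ, EndAV.End.toHom_add, show F.map (χ.toHom * χ'.toHom) = F.map χ.toHom * F.map χ'.toHom from
      Functor.map_mul F _ _, MonObj.mul_comp, MonObj.comp_mul, hΨ, hΨ, ev_mul,
      ← Category.id_comp (Red.DSmap SK (Ψ χ).toAddMonoidHom), ← Category.id_comp (Red.DSmap SK (Ψ χ').toAddMonoidHom),
      ← Category.id_comp (Red.DSmap SK (Ψ χ + Ψ χ').toAddMonoidHom), ev_DSmap, ev_DSmap, ev_DSmap]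
    exact (ev_add _ _ _).symm
  have hone : Ψ 1 = 1 := by
    refine hinj ?_
    rw [← hΨ, EndAV.End.toHom_one, F.map_id, Category.id_comp, hac]
    exact TorusQI.DSmap_id.symm
  have hmul : ∀ χ χ', Ψ (χ * χ') = Ψ χ' * Ψ χ := fun χ χ' => by
    refine hinj ?_
    rw [← hΨ, EndAV.End.toHom_mul, F.map_comp]
    calc a ≫ (F.map χ'.toHom ≫ F.map χ.toHom) ≫ c
        = (a ≫ F.map χ'.toHom ≫ c) ≫ (a ≫ F.map χ.toHom ≫ c) := by
          simp only [Category.assoc, reassoc_of% hca]
      _ = _ := by rw [hΨ, hΨ, TorusQI.DSmap_comp]; rfl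
  let Φ : EndAV.End T →+* (Module.End ℤ (Fin r → ℤ))ᵐᵒᵖ :=
    RingHom.mk' ⟨⟨fun χ => .op (Ψ χ), congrArg MulOpposite.op hone⟩, fun χ χ' => congrArg MulOpposite.op (hmul χ χ')⟩
      fun χ χ' => congrArg MulOpposite.op (hadd χ χ')
  let ψ := Ψ (EndAV.End.of (fr p n hk T))
  have hψP : Polynomial.aeval ψ P = 0 := by
    have h := Polynomial.map_aeval_eq_aeval_map (ψ := Φ) (φ := RingHom.id ℤ) (RingHom.ext_int _ _) P
      (EndAV.End.of (fr p n hk T))
    rw [hP, map_zero, Polynomial.map_id] at h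
    have hu : ∀ Q : ℤ[X], Polynomial.aeval (MulOpposite.op ψ) Q = MulOpposite.op (Polynomial.aeval ψ Q) := fun Q => by
      induction Q using Polynomial.induction_on' with
      | add P Q hP hQ => simp [hP, hQ]
      | monomial m c => simp [Polynomial.aeval_monomial, ← MulOpposite.op_pow]; exact (Int.cast_commute c _).eq
    exact MulOpposite.op_injective ((hu P).symm.trans h.symm)
  haveI : PerfectRing K p := inferInstance
  have hdvd : ∀ (v : Fin r → ℤ) (i : Fin r), ((p ^ n : ℕ) : ℤ) ∣ ψ v i := fun v i => by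
    obtain ⟨t, ht⟩ := appTop_bc_fr p n hk T K σ (ev c v)
    refine dvd_of_ev_eq_pow (K := K) (p ^ n) (ψ v) i (a.left.appTop.hom t) ?_
    rw [show ψ v = ψ.toAddMonoidHom v from rfl, ← ev_DSmap, Category.id_comp, ← hΨ, ev_comp, ev_comp]
    exact (congrArg a.left.appTop.hom ht).trans (map_pow _ _ _)
  have hr : r = 0 := by
    refine eq_zero_of_weil (LinearMap.toMatrix' ψ) (p ^ n) (one_lt_pow₀ (Fact.out : p.Prime).one_lt hn.ne')
      (fun i j => ?_) P ?_ hroot
    · rw [LinearMap.toMatrix'_apply]; exact hdvd _ i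
    · rw [show LinearMap.toMatrix' ψ = LinearMap.toMatrixAlgEquiv' ψ from rfl, Polynomial.aeval_algEquiv,
        AlgHom.comp_apply, hψP]
      exact map_zero _
  subst hr
  have hid : (𝟙 (Red.bc σ T)) = 1 := by
    have h1 : c = 1 := ev_ext fun m => by
      rw [Subsingleton.elim m 0, ev_zero, ev_one]
    rw [← hca, h1, MonObj.one_comp]
  refine GrpSchLib.AntiAffine.eq_of_map_eq (algebraMap k K) ?_
  show F.map (𝟙 T) = F.homMonoidHom 1
  rw [F.map_id, map_one]
  exact hid

end Torus

/-- An anti-affine group over a finite field is proper. -/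
theorem isProper [Finite k] (G : Sk) [GrpObj G] [LocallyOfFiniteType G.hom] [QuasiCompact G.hom]
    (hG : Function.Bijective ((Scheme.ΓSpecIso (CommRingCat.of k)).inv ≫ G.hom.appTop).hom) : IsProper G.hom := by
  haveI := Fintype.ofFinite k
  obtain ⟨p, hp⟩ := CharP.exists k
  haveI := hp
  obtain ⟨n, hpp, hn⟩ := FiniteField.card k p
  haveI : Fact p.Prime := ⟨hpp⟩
  have hk : frobPow p (Spec (CommRingCat.of k)) n = 𝟙 _ := by
    rw [frobPow_Spec p n k (RingHom.id k) fun x => by rw [RingHom.id_apply, ← hn, FiniteField.pow_card]]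
    exact Spec.map_id _
  have hG' : Function.Bijective G.hom.appTop := by
    have h := hG
    rw [CommRingCat.hom_comp, RingHom.coe_comp] at h
    exact (Function.Bijective.of_comp_iff _ (ConcreteCategory.bijective_of_isIso (Scheme.ΓSpecIso (CommRingCat.of k)).inv)).mp h
  haveI : ConnectedSpace G.left := GrpSchLib.AntiAffine.connectedSpace_of_bijective hG'
  haveI : IsCommMonObj G := ⟨by
    have h := GrpSchLib.AntiAffine.commute hG' (𝟙 G) ((Category.comp_id _).trans (MonObj.one_eq_one G))
      (snd G G) (fst G G)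
    simp only [Category.comp_id] at h
    rw [Hom.mul_def, Hom.mul_def] at h
    rw [lift_fst_snd, Category.id_comp] at h
    rw [show (β_ G G).hom = lift (snd G G) (fst G G) by apply CartesianMonoidalCategory.hom_ext <;> simp]
    exact h⟩
  obtain ⟨T, _, i, A, _, q, hi, hic, hT, hq, hqs, hqf, hkq, hA, hAs, hAc⟩ := S14600.result k p G hG
  haveI := hi; haveI := hic; haveI := hq; haveI := hqs; haveI := hqf; haveI := hA; haveI := hAs; haveI := hAc
  haveI : GeometricallyIntegral A.hom := GrpSchLib.AVSubgroup.geometricallyIntegral_group A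
  haveI : IsCommMonObj A := isCommMonObj_of_isProper_of_geometricallyIntegral A
  haveI : Mono i.left := inferInstance
  haveI : Mono i := (Over.forget _).mono_of_mono_map (f := i) (by assumption)
  haveI : IsCommMonObj T := ⟨by
    rw [← cancel_mono i, Category.assoc, IsMonHom.mul_hom i, ← Category.assoc, ← BraidedCategory.braiding_naturality,
      Category.assoc, IsCommMonObj.mul_comm]
    ⟩
  let fG := fr p n hk G
  let fA := fr p n hk A
  let fT := fr p n hk T
  haveI : IsMonHom fG := isMonHom_fr p n hk G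
  haveI : IsMonHom fA := isMonHom_fr p n hk A
  haveI : IsMonHom fT := isMonHom_fr p n hk T
  -- the characteristic polynomial
  let Ω := AlgebraicClosure k
  obtain ⟨g, hg⟩ := AVTors.exists_dimNat A
  obtain ⟨P, hPm, hPd, hPv, hPT⟩ := AVTateBC.exists_charpoly Ω A hg (EndAV.End.of fA)
  have hPA : Polynomial.aeval (EndAV.End.of fA) P = 0 := by
    obtain ⟨l, hlp, hl⟩ := AVHomLattice.exists_prime k
    haveI := Fact.mk hlp
    obtain ⟨e⟩ := AVTors.exists_linearEquiv_pt Ω A hg l hl
    haveI : Module.Free ℤ_[l] (AbDual.TateMod A l (SGA7.pt Ω)) := Module.Free.of_equiv e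
    haveI : Module.Finite ℤ_[l] (AbDual.TateMod A l (SGA7.pt Ω)) := Module.Finite.equiv e
    exact AVEnd0.tateRep_injective Ω l hl (by
      rw [AVEnd0.aeval_tateRep, ← hPT l hl, LinearMap.aeval_self_charpoly, map_zero])
  haveI : FrobSch.IsCharP A.left p := FrobSch.IsCharP.of_hom A.hom p
  have hroot : ∀ z : ℂ, Polynomial.aeval z P = 0 → ‖z‖ = Real.sqrt ((p ^ (n : ℕ) : ℕ) : ℝ) := fun z hz => by
    refine AVWeil.norm_root Ω A hg fA (p ^ (n : ℕ)) (frobPow_base p n) (fun U => (frobPow_preimage p n U).ge)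
      (fun U s => ?_) hPm hPd hPv ?_
    · show (frobPow p A.left n).appLE U U _ s = _
      rw [frobPow_appLE]
      exact congrArg (fun g => g.hom s ^ _) (A.left.presheaf.map_id _)
    · rw [Polynomial.mem_roots', Polynomial.IsRoot, Polynomial.eval_map]
      exact ⟨(hPm.map _).ne_zero, hz⟩
  -- the polynomial kills the Frobenius of the group
  let EG : EndAV.End G := Polynomial.aeval (EndAV.End.of fG) P
  have h1 : EG.toHom ≫ q = toUnit G ≫ η[A] := by
    have h := aeval_comm (EndAV.End.of fG) (EndAV.End.of fA) (EndAV.Hom.of q)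
      (EndAV.Hom.ext (fr_naturality p n hk q)) P
    rw [hPA, Limits.comp_zero] at h
    exact (congrArg EndAV.Hom.toHom h).trans Hom.one_def
  haveI : IsAffineHom T.hom := (TransLib.multTypeFT_essFree (TorusQI.isMultTypeFT_of_isTorus hT)).1
  haveI : IsAffine T.left := isAffine_of_isAffineHom T.hom
  let l : G ⟶ T := Over.homMk (hkq.lift EG.toHom (toUnit G) h1).left (Over.w (hkq.lift EG.toHom (toUnit G) h1))
  have hl : l ≫ i = EG.toHom := hkq.lift_fst _ _ h1
  have hl1 : l = 1 := by
    rw [GrpSchLib.AntiAffine.eq_const_of_isAffine hG' l η[G], Hom.one_def]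
    congr 1
    rw [← cancel_mono i, Category.assoc, hl, IsMonHom.one_hom i]
    exact IsMonHom.one_hom EG.toHom
  have hEG : EG = 0 := EndAV.End.ext (by rw [← hl, hl1, MonObj.one_comp]; rfl)
  have hPTor : Polynomial.aeval (EndAV.End.of fT) P = 0 := by
    have h := aeval_comm (EndAV.End.of fT) (EndAV.End.of fG) (EndAV.Hom.of i)
      (EndAV.Hom.ext (fr_naturality p n hk i)) P
    rw [show Polynomial.aeval (EndAV.End.of fG) P = 0 from hEG, Limits.comp_zero] at h
    refine EndAV.End.ext ((cancel_mono i).1 ?_)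
    exact (congrArg EndAV.Hom.toHom h).trans (MonObj.one_comp i).symm
  have hT1 : 𝟙 T = 1 := id_eq_one_of_weil p n hk n.pos T hT P inferInstance hPTor hroot
  have hi1 : i = 1 := by rw [← Category.id_comp i, hT1, MonObj.one_comp]
  -- so the quotient map is an isomorphism
  haveI : Mono q := ⟨fun {Z} x y hxy => by
    have h0 : (x * y⁻¹) ≫ q = toUnit Z ≫ η[A] := by
      rw [MonObj.mul_comp, GrpObj.inv_comp, hxy, _root_.mul_inv_cancel]
      exact Hom.one_def
    have hl := hkq.lift_fst _ _ h0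
    exact mul_inv_eq_one.1 (hl.symm.trans ((congrArg (hkq.lift _ _ h0 ≫ ·) hi1).trans (MonObj.comp_one _)))⟩
  haveI : Mono q.left := Over.mono_left_of_mono q
  haveI := GrpSchLib.AntiAffine.isSeparated_grp A
  haveI : LocallyOfFiniteType (q.left ≫ A.hom) := by rw [Over.w]; infer_instance
  haveI : LocallyOfFiniteType q.left := locallyOfFiniteType_of_comp q.left A.hom
  haveI : IsLocallyNoetherian A.left := LocallyOfFiniteType.isLocallyNoetherian A.hom
  haveI : LocallyOfFinitePresentation q.left := LocallyOfFinitePresentation.iff_locallyOfFiniteType.2 inferInstance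
  haveI : IsOpenImmersion q.left := IsOpenImmersion.of_flat_of_mono q.left
  haveI : IsIso q.left := (isIso_iff_isOpenImmersion_and_surjective q.left).2 ⟨inferInstance, inferInstance⟩
  rw [← Over.w q]
  infer_instance

end Groth.Agent.AGFLib.AntiAffineFinite
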