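import Groth.Agent.S6085
import Groth.Agent.AGFLib.AntiAffineFinite
import Groth.Agent.GrpSchLib.AntiAffineBC
import Mathlib.RingTheory.IntegralClosure.IsIntegralClosure.Basic
import Mathlib.RingTheory.Adjoin.FG

/-! Anti-affine groups over algebraic extensions of finite fields are proper. -/

set_option autoImplicit false
set_option backward.isDefEq.respectTransparency false
set_option backward.isDefEq.respectTransparency.types false
set_option maxHeartbeats 1000000

universe u

open CategoryTheory CategoryTheory.Limits MonoidalCategory CartesianMonoidalCategory MonObj AlgebraicGeometry Opposite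

noncomputable section

namespace Groth.Agent.AGFLib.FiniteFieldModel

variable (A : Type u) [CommRing A]

/-- Finitely generated subrings. -/
def FTSub : Type u := {S : Subalgebra ℤ A // S.FG}

instance : Preorder (FTSub A) := Subtype.preorder _
instance : Nonempty (FTSub A) := ⟨⟨⊥, Subalgebra.fg_bot⟩⟩
instance : IsDirectedOrder (FTSub A) := ⟨fun a b => ⟨⟨a.1 ⊔ b.1, a.2.sup b.2⟩, le_sup_left (α := Subalgebra ℤ A), le_sup_right (α := Subalgebra ℤ A)⟩⟩
instance : IsFiltered (FTSub A) := isFiltered_of_directed_le_nonempty _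
instance : IsCofiltered (FTSub A)ᵒᵖ := isCofiltered_op_of_isFiltered _

/-- The rings. -/
def rings : FTSub A ⥤ CommRingCat.{u} where
  obj S := CommRingCat.of S.1
  map h := CommRingCat.ofHom (Subalgebra.inclusion (leOfHom h : _)).toRingHom
  map_id S := rfl
  map_comp f g := rfl

/-- The union. -/
def cocone : Cocone (rings A) where
  pt := CommRingCat.of A
  «ι» := { app := fun S => CommRingCat.ofHom S.1.val.toRingHom, naturality := fun S S' h => rfl }

/-- A ring is the colimit of its finitely generated subrings. -/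
def isColimit : IsColimit (cocone A) := by
  haveI : ReflectsColimit (rings A) (forget CommRingCat.{u}) := reflectsColimit_of_reflectsIsomorphisms _ _
  refine isColimitOfReflects (forget CommRingCat.{u}) ?_
  refine Types.FilteredColimit.isColimitOf' _ _ (fun z => ?_) fun S a b h => ⟨S, 𝟙 S, ?_⟩
  · let z' : A := z
    exact ⟨⟨Algebra.adjoin ℤ (({z'} : Finset A) : Set A), Subalgebra.fg_adjoin_finset {z'}⟩,
      ⟨z', Algebra.subset_adjoin (by simp)⟩, rfl⟩
  · exact congrArg _ (Subtype.ext h)

variable {A}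

/-- In a locally finite field finitely generated subrings are finite. -/
theorem finite_of_fg (p : ℕ) [Fact p.Prime] [CharP A p] (halg : ∀ x : A, ∃ n : ℕ, 0 < n ∧ x ^ p ^ n = x)
    (S : Subalgebra ℤ A) (hS : S.FG) : Finite S := by
  obtain ⟨s, rfl⟩ := hS
  have hint : ∀ x : A, IsIntegral ℤ x := fun x => by
    obtain ⟨n, hn, hx⟩ := halg x
    refine ⟨Polynomial.X ^ p ^ n - Polynomial.X, Polynomial.monic_X_pow_sub ?_, ?_⟩
    · rw [Polynomial.degree_X]
      exact_mod_cast one_lt_pow₀ (Fact.out : p.Prime).one_lt hn.ne'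
    · rw [Polynomial.eval₂_sub, Polynomial.eval₂_X_pow, Polynomial.eval₂_X, hx, sub_self]
  haveI : Algebra.IsIntegral ℤ (Algebra.adjoin ℤ (s : Set A)) := ⟨fun x =>
    (isIntegral_algHom_iff (Algebra.adjoin ℤ (s : Set A)).val Subtype.val_injective).1 (hint _)⟩
  haveI : Algebra.FiniteType ℤ (Algebra.adjoin ℤ (s : Set A)) :=
    (Subalgebra.fg_iff_finiteType _).1 (Subalgebra.fg_adjoin_finset s)
  haveI : Module.Finite ℤ (Algebra.adjoin ℤ (s : Set A)) := Algebra.IsIntegral.finite
  obtain ⟨t, ht⟩ := Module.Finite.fg_top (R := ℤ) (M := Algebra.adjoin ℤ (s : Set A))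
  let φ : (t → ZMod p) → Algebra.adjoin ℤ (s : Set A) := fun c => ∑ x : t, ((c x).val : ℤ) • (x : Algebra.adjoin ℤ (s : Set A))
  refine Finite.of_surjective φ fun y => ?_
  have hy : y ∈ Submodule.span ℤ (t : Set (Algebra.adjoin ℤ (s : Set A))) := ht ▸ Submodule.mem_top
  obtain ⟨c, hc⟩ := Submodule.mem_span_finset'.1 hy
  refine ⟨fun x => (c x : ZMod p), ?_⟩
  rw [← hc]
  refine Finset.sum_congr rfl fun x _ => ?_
  refine Subtype.ext ?_
  simp only [zsmul_eq_mul]
  push_cast
  congr 1
  have h : ((((c x : ZMod p)).val : ℤ) : ZMod p) = (c x : ZMod p) := by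
    rw [Int.cast_natCast, ZMod.natCast_zmod_val]
  have h' := congrArg (ZMod.castHom (dvd_refl p) A) h
  rw [map_intCast, map_intCast] at h'
  exact_mod_cast h'

/-- An anti-affine group of finite type over an algebraic extension of a finite field is proper. -/
theorem isProper {K : Type u} [Field K] (p : ℕ) [Fact p.Prime] [CharP K p]
    (halg : ∀ x : K, ∃ n : ℕ, 0 < n ∧ x ^ p ^ n = x) (G : Over (Spec (CommRingCat.of K))) [GrpObj G]
    [LocallyOfFiniteType G.hom] [QuasiCompact G.hom]
    (hG : Function.Bijective ((Scheme.ΓSpecIso (CommRingCat.of K)).inv ≫ G.hom.appTop).hom) : IsProper G.hom := by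
  let D : (FTSub K)ᵒᵖ ⥤ Scheme.{u} := (rings K).op ⋙ Scheme.Spec
  let c : Cone D := Scheme.Spec.mapCone (cocone K).op
  have hc : IsLimit c := isLimitOfPreserves Scheme.Spec (isColimit K).op
  haveI : ∀ (i j : (FTSub K)ᵒᵖ) (h : i ⟶ j), IsAffineHom (D.map h) := fun i j h =>
    inferInstanceAs (IsAffineHom (Spec.map _))
  haveI : ∀ i, CompactSpace (D.obj i) := fun i => inferInstanceAs (CompactSpace (Spec _))
  haveI : ∀ i, QuasiSeparatedSpace (D.obj i) := fun i => inferInstanceAs (QuasiSeparatedSpace (Spec _))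
  haveI := GrpSchLib.AntiAffine.isSeparated_grp G
  haveI : LocallyOfFinitePresentation G.hom := LocallyOfFinitePresentation.iff_locallyOfFiniteType.2 inferInstance
  obtain ⟨⟨S, hS⟩, G₀, _, e, -, h₀, h₁, h₂⟩ := @S6085.result _ _ _ D c hc _ _ _ G ‹GrpObj G›
    ‹LocallyOfFinitePresentation G.hom› ‹QuasiCompact G.hom› inferInstance
  haveI := finite_of_fg p halg S hS
  haveI : Fintype S := Fintype.ofFinite S
  letI : Field S := (Finite.isField_of_domain S).toField
  let φ : S →+* K := S.val.toRingHom
  let G' : Over (Spec (CommRingCat.of S)) := G₀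
  haveI : LocallyOfFiniteType G'.hom := inferInstanceAs (LocallyOfFiniteType G₀.hom)
  haveI : QuasiCompact G'.hom := h₁
  haveI : QuasiSeparated G'.hom := h₂
  have hb : Function.Bijective G.hom.appTop := by
    have h := hG
    rw [CommRingCat.hom_comp, RingHom.coe_comp] at h
    exact (Function.Bijective.of_comp_iff _ (ConcreteCategory.bijective_of_isIso (Scheme.ΓSpecIso (CommRingCat.of K)).inv)).mp h
  have hb' : Function.Bijective (pullback.snd G'.hom (Spec.map (CommRingCat.ofHom φ))).appTop := by
    haveI : IsIso e.inv.left := (Over.forget _).map_isIso e.inv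
    rw [show pullback.snd G'.hom (Spec.map (CommRingCat.ofHom φ)) = e.inv.left ≫ G.hom from (Over.w e.inv).symm,
      Scheme.Hom.comp_appTop]
    exact (ConcreteCategory.bijective_of_isIso e.inv.left.appTop).comp hb
  have hb₀ := GrpSchLib.AntiAffine.bijective_of_bijective_snd G'.hom φ hb'
  letI : GrpObj G' := ‹GrpObj G₀›
  haveI : IsProper G'.hom := AntiAffineFinite.isProper G' (by
    rw [CommRingCat.hom_comp, RingHom.coe_comp]
    exact hb₀.comp (ConcreteCategory.bijective_of_isIso (Scheme.ΓSpecIso (CommRingCat.of S)).inv))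
  haveI : IsIso e.hom.left := (Over.forget _).map_isIso e.hom
  rw [← Over.w e.hom]
  haveI : IsProper (Red.bc (c.π.app (op ⟨S, hS⟩)) G₀).hom :=
    inferInstanceAs (IsProper (pullback.snd G'.hom (Spec.map (CommRingCat.ofHom φ))))
  infer_instance

end Groth.Agent.AGFLib.FiniteFieldModel
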