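import Groth.Agent.AGFLib.GenSubgroup
import Groth.Agent.GrpSchLib.HomFinite
import Groth.Agent.GrpSchLib.Action
import Groth.Agent.GrpSchLib.OrbitDim
import Groth.Agent.S3278
import Groth.Agent.S0348
import Groth.Agent.S2080

/-! Borel's fixed point theorem. -/

set_option backward.isDefEq.respectTransparency false
set_option backward.isDefEq.respectTransparency.types false

universe u

open CategoryTheory Limits AlgebraicGeometry MonoidalCategory CartesianMonoidalCategory MonObj GrpObj
open TopologicalSpace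
open scoped commutatorElement

namespace Groth.Agent.AGFLib.BorelFixed

open Groth.Agent.GrpSchLib Groth.Agent.AGFLib.Gen

section Finite

variable {K : Type u} [Field K] [IsAlgClosed K] {G H : Over (Spec (CommRingCat.of K))}
  [LocallyOfFiniteType G.hom] [LocallyOfFiniteType H.hom] [IsSeparated G.hom] [Nonempty G.left] (u : G ⟶ H)

/-- A quasi-finite morphism with closed image commuting with transitive automorphisms is finite. -/
theorem isFinite_of_homogeneous [QuasiCompact u.left] [LocallyQuasiFinite u.left]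
    (hR : IsClosed (Set.range u.left))
    (htr : ∀ g g₀ : G.left, IsClosed ({g} : Set G.left) → IsClosed ({g₀} : Set G.left) →
      ∃ (S : G.left ≅ G.left) (T : H.left ≅ H.left), S.hom ≫ u.left = u.left ≫ T.hom ∧ S.hom g = g₀) :
    IsFinite u.left := by
  haveI : JacobsonSpace H.left := LocallyOfFiniteType.jacobsonSpace H.hom
  haveI : LocallyOfFiniteType u.left := by
    have : LocallyOfFiniteType (u.left ≫ H.hom) := by rw [Over.w u]; infer_instance
    exact locallyOfFiniteType_of_comp u.left H.hom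
  haveI : IsSeparated u.left := by
    have : IsSeparated (u.left ≫ H.hom) := by rwa [Over.w u]
    exact IsSeparated.of_comp u.left H.hom
  let W : H.left.Opens := ⨆ V : {V : H.left.Opens // IsFinite (u.left ∣_ V)}, V.1
  have hW : IsFinite (u.left ∣_ W) :=
    Groth.Agent.MorLib.GenFinite.isFinite_iSup u.left _ fun V => V.2
  have hout : ∀ y ∉ Set.range u.left, y ∈ W := by
    intro y hy
    let V : H.left.Opens := ⟨(Set.range u.left)ᶜ, hR.isOpen_compl⟩
    refine le_iSup (fun V : {V : H.left.Opens // IsFinite (u.left ∣_ V)} => V.1) ⟨V, ?_⟩ hy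
    haveI : IsEmpty ↥(u.left ⁻¹ᵁ V).toScheme := ⟨fun z => z.2 ⟨z.1, rfl⟩⟩
    infer_instance
  have hne : ∃ r ∈ Set.range u.left, r ∈ W := by
    let Y := u.left.image
    have hrange : Set.range u.left.imageι = Set.range u.left := by
      rw [Scheme.IdealSheafData.range_subschemeι, Scheme.Hom.support_ker]
      exact hR.closure_eq
    haveI : IsLocallyNoetherian H.left := LocallyOfFiniteType.isLocallyNoetherian H.hom
    haveI : Nonempty Y := Nonempty.map u.left.toImage ‹Nonempty G.left›
    obtain ⟨c, hc⟩ : ∃ c : Y, closure {c} ∈ irreducibleComponents (Y : Type u) := by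
      obtain ⟨Z, hZ⟩ : ∃ Z, Z ∈ irreducibleComponents (Y : Type u) :=
        ⟨_, irreducibleComponent_mem_irreducibleComponents (Classical.arbitrary Y)⟩
      refine ⟨hZ.1.genericPoint, ?_⟩
      rw [(hZ.1.isGenericPoint_genericPoint (isClosed_of_mem_irreducibleComponents Z hZ)).def]
      exact hZ
    haveI : LocallyOfFiniteType u.left.toImage := by
      have : LocallyOfFiniteType (u.left.toImage ≫ u.left.imageι) := by
        rw [Scheme.Hom.toImage_imageι]; infer_instance
      exact locallyOfFiniteType_of_comp u.left.toImage u.left.imageι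
    haveI : IsSeparated u.left.toImage := by
      have : IsSeparated (u.left.toImage ≫ u.left.imageι) := by
        rw [Scheme.Hom.toImage_imageι]; infer_instance
      exact IsSeparated.of_comp u.left.toImage u.left.imageι
    haveI : LocallyQuasiFinite u.left.toImage := by
      have : LocallyQuasiFinite (u.left.toImage ≫ u.left.imageι) := by
        rw [Scheme.Hom.toImage_imageι]; infer_instance
      exact LocallyQuasiFinite.of_comp u.left.toImage u.left.imageι
    obtain ⟨V, -, hcV, hV⟩ := (Groth.Agent.S2080.result u.left.toImage c hc).mp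
      (u.left.toImage.finite_preimage_singleton c)
    obtain ⟨W', hW', hWV⟩ := u.left.imageι.isEmbedding.isInducing.isOpen_iff.mp V.2
    let V' : H.left.Opens := ⟨W', hW'⟩
    have hVV : u.left.imageι ⁻¹ᵁ V' = V := TopologicalSpace.Opens.ext hWV
    refine ⟨u.left.imageι c, hrange ▸ ⟨c, rfl⟩,
      le_iSup (fun V : {V : H.left.Opens // IsFinite (u.left ∣_ V)} => V.1) ⟨V', ?_⟩
        (show c ∈ u.left.imageι ⁻¹ᵁ V' from hVV.symm ▸ hcV)⟩
    haveI : IsFinite (u.left.toImage ∣_ (u.left.imageι ⁻¹ᵁ V')) := by rw [hVV]; exact hV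
    have : IsFinite ((u.left.toImage ≫ u.left.imageι) ∣_ V') := by
      rw [morphismRestrict_comp]
      exact MorphismProperty.comp_mem @IsFinite _ _ ‹_›
        (IsZariskiLocalAtTarget.restrict (P := @IsFinite) inferInstance V')
    rwa [Scheme.Hom.toImage_imageι] at this
  have htop : ∀ y, y ∈ W := by
    by_contra h
    push Not at h
    obtain ⟨x, hx⟩ := h
    obtain ⟨y, hyW, hy⟩ := nonempty_inter_closedPoints (Z := (W : Set H.left)ᶜ) ⟨x, hx⟩
      W.2.isClosed_compl.isLocallyClosed
    refine hyW ?_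
    by_cases hyr : y ∈ Set.range u.left
    swap
    · exact hout y hyr
    obtain ⟨r, hrR, hrW⟩ := hne
    haveI : JacobsonSpace G.left := LocallyOfFiniteType.jacobsonSpace G.hom
    obtain ⟨g₀, hg₀W, hg₀⟩ := nonempty_inter_closedPoints (Z := u.left ⁻¹' (W : Set H.left))
      (by obtain ⟨g, rfl⟩ := hrR; exact ⟨g, hrW⟩)
      (W.2.preimage u.left.continuous).isLocallyClosed
    obtain ⟨g, hgy, hg⟩ := nonempty_inter_closedPoints (Z := u.left ⁻¹' {y})
      (by obtain ⟨g, hg⟩ := hyr; exact ⟨g, hg⟩) (hy.preimage u.left.continuous).isLocallyClosed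
    obtain ⟨S, T, hcomm, ha⟩ := htr g g₀ hg hg₀
    have hTW : IsFinite (u.left ∣_ (T.hom ⁻¹ᵁ W)) := by
      haveI := hW
      haveI : IsFinite ((S.hom ≫ u.left) ∣_ W) := by
        rw [morphismRestrict_comp]
        exact MorphismProperty.comp_mem @IsFinite _ _ (IsZariskiLocalAtTarget.restrict (P := @IsFinite) inferInstance _) hW
      have h1 : IsFinite ((u.left ≫ T.hom) ∣_ W) := by
        have e : S.hom ≫ u.left = u.left ≫ T.hom := hcomm
        rwa [← e]
      rw [morphismRestrict_comp] at h1
      exact (MorphismProperty.cancel_right_of_respectsIso @IsFinite _ (T.hom ∣_ W)).mp h1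
    refine le_iSup (fun V : {V : H.left.Opens // IsFinite (u.left ∣_ V)} => V.1) ⟨_, hTW⟩ ?_
    show T.hom y ∈ W
    have h2 : T.hom (u.left g) = u.left (S.hom g) :=
      congrArg (fun f : G.left ⟶ H.left => f g) hcomm.symm
    rw [(hgy : u.left g = y)] at h2
    rw [h2]
    exact (congrArg u.left ha).symm ▸ hg₀W
  have hWtop : W = ⊤ := eq_top_iff.mpr fun y _ => htop y
  rw [hWtop] at hW
  exact (IsZariskiLocalAtTarget.iff_of_iSup_eq_top (P := @IsFinite) (fun _ : PUnit.{1} => (⊤ : H.left.Opens))
    (iSup_const)).mpr fun _ => hW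

end Finite

variable {k : Type u} [Field k] [IsAlgClosed k]

local notation "PT" => 𝟙_ (Over (Spec (CommRingCat.of k)))

/-- Equality of morphisms from a reduced scheme may be checked on rational points. -/
theorem hom_ext_pts {T Y : Over (Spec (CommRingCat.of k))} [IsReduced T.left] [LocallyOfFiniteType T.hom]
    [IsSeparated Y.hom] [LocallyOfFiniteType Y.hom] {f g : T ⟶ Y} (h : ∀ t : PT ⟶ T, t ≫ f = t ≫ g) : f = g := by
  haveI : LocallyOfFiniteType (f.left ≫ Y.hom) := by rw [Over.w f]; infer_instance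
  refine Over.OverMorphism.ext (ext_of_apply_eq Y.hom Set.univ isOpen_univ.isLocallyClosed dense_univ
    (fun x _ hx => ?_) (by rw [Over.w f, Over.w g]))
  obtain ⟨t, rfl⟩ := exists_cp hx
  exact congrArg cp (h t)

variable {G : Over (Spec (CommRingCat.of k))} [GrpObj G]

/-- A closed set whose rational points form a subgroup underlies a smooth closed subgroup. -/
theorem exists_subgroup [LocallyOfFiniteType G.hom] [QuasiCompact G.hom] (Z : Set G.left) (hZc : IsClosed Z)
    (h1 : cp (1 : PT ⟶ G) ∈ Z) (hmul : ∀ g h : PT ⟶ G, cp g ∈ Z → cp h ∈ Z → cp (g * h) ∈ Z)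
    (hinv : ∀ g : PT ⟶ G, cp g ∈ Z → cp g⁻¹ ∈ Z) :
    ∃ (D : Over (Spec (CommRingCat.of k))) (_ : GrpObj D) (i : D ⟶ G), IsMonHom i ∧ IsClosedImmersion i.left ∧
      Smooth D.hom ∧ IsReduced D.left ∧ QuasiCompact D.hom ∧ Set.range i.left = Z := by
  haveI := GrpSchLib.AntiAffine.isSeparated_grp G
  let C : Closeds G.left := ⟨Z, hZc⟩
  let I := Scheme.IdealSheafData.vanishingIdeal C
  let D : Over (Spec (CommRingCat.of k)) := Over.mk (I.subschemeι ≫ G.hom)
  let i : D ⟶ G := Over.homMk I.subschemeι rfl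
  haveI : IsClosedImmersion i.left := inferInstanceAs (IsClosedImmersion I.subschemeι)
  haveI : IsReduced D.left := H23.RedSub.isReduced_vanishingIdeal C
  haveI : LocallyOfFiniteType D.hom := inferInstanceAs (LocallyOfFiniteType (I.subschemeι ≫ G.hom))
  haveI : QuasiCompact D.hom := inferInstanceAs (QuasiCompact (I.subschemeι ≫ G.hom))
  have hrange : Set.range i.left = Z := H23.RedSub.range_vanishingIdeal C
  haveI : Mono i.left := inferInstance
  haveI : Mono i := (Over.forget _).mono_of_mono_map (inferInstanceAs (Mono i.left))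
  haveI : IsReduced (D ⊗ D).left := GrpSchLib.isReduced_pullback_of_perfectField D.hom D.hom
  haveI : IsReduced (PT).left := inferInstanceAs (IsReduced (Spec (CommRingCat.of k)))
  haveI : LocallyOfFiniteType (D ⊗ D).hom := inferInstanceAs (LocallyOfFiniteType (pullback.fst D.hom D.hom ≫ D.hom))
  haveI : LocallyOfFiniteType (PT).hom := inferInstanceAs (LocallyOfFiniteType (𝟙 _))
  have hl : ∀ (T : Over (Spec (CommRingCat.of k))) [IsReduced T.left] [LocallyOfFiniteType T.hom] (f : T ⟶ G),
      (∀ t : PT ⟶ T, cp (t ≫ f) ∈ Z) → ∃ g : T ⟶ D, g ≫ i = f := by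
    intro T _ _ f hf
    obtain ⟨g, hg⟩ := H23.RedSub.exists_lift_closed f.left i.left (by
      rw [hrange]
      rintro _ ⟨x, rfl⟩
      exact (eq_univ_of_forall_cp (hZc.preimage f.left.continuous) hf).ge (Set.mem_univ x))
    exact ⟨Over.homMk g (by rw [← Over.w i, reassoc_of% hg, Over.w f]), Over.OverMorphism.ext hg⟩
  have hiZ : ∀ d : PT ⟶ D, cp (d ≫ i) ∈ Z := fun d => hrange.le ⟨_, rfl⟩
  obtain ⟨e, he⟩ := hl PT η[G] (fun t => by
    rw [toUnit_unique t (𝟙 _), Category.id_comp, MonObj.one_eq_one]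
    exact h1)
  obtain ⟨m, hm⟩ := hl (D ⊗ D) ((fst D D ≫ i) * (snd D D ≫ i)) (fun t => by
    rw [MonObj.comp_mul, ← Category.assoc, ← Category.assoc]
    exact hmul _ _ (hiZ _) (hiZ _))
  obtain ⟨v, hv⟩ := hl D i⁻¹ (fun t => by rw [GrpObj.comp_inv]; exact hinv _ (hiZ t))
  obtain ⟨str, hi⟩ := GrpSchLib.exists_grpObj_of_mono i e he m hm v hv
  exact ⟨D, str, i, hi, inferInstance, GrpSchLib.smooth_of_perfectField_of_isReduced D, inferInstance,
    inferInstance, hrange⟩

/-- Translation by a rational point. -/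
noncomputable def transX {X : Over (Spec (CommRingCat.of k))} (a : AlgGrp.Action G X) (g : PT ⟶ G) : X ≅ X where
  hom := lift (toUnit X ≫ g) (𝟙 X) ≫ a.act
  inv := lift (toUnit X ≫ g)⁻¹ (𝟙 X) ≫ a.act
  hom_inv_id := by
    rw [← Category.assoc, comp_lift, Category.comp_id, GrpObj.comp_inv, ← Category.assoc (lift _ _ ≫ _),
      comp_toUnit, GrpSchLib.act_mul, inv_mul_cancel, GrpSchLib.act_one]
  inv_hom_id := by
    rw [← Category.assoc, comp_lift, Category.comp_id, ← Category.assoc (lift _ _ ≫ _),
      comp_toUnit, GrpSchLib.act_mul, mul_inv_cancel, GrpSchLib.act_one]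

omit [IsAlgClosed k] in
theorem comp_transX {T X : Over (Spec (CommRingCat.of k))} (a : AlgGrp.Action G X) (g : PT ⟶ G) (t : T ⟶ X) :
    t ≫ (transX a g).hom = lift (toUnit T ≫ g) t ≫ a.act := by
  simp only [transX, ← Category.assoc, comp_lift, Category.comp_id, comp_toUnit]

omit [IsAlgClosed k] in
theorem pt_orbitMap {X : Over (Spec (CommRingCat.of k))} (a : AlgGrp.Action G X) (x : PT ⟶ X) (g : PT ⟶ G) :
    g ≫ a.orbitMap x = lift g x ≫ a.act := by
  rw [AlgGrp.Action.orbitMap, ← Category.assoc, comp_lift, Category.comp_id, ← Category.assoc, comp_toUnit,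
    toUnit_unit, Category.id_comp]

omit [GrpObj G] in
/-- The restriction of an action along a homomorphism. -/
theorem exists_restrict [GrpObj G] {X D : Over (Spec (CommRingCat.of k))} [GrpObj D] (a : AlgGrp.Action G X) (i : D ⟶ G)
    [IsMonHom i] : ∃ b : AlgGrp.Action D X, b.act = (i ▷ X) ≫ a.act := by
  refine ⟨⟨(i ▷ X) ≫ a.act, ?_, ?_⟩, rfl⟩
  · rw [← Category.assoc, ← MonoidalCategory.comp_whiskerRight, IsMonHom.one_hom, a.one_act]
  · have hμ : μ[D] ≫ i = (fst D D ≫ i) * (snd D D ≫ i) := by
      rw [IsMonHom.mul_hom, Hom.mul_def, ← lift_map, lift_fst_snd, Category.id_comp]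
    have hl : (μ[D] ▷ X) ≫ (i ▷ X) =
        lift ((fst (D ⊗ D) X ≫ fst D D ≫ i) * (fst (D ⊗ D) X ≫ snd D D ≫ i)) (snd (D ⊗ D) X) := by
      apply CartesianMonoidalCategory.hom_ext
      · rw [Category.assoc, whiskerRight_fst, ← Category.assoc, whiskerRight_fst, Category.assoc, hμ,
          MonObj.comp_mul, lift_fst]
      · rw [Category.assoc, whiskerRight_snd, whiskerRight_snd, lift_snd]
    rw [← Category.assoc, hl, ← GrpSchLib.act_mul]
    simp only [← Category.assoc]
    congr 1
    apply CartesianMonoidalCategory.hom_ext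
    · simp
    · simp only [lift_snd, Category.assoc, whiskerRight_snd, whiskerLeft_snd]
      simp only [← Category.assoc]
      congr 1
      apply CartesianMonoidalCategory.hom_ext <;> simp

/-- A smooth connected affine group with solvable points has a fixed point on a proper scheme. -/
theorem exists_fixed (n : ℕ) : ∀ (G : Over (Spec (CommRingCat.of k))) [GrpObj G] [IsAffine G.left] [Smooth G.hom]
    [ConnectedSpace G.left] (_ : derivedSeries (PT ⟶ G) n = ⊥)
    (X : Over (Spec (CommRingCat.of k))) [IsProper X.hom] [Nonempty X.left] (a : AlgGrp.Action G X),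
    ∃ x : PT ⟶ X, ∀ g : PT ⟶ G, lift g x ≫ a.act = x := by
  induction n with
  | zero =>
    intro G _ _ _ _ hn X _ _ a
    haveI : JacobsonSpace X.left := LocallyOfFiniteType.jacobsonSpace X.hom
    obtain ⟨z, -, hz⟩ := nonempty_inter_closedPoints (Z := (Set.univ : Set X.left))
      ⟨Classical.arbitrary _, trivial⟩ isOpen_univ.isLocallyClosed
    obtain ⟨x, -⟩ := exists_cp hz
    refine ⟨x, fun g => ?_⟩
    have : g = 1 := by
      have h : g ∈ derivedSeries (PT ⟶ G) 0 := Subgroup.mem_top g
      rw [hn] at h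
      exact h
    rw [this, GrpSchLib.act_one]
  | succ n ih =>
    intro G _ _ _ _ hn X _ _ a
    haveI : QuasiCompact G.hom := inferInstance
    haveI : IsReduced G.left := isReduced_of_smooth_field G.hom
    haveI : IrreducibleSpace G.left := Groth.Agent.S0348.result k G
    haveI := geometricallyIrreducible_of_isAlgClosed G.hom
    haveI : IrreducibleSpace (G ⊗ G).left := inferInstanceAs (IrreducibleSpace ↥(pullback G.hom G.hom))
    haveI : LocallyOfFiniteType (G ⊗ G).hom := inferInstanceAs (LocallyOfFiniteType (pullback.fst G.hom G.hom ≫ G.hom))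
    haveI : QuasiCompact (G ⊗ G).hom := inferInstanceAs (QuasiCompact (pullback.fst G.hom G.hom ≫ G.hom))
    -- the derived subgroup
    let φ : G ⊗ G ⟶ G := fst G G * snd G G * (fst G G)⁻¹ * (snd G G)⁻¹
    have hφ : ∀ w : PT ⟶ G ⊗ G, w ≫ φ =
        (w ≫ fst G G) * (w ≫ snd G G) * (w ≫ fst G G)⁻¹ * (w ≫ snd G G)⁻¹ := fun w => by
      simp only [φ, MonObj.comp_mul, GrpObj.comp_inv]
    have hset : Set.range (fun w : PT ⟶ G ⊗ G => w ≫ φ) = commutatorSet (PT ⟶ G) := by
      ext g
      constructor
      · rintro ⟨w, rfl⟩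
        exact ⟨w ≫ fst G G, w ≫ snd G G, by rw [commutatorElement_def]; exact (hφ w).symm⟩
      · rintro ⟨p, q, rfl⟩
        refine ⟨lift p q, ?_⟩
        show lift p q ≫ φ = _
        rw [hφ, lift_fst, lift_snd, commutatorElement_def]
    obtain ⟨D, _, i, _, _, _, _, _, _, hr⟩ := exists_generated φ
      ⟨lift 1 1, by rw [hφ, lift_fst, lift_snd]; simp⟩
      (fun w => ⟨lift (w ≫ snd G G) (w ≫ fst G G), by rw [hφ, hφ, lift_fst, lift_snd]; group⟩)
    rw [hset, ← commutator_eq_closure] at hr
    haveI : IsAffine D.left := isAffine_of_isAffineHom i.left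
    haveI : ConnectedSpace D.left := inferInstance
    haveI : Mono i := (Over.forget _).mono_of_mono_map (inferInstanceAs (Mono i.left))
    -- derived series
    have hD : derivedSeries (PT ⟶ D) n = ⊥ := by
      let ψ : (PT ⟶ D) →* (PT ⟶ G) := MonoidHom.mk' (fun d => d ≫ i) (fun x y => MonObj.mul_comp x y i)
      have hle : ∀ j, (derivedSeries (PT ⟶ D) j).map ψ ≤ derivedSeries (PT ⟶ G) (j + 1) := by
        intro j
        induction j with
        | zero =>
          rintro _ ⟨d, -, rfl⟩
          show d ≫ i ∈ derivedSeries (PT ⟶ G) 1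
          rw [derivedSeries_one]
          exact hr.le ⟨d, rfl⟩
        | succ j ihj =>
          rw [derivedSeries_succ, Subgroup.map_commutator, derivedSeries_succ]
          exact Subgroup.commutator_mono ihj ihj
      rw [Subgroup.eq_bot_iff_forall]
      intro d hd
      have h := hle n ⟨d, hd, rfl⟩
      rw [hn, Subgroup.mem_bot] at h
      rw [← cancel_mono i]
      exact h.trans (MonObj.one_comp i).symm
    obtain ⟨b, hb⟩ := exists_restrict a i
    obtain ⟨x₀, hx₀⟩ := ih D hD X b
    -- the fixed set of the derived subgroup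
    haveI : IsSeparated X.hom := inferInstance
    let Δ : X ⟶ X ⊗ X := lift (𝟙 X) (𝟙 X)
    haveI : IsClosedImmersion Δ.left := by
      have : Δ.left = pullback.diagonal X.hom := by
        apply pullback.hom_ext <;> simp [Δ, pullback.diagonal]
      rw [this]; infer_instance
    haveI : LocallyOfFiniteType (X ⊗ X).hom := inferInstanceAs (LocallyOfFiniteType (pullback.fst X.hom X.hom ≫ X.hom))
    haveI : IsSeparated (X ⊗ X).hom := inferInstanceAs (IsSeparated (pullback.fst X.hom X.hom ≫ X.hom))
    let E : (PT ⟶ G) → Set X.left := fun c => (lift (transX a c).hom (𝟙 X)).left ⁻¹' Set.range Δ.left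
    let F : Set X.left := ⋂ c ∈ commutator (PT ⟶ G), E c
    have hF : IsClosed F := isClosed_biInter fun c _ =>
      Δ.left.isClosedEmbedding.isClosed_range.preimage (lift (transX a c).hom (𝟙 X)).left.continuous
    have hmemF : ∀ x : PT ⟶ X, cp x ∈ F ↔ ∀ c ∈ commutator (PT ⟶ G), lift c x ≫ a.act = x := by
      intro x
      have e : ∀ c : PT ⟶ G, x ≫ lift (transX a c).hom (𝟙 X) = lift (lift c x ≫ a.act) x := fun c => by
        rw [comp_lift, comp_transX, Category.comp_id, toUnit_unit, Category.id_comp]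
      simp only [F, Set.mem_iInter]
      refine forall₂_congr fun c _ => ⟨fun h => ?_, fun h => ?_⟩
      · obtain ⟨w, hw⟩ := exists_of_mem_range Δ (x ≫ lift (transX a c).hom (𝟙 X)) h
        rw [e] at hw
        have h1 := congrArg (· ≫ fst X X) hw
        have h2 := congrArg (· ≫ snd X X) hw
        simp only [Δ, Category.assoc, lift_fst, lift_snd, Category.comp_id] at h1 h2
        rw [← h1, h2]
      · show cp (x ≫ lift (transX a c).hom (𝟙 X)) ∈ Set.range Δ.left
        refine ⟨cp x, ?_⟩
        rw [← cp_comp, e, h, comp_lift, Category.comp_id]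
    have hx₀F : cp x₀ ∈ F := (hmemF x₀).mpr fun c hc => by
      obtain ⟨d, rfl⟩ := hr.ge hc
      have := hx₀ d
      rwa [hb, ← Category.assoc, lift_whiskerRight] at this
    have horb : ∀ x : PT ⟶ X, cp x ∈ F → Set.range (a.orbitMap x).left ⊆ F := by
      intro x hx
      rintro _ ⟨z, rfl⟩
      refine (eq_univ_of_forall_cp (hF.preimage (a.orbitMap x).left.continuous) fun g => ?_).ge (Set.mem_univ z)
      show cp (g ≫ a.orbitMap x) ∈ F
      rw [pt_orbitMap, hmemF]
      intro c hc
      rw [GrpSchLib.act_mul]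
      have hc' : g⁻¹ * c * g ∈ commutator (PT ⟶ G) := by
        have := (Subgroup.Normal.conj_mem (inferInstance : (commutator (PT ⟶ G)).Normal) c hc g⁻¹)
        rwa [_root_.inv_inv] at this
      have h := (hmemF x).mp hx _ hc'
      conv_rhs => rw [← h, GrpSchLib.act_mul]
      rw [show g * (g⁻¹ * c * g) = c * g by group]
    -- an orbit of minimal dimension
    obtain ⟨_, ⟨x, hxF, rfl⟩, hmin⟩ := (wellFounded_lt (α := WithBot ℕ∞)).has_min
      ((fun x : PT ⟶ X => topologicalKrullDim ↥(Set.range (a.orbitMap x).left)) '' {x | cp x ∈ F})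
      ⟨_, x₀, hx₀F, rfl⟩
    haveI : QuasiCompact X.hom := inferInstance
    have hOcl : IsClosed (Set.range (a.orbitMap x).left) := by
      by_contra hnc
      obtain ⟨y, hy⟩ := OrbitDim.exists_orbit_subset_boundary a x hnc
      have hyF : cp y ∈ F := by
        have h1 : cp y ∈ Set.range (a.orbitMap y).left := by
          refine ⟨cp (1 : PT ⟶ G), ?_⟩
          rw [← cp_comp, pt_orbitMap, GrpSchLib.act_one]
        exact closure_minimal (horb x hxF) hF (hy h1).1
      refine hmin _ ⟨y, hyF, rfl⟩ ?_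
      refine lt_of_le_of_lt ?_ (OrbitDim.dim_boundary_lt X.hom (OrbitDim.nonempty_orbit a x)
        (OrbitDim.isLocallyClosed_orbit a x))
      exact Topology.IsInducing.topologicalKrullDim_le (Topology.IsEmbedding.inclusion hy).isInducing
    -- the stabilizer
    have hone : (1 : PT ⟶ G) ≫ a.orbitMap x = x := by rw [pt_orbitMap, GrpSchLib.act_one]
    let Z : Set G.left := (a.orbitMap x).left ⁻¹' {cp x}
    have hZ : ∀ g : PT ⟶ G, cp g ∈ Z ↔ lift g x ≫ a.act = x := fun g => by
      rw [← pt_orbitMap]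
      exact ⟨fun h => cp_injective h, fun h => congrArg cp h⟩
    obtain ⟨N, _, j, _, _, _, _, _, hjr⟩ := exists_subgroup Z
      ((isClosed_cp x).preimage (a.orbitMap x).left.continuous) ((hZ 1).mpr (GrpSchLib.act_one a x))
      (fun g h hg hh => (hZ _).mpr (by rw [← GrpSchLib.act_mul, (hZ h).mp hh, (hZ g).mp hg]))
      (fun g hg => (hZ _).mpr (by
        conv_lhs => rw [← (hZ g).mp hg, GrpSchLib.act_mul, inv_mul_cancel, GrpSchLib.act_one]))
    have hjZ : ∀ m : PT ⟶ N, cp (m ≫ j) ∈ Z := fun m => hjr.le ⟨_, rfl⟩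
    have hcZ : ∀ c ∈ commutator (PT ⟶ G), cp c ∈ Z := fun c hc => (hZ c).mpr ((hmemF x).mp hxF c hc)
    have hnorm : AlgGrp.IsNormalHom j := by
      haveI : IsReduced (G ⊗ N).left := GrpSchLib.isReduced_pullback_of_perfectField G.hom N.hom
      haveI : LocallyOfFiniteType (G ⊗ N).hom := inferInstanceAs (LocallyOfFiniteType (pullback.fst G.hom N.hom ≫ G.hom))
      let c : G ⊗ N ⟶ G := fst G N * (snd G N ≫ j) * (fst G N)⁻¹
      obtain ⟨c', hc'⟩ := H23.RedSub.exists_lift_closed c.left j.left (by
        rw [hjr]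
        rintro _ ⟨z, rfl⟩
        refine (eq_univ_of_forall_cp (((isClosed_cp x).preimage (a.orbitMap x).left.continuous).preimage
          c.left.continuous) fun t => ?_).ge (Set.mem_univ z)
        show cp (t ≫ c) ∈ Z
        simp only [c, MonObj.comp_mul, GrpObj.comp_inv, ← Category.assoc]
        rw [hZ]
        have h1 := (hZ _).mp (hjZ (t ≫ snd G N))
        have h2 := (hZ _).mp (hcZ _ (Subgroup.commutator_mem_commutator
          (Subgroup.mem_top (t ≫ fst G N)) (Subgroup.mem_top ((t ≫ snd G N) ≫ j))))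
        have h3 : (t ≫ fst G N) * ((t ≫ snd G N) ≫ j) * (t ≫ fst G N)⁻¹ =
            ⁅t ≫ fst G N, (t ≫ snd G N) ≫ j⁆ * ((t ≫ snd G N) ≫ j) := by
          rw [commutatorElement_def]; group
        rw [h3, ← GrpSchLib.act_mul, h1, h2])
      intro T g m
      refine ⟨lift g m ≫ Over.homMk c' (by rw [← Over.w j, reassoc_of% hc', Over.w c]), ?_⟩
      rw [Category.assoc, show (Over.homMk c' _ : G ⊗ N ⟶ N) ≫ j = c from Over.OverMorphism.ext hc']
      simp [c, MonObj.comp_mul, GrpObj.comp_inv]
    haveI : IsAffine N.left := isAffine_of_isAffineHom j.left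
    obtain ⟨Q, _, q, _, _, _, _, _, hk⟩ := Groth.Agent.S3278.result k G N j hnorm
    haveI : IsLocallyNoetherian Q.left := LocallyOfFiniteType.isLocallyNoetherian Q.hom
    haveI : LocallyOfFiniteType q.left := by
      have : LocallyOfFiniteType (q.left ≫ Q.hom) := by rw [Over.w q]; infer_instance
      exact locallyOfFiniteType_of_comp q.left Q.hom
    haveI : QuasiCompact q.left := inferInstance
    haveI : IsReduced Q.left := FBaseLib.isReduced_of_flat_surjective q.left
    -- descend the orbit map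
    haveI : IsReduced (G ⊗ N).left := GrpSchLib.isReduced_pullback_of_perfectField G.hom N.hom
    haveI : LocallyOfFiniteType (G ⊗ N).hom := inferInstanceAs (LocallyOfFiniteType (pullback.fst G.hom N.hom ≫ G.hom))
    have hGN : (fst G N * (snd G N ≫ j)) ≫ a.orbitMap x = fst G N ≫ a.orbitMap x := by
      refine hom_ext_pts fun t => ?_
      simp only [← Category.assoc, MonObj.comp_mul]
      rw [pt_orbitMap, pt_orbitMap, ← GrpSchLib.act_mul, (hZ _).mp (hjZ (t ≫ snd G N))]
    have hdesc : ∀ {Z' : Scheme.{u}} (g₁ g₂ : Z' ⟶ G.left), g₁ ≫ q.left = g₂ ≫ q.left →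
        g₁ ≫ (a.orbitMap x).left = g₂ ≫ (a.orbitMap x).left := by
      intro Z' g₁ g₂ e
      let T : Over (Spec (CommRingCat.of k)) := Over.mk (g₁ ≫ G.hom)
      let a₁ : T ⟶ G := Over.homMk g₁ rfl
      let a₂ : T ⟶ G := Over.homMk g₂ (by
        show g₂ ≫ G.hom = g₁ ≫ G.hom
        rw [← Over.w q, ← Category.assoc, ← e, Category.assoc])
      have e' : a₁ ≫ q = a₂ ≫ q := Over.OverMorphism.ext e
      have hker : (a₁⁻¹ * a₂) ≫ q = toUnit T ≫ η[Q] := by
        rw [MonObj.mul_comp, GrpObj.inv_comp, e', inv_mul_cancel]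
        rfl
      obtain ⟨m, hm⟩ : ∃ m : T ⟶ N, m ≫ j = a₁⁻¹ * a₂ := ⟨hk.lift _ _ hker, hk.lift_fst _ _ hker⟩
      have h := congrArg (lift a₁ m ≫ ·) hGN
      simp only [← Category.assoc, MonObj.comp_mul, lift_fst, lift_snd, hm, mul_inv_cancel_left] at h
      exact (congrArg CommaMorphism.left h).symm
    let l := EffectiveEpi.desc q.left (a.orbitMap x).left (fun {Z'} g₁ g₂ e => hdesc g₁ g₂ e)
    have hl : q.left ≫ l = (a.orbitMap x).left := EffectiveEpi.fac _ _ _
    let m : Q ⟶ X := Over.homMk l (by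
      show l ≫ X.hom = Q.hom
      rw [← cancel_epi q.left, reassoc_of% hl, Over.w (a.orbitMap x), Over.w q])
    have hqm : q ≫ m = a.orbitMap x := Over.OverMorphism.ext hl
    haveI := GrpSchLib.AntiAffine.isSeparated_grp Q
    have hsurj : ∀ y : PT ⟶ Q, ∃ g : PT ⟶ G, g ≫ q = y := fun y =>
      exists_of_mem_range q y (q.left.surjective _)
    have hinj : ∀ y₁ y₂ : PT ⟶ Q, y₁ ≫ m = y₂ ≫ m → y₁ = y₂ := by
      intro y₁ y₂ h
      obtain ⟨g₁, rfl⟩ := hsurj y₁
      obtain ⟨g₂, rfl⟩ := hsurj y₂
      simp only [Category.assoc, hqm, pt_orbitMap] at h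
      have hs : cp (g₁⁻¹ * g₂) ∈ Z := (hZ _).mpr (by
        rw [← GrpSchLib.act_mul, ← h, GrpSchLib.act_mul, inv_mul_cancel, GrpSchLib.act_one])
      obtain ⟨w, hw⟩ := exists_of_mem_range j _ (hjr.ge hs)
      have h2 : (g₁⁻¹ * g₂) ≫ q = 1 := by
        rw [← hw, Category.assoc, hk.w, ← Category.assoc, toUnit_unique (w ≫ toUnit N) (𝟙 _), Category.id_comp,
          MonObj.one_eq_one]
      rw [MonObj.mul_comp, GrpObj.inv_comp] at h2
      exact inv_mul_eq_one.mp h2
    haveI : LocallyOfFiniteType m.left := by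
      have : LocallyOfFiniteType (m.left ≫ X.hom) := by rw [Over.w m]; infer_instance
      exact locallyOfFiniteType_of_comp m.left X.hom
    haveI : QuasiCompact m.left := by
      have : QuasiCompact (m.left ≫ X.hom) := by rw [Over.w m]; infer_instance
      exact QuasiCompact.of_comp m.left X.hom
    haveI : JacobsonSpace Q.left := LocallyOfFiniteType.jacobsonSpace Q.hom
    haveI : JacobsonSpace G.left := LocallyOfFiniteType.jacobsonSpace G.hom
    haveI : LocallyQuasiFinite m.left := by
      rw [← Scheme.Hom.quasiFiniteLocus_eq_top_iff, eq_top_iff]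
      intro z _
      by_contra hz
      obtain ⟨y, hy1, hy⟩ := nonempty_inter_closedPoints
        (Z := (m.left.quasiFiniteLocus : Set Q.left)ᶜ) ⟨z, hz⟩
        m.left.quasiFiniteLocus.isOpen.isClosed_compl.isLocallyClosed
      refine hy1 ?_
      rw [SetLike.mem_coe, Scheme.Hom.mem_quasiFiniteLocus,
        Scheme.Hom.quasiFiniteAt_iff_isOpen_singleton_asFiber]
      obtain ⟨y', rfl⟩ := exists_cp hy
      have hsub : m.left ⁻¹' {m.left (cp y')} ⊆ {cp y'} := by
        intro w hw
        by_contra hne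
        obtain ⟨v, ⟨hv1, hv2⟩, hv⟩ := nonempty_inter_closedPoints
          (Z := m.left ⁻¹' {m.left (cp y')} \ {cp y'}) ⟨w, hw, hne⟩
          (((isClosed_cp (y' ≫ m)).preimage m.left.continuous).isLocallyClosed.inter
            (isClosed_cp y').isOpen_compl.isLocallyClosed)
        obtain ⟨v', rfl⟩ := exists_cp hv
        exact hv2 (congrArg cp (hinj v' y' (cp_injective hv1)))
      haveI : Finite ↥(m.left ⁻¹' {m.left (cp y')}) := ((Set.finite_singleton _).subset hsub).to_subtype
      haveI : Finite (m.left.fiber (m.left (cp y'))) :=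
        Finite.of_equiv _ (m.left.fiberHomeo (m.left (cp y'))).symm.toEquiv
      exact isOpen_discrete _
    have hmrange : IsClosed (Set.range m.left) := by
      have : Set.range (a.orbitMap x).left = Set.range m.left := by
        rw [← hl, Scheme.Hom.comp_base, TopCat.coe_comp, q.left.surjective.range_comp]
        rfl
      rwa [← this]
    haveI : Nonempty Q.left := ⟨q.left (cp (1 : PT ⟶ G))⟩
    haveI : IsFinite m.left := isFinite_of_homogeneous m hmrange fun z z₀ hz hz₀ => by
      obtain ⟨y, rfl⟩ := exists_cp hz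
      obtain ⟨y₀, rfl⟩ := exists_cp hz₀
      obtain ⟨h, hh⟩ := hsurj (y₀ * y⁻¹)
      refine ⟨(Over.forget _).mapIso (HomFinite.trans (h ≫ q)), (Over.forget _).mapIso (transX a h), ?_, ?_⟩
      · show (HomFinite.trans (h ≫ q)).hom.left ≫ m.left = m.left ≫ (transX a h).hom.left
        rw [← cancel_epi q.left, ← Category.assoc, ← HomFinite.trans_comm q h, Category.assoc, ← Over.comp_left,
          ← Over.comp_left, ← Over.comp_left, ← Over.comp_left, hqm, reassoc_of% hqm]
        congr 1
        rw [comp_transX]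
        simp only [AlgGrp.Action.orbitMap, HomFinite.trans, GrpSchLib.act_mul]
        rw [← Category.assoc, comp_lift, Category.comp_id, ← Category.assoc, comp_toUnit]
      · show (HomFinite.trans (h ≫ q)).hom.left (cp y) = cp y₀
        rw [← cp_comp, hh]
        congr 1
        have e1 : y ≫ toUnit Q = 𝟙 _ := toUnit_unique _ _
        simp only [HomFinite.trans, MonObj.comp_mul, GrpObj.comp_inv, Category.comp_id, reassoc_of% e1]
        rw [inv_mul_cancel_right]
    haveI : IsFinite Q.hom := by
      haveI : IsProper (m.left ≫ X.hom) := inferInstance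
      have hp : IsProper Q.hom := by rw [← Over.w m]; infer_instance
      exact IsFinite.iff_isProper_and_isAffineHom.mpr ⟨hp, inferInstance⟩
    haveI : Finite Q.left := by
      have h := Q.hom.finite_preimage_singleton (IsLocalRing.closedPoint k)
      have e : (Q.hom ⁻¹' {IsLocalRing.closedPoint k}) = Set.univ :=
        Set.eq_univ_of_forall fun z => @Subsingleton.elim (Spec (CommRingCat.of k)) inferInstance _ _
      rw [e] at h
      exact Set.finite_univ_iff.mp h
    haveI : ConnectedSpace Q.left :=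
      connectedSpace_iff_univ.mpr (by
        rw [← q.left.surjective.range_eq, ← Set.image_univ]
        exact isConnected_univ.image _ q.left.continuous.continuousOn)
    haveI : Subsingleton Q.left := PreconnectedSpace.trivial_of_discrete
    refine ⟨x, fun g => ?_⟩
    have e : g ≫ q = (1 : PT ⟶ G) ≫ q := cp_injective (Subsingleton.elim _ _)
    have := congrArg (· ≫ m) e
    simp only [Category.assoc, hqm] at this
    rwa [hone, pt_orbitMap] at this

/-- Borel's fixed point theorem over an algebraically closed field. -/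
theorem exists_isFixedPt [IsAffine G.left] [Smooth G.hom] [ConnectedSpace G.left]
    [Group.IsSolvable (PT ⟶ G)] (X : Over (Spec (CommRingCat.of k))) [IsProper X.hom] [Nonempty X.left]
    (a : AlgGrp.Action G X) : ∃ x : PT ⟶ X, a.IsFixedPt x := by
  obtain ⟨n, hn⟩ := ‹Group.IsSolvable (PT ⟶ G)›.solvable
  obtain ⟨x, hx⟩ := exists_fixed n G hn X a
  haveI : IsReduced G.left := isReduced_of_smooth_field G.hom
  have e : a.orbitMap x = toUnit G ≫ x := hom_ext_pts fun g => by
    rw [pt_orbitMap, hx, ← Category.assoc, toUnit_unique (g ≫ toUnit G) (𝟙 _), Category.id_comp]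
  refine ⟨x, fun T g => ?_⟩
  have h := congrArg (g ≫ ·) e
  simpa only [AlgGrp.Action.orbitMap, ← Category.assoc, comp_lift, Category.comp_id, comp_toUnit] using h

end Groth.Agent.AGFLib.BorelFixed
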