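import Groth.Agent.AGFLib.ChevalleyAnyField
import Groth.Agent.GrpSchLib.AntiAffineSmoothAny
import Groth.Agent.S7996
import Groth.Agent.AGFLib.QuasiComp.Chevalley
import Groth.Agent.GrpSchLib.LargestNormalSep
import Groth.Agent.GrpSchLib.AVSubgroup
import Groth.Agent.Lib.AVMulN
import Groth.Agent.S3030
import Groth.Agent.S3280
import Groth.Agent.S14600
import Mathlib.AlgebraicGeometry.ZariskisMainTheorem

/-! Chevalley's theorem over a perfect field, with the linear part, and the decomposition by the anti-affine part. -/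

set_option autoImplicit false
set_option backward.isDefEq.respectTransparency false
set_option backward.isDefEq.respectTransparency.types false
set_option linter.style.haveILetI false
set_option maxHeartbeats 1600000
set_option synthInstance.maxHeartbeats 400000

universe u

open CategoryTheory CategoryTheory.Limits MonoidalCategory CartesianMonoidalCategory MonObj AlgebraicGeometry

namespace Groth.Agent.AGFLib.ChevalleyPerfect

open GrpSchLib ChevalleyAnyField

variable {k : Type u} [Field k]

/-- The quotient by a largest smooth connected affine normal subgroup is an abelian variety. -/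
theorem exists_quot [PerfectField k] (G : Over (Spec (CommRingCat.of k))) [GrpObj G] [Smooth G.hom]
    [QuasiCompact G.hom] [ConnectedSpace G.left] {L : Over (Spec (CommRingCat.of k))} [GrpObj L] (l : L ⟶ G)
    [IsMonHom l] [IsClosedImmersion l.left] [Smooth L.hom] [ConnectedSpace L.left] [IsAffine L.left]
    (hLn : AlgGrp.IsNormalHom l)
    (hmax : ∀ (Z : Over (Spec (CommRingCat.of k))) [GrpObj Z] (z : Z ⟶ G) [IsMonHom z], IsClosedImmersion z.left →
      Smooth Z.hom → ConnectedSpace Z.left → IsAffine Z.left → AlgGrp.IsNormalHom z → ∃ f : Z ⟶ L, f ≫ l = z) :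
    ∃ (Q : Over (Spec (CommRingCat.of k))) (_ : GrpObj Q) (p : G ⟶ Q), IsMonHom p ∧ IsProper Q.hom ∧ Smooth Q.hom ∧
      ConnectedSpace Q.left ∧ Surjective p.left ∧ Flat p.left ∧ AlgGrp.IsKernel l p := by
  haveI := AntiAffine.isSeparated_grp G
  haveI : Mono l := (Over.forget _).mono_of_mono_map (inferInstanceAs (Mono l.left))
  haveI : QuasiCompact l.left := inferInstance
  obtain ⟨Q, _, p, hp, hpf, hps, -, hpk, hQsep, -, hQs⟩ := S3030.result k L G l hLn
  haveI := hp; haveI := hpf; haveI := hps
  haveI : Smooth Q.hom := hQs inferInstance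
  haveI : QuasiCompact Q.hom := quasiCompact_of_surjective p
  let K := AlgebraicClosure k
  let σ := Spec.map (CommRingCat.ofHom (algebraMap k K))
  let F := Over.pullback σ
  haveI : Smooth (Red.bc σ G).hom := inferInstanceAs (Smooth (pullback.snd G.hom σ))
  haveI : QuasiCompact (Red.bc σ G).hom := inferInstanceAs (QuasiCompact (pullback.snd G.hom σ))
  haveI : ConnectedSpace (Red.bc σ G).left := AntiAffine.connectedSpace_bc G (algebraMap k K)
  haveI : Smooth (Red.bc σ L).hom := inferInstanceAs (Smooth (pullback.snd L.hom σ))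
  haveI : ConnectedSpace (Red.bc σ L).left := AntiAffine.connectedSpace_bc L (algebraMap k K)
  haveI : IsAffine (Red.bc σ L).left := inferInstanceAs (IsAffine (pullback L.hom σ))
  haveI : IsClosedImmersion (F.map l).left := MorphismProperty.overPullbackMap (P := @IsClosedImmersion) _ l ‹_›
  haveI : IsMonHom (F.map l) := inferInstance
  obtain ⟨A, _, α, hα, hA, hAs, hAc, hαs, hαf, hαk⟩ := QuasiComp.exists_abelian_quot (F.map l)
    (LargestNormalSep.isNormalHom_map σ l hLn) fun N' _ i' _ _ _ _ _ hn' =>
      LargestNormalSep.exists_lift k K G l (fun Z _ z _ h1 h2 h3 h4 h5 => hmax Z z h1 h2 h3 h4 h5) σ rfl N' i' hn'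
  haveI := hα; haveI := hA; haveI := hαs; haveI := hαf
  haveI : LocallyOfFiniteType (Red.bc σ Q).hom := inferInstanceAs (LocallyOfFiniteType (pullback.snd Q.hom σ))
  haveI : QuasiCompact (Red.bc σ Q).hom := inferInstanceAs (QuasiCompact (pullback.snd Q.hom σ))
  haveI : Surjective (F.map p).left := MorphismProperty.overPullbackMap (P := @Surjective) _ p ‹_›
  haveI : IsMonHom (F.map p) := inferInstance
  have hkill : F.map l ≫ F.map p = toUnit _ ≫ η[Red.bc σ Q] := by
    rw [← F.map_comp, hpk.w, show toUnit L ≫ η[Q] = (1 : L ⟶ Q) from rfl, map_one']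
    rfl
  obtain ⟨g, -, hg, -⟩ := S3280.result K (Red.bc σ G) (Red.bc σ L) A (Red.bc σ Q) α (F.map l) hαk (F.map p) hkill
  haveI : Surjective g.left := by
    haveI : Surjective (α.left ≫ g.left) := by rw [← Over.comp_left, hg]; exact ‹Surjective (F.map p).left›
    exact Surjective.of_comp α.left g.left
  haveI : UniversallyClosed (g.left ≫ (Red.bc σ Q).hom) := by rw [Over.w g]; infer_instance
  haveI : UniversallyClosed (pullback.snd Q.hom σ) :=
    UniversallyClosed.of_comp_surjective g.left (Red.bc σ Q).hom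
  haveI : UniversallyClosed Q.hom :=
    MorphismProperty.of_pullback_snd_of_descendsAlong (P := @UniversallyClosed)
      (Q := @Surjective ⊓ @Flat ⊓ @QuasiCompact) (g := σ)
      ⟨⟨inferInstance, inferInstance⟩, inferInstance⟩ ‹_›
  exact ⟨Q, inferInstance, p, hp, ⟨⟩, ‹_›, p.left.surjective.connectedSpace p.left.continuous, hps, hpf, hpk⟩

/-- Chevalley's theorem over a perfect field. -/
theorem exists_linearPart [PerfectField k] (G : Over (Spec (CommRingCat.of k))) [GrpObj G] [Smooth G.hom]
    [QuasiCompact G.hom] [ConnectedSpace G.left] :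
    ∃ (L : Over (Spec (CommRingCat.of k))) (_ : GrpObj L) (l : L ⟶ G) (Q : Over (Spec (CommRingCat.of k)))
      (_ : GrpObj Q) (p : G ⟶ Q), IsMonHom l ∧ IsClosedImmersion l.left ∧ AlgGrp.IsNormalHom l ∧ Smooth L.hom ∧
        ConnectedSpace L.left ∧ IsAffine L.left ∧ IsMonHom p ∧ IsProper Q.hom ∧ Smooth Q.hom ∧
        ConnectedSpace Q.left ∧ Surjective p.left ∧ Flat p.left ∧ AlgGrp.IsKernel l p := by
  haveI := AntiAffine.isSeparated_grp G
  obtain ⟨L, _, l, hl, hlc, hLs, hLc, hLn, hLa, hmax⟩ := LargestNormal.exists_largest (G := G)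
    (fun E _ => IsAffine E.left)
    (fun N E Q _ _ _ _ _ _ _ _ _ i q _ _ _ _ hk hN hQ => by
      haveI : IsAffine N.left := hN
      haveI : IsAffine Q.left := hQ
      haveI : IsAffineHom N.hom := isAffineHom_of_isAffine N.hom
      haveI : IsSeparated Q.hom := AntiAffine.isSeparated_grp Q
      haveI := AntPart.qc_hom q
      have sq := GrpSchLib.HomKer.kernel_square (u := q) i hk
      haveI : IsAffineHom q.left := GrpSchLib.AffineKer.isAffineHom_of_kernel q (by
        rw [← sq.isoPullback_inv_snd]; infer_instance)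
      exact isAffine_of_isAffineHom q.left)
    (fun E Q _ _ _ _ _ _ q _ _ _ hE => by
      haveI : IsAffine E.left := hE
      exact GrpSchLib.isAffine_of_quotient q)
    (LargestNormalSep.trivial_subgroup G)
  haveI := hl; haveI := hlc; haveI := hLs; haveI := hLc
  haveI : IsAffine L.left := hLa
  obtain ⟨Q, _, p, h1, h2, h3, h4, h5, h6, h7⟩ := exists_quot G l hLn
    fun Z _ z _ a b c d e => hmax Z z a b c e d
  exact ⟨L, inferInstance, l, Q, inferInstance, p, hl, hlc, hLn, hLs, hLc, hLa, h1, h2, h3, h4, h5, h6, h7⟩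

/-- An affine subgroup meets a proper subgroup in a finite scheme. -/
theorem isFinite_inter {G N B P : Over (Spec (CommRingCat.of k))} [IsAffine N.left] [IsProper B.hom]
    (i : N ⟶ G) [IsClosedImmersion i.left] (b : B ⟶ G) [IsClosedImmersion b.left] (p₁ : P.left ⟶ N.left)
    (p₂ : P.left ⟶ B.left) (sq : IsPullback p₁ p₂ i.left b.left) (e : p₁ ≫ N.hom = P.hom) : IsFinite P.hom := by
  haveI : IsClosedImmersion p₁ := MorphismProperty.of_isPullback (P := @IsClosedImmersion) sq.flip ‹_›
  haveI : IsClosedImmersion p₂ := MorphismProperty.of_isPullback (P := @IsClosedImmersion) sq ‹_›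
  haveI : IsAffineHom N.hom := isAffineHom_of_isAffine N.hom
  have e2 : p₂ ≫ B.hom = P.hom := by rw [← e, ← Over.w b, ← reassoc_of% sq.w, Over.w i]
  haveI : IsAffineHom P.hom := e ▸ inferInstance
  haveI : IsProper P.hom := e2 ▸ inferInstance
  exact IsFinite.iff_isProper_and_isAffineHom.2 ⟨inferInstance, inferInstance⟩

end Groth.Agent.AGFLib.ChevalleyPerfect
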