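import Groth.Agent.AGFLib.AntPart
import Groth.Agent.AGFLib.QuasiComp.Chevalley
import Groth.Agent.GrpSchLib.LargestNormalSep
import Groth.Agent.GrpSchLib.AVSubgroup
import Groth.Agent.Lib.AVMulN
import Groth.Agent.S3030
import Groth.Agent.S3280
import Groth.Agent.S14600
import Mathlib.AlgebraicGeometry.ZariskisMainTheorem

/-! Chevalley's theorem over an arbitrary field: a smooth connected group has an affine subgroup which is the kernel of
a homomorphism to a proper group. -/

set_option autoImplicit false
set_option backward.isDefEq.respectTransparency false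
set_option backward.isDefEq.respectTransparency.types false
set_option linter.style.haveILetI false
set_option maxHeartbeats 1600000
set_option synthInstance.maxHeartbeats 400000

universe u

open CategoryTheory CategoryTheory.Limits MonoidalCategory CartesianMonoidalCategory MonObj AlgebraicGeometry

namespace Groth.Agent.AGFLib.ChevalleyAnyField

open GrpSchLib

variable {k : Type u} [Field k]

theorem quasiCompact_of_surjective {G Q : Over (Spec (CommRingCat.of k))} [QuasiCompact G.hom] (p : G ⟶ Q)
    [Surjective p.left] : QuasiCompact Q.hom := by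
  haveI : CompactSpace G.left := QuasiCompact.compactSpace_of_compactSpace G.hom
  haveI : CompactSpace Q.left := ⟨p.left.surjective.range_eq ▸ isCompact_range p.left.continuous⟩
  exact (HasAffineProperty.iff_of_isAffine (P := @QuasiCompact)).mpr inferInstance

theorem map_one' {G H : Over (Spec (CommRingCat.of k))} [GrpObj H] {S : Scheme.{u}} (σ : S ⟶ Spec (CommRingCat.of k)) :
    (Over.pullback σ).map (1 : G ⟶ H) = 1 :=
  Functor.map_one (Over.pullback σ)

/-- Over a perfect field the largest smooth connected affine normal subgroup has proper quotient. -/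
theorem exists_of_perfect [PerfectField k] (G : Over (Spec (CommRingCat.of k))) [GrpObj G] [Smooth G.hom]
    [QuasiCompact G.hom] [ConnectedSpace G.left] :
    ∃ (Q : Over (Spec (CommRingCat.of k))) (_ : GrpObj Q) (f : G ⟶ Q) (H : Over (Spec (CommRingCat.of k))) (h : H ⟶ G),
      IsMonHom f ∧ IsProper Q.hom ∧ AlgGrp.IsKernel h f ∧ IsAffine H.left := by
  haveI := AntiAffine.isSeparated_grp G
  obtain ⟨L, _, l, hl, hlc, hLs, hLc, hLn, hLa, hmax⟩ := LargestNormal.exists_largest (G := G)
    (fun E _ => IsAffine E.left)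
    (fun N E Q _ _ _ _ _ _ _ _ _ i q _ _ _ _ hk hN hQ => by
      haveI : IsAffine N.left := hN
      haveI : IsAffine Q.left := hQ
      haveI : IsAffineHom N.hom := isAffineHom_of_isAffine N.hom
      haveI : IsSeparated Q.hom := AntiAffine.isSeparated_grp Q
      haveI := AntPart.qc_hom q
      have sq := GrpSchLib.HomKer.kernel_square (u := q) i hk
      haveI : IsAffineHom q.left := GrpSchLib.AffineKer.isAffineHom_of_kernel q (by
        rw [← sq.isoPullback_inv_snd]; infer_instance)
      exact isAffine_of_isAffineHom q.left)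
    (fun E Q _ _ _ _ _ _ q _ _ _ hE => by
      haveI : IsAffine E.left := hE
      exact GrpSchLib.isAffine_of_quotient q)
    (LargestNormalSep.trivial_subgroup G)
  haveI := hl; haveI := hlc; haveI := hLs; haveI := hLc
  haveI : IsAffine L.left := hLa
  haveI : Mono l := (Over.forget _).mono_of_mono_map (inferInstanceAs (Mono l.left))
  haveI : QuasiCompact l.left := inferInstance
  obtain ⟨Q, _, p, hp, hpf, hps, -, hpk, hQsep, -, hQs⟩ := S3030.result k L G l hLn
  haveI := hp; haveI := hpf; haveI := hps
  haveI : Smooth Q.hom := hQs inferInstance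
  haveI : QuasiCompact Q.hom := quasiCompact_of_surjective p
  let K := AlgebraicClosure k
  let σ := Spec.map (CommRingCat.ofHom (algebraMap k K))
  let F := Over.pullback σ
  haveI : Smooth (Red.bc σ G).hom := inferInstanceAs (Smooth (pullback.snd G.hom σ))
  haveI : QuasiCompact (Red.bc σ G).hom := inferInstanceAs (QuasiCompact (pullback.snd G.hom σ))
  haveI : ConnectedSpace (Red.bc σ G).left := AntiAffine.connectedSpace_bc G (algebraMap k K)
  haveI : Smooth (Red.bc σ L).hom := inferInstanceAs (Smooth (pullback.snd L.hom σ))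
  haveI : ConnectedSpace (Red.bc σ L).left := AntiAffine.connectedSpace_bc L (algebraMap k K)
  haveI : IsAffine (Red.bc σ L).left := inferInstanceAs (IsAffine (pullback L.hom σ))
  haveI : IsClosedImmersion (F.map l).left := MorphismProperty.overPullbackMap (P := @IsClosedImmersion) _ l ‹_›
  haveI : IsMonHom (F.map l) := inferInstance
  obtain ⟨A, _, α, hα, hA, hAs, hAc, hαs, hαf, hαk⟩ := QuasiComp.exists_abelian_quot (F.map l)
    (LargestNormalSep.isNormalHom_map σ l hLn) fun N' _ i' _ _ _ _ _ hn' =>
      LargestNormalSep.exists_lift k K G l (fun Z _ z _ h1 h2 h3 h4 h5 => hmax Z z h1 h2 h3 h5 h4) σ rfl N' i' hn'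
  haveI := hα; haveI := hA; haveI := hαs; haveI := hαf
  haveI : LocallyOfFiniteType (Red.bc σ Q).hom := inferInstanceAs (LocallyOfFiniteType (pullback.snd Q.hom σ))
  haveI : QuasiCompact (Red.bc σ Q).hom := inferInstanceAs (QuasiCompact (pullback.snd Q.hom σ))
  haveI : Surjective (F.map p).left := MorphismProperty.overPullbackMap (P := @Surjective) _ p ‹_›
  haveI : IsMonHom (F.map p) := inferInstance
  have hkill : F.map l ≫ F.map p = toUnit _ ≫ η[Red.bc σ Q] := by
    rw [← F.map_comp, hpk.w, show toUnit L ≫ η[Q] = (1 : L ⟶ Q) from rfl, map_one']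
    rfl
  obtain ⟨g, -, hg, -⟩ := S3280.result K (Red.bc σ G) (Red.bc σ L) A (Red.bc σ Q) α (F.map l) hαk (F.map p) hkill
  haveI : Surjective g.left := by
    haveI : Surjective (α.left ≫ g.left) := by rw [← Over.comp_left, hg]; exact ‹Surjective (F.map p).left›
    exact Surjective.of_comp α.left g.left
  haveI : UniversallyClosed (g.left ≫ (Red.bc σ Q).hom) := by rw [Over.w g]; infer_instance
  haveI : UniversallyClosed (pullback.snd Q.hom σ) :=
    UniversallyClosed.of_comp_surjective g.left (Red.bc σ Q).hom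
  haveI : UniversallyClosed Q.hom :=
    MorphismProperty.of_pullback_snd_of_descendsAlong (P := @UniversallyClosed)
      (Q := @Surjective ⊓ @Flat ⊓ @QuasiCompact) (g := σ)
      ⟨⟨inferInstance, inferInstance⟩, inferInstance⟩ ‹_›
  exact ⟨Q, inferInstance, p, L, l, hp, ⟨⟩, hpk, hLa⟩

/-- In positive characteristic: split off the abelian part of the largest anti-affine subgroup. -/
theorem exists_of_charP (p : ℕ) [Fact p.Prime] [CharP k p] (G : Over (Spec (CommRingCat.of k))) [GrpObj G]
    [Smooth G.hom] [QuasiCompact G.hom] [ConnectedSpace G.left] :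
    ∃ (Q : Over (Spec (CommRingCat.of k))) (_ : GrpObj Q) (f : G ⟶ Q) (H : Over (Spec (CommRingCat.of k))) (h : H ⟶ G),
      IsMonHom f ∧ IsProper Q.hom ∧ AlgGrp.IsKernel h f ∧ IsAffine H.left := by
  haveI := AntiAffine.isSeparated_grp G
  obtain ⟨M, _, j, hj, hjc, -, hMl, hMq, hjant, -, -⟩ := AntPart.exists_ant G
  haveI := hj; haveI := hjc; haveI := hMl; haveI := hMq
  haveI : Mono j := AntPart.mono_sub j
  obtain ⟨T, _, iT, B, _, qB, hiT, hiTc, hT, hqB, hqBs, hqBf, hkB, hB, hBs, hBc⟩ :=
    S14600.result k p M ((AntPart.bij_appTop_iff M).mpr hjant.bij)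
  haveI := hiT; haveI := hiTc; haveI := hqB; haveI := hqBs; haveI := hqBf; haveI := hB; haveI := hBs; haveI := hBc
  haveI : IsAffine T.left := (AGFLib.QuasiComp.torus_props hT).1
  haveI : Mono iT := AntPart.mono_sub iT
  haveI := AntPart.qc_hom qB
  have hcentral : ∀ {X : Over (Spec (CommRingCat.of k))} (a : X ⟶ M) (b : X ⟶ G), (a ≫ j) * b = b * (a ≫ j) :=
    fun a b => AntiAffine.commute hjant.bij j (by rw [IsMonHom.one_hom j, MonObj.one_eq_one]) a b
  haveI : IsClosedImmersion (iT ≫ j).left := inferInstanceAs (IsClosedImmersion (iT.left ≫ j.left))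
  haveI : LocallyOfFiniteType T.hom := by rw [← Over.w (iT ≫ j)]; infer_instance
  have hTn : AlgGrp.IsNormalHom (iT ≫ j) := fun X g n => ⟨n, by
    rw [← Category.assoc n iT j, ← hcentral (n ≫ iT) g, mul_inv_cancel_right]⟩
  haveI : Mono (iT ≫ j) := inferInstance
  obtain ⟨E, _, q, hq, hqf, hqs, -, hqk, hEsep, -, hEs⟩ := S3030.result k T G (iT ≫ j) hTn
  haveI := hq; haveI := hqf; haveI := hqs
  haveI : Smooth E.hom := hEs inferInstance
  haveI : QuasiCompact E.hom := quasiCompact_of_surjective q
  haveI : ConnectedSpace E.left := q.left.surjective.connectedSpace q.left.continuous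
  obtain ⟨b, hb, hqb, -⟩ := S3280.result k M T B E qB iT hkB (j ≫ q) (by
    rw [← Category.assoc]; exact hqk.w)
  haveI := hb
  haveI : EffectiveEpi qB.left := inferInstance
  have hbker : ∀ {X : Over (Spec (CommRingCat.of k))} (x : X ⟶ B), x ≫ b = 1 → x = 1 := by
    intro X x hx
    let W : Over (Spec (CommRingCat.of k)) := Over.mk (pullback.snd qB.left x.left ≫ X.hom)
    let v : W ⟶ X := Over.homMk (pullback.snd qB.left x.left) rfl
    let y : W ⟶ M := Over.homMk (pullback.fst qB.left x.left) (by
      show pullback.fst qB.left x.left ≫ M.hom = pullback.snd qB.left x.left ≫ X.hom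
      rw [← Over.w qB, pullback.condition_assoc, Over.w x])
    have hyv : y ≫ qB = v ≫ x := Over.OverMorphism.ext pullback.condition
    let t := hqk.lift (y ≫ j) (toUnit W) (by
      rw [Category.assoc, ← hqb, reassoc_of% hyv, hx, MonObj.comp_one]; rfl)
    have ht : t ≫ iT = y := by rw [← cancel_mono j, Category.assoc, hqk.lift_fst]
    have hvx : v ≫ x = 1 := by
      rw [← hyv, ← ht, Category.assoc, hkB.w, ← Category.assoc, comp_toUnit]; rfl
    have h1 : v ≫ x = v ≫ (1 : X ⟶ B) := by rw [hvx, MonObj.comp_one]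
    haveI : Surjective v.left := inferInstanceAs (Surjective (pullback.snd qB.left x.left))
    haveI : Flat v.left := inferInstanceAs (Flat (pullback.snd qB.left x.left))
    haveI : QuasiCompact v.left := inferInstanceAs (QuasiCompact (pullback.snd qB.left x.left))
    haveI : EffectiveEpi v.left := inferInstance
    exact Over.OverMorphism.ext ((cancel_epi v.left).1 (congrArg CommaMorphism.left h1))
  haveI : Mono b := ⟨fun {X} x y h => mul_inv_eq_one.mp (hbker (x * y⁻¹) (by
    rw [MonObj.mul_comp, GrpObj.inv_comp, h, mul_inv_cancel]))⟩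
  haveI : Mono b.left := inferInstanceAs (Mono ((Over.forget _).map b))
  haveI : IsProper b.left := by
    haveI : IsProper (b.left ≫ E.hom) := by rw [Over.w b]; infer_instance
    exact IsProper.of_comp b.left E.hom
  haveI : IsClosedImmersion b.left := (IsClosedImmersion.iff_isProper_and_mono b.left).mpr ⟨‹_›, ‹_›⟩
  obtain ⟨ψ, n, hψ, hn, hbψ⟩ := AVSubgroup.exists_normHom b
  haveI := hψ
  haveI := AntiAffine.isSeparated_grp B
  obtain ⟨H, _, h, hh, hhc, -, hhk⟩ := exists_kernel (q ≫ ψ)
  haveI := hh; haveI := hhc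
  haveI : LocallyOfFiniteType H.hom := by rw [← Over.w h]; infer_instance
  haveI : QuasiCompact H.hom := by rw [← Over.w h]; infer_instance
  refine ⟨B, inferInstance, q ≫ ψ, H, h, inferInstance, hB, hhk, ?_⟩
  obtain ⟨P, _, iP, hiP, hiPc, -, hPl, hPq, hPant, -, -⟩ := AntPart.exists_ant H
  haveI := hiP; haveI := hiPc; haveI := hPl; haveI := hPq
  have hP1 : η[P] ≫ iP ≫ h = 1 := by rw [IsMonHom.one_hom (iP ≫ h), MonObj.one_eq_one]
  obtain ⟨m, hm⟩ := hjant.factor P (iP ≫ h) η[P] hPant.bij hP1
  have hpow : (m ≫ qB) ^ n = 1 := by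
    have e1 : (m ≫ qB) ≫ b ≫ ψ = 1 := by
      rw [Category.assoc, reassoc_of% hqb, reassoc_of% hm, hhk.w, ← Category.assoc iP, comp_toUnit]; rfl
    rwa [hbψ, MonObj.comp_pow, Category.comp_id] at e1
  haveI : GeometricallyReduced B.hom := GrpSchLib.geometricallyReduced_of_smooth B.hom
  haveI : GeometricallyIntegral B.hom := AVSubgroup.geometricallyIntegral_group B
  haveI := AVMulN.isFinite_pow (A := B) n hn
  let Bn : Over (Spec (CommRingCat.of k)) := Over.mk (pullback.snd (𝟙 B ^ n : B ⟶ B).left η[B].left)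
  let iB : Bn ⟶ B := Over.homMk (pullback.fst (𝟙 B ^ n : B ⟶ B).left η[B].left) (by
    show _ = pullback.snd _ _
    rw [← Over.w (𝟙 B ^ n : B ⟶ B), pullback.condition_assoc, Over.w η[B]]
    exact Category.comp_id _)
  haveI : IsFinite Bn.hom := inferInstanceAs (IsFinite (pullback.snd (𝟙 B ^ n : B ⟶ B).left η[B].left))
  haveI : IsAffine Bn.left := isAffine_of_isAffineHom Bn.hom
  have hlift : (m ≫ qB) ≫ (𝟙 B ^ n : B ⟶ B) = toUnit P ≫ η[B] := by
    rw [MonObj.comp_pow, Category.comp_id, hpow]; rfl
  let u : P ⟶ Bn := Over.homMk (pullback.lift (m ≫ qB).left P.hom (congrArg CommaMorphism.left hlift))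
    (pullback.lift_snd _ _ _)
  have hu : u ≫ iB = m ≫ qB := Over.OverMorphism.ext (pullback.lift_fst _ _ _)
  have hm1 : η[P] ≫ m = η[M] := by
    rw [← cancel_mono j, Category.assoc, hm, hP1, IsMonHom.one_hom j, MonObj.one_eq_one]
  have hzero : m ≫ qB = 1 := by
    have e := congrArg (· ≫ iB) (AntiAffine.eq_const_of_isAffine hPant.bij u η[P])
    simp only [Category.assoc] at e
    rw [hu, ← Category.assoc η[P], hm1, IsMonHom.one_hom qB] at e
    exact e
  let t := hkB.lift m (toUnit P) hzero
  have ht : t ≫ iT = m := hkB.lift_fst _ _ _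
  have hc : iP ≫ h = 1 := by
    have e := congrArg (· ≫ iT ≫ j) (AntiAffine.eq_const_of_isAffine hPant.bij t η[P])
    simp only [Category.assoc] at e
    rw [reassoc_of% ht, hm, hP1, MonObj.comp_one] at e
    exact e
  haveI : Mono h := AntPart.mono_sub h
  haveI : Mono iP := AntPart.mono_sub iP
  have hid : (𝟙 P) = toUnit P ≫ η[P] := by
    rw [← cancel_mono (iP ≫ h), Category.id_comp, Category.assoc, hP1, hc, MonObj.comp_one]
  exact AntPart.isAffine_of_trivial_ant hPant
    ⟨η[P].left, (congrArg CommaMorphism.left hid).symm, Over.w η[P]⟩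

/-- Chevalley's theorem over any field. -/
theorem exists_affine_kernel (G : Over (Spec (CommRingCat.of k))) [GrpObj G] [Smooth G.hom] [QuasiCompact G.hom]
    [ConnectedSpace G.left] :
    ∃ (Q : Over (Spec (CommRingCat.of k))) (_ : GrpObj Q) (f : G ⟶ Q) (H : Over (Spec (CommRingCat.of k))) (h : H ⟶ G),
      IsMonHom f ∧ IsProper Q.hom ∧ AlgGrp.IsKernel h f ∧ IsAffine H.left := by
  obtain ⟨p, hp⟩ := CharP.exists k
  rcases CharP.char_is_prime_or_zero k p with hprime | rfl
  · haveI := Fact.mk hprime
    exact exists_of_charP p G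
  · haveI : CharZero k := CharP.charP_to_charZero k
    exact exists_of_perfect G

end Groth.Agent.AGFLib.ChevalleyAnyField
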