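import Groth.Agent.AGFLib.AlbaneseAny
import Groth.Agent.AGFLib.ChevalleyAnyField
import Groth.Agent.GrpSchLib.AntiAffineSmoothAny
import Groth.Agent.Lib.AVHomLattice

/-! Homomorphisms out of an anti-affine group form a free group of finite rank. -/

set_option autoImplicit false
set_option backward.isDefEq.respectTransparency false
set_option backward.isDefEq.respectTransparency.types false
set_option linter.style.haveILetI false
set_option maxHeartbeats 1000000
set_option synthInstance.maxHeartbeats 400000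

universe u

open CategoryTheory CategoryTheory.Limits MonoidalCategory CartesianMonoidalCategory MonObj AlgebraicGeometry

namespace Groth.Agent.AGFLib.AntiAffineHomLattice

open GrpSchLib

variable {k : Type u} [Field k]

theorem isCommMonObj {G : Over (Spec (CommRingCat.of k))} [GrpObj G] [LocallyOfFiniteType G.hom] [QuasiCompact G.hom]
    (hG : Function.Bijective G.hom.appTop) : IsCommMonObj G := by
  haveI : ConnectedSpace G.left := AntiAffine.connectedSpace_of_bijective hG
  refine ⟨?_⟩
  have h := AntiAffine.commute hG (𝟙 G) ((Category.comp_id _).trans (MonObj.one_eq_one G)) (snd G G) (fst G G)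
  simp only [Category.comp_id] at h
  rw [Hom.mul_def, Hom.mul_def, lift_fst_snd, Category.id_comp] at h
  rw [show (β_ G G).hom = lift (snd G G) (fst G G) by apply CartesianMonoidalCategory.hom_ext <;> simp]
  exact h

variable {G H : Over (Spec (CommRingCat.of k))} [GrpObj G] [LocallyOfFiniteType G.hom] [QuasiCompact G.hom]
  [GrpObj H] [LocallyOfFiniteType H.hom] [QuasiCompact H.hom]

/-- Homomorphisms out of an anti-affine group have a basis. -/
theorem main (hG : Function.Bijective G.hom.appTop) :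
    ∃ (n : ℕ) (b : Fin n → (G ⟶ H)), (∀ i, IsMonHom (b i)) ∧
      ∀ f : G ⟶ H, IsMonHom f → ∃! a : Fin n → ℤ, (List.ofFn fun i => b i ^ a i).prod = f := by
  haveI : ConnectedSpace G.left := AntiAffine.connectedSpace_of_bijective hG
  haveI : Smooth G.hom := AntiAffineSmooth.smooth hG
  haveI := isCommMonObj hG
  obtain ⟨M, _, j, hj, hjc, -, hMl, hMq, hant, -, -⟩ := AntPart.exists_ant (G := H)
  haveI := hj; haveI := hjc; haveI := hMl; haveI := hMq
  haveI : Mono j := AntPart.mono_sub j
  haveI : ConnectedSpace M.left := AntiAffine.connectedSpace_of_bijective hant.bij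
  haveI : Smooth M.hom := AntiAffineSmooth.smooth hant.bij
  haveI := isCommMonObj hant.bij
  obtain ⟨Q, _, q, H₀, h₀, hq, hQ, hk, hH₀⟩ := ChevalleyAnyField.exists_affine_kernel M
  haveI := hq; haveI := hQ; haveI := hH₀
  obtain ⟨A, _, α, e, hα, hA, hAs, hAc, -, -, hαe⟩ := AlbaneseAny.exists_image_av q
  haveI := hα; haveI := hA; haveI := hAs; haveI := hAc
  obtain ⟨N₀, _, i₀, A₀, _, α₀, -, -, -, -, hA₀, hA₀s, hA₀c, hα₀, -, -, -, huniv, -⟩ := AlbaneseAny.exists_albanese G
  haveI := hA₀; haveI := hA₀s; haveI := hA₀c; haveI := hα₀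
  haveI : GeometricallyIntegral A.hom := AVSubgroup.geometricallyIntegral_group A
  haveI : GeometricallyIntegral A₀.hom := AVSubgroup.geometricallyIntegral_group A₀
  haveI : IsCommMonObj A := isCommMonObj_of_isProper_of_geometricallyIntegral A
  haveI : IsCommMonObj A₀ := isCommMonObj_of_isProper_of_geometricallyIntegral A₀
  have hone : ∀ g : EndAV.Hom G M, η[G] ≫ g.toHom ≫ α = η[A] := fun g => by
    rw [← Category.assoc, IsMonHom.one_hom g.toHom, IsMonHom.one_hom α]
  have hex : ∀ g : EndAV.Hom G M, ∃! ψ : EndAV.Hom A₀ A, α₀ ≫ ψ.toHom = g.toHom ≫ α := fun g => by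
    obtain ⟨ψ, hψ, hu⟩ := huniv A (g.toHom ≫ α) (hone g)
    haveI : IsMonHom ψ := AlbaneseAny.isMonHom_of_pointed ψ (by
      rw [← IsMonHom.one_hom α₀, Category.assoc, hψ]; exact hone g)
    exact ⟨EndAV.Hom.of ψ, hψ, fun ψ' h' => EndAV.Hom.ext (hu _ h')⟩
  choose Λ hΛ huΛ using hex
  let L : EndAV.Hom G M →+ EndAV.Hom A₀ A := AddMonoidHom.mk' Λ fun g g' => by
    refine ((huΛ (g + g') _ ?_)).symm
    show α₀ ≫ (Λ g + Λ g').toHom = _
    rw [EndAV.Hom.toHom_add, EndAV.Hom.toHom_add, MonObj.comp_mul, hΛ, hΛ, MonObj.mul_comp]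
  have hL : Function.Injective L := by
    rw [injective_iff_map_eq_zero]
    intro g hg
    have h1 : g.toHom ≫ α = 1 := by
      rw [← hΛ g, show Λ g = 0 from hg, EndAV.Hom.toHom_zero, MonObj.comp_one]
    have h2 : g.toHom ≫ q = toUnit G ≫ η[Q] := by
      rw [← hαe, ← Category.assoc, h1, show (1 : G ⟶ A) = toUnit G ≫ η[A] from rfl, Category.assoc,
        ← IsMonHom.one_hom α, Category.assoc, hαe, IsMonHom.one_hom q]
    have h3 := AntiAffine.eq_const_of_isAffine hG (hk.lift g.toHom (toUnit G) h2) η[G]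
    refine EndAV.Hom.ext ?_
    rw [← hk.lift_fst g.toHom (toUnit G) h2, h3, Category.assoc, Category.assoc, hk.lift_fst, IsMonHom.one_hom g.toHom]
    rfl
  obtain ⟨d₀, hd₀⟩ := AVTors.exists_dimNat A₀
  obtain ⟨d, hd⟩ := AVTors.exists_dimNat A
  obtain ⟨hfree, hfin, -⟩ := AVHomLattice.free_finite (A := A₀) (B := A) hd₀ hd
  haveI : Module.IsTorsionFree ℤ (EndAV.Hom A₀ A) := AVHomLattice.isTorsionFree
  haveI : Module.Finite ℤ (EndAV.Hom G M) := Module.Finite.of_injective L.toIntLinearMap hL
  haveI : Module.IsTorsionFree ℤ (EndAV.Hom G M) :=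
    Function.Injective.moduleIsTorsionFree L.toIntLinearMap hL fun c x => map_smul _ _ _
  haveI : Module.Free ℤ (EndAV.Hom G M) := Module.free_of_finite_type_torsion_free'
  let b := Module.finBasis ℤ (EndAV.Hom G M)
  let P : (G ⟶ M) →* (G ⟶ H) := MonoidHom.mk' (· ≫ j) fun x y => MonObj.mul_comp x y j
  have hsum : ∀ a : Fin _ → ℤ, (List.ofFn fun i => ((b i).toHom ≫ j) ^ a i).prod = (∑ i, a i • b i).toHom ≫ j := fun a => by
    show _ = P _
    rw [show (∑ i, a i • b i).toHom = ∏ i, (b i).toHom ^ a i from by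
      let T : EndAV.Hom G M →+ Additive (G ⟶ M) := AddMonoidHom.mk' (fun φ => Additive.ofMul φ.toHom) fun _ _ => rfl
      refine Additive.ofMul.injective ((map_sum T _ _).trans ?_)
      rw [ofMul_prod]
      exact Finset.sum_congr rfl fun i _ => (map_zsmul T _ _).trans (ofMul_zpow _ _).symm,
      ← List.prod_ofFn, map_list_prod, List.map_ofFn]
    congr 2
    funext i
    exact (map_zpow P _ _).symm
  refine ⟨_, fun i => (b i).toHom ≫ j, fun i => inferInstance, fun f hf => ?_⟩
  haveI := hf
  obtain ⟨g, hg⟩ := hant.factor G f η[G] hG (by rw [IsMonHom.one_hom f]; exact MonObj.one_eq_one H)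
  haveI : IsMonHom g := ⟨by rw [← cancel_mono j, Category.assoc, hg, IsMonHom.one_hom f, IsMonHom.one_hom j],
    by rw [← cancel_mono j, Category.assoc, Category.assoc, IsMonHom.mul_hom j, tensorHom_comp_tensorHom_assoc, hg,
      IsMonHom.mul_hom f]⟩
  refine ⟨fun i => b.repr (EndAV.Hom.of g) i, ?_, fun a ha => ?_⟩
  · show _ = f
    rw [hsum, b.sum_repr, EndAV.Hom.toHom_of, hg]
  · have h1 : (∑ i, a i • b i).toHom = g := by
      rw [← cancel_mono j, ← hsum, hg]; exact ha
    have h2 : (∑ i, a i • b i) = EndAV.Hom.of g := EndAV.Hom.ext h1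
    rw [← h2, b.repr_sum_self]

end Groth.Agent.AGFLib.AntiAffineHomLattice
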