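import Groth.Agent.AGFLib.Semi
import Groth.Agent.AGFLib.Stab
import Groth.Prelude.Def_W4bk4grossh111Obs
import Mathlib.LinearAlgebra.Matrix.SchurComplement
import Mathlib.RingTheory.Artinian.Module

/-! Modules of an observable subgroup are submodules of modules of the group. -/

set_option backward.isDefEq.respectTransparency false
set_option backward.isDefEq.respectTransparency.types false
set_option linter.style.haveILetI false

universe u

open CategoryTheory MonoidalCategory CartesianMonoidalCategory MonObj AlgebraicGeometry TensorProduct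

namespace Groth.Agent.AGFLib

open GrpSchLib GrpSchLib.Kunneth GrpSchLib.LineGroups GrpSchLib.LineVec

variable {k : Type u} [Field k]

section Act

variable {H : Over (Spec (CommRingCat.of k))} [GrpObj H] {V : Type u} [AddCommGroup V] [Module k V]
  (σ : VecGrp.GMod H V)

/-- The action of a rational point on a module. -/
noncomputable def act (x : VecGrp.pt k k ⟶ H) : V →ₗ[k] V :=
  (TensorProduct.lid k V).toLinearMap ∘ₗ (σ.ρ k x).toLinearMap ∘ₗ TensorProduct.mk k k V 1

theorem act_spec (x : VecGrp.pt k k ⟶ H) (v : V) :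
    σ.ρ k x ((1 : k) ⊗ₜ[k] v) = (1 : k) ⊗ₜ[k] act σ x v :=
  ((TensorProduct.lid k V).symm_apply_apply _).symm

theorem act_mul (x y : VecGrp.pt k k ⟶ H) (v : V) : act σ (x * y) v = act σ x (act σ y v) := by
  show TensorProduct.lid k V (σ.ρ k (x * y) ((1 : k) ⊗ₜ[k] v)) =
    TensorProduct.lid k V (σ.ρ k x ((1 : k) ⊗ₜ[k] act σ y v))
  rw [map_mul, LinearEquiv.mul_apply, act_spec]

variable [IsAffine H.left]

theorem matCoeff_add (v v' : V) (l : V →ₗ[k] k) : matCoeff σ (v + v') l = matCoeff σ v l + matCoeff σ v' l := by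
  simp only [matCoeff, TensorProduct.tmul_add, map_add]

theorem matCoeff_smul (c : k) (v : V) (l : V →ₗ[k] k) : matCoeff σ (c • v) l = c • matCoeff σ v l := by
  rw [matCoeff, matCoeff, TensorProduct.tmul_smul, ← algebraMap_smul (Fn H) c ((1 : Fn H) ⊗ₜ[k] v), map_smul,
    algebraMap_smul, map_smul]

theorem val_matCoeff_act (v : V) (l : V →ₗ[k] k) (x : VecGrp.pt k k ⟶ H) :
    val x (matCoeff σ v l) = l (act σ x v) := by
  rw [val, pullFn_matCoeff, act_spec, formB_tmul, smul_eq_mul, _root_.mul_one]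

theorem rT_matCoeff_act [LocallyOfFiniteType H.hom] [IsReduced H.left] [IsAlgClosed k] (x : VecGrp.pt k k ⟶ H) (v : V)
    (l : V →ₗ[k] k) : rT x (matCoeff σ v l) = matCoeff σ (act σ x v) l := by
  refine eq_of_pts fun y => ?_
  rw [ev_rT, ← hom_pt_ext (𝟙 _), Category.id_comp, ev_eq_algebraMap, ev_eq_algebraMap, val_matCoeff_act,
    val_matCoeff_act, act_mul]

theorem matCoeff_ne_zero (b : V →ₗ[k] k) (v : V) (h : b v ≠ 0) : matCoeff σ v b ≠ 0 := fun h0 => h (by
  have h1 := val_matCoeff_act σ v b 1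
  rw [h0, val, map_zero] at h1
  rw [h1, show act σ (1 : VecGrp.pt k k ⟶ H) v = v by
    show TensorProduct.lid k V (σ.ρ k 1 ((1 : k) ⊗ₜ[k] v)) = v
    rw [map_one, LinearEquiv.coe_one, id_eq, TensorProduct.lid_tmul, one_smul]])

end Act

variable {G H : Over (Spec (CommRingCat.of k))} [GrpObj G] [GrpObj H]

theorem ev_rT_comp (i : H ⟶ G) [IsMonHom i] (x : VecGrp.pt k k ⟶ H) (f : Fn G) :
    ev i (rT (x ≫ i) f) = rT x (ev i f) := by
  show ev i (rT (x ≫ i) f) = ev (𝟙 H * (toPt H ≫ x)) (ev i f)
  rw [ev_rT, ev_ev, MonObj.mul_comp, Category.id_comp, Category.assoc]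

theorem rT_stable {n : ℕ} {w : Fin n → Fn G} {N : Matrix (Fin n) (Fin n) (Fn G)}
    (hw : ∀ (T : Over (Spec (CommRingCat.of k))) (g h : T ⟶ G) (j : Fin n),
      ev (g * h) (w j) = ∑ i, ev g (w i) * ev h (N i j)) (z : VecGrp.pt k k ⟶ G) (j : Fin n) :
    rT z (w j) = ∑ l, val z (N l j) • w l := by
  rw [rT, hw]
  refine Finset.sum_congr rfl fun l _ => ?_
  rw [ev_id, ← ev_ev, ev_eq_algebraMap, AlgHom.commutes, _root_.mul_comm, ← Algebra.smul_def]

theorem rT_mem_span {n : ℕ} {w : Fin n → Fn G} {N : Matrix (Fin n) (Fin n) (Fn G)}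
    (hw : ∀ (T : Over (Spec (CommRingCat.of k))) (g h : T ⟶ G) (j : Fin n),
      ev (g * h) (w j) = ∑ i, ev g (w i) * ev h (N i j)) (z : VecGrp.pt k k ⟶ G) {f : Fn G}
    (hf : f ∈ Submodule.span k (Set.range w)) : rT z f ∈ Submodule.span k (Set.range w) := by
  induction hf using Submodule.span_induction with
  | mem a ha =>
    obtain ⟨j, rfl⟩ := ha
    rw [rT_stable hw]
    exact Submodule.sum_mem _ fun l _ => Submodule.smul_mem _ _ (Submodule.subset_span ⟨l, rfl⟩)
  | zero => rw [map_zero]; exact Submodule.zero_mem _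
  | add a b _ _ ha hb => rw [map_add]; exact Submodule.add_mem _ ha hb
  | smul r a _ ha => rw [map_smul]; exact Submodule.smul_mem _ _ ha

theorem isUnit_det_of_pts [IsAlgClosed k] {X : Over (Spec (CommRingCat.of k))} [IsAffine X.left]
    [LocallyOfFiniteType X.hom] [IsReduced X.left] {κ : Type*} [Fintype κ] [DecidableEq κ] (f : κ → Fn X)
    (hf : LinearIndependent k f) :
    ∃ y : κ → (VecGrp.pt k k ⟶ X), IsUnit (Matrix.of fun a j => val (y a) (f j)).det := by
  classical
  let r : (VecGrp.pt k k ⟶ X) → κ → k := fun y j => val y (f j)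
  have hspan : Submodule.span k (Set.range r) = ⊤ := by
    by_contra h
    obtain ⟨φ, hφ0, hφ⟩ := Submodule.exists_le_ker_of_lt_top _ (lt_top_iff_ne_top.mpr h)
    refine hφ0 (LinearMap.ext fun z => ?_)
    have hz : ∑ j, φ (Pi.single j 1) • f j = 0 := eq_of_pts fun y => by
      have h1 : φ (r y) = 0 := hφ (Submodule.subset_span ⟨y, rfl⟩)
      rw [← (Pi.basisFun k κ).sum_repr (r y), map_sum] at h1
      simp only [map_smul, Pi.basisFun_repr, Pi.basisFun_apply, smul_eq_mul, r] at h1
      rw [map_zero, ev_eq_algebraMap, val, map_sum]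
      simp only [map_smul, smul_eq_mul]
      rw [← map_zero (algebraMap k (Fn (VecGrp.pt k k)))]
      congr 1
      rw [← h1]
      exact Finset.sum_congr rfl fun j _ => _root_.mul_comm _ _
    have h0 := Fintype.linearIndependent_iff.mp hf _ hz
    rw [← (Pi.basisFun k κ).sum_repr z, map_sum]
    simp [h0]
  obtain ⟨s, hs, hts, hli⟩ := exists_linearIndependent k (Set.range r)
  rw [hspan] at hts
  let b := Module.Basis.mk hli (by rw [Subtype.range_coe, hts])
  let e := b.indexEquiv (Pi.basisFun k κ)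
  choose y hy using fun a => hs (e.symm a).2
  refine ⟨y, Matrix.isUnit_iff_isUnit_det _ |>.mp (Matrix.linearIndependent_rows_iff_isUnit.mp ?_)⟩
  have h2 := hli.comp e.symm e.symm.injective
  rw [show (Matrix.of fun a j => val (y a) (f j)).row = Subtype.val ∘ e.symm from funext hy]
  exact h2

/-- An equivariant injection, read on rational points, is an extension. -/
theorem extendsAlong_of_pts [IsAlgClosed k] [IsAffine G.left] [IsAffine H.left] [LocallyOfFiniteType H.hom]
    [IsReduced H.left] (i : H ⟶ G) {V : Type u} [AddCommGroup V] [Module k V] (σ : VecGrp.GMod H V)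
    {n : ℕ} {M : Matrix (Fin n) (Fin n) (Fn G)} (hM : IsRepMatrix M) [QuasiCompact G.hom] (φ : V →ₗ[k] (Fin n → k))
    (hinj : Function.Injective φ)
    (heq : ∀ (x : VecGrp.pt k k ⟶ H) (v : V) (p : Fin n),
      φ (act σ x v) p = ∑ q, φ v q * val (x ≫ i) (M p q)) : σ.ExtendsAlong i := by
  refine ⟨Fin n → k, inferInstance, inferInstance, inferInstance, hM.gmod, φ, hinj, fun B _ _ h x => ?_⟩
  induction x using TensorProduct.induction_on with
  | zero => simp
  | add a c ha hc => simp only [map_add, ha, hc]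
  | tmul c v =>
    rw [show c ⊗ₜ[k] v = c • ((1 : B) ⊗ₜ[k] v) by rw [TensorProduct.smul_tmul', smul_eq_mul, _root_.mul_one]]
    simp only [map_smul, LinearMap.baseChange_tmul]
    congr 1
    show φ.baseChange B (σ.ρ B h ((1 : B) ⊗ₜ[k] v)) = endHom hM B (h ≫ i) ((1 : B) ⊗ₜ[k] φ v)
    rw [endHom_tmul]
    refine (stdB k n B).repr.injective (Finsupp.ext fun p => ?_)
    have hL : ∀ z : B ⊗[k] V, (stdB k n B).repr (φ.baseChange B z) p = formB ((LinearMap.proj p) ∘ₗ φ) B z := by
      intro z
      induction z using TensorProduct.induction_on with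
      | zero => simp
      | add a c ha hc => simp only [map_add, Finsupp.add_apply, ha, hc]
      | tmul a m => simp [stdB, formB_tmul, Algebra.smul_def, _root_.mul_comm]
    rw [hL, ← pullFn_matCoeff, Module.Basis.repr_sum_self]
    have key : matCoeff σ v ((LinearMap.proj p) ∘ₗ φ) = ∑ q, φ v q • ev i (M p q) := by
      refine eq_of_pts fun y => ?_
      rw [ev_eq_algebraMap, val_matCoeff_act, LinearMap.comp_apply, LinearMap.proj_apply, heq, map_sum, map_sum]
      refine Finset.sum_congr rfl fun q _ => ?_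
      rw [map_smul, ev_ev, ev_eq_algebraMap, map_mul, Algebra.smul_def]
    rw [key, map_sum]
    exact Finset.sum_congr rfl fun q _ => by rw [map_smul, pullFn_comp]

variable [IsAffine G.left] [Smooth G.hom] [IsAffine H.left] [Smooth H.hom] [IsAlgClosed k]

/-- The inverse of a semi-invariant occurs with a regular semi-invariant, for an observable subgroup. -/
theorem exists_semi_inverse (i : H ⟶ G) [IsMonHom i] [IsClosedImmersion i.left] (hobs : AGF.IsObservableIn k i)
    (δ : (VecGrp.pt k k ⟶ H) → k) (f : Fn G) (hf0 : f ≠ 0) (hf : ∀ x, rT (x ≫ i) f = δ x • f) :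
    ∃ F ∈ nonZeroDivisors (Fn G), ∀ x, δ x • rT (x ≫ i) F = F := by
  haveI : IsReduced G.left := isReduced_of_smooth_field G.hom
  obtain ⟨F, hFmem, hFreg⟩ := exists_regular f hf0
  have hF : ∀ x, rT (x ≫ i) F = δ x • F := fun x => by
    clear hFreg
    induction hFmem using Submodule.span_induction with
    | mem a ha => obtain ⟨y, rfl⟩ := ha; rw [rT_lT, hf, map_smul]
    | zero => simp
    | add a b _ _ ha hb => rw [map_add, ha, hb, smul_add]
    | smul r a _ ha => rw [map_smul, ha, smul_comm]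
  obtain ⟨P, hP, hPmem, hP0⟩ := exists_inv_mem i hobs (Ideal.span {F}) (fun x c hc => by
    obtain ⟨q, rfl⟩ := Ideal.mem_span_singleton'.mp hc
    rw [map_mul, hF, mul_smul_comm]
    exact Submodule.smul_of_tower_mem _ _ (Ideal.mul_mem_left _ _ (Ideal.mem_span_singleton_self F)))
    F (Ideal.mem_span_singleton_self F) hFreg
  obtain ⟨c, rfl⟩ := Ideal.mem_span_singleton'.mp hPmem
  have hc : ∀ x, δ x • rT (x ≫ i) c = c := fun x => by
    have h1 := rT_of_isRTransInv hP x
    rwa [map_mul, hF, mul_smul_comm, ← smul_mul_assoc, mul_cancel_right_mem_nonZeroDivisors hFreg] at h1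
  obtain ⟨F', hmem, hreg⟩ := exists_regular c (left_ne_zero_of_mul hP0)
  refine ⟨F', hreg, fun x => ?_⟩
  clear hreg
  induction hmem using Submodule.span_induction with
  | mem a ha => obtain ⟨y, rfl⟩ := ha; rw [rT_lT, ← map_smul, hc]
  | zero => simp
  | add a b _ _ ha hb => rw [map_add, smul_add, ha, hb]
  | smul r a _ ha => rw [map_smul, smul_comm, ha]

omit [Smooth H.hom] [IsAlgClosed k] in
theorem surjective_ev (i : H ⟶ G) [IsClosedImmersion i.left] : Function.Surjective (ev i) :=
  ((IsClosedImmersion.isAffine_surjective_of_isAffine i.left).2)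

/-- The determinant built from left translates is multiplied by the determinant of the action. -/
theorem rT_det {r : ℕ} (e : Fin r → Fn G) (A : Matrix (Fin r) (Fin r) k) (c : Fin r → k) (z : VecGrp.pt k k ⟶ G)
    (he : ∀ j, rT z (e j) = ∑ l, A l j • e l) (u u' : Fn G) (hu : rT z u = ∑ l, c l • e l + u')
    (y : Fin r ⊕ Unit → (VecGrp.pt k k ⟶ G)) :
    rT z (Matrix.of fun a j => lT (y a) (Sum.elim e (fun _ => u) j)).det =
      A.det • (Matrix.of fun a j => lT (y a) (Sum.elim e (fun _ => u') j)).det := by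
  rw [AlgHom.map_det]
  have hE : (rT z).mapMatrix (Matrix.of fun a j => lT (y a) (Sum.elim e (fun _ => u) j)) =
      (Matrix.of fun a j => lT (y a) (Sum.elim e (fun _ => u') j)) *
        (Matrix.fromBlocks A (Matrix.replicateCol Unit c) 0 1).map (algebraMap k (Fn G)) := by
    ext a j
    simp only [AlgHom.mapMatrix_apply, Matrix.map_apply, Matrix.of_apply, Matrix.mul_apply, rT_lT,
      Fintype.sum_sum_type]
    rcases j with j | j
    · simp [he, Algebra.smul_def, _root_.mul_comm]
    · simp [hu, Algebra.smul_def, _root_.mul_comm]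
  rw [hE, Matrix.det_mul, ← RingHom.mapMatrix_apply, ← RingHom.map_det, Matrix.det_fromBlocks_zero₂₁, Matrix.det_one,
    _root_.mul_one, _root_.mul_comm, ← Algebra.smul_def]

section DetCol

variable {R A : Type u} [Field R] [CommRing A] [Algebra R A] {κ : Type} [Fintype κ] [DecidableEq κ]

/-- A determinant as a linear function of one of its columns. -/
noncomputable def detCol (t : κ → A →ₐ[R] A) (e : κ → A) (j₀ : κ) : A →ₗ[R] A where
  toFun u := (Matrix.updateCol (Matrix.of fun a j => t a (e j)) j₀ fun a => t a u).det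
  map_add' u u' := by
    rw [← Matrix.det_updateCol_add]
    congr 2
    funext a
    simp
  map_smul' c u := by
    rw [RingHom.id_apply, Algebra.smul_def c (Matrix.det _), ← Matrix.det_updateCol_smul]
    congr 2
    funext a
    simp [Algebra.smul_def]

theorem detCol_eq (t : κ ⊕ Unit → A →ₐ[R] A) (e : κ → A) (u : A) :
    detCol t (Sum.elim e fun _ => 0) (Sum.inr ()) u = (Matrix.of fun a j => t a (Sum.elim e (fun _ => u) j)).det := by
  show Matrix.det _ = Matrix.det _
  congr 1
  ext a (j | j) <;> simp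

end DetCol

omit [IsAffine G.left] [Smooth G.hom] [IsAffine H.left] [Smooth H.hom] [IsAlgClosed k] in
theorem val_one_det {κ : Type} [Fintype κ] [DecidableEq κ] (y : κ → (VecGrp.pt k k ⟶ G)) (f : κ → Fn G)
    (h : IsUnit (Matrix.of fun a j => val (y a) (f j)).det) :
    (Matrix.of fun a j => lT (y a) (f j)).det ≠ 0 := fun h0 => h.ne_zero (by
  have h1 := congrArg (pullFn (1 : VecGrp.pt k k ⟶ G)) h0
  rw [AlgHom.map_det, map_zero] at h1
  rw [← h1]
  congr 1
  ext a j
  simp only [AlgHom.mapMatrix_apply, Matrix.map_apply, Matrix.of_apply]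
  rw [val, pullFn_apply, pullFn_apply, ev_lT, ← hom_pt_ext (𝟙 _), Category.id_comp, _root_.mul_one])

/-- A finite separating family of equivariant maps into functions gives an extension. -/
theorem extendsAlong_of_family (i : H ⟶ G) {V : Type u} [AddCommGroup V] [Module k V] [Module.Finite k V]
    (σ : VecGrp.GMod H V) {κ : Type*} [Fintype κ] [DecidableEq κ] (Ψ : κ → V →ₗ[k] Fn G)
    (hΨeq : ∀ s x v, rT (x ≫ i) (Ψ s v) = Ψ s (act σ x v)) (hΨinj : ∀ v, (∀ s, Ψ s v = 0) → v = 0) :
    σ.ExtendsAlong i := by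
  classical
  haveI : IsReduced H.left := isReduced_of_smooth_field H.hom
  let b := Module.finBasis k V
  obtain ⟨n₂, w₂, N₂, hN₂, hwli₂, hFw₂, hw₂⟩ :=
    exists_stable (G := G) (Finset.univ.image fun p : κ × Fin (Module.finrank k V) => Ψ p.1 (b p.2))
  have hmem₂ : ∀ (s : κ) v, Ψ s v ∈ Submodule.span k (Set.range w₂) := fun s v => by
    rw [← b.sum_repr v, map_sum]
    exact Submodule.sum_mem _ fun j _ => by
      rw [map_smul]
      exact Submodule.smul_mem _ _ (hFw₂ (Finset.mem_coe.mpr (Finset.mem_image_of_mem _ (Finset.mem_univ (s, j)))))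
  let W₂ := Module.Basis.span hwli₂
  let co : κ → V →ₗ[k] (Fin n₂ →₀ k) := fun s =>
    W₂.repr.toLinearMap ∘ₗ (Ψ s).codRestrict _ (hmem₂ s)
  have hco : ∀ s v, ∑ q, co s v q • w₂ q = Ψ s v := fun s v => by
    have h2 := congrArg Subtype.val (W₂.sum_repr ⟨Ψ s v, hmem₂ s v⟩)
    simp only [Submodule.coe_sum, Submodule.coe_smul, W₂, Module.Basis.span_apply] at h2
    exact h2
  let m := Fintype.card κ
  let φ : V →ₗ[k] (Fin (n₂ * m) → k) := LinearMap.pi fun p =>
    Finsupp.lapply (finProdFinEquiv.symm p).1 ∘ₗ co ((Fintype.equivFin κ).symm (finProdFinEquiv.symm p).2)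
  refine extendsAlong_of_pts i σ (isRepMatrix_copies hN₂ m) φ ?_ fun x v p => ?_
  · rw [← LinearMap.ker_eq_bot, LinearMap.ker_eq_bot']
    intro v hv
    refine hΨinj v fun s => ?_
    rw [← hco s v]
    refine Finset.sum_eq_zero fun q _ => ?_
    have := congrFun hv (finProdFinEquiv (q, Fintype.equivFin κ s))
    simp only [φ, LinearMap.pi_apply, Equiv.symm_apply_apply, LinearMap.comp_apply, Finsupp.lapply_apply,
      Pi.zero_apply] at this
    rw [this, zero_smul]
  · obtain ⟨⟨a, t⟩, rfl⟩ := finProdFinEquiv.surjective p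
    let s := (Fintype.equivFin κ).symm t
    have h1 : co s (act σ x v) a = ∑ q, co s v q * val (x ≫ i) (N₂ a q) := by
      have h2 := hΨeq s x v
      rw [← hco, ← hco, map_sum] at h2
      simp only [map_smul, rT_stable hw₂, Finset.smul_sum, smul_smul] at h2
      rw [Finset.sum_comm] at h2
      simp only [← Finset.sum_smul] at h2
      exact (Fintype.linearIndependent_iffₛ.mp hwli₂ _ _ h2 a).symm
    rw [← finProdFinEquiv.sum_comp, Fintype.sum_prod_type]
    have e1 : ∀ (x : Fin n₂) (y : Fin m), (finProdFinEquiv (x, y)).divNat = x := fun x y =>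
      congrArg Prod.fst (finProdFinEquiv.symm_apply_apply (x, y))
    have e2 : ∀ (x : Fin n₂) (y : Fin m), (finProdFinEquiv (x, y)).modNat = y := fun x y =>
      congrArg Prod.snd (finProdFinEquiv.symm_apply_apply (x, y))
    simp [copies, Matrix.one_apply, φ, val, apply_ite (pullFn (x ≫ i)), e1, e2, h1, s]

/-- A space of functions stable under the rational points has a basis on which they act by matrices. -/
theorem exists_matrices (i : H ⟶ G) (K : Submodule k (Fn G)) [Module.Finite k K]
    (hK : ∀ (x : VecGrp.pt k k ⟶ H), ∀ z ∈ K, rT (x ≫ i) z ∈ K) :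
    ∃ (r : ℕ) (e : Fin r → Fn G) (A : (VecGrp.pt k k ⟶ H) → Matrix (Fin r) (Fin r) k),
      LinearIndependent k e ∧ Submodule.span k (Set.range e) = K ∧ ∀ x j, rT (x ≫ i) (e j) = ∑ l, A x l j • e l := by
  classical
  let eB := Module.finBasis k K
  let e : Fin (Module.finrank k K) → Fn G := fun j => (eB j : Fn G)
  have hspan : Submodule.span k (Set.range e) = K := by
    rw [show Set.range e = K.subtype '' Set.range eB from Set.range_comp K.subtype eB, Submodule.span_image, eB.span_eq,
      Submodule.map_top, Submodule.range_subtype]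
  have h : ∀ x j, ∃ c : Fin (Module.finrank k K) → k, ∑ l, c l • e l = rT (x ≫ i) (e j) := fun x j =>
    (Submodule.mem_span_range_iff_exists_fun k).mp (hspan.symm ▸ hK x _ (eB j).2)
  choose c hc using h
  exact ⟨_, e, fun x => Matrix.of fun l j => c x j l, eB.linearIndependent.map' K.subtype K.ker_subtype, hspan,
    fun x j => (hc x j).symm⟩

omit [IsAffine H.left] [Smooth H.hom] [IsAlgClosed k] [IsAffine G.left] [Smooth G.hom] in
theorem exists_finset_separating {V : Type u} [AddCommGroup V] [Module k V] [Module.Finite k V] {κ : Type*}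
    (Ψ : κ → V →ₗ[k] Fn G) (h : ∀ v, (∀ s, Ψ s v = 0) → v = 0) :
    ∃ S : Finset κ, ∀ v, (∀ s ∈ S, Ψ s v = 0) → v = 0 := by
  classical
  let kerS := fun S : Finset κ => ⨅ s ∈ S, LinearMap.ker (Ψ s)
  obtain ⟨-, ⟨S, rfl⟩, hmin⟩ := IsArtinian.set_has_minimal (Set.range kerS) ⟨_, ⟨∅, rfl⟩⟩
  refine ⟨S, fun v hv => h v fun s => ?_⟩
  have hle : kerS (insert s S) ≤ kerS S := le_iInf₂ fun a ha => iInf₂_le a (Finset.mem_insert_of_mem ha)
  have heq : kerS (insert s S) = kerS S := hle.lt_or_eq.resolve_left (hmin _ ⟨_, rfl⟩)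
  have hmem : v ∈ kerS S := by simpa [kerS, Submodule.mem_iInf] using hv
  rw [← heq] at hmem
  simp only [kerS, Submodule.mem_iInf] at hmem
  exact hmem s (Finset.mem_insert_self _ _)

/-- Maps into functions, equivariant modulo a stable subspace, give an extension for an observable subgroup. -/
theorem extendsAlong_of_modulo (i : H ⟶ G) [IsMonHom i] [IsClosedImmersion i.left]
    (hobs : AGF.IsObservableIn k i) {V : Type u} [AddCommGroup V] [Module k V] [Module.Finite k V]
    (σ : VecGrp.GMod H V) {r : ℕ} (e : Fin r → Fn G) (A : (VecGrp.pt k k ⟶ H) → Matrix (Fin r) (Fin r) k)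
    (heli : LinearIndependent k e) (he : ∀ x j, rT (x ≫ i) (e j) = ∑ l, A x l j • e l) {κ : Type*}
    (L : κ → V →ₗ[k] Fn G)
    (hL : ∀ l x v, rT (x ≫ i) (L l v) - L l (act σ x v) ∈ Submodule.span k (Set.range e))
    (hsep : ∀ v, v ≠ 0 → ∃ l, L l v ∉ Submodule.span k (Set.range e)) : σ.ExtendsAlong i := by
  classical
  haveI : IsReduced G.left := isReduced_of_smooth_field G.hom
  obtain ⟨y₁, hy₁⟩ := isUnit_det_of_pts e heli
  let P : Fn G := (Matrix.of fun a j => lT (y₁ a) (e j)).det
  have hP0 : P ≠ 0 := val_one_det y₁ e hy₁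
  have hP : ∀ x, rT (x ≫ i) P = (A x).det • P := fun x => by
    show rT (x ≫ i) (Matrix.of fun a j => lT (y₁ a) (e j)).det = _
    rw [AlgHom.map_det, Algebra.smul_def, RingHom.map_det, _root_.mul_comm, ← Matrix.det_mul]
    congr 1
    ext a j
    simp [Matrix.mul_apply, rT_lT, he, Algebra.smul_def, _root_.mul_comm]
  obtain ⟨F, hFreg, hF⟩ := exists_semi_inverse i hobs (fun x => (A x).det) P hP0 hP
  let Φ : (Fin r ⊕ Unit → (VecGrp.pt k k ⟶ G)) → Fn G →ₗ[k] Fn G := fun y =>
    detCol (fun a => lT (y a)) (Sum.elim e fun _ => 0) (Sum.inr ())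
  have hΦ : ∀ y u, Φ y u = (Matrix.of fun a j => lT (y a) (Sum.elim e (fun _ => u) j)).det := fun y u =>
    detCol_eq _ _ _
  let Ψ : κ × (Fin r ⊕ Unit → (VecGrp.pt k k ⟶ G)) → V →ₗ[k] Fn G := fun s =>
    (LinearMap.mulLeft k F) ∘ₗ Φ s.2 ∘ₗ L s.1
  have hΨeq : ∀ s x v, rT (x ≫ i) (Ψ s v) = Ψ s (act σ x v) := fun s x v => by
    obtain ⟨c, hc⟩ := (Submodule.mem_span_range_iff_exists_fun k).mp (hL s.1 x v)
    show rT (x ≫ i) (F * Φ s.2 (L s.1 v)) = F * Φ s.2 (L s.1 (act σ x v))
    rw [hΦ, hΦ, map_mul, rT_det e (A x) c (x ≫ i) (he x) _ (L s.1 (act σ x v))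
      (by rw [hc, sub_add_cancel]) s.2, mul_smul_comm, ← smul_mul_assoc, hF x]
  have hΨinj : ∀ v, (∀ s, Ψ s v = 0) → v = 0 := fun v hv => by
    by_contra hv0
    obtain ⟨l, hu⟩ := hsep v hv0
    have hli : LinearIndependent k (Sum.elim e (fun _ : Unit => L l v)) := by
      refine heli.sum_type (LinearIndependent.of_subsingleton () fun h0 => hu (by rw [h0]; exact Submodule.zero_mem _)) ?_
      rw [Set.range_const, Submodule.disjoint_def]
      intro z hz hz'
      obtain ⟨c, rfl⟩ := Submodule.mem_span_singleton.mp hz'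
      rcases eq_or_ne c 0 with rfl | hc
      · rw [zero_smul]
      · exact absurd (by simpa [hc] using Submodule.smul_mem _ c⁻¹ hz) hu
    obtain ⟨y, hy⟩ := isUnit_det_of_pts _ hli
    have h1 : F * Φ y (L l v) = 0 := hv (l, y)
    have h2 : Φ y (L l v) = 0 := (mem_nonZeroDivisors_iff.mp hFreg).1 _ h1
    exact val_one_det y _ hy ((hΦ _ _).symm.trans h2)
  obtain ⟨S, hS⟩ := exists_finset_separating Ψ hΨinj
  exact extendsAlong_of_family i σ (fun s : ↥S => Ψ s.1) (fun s => hΨeq s.1)
    fun v hv => hS v fun s hs => hv ⟨s, hs⟩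

/-- Every module of an observable subgroup extends. -/
theorem extendsAlong_of_observable (i : H ⟶ G) [IsMonHom i] [IsClosedImmersion i.left]
    (hobs : AGF.IsObservableIn k i) {V : Type u} [AddCommGroup V] [Module k V] [Module.Finite k V]
    (σ : VecGrp.GMod H V) : σ.ExtendsAlong i := by
  classical
  haveI : IsReduced G.left := isReduced_of_smooth_field G.hom
  haveI : IsReduced H.left := isReduced_of_smooth_field H.hom
  let b := Module.finBasis k V
  choose f hf using fun p : Fin (Module.finrank k V) × Fin (Module.finrank k V) =>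
    surjective_ev i (matCoeff σ (b p.2) (b.coord p.1))
  obtain ⟨n, w, N, hN, hwli, hFw, hw⟩ := exists_stable (G := G) (Finset.univ.image f)
  let L : Fin (Module.finrank k V) → V →ₗ[k] Fn G := fun l => b.constr k fun j => f (l, j)
  have hLW : ∀ l v, L l v ∈ Submodule.span k (Set.range w) := fun l v => by
    rw [Module.Basis.constr_apply_fintype]
    exact Submodule.sum_mem _ fun j _ => Submodule.smul_mem _ _
      (hFw (Finset.mem_coe.mpr (Finset.mem_image_of_mem _ (Finset.mem_univ _))))
  have hLev : ∀ l v, ev i (L l v) = matCoeff σ v (b.coord l) := fun l v => by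
    let C : V →ₗ[k] Fn H :=
      ⟨⟨fun v => matCoeff σ v (b.coord l), fun a c => matCoeff_add σ a c _⟩, fun a c => matCoeff_smul σ a c _⟩
    have : (ev i).toLinearMap ∘ₗ L l = C := b.ext fun j => by
      simp only [LinearMap.comp_apply, L, Module.Basis.constr_basis]
      exact hf (l, j)
    exact DFunLike.congr_fun this v
  let W : Submodule k (Fn G) := Submodule.span k (Set.range w)
  haveI : Module.Finite k W := Module.Finite.span_of_finite k (Set.finite_range _)
  haveI : Module.Finite k (W ⊓ LinearMap.ker (ev i).toLinearMap : Submodule k (Fn G)) :=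
    Submodule.finiteDimensional_of_le inf_le_left
  obtain ⟨r, e, A, heli, hspan, he⟩ := exists_matrices i (W ⊓ LinearMap.ker (ev i).toLinearMap) fun x z hz =>
    ⟨rT_mem_span hw _ hz.1, show ev i (rT (x ≫ i) z) = 0 by rw [ev_rT_comp, show ev i z = 0 from hz.2, map_zero]⟩
  refine extendsAlong_of_modulo i hobs σ e A heli he L (fun l x v => ?_) fun v hv0 => ?_
  · rw [hspan]
    exact ⟨Submodule.sub_mem _ (rT_mem_span hw _ (hLW _ _)) (hLW _ _), show ev i _ = 0 by
      rw [map_sub, ev_rT_comp, hLev, hLev, rT_matCoeff_act, sub_self]⟩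
  · obtain ⟨l, hl⟩ : ∃ l, b.coord l v ≠ 0 := by
      by_contra h
      push Not at h
      exact hv0 (b.forall_coord_eq_zero_iff.mp h)
    refine ⟨l, fun hmem => matCoeff_ne_zero σ _ v hl ?_⟩
    rw [hspan] at hmem
    rw [← hLev]
    exact hmem.2

end Groth.Agent.AGFLib
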