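import Groth.Agent.GrpSchLib.AntiAffineGMod
import Groth.Agent.GrpSchLib.RepFamily
import Groth.Agent.GrpSchLib.HomFinite

/-! A group with a point-faithful locally finite representation is affine. -/

set_option backward.isDefEq.respectTransparency false
set_option backward.isDefEq.respectTransparency.types false

universe u

open CategoryTheory Limits AlgebraicGeometry MonoidalCategory CartesianMonoidalCategory MonObj GrpObj TensorProduct
open TopologicalSpace Opposite

namespace Groth.Agent.AGFLib.FaithfulRep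

open Groth.Agent.GrpSchLib Groth.Agent.GrpSchLib.Kunneth

variable {k : Type u} [Field k] {G : Over (Spec (CommRingCat.of k))}

/-- Natural families of values on affine test schemes are functions. -/
theorem exists_fn
    (F : ∀ (B : Type u) [CommRing B] [Algebra k B], (VecGrp.pt k B ⟶ G) → B)
    (hF : ∀ {B B' : Type u} [CommRing B] [Algebra k B] [CommRing B'] [Algebra k B'] (φ : B →ₐ[k] B') (g : VecGrp.pt k B ⟶ G),
      φ (F B g) = F B' (VecGrp.ptMap φ ≫ g)) :
    ∃ s : Fn G, ∀ (B : Type u) [CommRing B] [Algebra k B] (g : VecGrp.pt k B ⟶ G), pullFn g s = F B g := by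
  let U : G.left.affineOpens → G.left.Opens := fun V => V.1
  let sf : ∀ V : G.left.affineOpens, Γ(G.left, U V) := fun V => letI := algOpen V.2; F _ (openPt V.2)
  have hres : ∀ {V W : G.left.Opens} (hV : IsAffineOpen V) (hW : IsAffineOpen W) (h : W ≤ V),
      G.left.presheaf.map (homOfLE h).op (sf ⟨V, hV⟩) = sf ⟨W, hW⟩ := by
    intro V W hV hW h
    letI := algOpen hV
    letI := algOpen hW
    exact (hF (resAlg hV hW h) (openPt hV)).trans (by rw [ptMap_resAlg])
  have hcov : (⊤ : G.left.Opens) ≤ iSup U := (iSup_affineOpens_eq_top G.left).ge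
  obtain ⟨s, hs, -⟩ := G.left.sheaf.existsUnique_gluing' U ⊤ (fun b => homOfLE le_top) hcov sf (fun V W => by
    refine eq_of_forall_affine fun Z hZ hZl => ?_
    have e1 := hres V.2 hZ (hZl.trans inf_le_left)
    have e2 := hres W.2 hZ (hZl.trans inf_le_right)
    refine Eq.trans ?_ ((e1.trans e2.symm).trans ?_)
    · refine Eq.trans ?_ rfl
      exact (congr($(G.left.presheaf.map_comp _ _) (sf V))).symm
    · exact congr($(G.left.presheaf.map_comp _ _) (sf W)))
  refine ⟨s, fun B _ _ g => Eq.symm ?_⟩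
  have hloc : ∀ V : G.left.affineOpens, letI := algOpen V.2; F _ (openPt V.2) = pullFn (openPt V.2) s := fun V => by
    letI := algOpen V.2
    exact (hs V).symm.trans (pullFn_openPt V.2 s).symm
  -- locally on the test scheme
  let S : Set B := {r | ∃ (V : G.left.affineOpens), PrimeSpectrum.basicOpen r ≤ g.left ⁻¹ᵁ (U V)}
  have hspan : Ideal.span S = ⊤ := by
    rw [← PrimeSpectrum.zeroLocus_empty_iff_eq_top, PrimeSpectrum.zeroLocus_span, Set.eq_empty_iff_forall_notMem]
    intro p hp
    obtain ⟨V, hV⟩ := Opens.mem_iSup.mp (hcov (show g.left p ∈ (⊤ : G.left.Opens) from trivial))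
    obtain ⟨_, ⟨r, rfl⟩, hr, hle⟩ := PrimeSpectrum.isTopologicalBasis_basic_opens.exists_subset_of_mem_open
      (show p ∈ ((g.left ⁻¹ᵁ (U V)).carrier : Set (PrimeSpectrum B)) from hV) (g.left ⁻¹ᵁ (U V)).isOpen
    exact hr (hp ⟨V, hle⟩)
  suffices hrad : ∀ r ∈ S, ∃ m : ℕ, r ^ m * (F B g - pullFn g s) = 0 by
    let I : Ideal B := LinearMap.ker (LinearMap.toSpanSingleton B B (F B g - pullFn g s))
    have hI : ∀ a, a ∈ I ↔ a * (F B g - pullFn g s) = 0 := fun a => by simp [I]
    have : I.radical = ⊤ := top_unique (hspan ▸ Ideal.span_le.2 fun r hr => by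
      obtain ⟨m, hm⟩ := hrad r hr
      exact ⟨m, (hI _).2 hm⟩)
    rw [Ideal.radical_eq_top] at this
    exact sub_eq_zero.mp (by simpa using (hI 1).1 (this ▸ trivial))
  intro r hr
  obtain ⟨V, hle⟩ := hr
  letI := algOpen V.2
  let Br := Localization.Away r
  let φ : B →ₐ[k] Br := IsScalarTower.toAlgHom k B Br
  let h := VecGrp.ptMap φ ≫ g
  have hrange : Set.range h.left ⊆ Set.range V.2.fromSpec := by
    rw [V.2.range_fromSpec]
    rintro _ ⟨q, rfl⟩
    refine hle ?_
    have : (PrimeSpectrum.comap (algebraMap B Br) q) ∈ (PrimeSpectrum.basicOpen r : Set _) := by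
      rw [← PrimeSpectrum.localization_away_comap_range Br r]
      exact ⟨q, rfl⟩
    exact this
  haveI := V.2.isOpenImmersion_fromSpec
  let q := Spec.preimage (IsOpenImmersion.lift V.2.fromSpec h.left hrange)
  have hq : Spec.map q ≫ V.2.fromSpec = h.left := by rw [Spec.map_preimage, IsOpenImmersion.lift_fac]
  let ψ : Γ(G.left, V.1) →ₐ[k] Br := AlgHom.mk q.hom fun a => by
    have e : Spec.preimage (V.2.fromSpec ≫ G.hom) ≫ q = CommRingCat.ofHom (algebraMap k Br) := by
      apply Spec.map_injective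
      rw [Spec.map_comp]
      refine (congrArg (Spec.map q ≫ ·) (Spec.map_preimage _)).trans ?_
      rw [← Category.assoc, hq]
      exact Over.w h
    exact congr($e a)
  have hh : VecGrp.ptMap ψ ≫ openPt V.2 = h := Over.OverMorphism.ext hq
  have hz : algebraMap B Br (F B g - pullFn g s) = 0 := by
    rw [map_sub, sub_eq_zero]
    calc algebraMap B Br (F B g) = F Br h := hF φ g
      _ = ψ (F _ (openPt V.2)) := by rw [hF ψ, hh]
      _ = pullFn h s := by rw [hloc, ← pullFn_ptMap, hh]
      _ = _ := pullFn_ptMap φ g s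
  obtain ⟨⟨_, m, rfl⟩, hm⟩ := (IsLocalization.map_eq_zero_iff (Submonoid.powers r) Br _).1 hz
  exact ⟨m, hm⟩

/-- Functions are determined by their values at affine points. -/
theorem fn_ext {s t : Fn G} (h : ∀ (B : Type u) [CommRing B] [Algebra k B] (g : VecGrp.pt k B ⟶ G), pullFn g s = pullFn g t) :
    s = t := by
  refine eq_of_forall_affine fun V hV _ => ?_
  letI := algOpen hV
  have := h Γ(G.left, V) (openPt hV)
  rw [pullFn_openPt, pullFn_openPt] at this
  exact this

theorem pullFn_ev {T : Over (Spec (CommRingCat.of k))} {B : Type u} [CommRing B] [Algebra k B]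
    (p : VecGrp.pt k B ⟶ T) (g : T ⟶ G) (f : Fn G) : pullFn p (ev g f) = pullFn (p ≫ g) f := by
  rw [pullFn_apply, pullFn_apply, ev_ev]

variable [GrpObj G]

/-- A finite stable subspace gives a multiplicative matrix of functions describing the action on it. -/
theorem exists_matrix_of_stable {M : Type u} [AddCommGroup M] [Module k M] (m : VecGrp.GMod G M)
    (N : Submodule k M) [Module.Finite k N]
    (hN : ∀ (B : Type u) [CommRing B] [Algebra k B] (g : VecGrp.pt k B ⟶ G) (x : VecGrp.W k M B),
      x ∈ Submodule.baseChange B N → m.ρ B g x ∈ Submodule.baseChange B N) :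
    ∃ (n : ℕ) (A : Matrix (Fin n) (Fin n) (Fn G)), IsRepMatrix A ∧
      ∀ (B : Type u) [CommRing B] [Algebra k B] (g : VecGrp.pt k B ⟶ G), A.map (pullFn g) = 1 →
        ∀ v ∈ N, m.ρ B g ((1 : B) ⊗ₜ[k] v) = (1 : B) ⊗ₜ[k] v := by
  classical
  obtain ⟨π, hπ⟩ := LinearMap.exists_leftInverse_of_injective N.subtype N.ker_subtype
  let b := Module.finBasis k N
  let φ : Fin (Module.finrank k N) → M →ₗ[k] k := fun i => (b.coord i).comp π
  let c : ∀ (B : Type u) [CommRing B] [Algebra k B] (i : Fin (Module.finrank k N)), VecGrp.W k M B →ₗ[B] B :=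
    fun B _ _ i => (TensorProduct.AlgebraTensorModule.rid k B B).toLinearMap.comp ((φ i).baseChange B)
  have hc : ∀ (B : Type u) [CommRing B] [Algebra k B] (i) (a : B) (v : M), c B i (a ⊗ₜ[k] v) = φ i v • a := by
    intros
    simp [c]
  have hdec : ∀ (B : Type u) [CommRing B] [Algebra k B] (x : VecGrp.W k M B), x ∈ Submodule.baseChange B N →
      x = ∑ i, c B i x • ((1 : B) ⊗ₜ[k] (b i : M)) := by
    intro B _ _ x hx
    rw [Submodule.baseChange_eq_span] at hx
    induction hx using Submodule.span_induction with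
    | mem x hx =>
      obtain ⟨v, hv, rfl⟩ := hx
      simp only [TensorProduct.mk_apply, hc, TensorProduct.smul_tmul', smul_eq_mul, _root_.mul_one,
        TensorProduct.smul_tmul, ← TensorProduct.tmul_sum]
      congr 1
      have e : π v = ⟨v, hv⟩ := LinearMap.congr_fun hπ ⟨v, hv⟩
      have := congrArg Subtype.val (b.sum_repr (π v))
      rw [Submodule.coe_sum, e] at this
      simpa [φ, e] using this.symm
    | zero => simp
    | add x y _ _ hx hy =>
      conv_lhs => rw [hx, hy]
      simp only [map_add, add_smul, Finset.sum_add_distrib]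
    | smul a x _ hx =>
      conv_lhs => rw [hx]
      simp only [map_smul, Finset.smul_sum, smul_smul, smul_eq_mul]
  have hnat : ∀ {B B' : Type u} [CommRing B] [Algebra k B] [CommRing B'] [Algebra k B'] (ψ : B →ₐ[k] B') (i)
      (x : VecGrp.W k M B), ψ (c B i x) = c B' i (VecGrp.Wmap ψ x) := by
    intro B B' _ _ _ _ ψ i x
    induction x using TensorProduct.induction_on with
    | zero => simp
    | tmul a v => simp [hc, VecGrp.Wmap]
    | add x y hx hy => simp only [map_add, hx, hy]
  choose A hA using fun p : Fin (Module.finrank k N) × Fin (Module.finrank k N) => exists_fn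
    (G := G) (fun B _ _ g => c B p.1 (m.ρ B g ((1 : B) ⊗ₜ[k] (b p.2 : M))))
    (fun ψ g => by
      rw [hnat, m.naturality]
      simp [VecGrp.Wmap])
  let AM : Matrix (Fin (Module.finrank k N)) (Fin (Module.finrank k N)) (Fn G) := fun i j => A (i, j)
  have hmem : ∀ (B : Type u) [CommRing B] [Algebra k B] (v : M), v ∈ N →
      (1 : B) ⊗ₜ[k] v ∈ Submodule.baseChange B N := fun B _ _ v hv => Submodule.tmul_mem_baseChange_of_mem 1 hv
  have hcol : ∀ (B : Type u) [CommRing B] [Algebra k B] (g : VecGrp.pt k B ⟶ G) (j),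
      m.ρ B g ((1 : B) ⊗ₜ[k] (b j : M)) = ∑ i, pullFn g (AM i j) • ((1 : B) ⊗ₜ[k] (b i : M)) := by
    intro B _ _ g j
    conv_lhs => rw [hdec B _ (hN B g _ (hmem B _ (b j).2))]
    exact Finset.sum_congr rfl fun i _ => by rw [hA (i, j) B g]
  refine ⟨_, AM, ⟨fun T g h => ?_, fun T => ?_⟩, fun B _ _ g hg v hv => ?_⟩
  · refine Matrix.ext fun i j => fn_ext fun B _ _ p => ?_
    simp only [Matrix.map_apply, Matrix.mul_apply, map_sum, map_mul, pullFn_ev, MonObj.comp_mul]
    rw [hA (i, j) B _, map_mul]
    show c B i (m.ρ B (p ≫ g) (m.ρ B (p ≫ h) _)) = _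
    rw [hcol B (p ≫ h) j]
    simp only [map_sum, map_smul, smul_eq_mul, ← hA (i, _) B (p ≫ g)]
    exact Finset.sum_congr rfl fun l _ => _root_.mul_comm _ _
  · refine Matrix.ext fun i j => fn_ext fun B _ _ p => ?_
    rw [Matrix.map_apply, pullFn_ev, MonObj.comp_one, hA (i, j) B _, map_one]
    simp only [LinearEquiv.coe_one, id_eq, hc, φ, LinearMap.comp_apply, Matrix.one_apply]
    have e : π (b j : M) = b j := LinearMap.congr_fun hπ (b j)
    rw [e]
    by_cases hij : i = j <;> simp [hij, Finsupp.single_apply, Ne.symm, eq_comm]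
  · have hb : ∀ j, m.ρ B g ((1 : B) ⊗ₜ[k] (b j : M)) = (1 : B) ⊗ₜ[k] (b j : M) := fun j => by
      rw [hcol]
      have h1 : ∀ i, pullFn g (AM i j) = if i = j then 1 else 0 := fun i => by
        have := congrFun (congrFun hg i) j
        rwa [Matrix.map_apply, Matrix.one_apply] at this
      simp [h1]
    have e := congrArg Subtype.val (b.sum_repr ⟨v, hv⟩)
    rw [Submodule.coe_sum] at e
    simp only [Submodule.coe_smul] at e
    rw [← e]
    simp only [TensorProduct.tmul_sum, map_sum]
    refine Finset.sum_congr rfl fun j _ => ?_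
    rw [TensorProduct.tmul_smul, ← algebraMap_smul B, map_smul, hb j]

/-- A homomorphism with trivial kernel on rational points is finite. -/
theorem isFinite_of_kernel_pts [IsAlgClosed k] {H : Over (Spec (CommRingCat.of k))} [GrpObj H]
    [LocallyOfFiniteType G.hom] [QuasiCompact G.hom] [LocallyOfFiniteType H.hom] [QuasiSeparated H.hom]
    (ρ : G ⟶ H) [IsMonHom ρ] (hker : ∀ g : VecGrp.pt k k ⟶ G, g ≫ ρ = 1 → g = 1) :
    IsFinite ρ.left := by
  haveI : QuasiCompact (ρ.left ≫ H.hom) := by rw [Over.w ρ]; infer_instance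
  haveI : QuasiCompact ρ.left := QuasiCompact.of_comp ρ.left H.hom
  let e₀ := η[G].left (IsLocalRing.closedPoint k)
  have he₀ : ρ.left e₀ = η[H].left (IsLocalRing.closedPoint k) :=
    congrArg (fun f : 𝟙_ _ ⟶ H => f.left (IsLocalRing.closedPoint k)) (IsMonHom.one_hom ρ)
  haveI : JacobsonSpace G.left := LocallyOfFiniteType.jacobsonSpace G.hom
  haveI : JacobsonSpace H.left := LocallyOfFiniteType.jacobsonSpace H.hom
  have hcl : IsClosed ({η[H].left (IsLocalRing.closedPoint k)} : Set H.left) := by
    have h1 := (η[H]).left.isClosedEmbedding.isClosedMap _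
      (isClosed_discrete (α := ↥(Spec (CommRingCat.of k))) {IsLocalRing.closedPoint k})
    exact (Set.image_singleton (f := (η[H]).left)) ▸ h1
  have hecl : IsClosed ({e₀} : Set G.left) := by
    have h1 := (η[G]).left.isClosedEmbedding.isClosedMap _
      (isClosed_discrete (α := ↥(Spec (CommRingCat.of k))) {IsLocalRing.closedPoint k})
    exact (Set.image_singleton (f := (η[G]).left)) ▸ h1
  have hfin : ρ.left ⁻¹' {η[H].left (IsLocalRing.closedPoint k)} ⊆ {e₀} := by
    intro x hx
    by_contra hne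
    obtain ⟨y, ⟨hy1, hy2⟩, hy⟩ := nonempty_inter_closedPoints
      (Z := ρ.left ⁻¹' {η[H].left (IsLocalRing.closedPoint k)} \ {e₀}) ⟨x, hx, hne⟩
      ((hcl.preimage ρ.left.continuous).isLocallyClosed.inter hecl.isOpen_compl.isLocallyClosed)
    let g : VecGrp.pt k k ⟶ G := Over.homMk (pointOfClosedPoint G.hom y hy) (by
      rw [pointOfClosedPoint_comp]
      show 𝟙 _ = Spec.map (CommRingCat.ofHom (RingHom.id k))
      simp)
    have hgy : g.left (IsLocalRing.closedPoint k) = y := pointOfClosedPoint_apply G.hom y hy _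
    have hg1 : g ≫ ρ = 1 := by
      refine Over.OverMorphism.ext (ext_of_apply_closedPoint_eq H.hom ?_ ?_ ?_)
      · rw [Over.w (g ≫ ρ)]; show Spec.map (CommRingCat.ofHom (RingHom.id k)) = _; simp
      · rw [Over.w (1 : VecGrp.pt k k ⟶ H)]; show Spec.map (CommRingCat.ofHom (RingHom.id k)) = _; simp
      · show ρ.left (g.left _) = η[H].left ((toUnit (VecGrp.pt k k)).left _)
        rw [hgy]
        exact (hy1 : ρ.left y = _).trans (congrArg η[H].left (Subsingleton.elim (α := ↥(Spec (CommRingCat.of k))) _ _))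
    refine hy2 ?_
    have := congrArg (fun f : VecGrp.pt k k ⟶ G => f.left (IsLocalRing.closedPoint k)) (hker g hg1)
    rw [hgy] at this
    exact this.trans (congrArg η[G].left (Subsingleton.elim (α := ↥(Spec (CommRingCat.of k))) _ _))
  haveI := HomFinite.locallyQuasiFinite_of_finite_preimage ρ ((Set.finite_singleton e₀).subset hfin)
  exact HomFinite.isFinite_of_isAlgClosed ρ

set_option synthInstance.maxHeartbeats 400000 in
set_option maxHeartbeats 800000 in
/-- A point-faithful locally finite representation forces the group to be affine. -/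
theorem isAffine_of_faithful [IsAlgClosed k] [LocallyOfFiniteType G.hom] [QuasiCompact G.hom]
    {M : Type u} [AddCommGroup M] [Module k M] (m : VecGrp.GMod G M)
    (hlf : ∀ v : M, ∃ N : Submodule k M, v ∈ N ∧ Module.Finite k ↥N ∧
      ∀ (B : Type u) [CommRing B] [Algebra k B] (g : VecGrp.pt k B ⟶ G) (x : VecGrp.W k M B),
        x ∈ Submodule.baseChange B N → m.ρ B g x ∈ Submodule.baseChange B N)
    (hfaith : ∀ g : VecGrp.pt k k ⟶ G, m.ρ k g = 1 → g = 1) :
    IsAffine G.left := by
  classical
  choose N hvN hNf hNs using hlf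
  haveI := hNf
  choose d A hA hfix using fun v => exists_matrix_of_stable m (N v) (hNs v)
  obtain ⟨F, hF⟩ := RepFamily.exists_detect (G := G) A
  obtain ⟨n, B, hB, hBiff⟩ := RepFamily.exists_block A hA F
  let H : Over (Spec (CommRingCat.of k)) := FrB.GLn n (Spec (CommRingCat.of k))
  haveI : IsAffine (FrB.GLZ.{u} n).left := inferInstanceAs (IsAffine (Spec _))
  haveI : IsAffineHom (FrB.GLZ.{u} n).hom := inferInstance
  haveI : IsAffineHom H.hom := inferInstanceAs (IsAffineHom (pullback.snd _ _))
  haveI : IsAffine H.left := isAffine_of_isAffineHom H.hom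
  haveI : LocallyOfFiniteType (FrB.GLZ.{u} n).hom := by
    refine (HasRingHomProperty.Spec_iff (P := @LocallyOfFiniteType)).mpr ?_
    refine RingHom.finiteType_algebraMap.mpr ?_
    have h : Algebra.FiniteType (ULift.{u} ℤ) (MvPolynomial (CoordGrp.GLPoly.Idx n) (ULift.{u} ℤ)) := inferInstance
    exact @Algebra.FiniteType.of_surjective _ _ _ _ _ _ _ _ h (CoordGrp.GLn.mk n (ULift.{u} ℤ))
      Ideal.Quotient.mk_surjective
  haveI : LocallyOfFiniteType H.hom := inferInstanceAs (LocallyOfFiniteType (pullback.snd _ _))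
  let ρ : G ⟶ H := hB.hom
  haveI : IsMonHom ρ := hB.isMonHom_hom
  suffices h : IsFinite ρ.left from isAffine_of_isAffineHom ρ.left
  refine isFinite_of_kernel_pts ρ fun g hg => ?_
  have h2 := hg
  rw [show ρ = matPt B hB.isUnit from rfl, comp_matPt] at h2
  have hm : B.map (ev g) = 1 := matPt_injective (hN := isUnit_one) (h2.trans matPt_one.symm)
  have hall := hF _ g ((hBiff _ g).mp hm)
  refine hfaith g (LinearEquiv.toLinearMap_injective (TensorProduct.AlgebraTensorModule.ext fun a v => ?_))
  show m.ρ k g (a ⊗ₜ[k] v) = a ⊗ₜ[k] v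
  have e : (A v).map (pullFn g) = 1 := by
    refine Matrix.ext fun i j => ?_
    rw [Matrix.map_apply, pullFn_apply, show ev g (A v i j) = _ from congrFun (congrFun (hall v) i) j]
    rw [Matrix.one_apply, Matrix.one_apply]
    split_ifs <;> simp
  have h1 := hfix v k g e v (hvN v)
  rw [show a ⊗ₜ[k] v = a • ((1 : k) ⊗ₜ[k] v) by simp [TensorProduct.smul_tmul'], map_smul, h1]

end Groth.Agent.AGFLib.FaithfulRep
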