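import Groth.Agent.GrpSchLib.Syntomic
import Groth.Prelude.Def_FrameBundle

/-! The general linear group over a field is affine and smooth. -/

set_option linter.style.haveILetI false
set_option backward.isDefEq.respectTransparency false
set_option backward.isDefEq.respectTransparency.types false

universe u

open CategoryTheory AlgebraicGeometry

namespace Groth.Agent.AGFLib

theorem affine_GL (k : Type u) [Field k] (n : ℕ) : IsAffine (FrB.GLn n (Spec (CommRingCat.of k))).left := by
  haveI : IsAffine (FrB.GLZ.{u} n).left := inferInstanceAs (IsAffine (Spec _))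
  haveI : IsAffineHom (FrB.GLn n (Spec (CommRingCat.of k))).hom :=
    inferInstanceAs (IsAffineHom (Limits.pullback.snd _ _))
  exact isAffine_of_isAffineHom (FrB.GLn n (Spec (CommRingCat.of k))).hom

theorem smooth_GLn_ring (R : Type u) [CommRing R] [IsNoetherianRing R] (n : ℕ) :
    Smooth (Spec.map (CommRingCat.ofHom (algebraMap R (CoordGrp.GLn n R)))) := by
  refine (HasRingHomProperty.Spec_iff (P := @Smooth)).mpr ?_
  haveI := GrpSchLib.Syntomic.formallySmooth_GLn R n
  haveI : Algebra.FiniteType R (CoordGrp.GLn n R) :=
    @Algebra.FiniteType.of_surjective _ _ _ _ _ _ _ _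
      (inferInstance : Algebra.FiniteType R (MvPolynomial (CoordGrp.GLPoly.Idx n) R)) (CoordGrp.GLn.mk n R)
      Ideal.Quotient.mk_surjective
  haveI : Algebra.FinitePresentation R (CoordGrp.GLn n R) :=
    Algebra.FinitePresentation.of_finiteType.mp inferInstance
  exact RingHom.smooth_algebraMap.mpr ⟨inferInstance, inferInstance⟩

theorem smooth_GL (k : Type u) [Field k] (n : ℕ) : Smooth (FrB.GLn n (Spec (CommRingCat.of k))).hom := by
  haveI : IsNoetherianRing (ULift.{u} ℤ) := isNoetherianRing_of_ringEquiv ℤ ULift.ringEquiv.symm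
  exact MorphismProperty.pullback_snd (P := @Smooth) _ _ (smooth_GLn_ring (ULift.{u} ℤ) n)

end Groth.Agent.AGFLib
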