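import Groth.Agent.AGFLib.TorsorStep
import Groth.Agent.GrpSchLib.LaurentPic
import Mathlib.RingTheory.PicardGroup

/-!
Hilbert 90 with solutions over the whole of an affine base, and lifting of affine points along homomorphisms whose
kernel has it.
-/

set_option autoImplicit false
set_option backward.isDefEq.respectTransparency.types false
set_option linter.style.haveILetI false
set_option maxHeartbeats 1000000

universe u

open CategoryTheory MonoidalCategory CartesianMonoidalCategory MonObj AlgebraicGeometry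
open scoped TensorProduct

namespace Groth.Agent.AGFLib.GlobalH90

open Groth.Agent.CechTorsorX Groth.Agent.CechTorsorX.ZariskiTriv Groth.Agent.CechTorsorX.GaGmH90
open Groth.Agent.GmH1Lib.Hilbert90 Groth.Agent.AGFLib.TorsorStep

variable {S : Scheme.{u}} {R A : Type u} [CommRing R] [CommRing A] [Algebra R A]

/-- The left inclusion. -/
abbrev iL (R A : Type u) [CommRing R] [CommRing A] [Algebra R A] : A →ₐ[R] A ⊗[R] A :=
  Algebra.TensorProduct.includeLeft

/-- The right inclusion. -/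
abbrev iR (R A : Type u) [CommRing R] [CommRing A] [Algebra R A] : A →ₐ[R] A ⊗[R] A :=
  Algebra.TensorProduct.includeRight

theorem p02_iL : (p02 R A).comp (iL R A) = (p01 R A).comp (iL R A) := by ext x; simp
theorem p02_iR : (p02 R A).comp (iR R A) = (p12 R A).comp (iR R A) := by ext x; simp
theorem p01_iR : (p01 R A).comp (iR R A) = (p12 R A).comp (iL R A) := by ext x; simp

/-- Every cocycle for a faithfully flat algebra over the given affine base is a coboundary. -/
def H90At (G : Over S) [GrpObj G] (j : Spec (CommRingCat.of R) ⟶ S) : Prop :=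
  ∀ (A : Type u) [CommRing A] [Algebra R A] [Module.FaithfullyFlat R A] (g : sp j (A ⊗[R] A) ⟶ G),
    sh (p02 R A) ≫ g = (sh (p01 R A) ≫ g) * (sh (p12 R A) ≫ g) →
    ∃ b : sp j A ⟶ G, sh (iL R A) ≫ b = g * (sh (iR R A) ≫ b)

/-- A homomorphism carries cocycles to cocycles. -/
theorem cocycle_comp {j : Spec (CommRingCat.of R) ⟶ S} {G H : Over S} [GrpObj G] [GrpObj H] (v : G ⟶ H) [IsMonHom v]
    (g : sp j (A ⊗[R] A) ⟶ G)
    (hc : sh (p02 R A) ≫ g = (sh (p01 R A) ≫ g) * (sh (p12 R A) ≫ g)) :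
    sh (p02 R A) ≫ (g ≫ v) = (sh (p01 R A) ≫ g ≫ v) * (sh (p12 R A) ≫ g ≫ v) := by
  rw [← Category.assoc, hc, MonObj.mul_comp, Category.assoc, Category.assoc]

/-- The property is invariant under isomorphisms of groups. -/
theorem h90_of_iso {G H : Over S} [GrpObj G] [GrpObj H] (e : Grp.mk G ≅ Grp.mk H)
    {j : Spec (CommRingCat.of R) ⟶ S} (h : H90At H j) : H90At G j := by
  intro A _ _ _ g hc
  let a : G ≅ H := (Grp.forget _).mapIso e
  haveI : IsMonHom a.hom := e.hom.hom.isMonHom_hom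
  haveI : IsMonHom a.inv := e.inv.hom.isMonHom_hom
  obtain ⟨b, hb⟩ := h A (g ≫ a.hom) (by
    rw [← Category.assoc, hc, MonObj.mul_comp, Category.assoc, Category.assoc])
  refine ⟨b ≫ a.inv, ?_⟩
  rw [← Category.assoc, hb, MonObj.mul_comp]
  simp only [Category.assoc, Iso.hom_inv_id, Category.comp_id]

/-- The trivial group. -/
theorem h90_trivial {G : Over S} [GrpObj G] (h : 𝟙 G = 1) (j : Spec (CommRingCat.of R) ⟶ S) : H90At G j := by
  intro A _ _ _ g _
  refine ⟨1, ?_⟩
  rw [show g = g ≫ 𝟙 G from (Category.comp_id g).symm, h, MonObj.comp_one, MonObj.comp_one, MonObj.comp_one,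
    _root_.one_mul]

/-- The additive group. -/
theorem h90_ga (j : Spec (CommRingCat.of R) ⟶ S) : H90At (Red.Ga S) j := by
  intro A _ _ _ g hc
  have hc' : p02 R A (aFn g) = p01 R A (aFn g) + p12 R A (aFn g) := by
    rw [← aFn_sh (j := j) (p02 R A) g, hc, aFn_mul, aFn_sh, aFn_sh]
  obtain ⟨b, hb⟩ := GLCocycle.exists_add (aFn g) hc'
  let e := (Scheme.ΓSpecIso (CommRingCat.of A)).commRingCatIsoToRingEquiv
  refine ⟨GrpSchLib.GaPts.ptOfFn (e.symm b), aFn_injective ?_⟩
  have hx : aFn (j := j) (GrpSchLib.GaPts.ptOfFn (e.symm b)) = b := by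
    unfold aFn
    rw [GrpSchLib.GaPts.gaFn_ptOfFn]
    exact e.apply_symm_apply _
  rw [aFn_mul, aFn_sh, aFn_sh, hx, ← hb]
  simp

/-- Invariant elements descend. -/
theorem exists_of_invariant [Module.FaithfullyFlat R A] {a : A} (ha : a ⊗ₜ[R] (1 : A) = (1 : A) ⊗ₜ a) :
    ∃ r : R, algebraMap R A r = a := by
  obtain ⟨r, hr⟩ := (DescLib.mem_range_of_one_tmul_mem (A := A) (Algebra.linearMap R A) a ⟨a ⊗ₜ[R] (1 : R), by
    rw [LinearMap.lTensor_tmul, Algebra.linearMap_apply, map_one, ha]⟩ : a ∈ LinearMap.range (Algebra.linearMap R A))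
  exact ⟨r, hr⟩

/-- Hilbert 90 over a base with trivial Picard group. -/
theorem exists_gm [Module.FaithfullyFlat R A] [Subsingleton (CommRing.Pic R)] (u : A ⊗[R] A) (hu : IsUnit u)
    (hc : p02 R A u = p01 R A u * p12 R A u) : ∃ a : Aˣ, (a : A) ⊗ₜ[R] (1 : A) = u * (1 ⊗ₜ (a : A)) := by
  obtain ⟨v, hv⟩ := hu
  subst hv
  let M : Submodule R A := LinearMap.ker (φ (v : A ⊗[R] A))
  let M' : Submodule R A := LinearMap.ker (φ ((v⁻¹ : (A ⊗[R] A)ˣ) : A ⊗[R] A))
  have hc' : p02 R A ((v⁻¹ : (A ⊗[R] A)ˣ) : A ⊗[R] A) =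
      p01 R A ((v⁻¹ : (A ⊗[R] A)ˣ) : A ⊗[R] A) * p12 R A ((v⁻¹ : (A ⊗[R] A)ˣ) : A ⊗[R] A) := by
    have h := congrArg (fun z : (A ⊗[R] (A ⊗[R] A))ˣ => ((z⁻¹ : (A ⊗[R] (A ⊗[R] A))ˣ) : A ⊗[R] (A ⊗[R] A)))
      (show Units.map (p02 R A : _ →* _) v = Units.map (p01 R A : _ →* _) v * Units.map (p12 R A : _ →* _) v from
        Units.ext hc)
    simpa [mul_comm] using h
  have hmem : ∀ (w : A ⊗[R] A) (x : A), x ∈ LinearMap.ker (φ w) ↔ x ⊗ₜ[R] (1 : A) = w * (1 ⊗ₜ x) := fun w x => by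
    rw [LinearMap.mem_ker, φ_apply, sub_eq_zero]
  have hle : M * M' ≤ 1 := Submodule.mul_le.mpr fun x hx y hy => by
    rw [Submodule.mem_one]
    refine exists_of_invariant ?_
    have h1 := (hmem _ x).mp hx
    have h2 := (hmem _ y).mp hy
    calc (x * y) ⊗ₜ[R] (1 : A) = (x ⊗ₜ[R] (1 : A)) * (y ⊗ₜ[R] (1 : A)) := by simp
      _ = ((v : A ⊗[R] A) * ((v⁻¹ : (A ⊗[R] A)ˣ) : A ⊗[R] A)) * (1 ⊗ₜ (x * y)) := by
        rw [h1, h2, show (1 : A) ⊗ₜ[R] (x * y) = ((1 : A) ⊗ₜ[R] x) * ((1 : A) ⊗ₜ y) by simp]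
        ring
      _ = 1 ⊗ₜ (x * y) := by rw [Units.mul_inv, _root_.one_mul]
  let I : Ideal R := (M * M').comap (Algebra.linearMap R A)
  have hI : I = ⊤ := by
    have h : Ideal.map (algebraMap R A) I = ⊤ := by
      refine top_le_iff.mp ?_
      have h1 : Ideal.span (M : Set A) * Ideal.span (M' : Set A) = ⊤ := by
        rw [span_eq_top _ v.isUnit hc, span_eq_top _ (v⁻¹).isUnit hc', Ideal.top_mul]
      rw [← h1, Ideal.span_mul_span', Ideal.span_le]
      rintro _ ⟨x, hx, y, hy, rfl⟩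
      obtain ⟨r, hr⟩ := Submodule.mem_one.mp (hle (Submodule.mul_mem_mul hx hy))
      show x * y ∈ _
      rw [← hr]
      refine Ideal.mem_map_of_mem _ ?_
      show algebraMap R A r ∈ M * M'
      rw [hr]
      exact Submodule.mul_mem_mul hx hy
    have h2 := Ideal.comap_map_eq_self_of_faithfullyFlat (B := A) I
    rw [h, Ideal.comap_top] at h2
    exact h2.symm
  have hone : M * M' = 1 := le_antisymm hle (Submodule.one_le.mpr (by
    have h : (1 : R) ∈ I := hI ▸ Submodule.mem_top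
    change algebraMap R A 1 ∈ M * M' at h
    rwa [map_one] at h))
  haveI : FaithfulSMul R A := (faithfulSMul_iff_algebraMap_injective R A).mpr
    (FaithfulSMul.algebraMap_injective R A)
  let MU : (Submodule R A)ˣ := ⟨M, M', hone, by rw [_root_.mul_comm, hone]⟩
  obtain ⟨a, ha⟩ : MU ∈ (Units.map (Submodule.spanSingleton R).toMonoidHom).range := by
    rw [← Submodule.ker_unitsToPic R A, MonoidHom.mem_ker]
    exact Subsingleton.elim _ _
  refine ⟨a, (hmem _ _).mp ?_⟩
  show (a : A) ∈ (MU : Submodule R A)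
  rw [← ha]
  exact Submodule.mem_span_singleton_self _

/-- The multiplicative group over a base with trivial Picard group. -/
theorem h90_gm [Subsingleton (CommRing.Pic R)] (j : Spec (CommRingCat.of R) ⟶ S) : H90At (Red.Gm S) j := by
  intro A _ _ _ g hc
  obtain ⟨a, ha⟩ := exists_gm (mFn g) (isUnit_mFn g) (by
    rw [← mFn_sh (j := j) (p02 R A) g, hc, mFn_mul, mFn_sh, mFn_sh])
  obtain ⟨x, hx⟩ := mFn_surjective (j := j) a.isUnit
  refine ⟨x, mFn_injective ?_⟩
  rw [mFn_mul, mFn_sh, mFn_sh, hx]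
  exact ha

/-- Hilbert 90 applied to a character. -/
theorem h90_chi [Subsingleton (CommRing.Pic R)] [Module.FaithfullyFlat R A] {j : Spec (CommRingCat.of R) ⟶ S}
    {M : Type} [AddCommGroup M] (m : M) (g : sp j (A ⊗[R] A) ⟶ Red.DS S M)
    (hc : sh (p02 R A) ≫ g = (sh (p01 R A) ≫ g) * (sh (p12 R A) ≫ g)) :
    ∃ b : sp j A ⟶ Red.Gm S, sh (iL R A) ≫ b = (g ≫ Red.chi S m) * (sh (iR R A) ≫ b) := by
  haveI := HomRepLib.isMonHom_chi (S := S) m
  exact h90_gm j A (g ≫ Red.chi S m) (cocycle_comp (Red.chi S m) g hc)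

/-- Diagonalisable groups given by finitely many coordinates. -/
theorem h90_coords [Subsingleton (CommRing.Pic R)] {M : Type} [AddCommGroup M] {r : ℕ} (e : Fin r → M)
    (hext : ∀ {X : Over S} {x y : X ⟶ Red.DS S M}, (∀ i, x ≫ Red.chi S (e i) = y ≫ Red.chi S (e i)) → x = y)
    (hex : ∀ {X : Over S} (b : Fin r → (X ⟶ Red.Gm S)), ∃ x : X ⟶ Red.DS S M, ∀ i, x ≫ Red.chi S (e i) = b i)
    (j : Spec (CommRingCat.of R) ⟶ S) : H90At (Red.DS S M) j := by
  intro A _ _ _ g hc
  choose b hb using fun i => h90_chi (e i) g hc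
  obtain ⟨x, hx⟩ := hex b
  refine ⟨x, hext fun i => ?_⟩
  rw [HomRepLib.chi_mul]
  simp only [Category.assoc]
  rw [hx i]
  exact hb i

/-- Split tori over a base with trivial Picard group. -/
theorem h90_ds [Subsingleton (CommRing.Pic R)] (r : ℕ) (j : Spec (CommRingCat.of R) ⟶ S) :
    H90At (Red.DS S (Fin r → ℤ)) j :=
  h90_coords (M := Fin r → ℤ) (fun i => Pi.single i (1 : ℤ)) (fun h => ds_ext h) (fun b => ds_exists b) j

/-- The structure map of a point over an algebra. -/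
noncomputable def str (j : Spec (CommRingCat.of R) ⟶ S) (A : Type u) [CommRing A] [Algebra R A] : sp j A ⟶ Over.mk j :=
  Over.homMk (Spec.map (CommRingCat.ofHom (algebraMap R A))) rfl

theorem sh_str {j : Spec (CommRingCat.of R) ⟶ S} {B C : Type u} [CommRing B] [CommRing C] [Algebra R B]
    [Algebra R C] (h : B →ₐ[R] C) : sh (j := j) h ≫ str j B = str j C := by
  ext1
  show Spec.map _ ≫ Spec.map _ = Spec.map _
  rw [← Spec.map_comp, ← CommRingCat.ofHom_comp,
    show h.toRingHom.comp (algebraMap R B) = algebraMap R C from h.comp_algebraMap]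

set_option backward.isDefEq.respectTransparency false in
/-- Points over an algebra which agree on both projections come from the base. -/
theorem exists_desc [Module.FaithfullyFlat R A] {j : Spec (CommRingCat.of R) ⟶ S} {G : Over S}
    (t : sp j A ⟶ G) (ht : sh (iL R A) ≫ t = sh (iR R A) ≫ t) : ∃ y : Over.mk j ⟶ G, str j A ≫ y = t := by
  let π := Spec.map (CommRingCat.ofHom (algebraMap R A))
  haveI : Flat π := (HasRingHomProperty.Spec_iff (P := @Flat)).2 (RingHom.flat_algebraMap_iff.2 inferInstance)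
  haveI : Surjective π := ⟨PrimeSpectrum.comap_surjective_of_faithfullyFlat⟩
  haveI : QuasiCompact π := inferInstanceAs (QuasiCompact (Spec.map _))
  have key : ∀ {Z : Scheme.{u}} (a b : Z ⟶ Spec (CommRingCat.of A)), a ≫ π = b ≫ π → a ≫ t.left = b ≫ t.left := by
    intro Z a b hab
    let z := Limits.pullback.lift a b hab ≫ (pullbackSpecIso R A A).hom
    have h1 : z ≫ Spec.map (CommRingCat.ofHom (iL R A).toRingHom) = a := by
      refine (congrArg (z ≫ ·) (pullbackSpecIso_inv_fst R A A).symm).trans ?_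
      simp [z]
      exact Limits.pullback.lift_fst _ _ _
    have h2 : z ≫ Spec.map (CommRingCat.ofHom (iR R A).toRingHom) = b := by
      refine (congrArg (z ≫ ·) (pullbackSpecIso_inv_snd R A A).symm).trans ?_
      simp [z]
      exact Limits.pullback.lift_snd _ _ _
    rw [← h1, ← h2]
    exact (Category.assoc _ _ _).trans ((congrArg (z ≫ ·) (congrArg CommaMorphism.left ht)).trans
      (Category.assoc _ _ _).symm)
  refine ⟨Over.homMk (EffectiveEpi.desc π t.left key) ?_, ?_⟩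
  · show EffectiveEpi.desc π t.left key ≫ G.hom = j
    rw [← cancel_epi π, ← Category.assoc, EffectiveEpi.fac]
    exact Over.w t
  · ext1
    exact EffectiveEpi.fac π t.left key

/-- Affine points lift along homomorphisms whose kernel has Hilbert 90. -/
theorem exists_lift {N G H : Over S} [GrpObj N] [GrpObj G] [GrpObj H] (i : N ⟶ G) [IsMonHom i] (q : G ⟶ H)
    [IsMonHom q] [Flat q.left] [Surjective q.left] [QuasiCompact q.left] (hk : AlgGrp.IsKernel i q)
    {j : Spec (CommRingCat.of R) ⟶ S} (hN : H90At N j) (x : Over.mk j ⟶ H) :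
    ∃ y : Over.mk j ⟶ G, y ≫ q = x := by
  obtain ⟨A, _, _, q₀, hA, hq₀⟩ := exists_ff_algebra (Limits.pullback.snd q.left x.left)
  haveI := hA
  have hw : (q₀ ≫ Limits.pullback.fst q.left x.left) ≫ q.left =
      Spec.map (CommRingCat.ofHom (algebraMap R A)) ≫ x.left := by
    rw [Category.assoc, Limits.pullback.condition, reassoc_of% hq₀]
  let y₀ : sp j A ⟶ G := Over.homMk (q₀ ≫ Limits.pullback.fst q.left x.left) (by
    show (q₀ ≫ Limits.pullback.fst q.left x.left) ≫ G.hom = Spec.map _ ≫ j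
    rw [← Over.w q, ← Category.assoc, hw, Category.assoc, Over.w x]
    rfl)
  have hy₀ : y₀ ≫ q = str j A ≫ x := Over.OverMorphism.ext hw
  let L := sh (j := j) (iL R A) ≫ y₀
  let R' := sh (j := j) (iR R A) ≫ y₀
  have hLR : (L * R'⁻¹) ≫ q = toUnit _ ≫ η[H] := by
    rw [MonObj.mul_comp, GrpObj.inv_comp, Category.assoc, Category.assoc, hy₀, ← Category.assoc, ← Category.assoc,
      sh_str, sh_str, mul_inv_cancel, Hom.one_def]
  let g := hk.lift (L * R'⁻¹) (toUnit _) hLR
  have hg : g ≫ i = L * R'⁻¹ := hk.lift_fst _ _ _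
  have hgh : ∀ {B : Type u} [CommRing B] [Algebra R B] (h : A ⊗[R] A →ₐ[R] B),
      (sh (j := j) h ≫ g) ≫ i = (sh (h.comp (iL R A)) ≫ y₀) * (sh (h.comp (iR R A)) ≫ y₀)⁻¹ := fun h => by
    rw [Category.assoc, hg, MonObj.comp_mul, GrpObj.comp_inv, ← Category.assoc, ← Category.assoc, sh_comp, sh_comp]
  obtain ⟨b, hb⟩ := hN A g (by
    refine hk.hom_ext ?_ (toUnit_unique _ _)
    rw [MonObj.mul_comp, hgh, hgh, hgh, p02_iL, p02_iR, p01_iR, _root_.mul_assoc, inv_mul_cancel_left])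
  obtain ⟨y, hy⟩ := exists_desc ((b ≫ i)⁻¹ * y₀) (by
    rw [MonObj.comp_mul, MonObj.comp_mul, GrpObj.comp_inv, GrpObj.comp_inv, ← Category.assoc, ← Category.assoc, hb,
      MonObj.mul_comp, hg, _root_.mul_inv_rev, _root_.mul_inv_rev, _root_.inv_inv, _root_.mul_assoc,
      _root_.mul_assoc]
    rw [inv_mul_cancel, _root_.mul_one])
  refine ⟨y, ?_⟩
  haveI : Flat (str j A).left :=
    (HasRingHomProperty.Spec_iff (P := @Flat)).2 (RingHom.flat_algebraMap_iff.2 inferInstance)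
  haveI : Surjective (str j A).left := ⟨PrimeSpectrum.comap_surjective_of_faithfullyFlat⟩
  haveI : QuasiCompact (str j A).left := inferInstanceAs (QuasiCompact (Spec.map _))
  haveI : EffectiveEpi (str j A).left := inferInstance
  haveI : Epi (str j A) := (Over.forget _).epi_of_epi_map (inferInstanceAs (Epi (str j A).left))
  rw [← cancel_epi (str j A), ← Category.assoc, hy, MonObj.mul_comp, GrpObj.inv_comp, Category.assoc, hy₀,
    hk.w, ← Category.assoc b, toUnit_unique (b ≫ toUnit N) (toUnit _), ← Hom.one_def, inv_one,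
    _root_.one_mul]

/-- The devissage step. -/
theorem h90_step {D V Q : Over S} [GrpObj D] [GrpObj V] [GrpObj Q] (i : D ⟶ V) [IsMonHom i] (q : V ⟶ Q)
    [IsMonHom q] [Flat q.left] [Surjective q.left] [QuasiCompact q.left] (hk : AlgGrp.IsKernel i q)
    (hD : ∀ (R' : Type u) [CommRing R'] (j' : Spec (CommRingCat.of R') ⟶ S), H90At D j')
    {j : Spec (CommRingCat.of R) ⟶ S} (hQ : H90At Q j) : H90At V j := by
  intro A _ _ _ g hc
  obtain ⟨b, hb⟩ := hQ A (g ≫ q) (cocycle_comp q g hc)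
  obtain ⟨v, hv⟩ := exists_lift i q hk (hD A (Spec.map (CommRingCat.ofHom (algebraMap R A)) ≫ j)) b
  let Lv := sh (j := j) (iL R A) ≫ (v : sp j A ⟶ V)
  let Rv := sh (j := j) (iR R A) ≫ (v : sp j A ⟶ V)
  have h0 : (Lv⁻¹ * g * Rv) ≫ q = toUnit _ ≫ η[Q] := by
    rw [MonObj.mul_comp, MonObj.mul_comp, GrpObj.inv_comp, Category.assoc, Category.assoc, hv, hb,
      _root_.mul_assoc, inv_mul_cancel, Hom.one_def]
  let g' := hk.lift (Lv⁻¹ * g * Rv) (toUnit _) h0
  have hg' : g' ≫ i = Lv⁻¹ * g * Rv := hk.lift_fst _ _ _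
  have hgh : ∀ {B : Type u} [CommRing B] [Algebra R B] (h : A ⊗[R] A →ₐ[R] B),
      (sh (j := j) h ≫ g') ≫ i =
        (sh (h.comp (iL R A)) ≫ (v : sp j A ⟶ V))⁻¹ * (sh h ≫ g) * (sh (h.comp (iR R A)) ≫ (v : sp j A ⟶ V)) :=
    fun h => by
    rw [Category.assoc, hg', MonObj.comp_mul, MonObj.comp_mul, GrpObj.comp_inv, ← Category.assoc, ← Category.assoc,
      sh_comp, sh_comp]
  obtain ⟨d, hd⟩ := hD R j A g' (by
    refine hk.hom_ext ?_ (toUnit_unique _ _)
    rw [MonObj.mul_comp, hgh, hgh, hgh, p02_iL, p02_iR, p01_iR, hc]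
    group)
  refine ⟨(v : sp j A ⟶ V) * (d ≫ i), ?_⟩
  rw [MonObj.comp_mul, MonObj.comp_mul, ← Category.assoc, ← Category.assoc, hd, MonObj.mul_comp, hg']
  show Lv * (Lv⁻¹ * g * Rv * _) = g * (Rv * _)
  group

end Groth.Agent.AGFLib.GlobalH90
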