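import Groth.Agent.GrpSchLib.Action
import Groth.Agent.GrpSchLib.AntiAffineHom
import Groth.Agent.GrpSchLib.WordClosure
import Groth.Agent.AGFLib.AntPart
import Mathlib.AlgebraicGeometry.Sites.Fpqc

/-! A principal bundle over an abelian variety trivialised by an anti-affine extension is homogeneous. -/

set_option autoImplicit false
set_option backward.isDefEq.respectTransparency false
set_option backward.isDefEq.respectTransparency.types false
set_option linter.style.haveILetI false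
set_option maxHeartbeats 1000000

universe u

open CategoryTheory CategoryTheory.Limits MonoidalCategory CartesianMonoidalCategory MonObj AlgebraicGeometry

namespace Groth.Agent.AGFLib.HomogTrivialized

open GrpSchLib

variable {k : Type u} [Field k]

/-- A morphism from (anti-affine) × (anything) to an affine scheme only depends on the second variable. -/
theorem eq_snd_comp {E H Z : Over (Spec (CommRingCat.of k))} [IsAffine Z.left] [QuasiCompact E.hom]
    [QuasiSeparated E.hom] (hE : Function.Bijective E.hom.appTop) (e₀ : 𝟙_ (Over (Spec (CommRingCat.of k))) ⟶ E)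
    (c : E ⊗ H ⟶ Z) : c = snd E H ≫ lift (toUnit H ≫ e₀) (𝟙 H) ≫ c := by
  let s : H ⟶ E ⊗ H := lift (toUnit H ≫ e₀) (𝟙 H)
  have hs : s.left ≫ (snd E H).left = 𝟙 _ := by rw [← Over.comp_left, lift_snd]; rfl
  have hb : Function.Bijective (snd E H).left.appTop :=
    AntiAffine.bijective_appTop_snd hE H.hom
  refine Over.OverMorphism.ext (ext_of_isAffine ?_)
  ext z
  obtain ⟨w, hw⟩ := hb.2 (c.left.appTop z)
  show c.left.appTop z = ((snd E H).left ≫ s.left ≫ c.left).appTop z
  rw [Scheme.Hom.comp_appTop, Scheme.Hom.comp_appTop]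
  show c.left.appTop z = (snd E H).left.appTop (s.left.appTop (c.left.appTop z))
  rw [← hw]
  congr 1
  show w = ((s.left ≫ (snd E H).left).appTop) w
  rw [hs]
  rfl

variable [IsAlgClosed k] {G X A E Hk : Over (Spec (CommRingCat.of k))} [GrpObj G] [GrpObj A] [GrpObj E] [GrpObj Hk]

theorem main [IsAffine G.left] [IsSeparated A.hom] [LocallyOfFiniteType A.hom]
    (a : AlgGrp.Action G X) (π : X ⟶ A) (hinv : a.act ≫ π = snd G X ≫ π) (hcart : IsPullback (snd G X) a.act π π)
    [LocallyOfFiniteType E.hom] [QuasiCompact E.hom] (hE : Function.Bijective E.hom.appTop)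
    (φ : E ⟶ A) [IsMonHom φ] [Flat φ.left] [Surjective φ.left]
    (h : Hk ⟶ E) [IsMonHom h] (hk : AlgGrp.IsKernel h φ)
    (σ : E ⟶ X) (hσ : σ ≫ π = φ) (t : 𝟙_ (Over (Spec (CommRingCat.of k))) ⟶ A) :
    ∃ ψ : X ≅ X, (G ◁ ψ.hom) ≫ a.act = a.act ≫ ψ.hom ∧
      ψ.hom ≫ π = π ≫ (lift (𝟙 A) (toUnit A ≫ t) ≫ μ[A]) := by
  haveI := AntiAffine.isSeparated_grp E
  haveI : ConnectedSpace E.left := AntiAffine.connectedSpace_of_bijective hE
  have hcomm : ∀ {T : Over (Spec (CommRingCat.of k))} (x y : T ⟶ E), x * y = y * x := fun {T} x y => by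
    simpa using AntiAffine.commute hE (𝟙 E) ((Category.comp_id _).trans (MonObj.one_eq_one E)) x y
  -- invariance and simple transitivity
  have hact : ∀ {T : Over (Spec (CommRingCat.of k))} (g : T ⟶ G) (x : T ⟶ X), lift g x ≫ a.act ≫ π = x ≫ π := by
    intro T g x
    rw [hinv, lift_snd_assoc]
  have hfree : ∀ {T : Over (Spec (CommRingCat.of k))} (g g' : T ⟶ G) (x : T ⟶ X),
      lift g x ≫ a.act = lift g' x ≫ a.act → g = g' := fun {T} g g' x e => by
    have := hcart.hom_ext (show lift g x ≫ snd G X = lift g' x ≫ snd G X by rw [lift_snd, lift_snd]) e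
    simpa using congrArg (· ≫ fst G X) this
  have htrans : ∀ {T : Over (Spec (CommRingCat.of k))} (x x' : T ⟶ X), x ≫ π = x' ≫ π →
      ∃ g : T ⟶ G, lift g x ≫ a.act = x' := fun {T} x x' e => by
    refine ⟨hcart.lift x x' e ≫ fst G X, ?_⟩
    have h2 : lift (hcart.lift x x' e ≫ fst G X) x = hcart.lift x x' e :=
      CartesianMonoidalCategory.hom_ext _ _ (lift_fst _ _) ((lift_snd _ _).trans (hcart.lift_fst x x' e).symm)
    rw [h2, hcart.lift_snd]
  -- the character
  obtain ⟨c, hc⟩ := htrans (fst E Hk ≫ σ) ((fst E Hk * (snd E Hk ≫ h)) ≫ σ) (by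
    rw [Category.assoc, Category.assoc, hσ, MonObj.mul_comp, Category.assoc (snd E Hk) h, hk.w, ← Category.assoc,
      comp_toUnit]
    exact (_root_.mul_one _).symm)
  let χ : Hk ⟶ G := lift (toUnit Hk ≫ η[E]) (𝟙 Hk) ≫ c
  have hχ : ∀ {T : Over (Spec (CommRingCat.of k))} (e : T ⟶ E) (y : T ⟶ Hk),
      (e * (y ≫ h)) ≫ σ = lift (y ≫ χ) (e ≫ σ) ≫ a.act := fun {T} e y => by
    have := congrArg (lift e y ≫ ·) hc
    simp only [MonObj.comp_mul, ← Category.assoc, comp_lift, lift_fst, lift_snd] at this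
    rw [← this, show lift e y ≫ c = y ≫ χ from by
      conv_lhs => rw [eq_snd_comp hE η[E] c, lift_snd_assoc]]
  -- the cover
  let f : G ⊗ E ⟶ X := lift (fst G E) (snd G E ≫ σ) ≫ a.act
  have hfπ : f ≫ π = snd G E ≫ φ := by
    rw [Category.assoc, hact, Category.assoc, hσ]
  have hlift : ∀ c : PullbackCone π φ, ∃ g, lift g (c.snd ≫ σ) ≫ a.act = c.fst := fun c =>
    htrans _ _ (by rw [Category.assoc, hσ]; exact c.condition.symm)
  choose L hL using hlift
  have sq : IsPullback f (snd G E) π φ := by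
    refine IsPullback.of_isLimit' ⟨hfπ⟩ (PullbackCone.IsLimit.mk _ (fun s => lift (L s) s.snd)
      (fun s => ?_) (fun s => lift_snd _ _) fun s m h1 h2 => ?_)
    · show lift _ s.snd ≫ lift _ _ ≫ _ = _
      rw [comp_lift_assoc, lift_fst, lift_snd_assoc]
      exact hL s
    · have h2' : m ≫ snd G E = s.snd := h2
      refine CartesianMonoidalCategory.hom_ext _ _ ?_ (h2'.trans (lift_snd _ _).symm)
      rw [lift_fst]
      refine hfree _ _ (s.snd ≫ σ) ((Eq.trans ?_ h1).trans (hL s).symm)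
      show _ = m ≫ lift _ _ ≫ _
      rw [comp_lift_assoc, ← Category.assoc m (snd G E), h2']
  haveI : QuasiCompact φ.left := AntPart.qc_hom φ
  have sql := (Over.forget _).map_isPullback sq
  haveI : Flat f.left := MorphismProperty.of_isPullback (P := @Flat) sql.flip ‹_›
  haveI : Surjective f.left := MorphismProperty.of_isPullback (P := @Surjective) sql.flip ‹_›
  haveI : QuasiCompact f.left := MorphismProperty.of_isPullback (P := @QuasiCompact) sql.flip ‹_›
  haveI : EffectiveEpi f.left := inferInstance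
  haveI : Epi f := (Over.forget _).epi_of_epi_map (inferInstanceAs (Epi f.left))
  -- shifting by a point of the extension
  let F : (𝟙_ (Over (Spec (CommRingCat.of k))) ⟶ E) → (G ⊗ E ⟶ X) := fun e =>
    lift (fst G E) ((snd G E * (toUnit _ ≫ e)) ≫ σ) ≫ a.act
  have hF : ∀ (e : 𝟙_ (Over (Spec (CommRingCat.of k))) ⟶ E) {T : Over (Spec (CommRingCat.of k))}
      (z z' : T ⟶ G ⊗ E), z ≫ f = z' ≫ f → z ≫ F e = z' ≫ F e := by
    intro e T z z' hzz
    have hφ : (z ≫ snd G E) ≫ φ = (z' ≫ snd G E) ≫ φ := by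
      rw [Category.assoc, Category.assoc, ← hfπ, ← Category.assoc, hzz, Category.assoc]
    let y := hk.lift ((z ≫ snd G E)⁻¹ * (z' ≫ snd G E)) (toUnit T) (by
      rw [MonObj.mul_comp, GrpObj.inv_comp, hφ, inv_mul_cancel]; rfl)
    have hy : (z ≫ snd G E) * (y ≫ h) = z' ≫ snd G E := by
      rw [show y ≫ h = _ from hk.lift_fst _ _ _, mul_inv_cancel_left]
    have hz : ∀ w : T ⟶ G ⊗ E, w ≫ f = lift (w ≫ fst G E) ((w ≫ snd G E) ≫ σ) ≫ a.act := fun w => by
      rw [← Category.assoc, comp_lift, Category.assoc]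
    have hg : z ≫ fst G E = (z' ≫ fst G E) * (y ≫ χ) := by
      refine hfree _ _ ((z ≫ snd G E) ≫ σ) ?_
      rw [← act_mul, ← hχ, hy, ← hz, ← hz, hzz]
    have hzF : ∀ w : T ⟶ G ⊗ E,
        w ≫ F e = lift (w ≫ fst G E) (((w ≫ snd G E) * (toUnit T ≫ e)) ≫ σ) ≫ a.act := fun w => by
      simp only [F]
      rw [← Category.assoc, comp_lift, ← Category.assoc w, MonObj.comp_mul, ← Category.assoc w (toUnit _), comp_toUnit]
    rw [hzF, hzF, hg, ← act_mul, ← hχ, _root_.mul_assoc, hcomm (toUnit T ≫ e), ← _root_.mul_assoc, hy]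
  have hex : ∀ e : 𝟙_ (Over (Spec (CommRingCat.of k))) ⟶ E, ∃ ψ : X ⟶ X, f ≫ ψ = F e := fun e => by
    have hcond : ∀ {Z : Scheme.{u}} (g₁ g₂ : Z ⟶ (G ⊗ E).left), g₁ ≫ f.left = g₂ ≫ f.left →
        g₁ ≫ (F e).left = g₂ ≫ (F e).left := fun {Z} g₁ g₂ hg => by
      let z : Over.mk (g₁ ≫ (G ⊗ E).hom) ⟶ G ⊗ E := Over.homMk g₁ rfl
      let z' : Over.mk (g₁ ≫ (G ⊗ E).hom) ⟶ G ⊗ E := Over.homMk g₂ (by
        show g₂ ≫ (G ⊗ E).hom = g₁ ≫ (G ⊗ E).hom
        rw [← Over.w f, reassoc_of% hg])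
      exact congrArg CommaMorphism.left (hF e z z' (Over.OverMorphism.ext hg))
    refine ⟨Over.homMk (EffectiveEpi.desc f.left (F e).left hcond) ?_, Over.OverMorphism.ext (EffectiveEpi.fac f.left (F e).left hcond)⟩
    rw [← cancel_epi f.left, EffectiveEpi.fac_assoc, Over.w (F e)]
    exact (Over.w f).symm
  choose Ψ hΨ using hex
  have hfz : ∀ (e : 𝟙_ (Over (Spec (CommRingCat.of k))) ⟶ E),
      lift (fst G E) (snd G E * (toUnit _ ≫ e)) ≫ f = F e := fun e => by
    simp only [f, F]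
    rw [← Category.assoc, comp_lift, lift_fst, lift_snd_assoc]
  have hone : Ψ 1 = 𝟙 X := by
    rw [← cancel_epi f, hΨ, Category.comp_id]
    simp only [F, f]
    rw [MonObj.comp_one, _root_.mul_one]
  have hmul : ∀ e e', Ψ e ≫ Ψ e' = Ψ (e * e') := fun e e' => by
    rw [← cancel_epi f, reassoc_of% (hΨ e), hΨ, ← hfz, Category.assoc, hΨ]
    simp only [F]
    rw [← Category.assoc, comp_lift, lift_fst, ← Category.assoc, MonObj.comp_mul, lift_snd, ← Category.assoc _ (toUnit _),
      comp_toUnit, _root_.mul_assoc, MonObj.comp_mul]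
  -- the point
  obtain ⟨W, p, q, hpq, hqs⟩ := AntPart.exists_pullback φ t
  haveI : Nonempty ↥(𝟙_ (Over (Spec (CommRingCat.of k)))).left := inferInstanceAs (Nonempty ↥(Spec (CommRingCat.of k)))
  obtain ⟨p₀⟩ := ‹Nonempty ↥(𝟙_ (Over (Spec (CommRingCat.of k)))).left›
  obtain ⟨w, hw⟩ := q.left.surjective p₀
  obtain ⟨e, he⟩ := WordClosure.exists_lift_point φ t p₀ (p.left w) (by
    rw [← Scheme.Hom.comp_apply, ← Over.comp_left, hpq, Over.comp_left, Scheme.Hom.comp_apply, hw])
  refine ⟨⟨Ψ e, Ψ e⁻¹, by rw [hmul, mul_inv_cancel, hone], by rw [hmul, inv_mul_cancel, hone]⟩, ?_, ?_⟩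
  · -- equivariance
    haveI : Flat (G ◁ f).left := AntPart.property_tensorHom (𝟙 G) f @Flat inferInstance ‹_› |> fun h => by
      rwa [id_tensorHom] at h
    haveI : Surjective (G ◁ f).left := AntPart.property_tensorHom (𝟙 G) f @Surjective inferInstance ‹_› |> fun h => by
      rwa [id_tensorHom] at h
    haveI : Epi (G ◁ f).left := Flat.epi_of_flat_of_surjective _
    haveI : Epi (G ◁ f) := (Over.forget _).epi_of_epi_map (inferInstanceAs (Epi (G ◁ f).left))
    let m : G ⊗ (G ⊗ E) ⟶ G ⊗ E := lift (fst G _ * (snd G _ ≫ fst G E)) (snd G _ ≫ snd G E)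
    have hm : (G ◁ f) ≫ a.act = m ≫ f := by
      rw [show G ◁ f = lift (fst G _) (snd G _ ≫ f) by apply CartesianMonoidalCategory.hom_ext <;> simp]
      simp only [m, f]
      simp only [comp_lift_assoc, lift_fst, lift_snd_assoc, act_mul, Category.assoc]
    rw [← cancel_epi (G ◁ f), reassoc_of% hm, hΨ, ← MonoidalCategory.whiskerLeft_comp_assoc, hΨ]
    rw [show G ◁ F e = lift (fst G _) (snd G _ ≫ F e) by apply CartesianMonoidalCategory.hom_ext <;> simp]
    simp only [F, m]
    simp only [comp_lift_assoc, lift_fst, lift_snd, lift_snd_assoc, act_mul, Category.assoc, MonObj.comp_mul,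
      MonObj.comp_mul_assoc, comp_toUnit_assoc]
  · -- over the translation
    show Ψ e ≫ π = _
    rw [← cancel_epi f, reassoc_of% (hΨ e), reassoc_of% hfπ]
    simp only [F]
    rw [Category.assoc, hact, Category.assoc, hσ, MonObj.mul_comp, Category.assoc, he, ← Category.assoc, ← Category.assoc,
      comp_lift, ← Hom.mul_def, Category.comp_id, ← Category.assoc, comp_toUnit]

end Groth.Agent.AGFLib.HomogTrivialized
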