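import Groth.Agent.AGFLib.Coact
import Groth.Agent.GrpSchLib.NormalKernel
import Groth.Agent.ComodLib.MatrixComod
import Mathlib.LinearAlgebra.Matrix.Kronecker

/-! Finitely many invariant functions cut out the observable hull. -/

set_option backward.isDefEq.respectTransparency false
set_option backward.isDefEq.respectTransparency.types false
set_option linter.style.haveILetI false

universe u

open CategoryTheory MonoidalCategory CartesianMonoidalCategory MonObj AlgebraicGeometry TensorProduct WithConv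

namespace Groth.Agent.AGFLib

open GrpSchLib GrpSchLib.Kunneth GrpSchLib.LineGroups GrpSchLib.AffineHopf GrpSchLib.LineVec ComodLib

variable {k : Type u} [Field k]

theorem finiteType_fn (X : Over (Spec (CommRingCat.of k))) [IsAffine X.left] [LocallyOfFiniteType X.hom] :
    Algebra.FiniteType k (Fn X) :=
  have h : LocallyOfFiniteType (Spec.map (CommRingCat.ofHom (algebraMap k (Fn X)))) := by
    rw [algebraMap_fn]; infer_instance
  RingHom.finiteType_algebraMap.mp ((HasRingHomProperty.Spec_iff (P := @LocallyOfFiniteType)).mp h)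

/-- Functions on a reduced affine variety are determined by rational points. -/
theorem eq_of_pts [IsAlgClosed k] {X : Over (Spec (CommRingCat.of k))} [IsAffine X.left] [LocallyOfFiniteType X.hom]
    [IsReduced X.left] {f f' : Fn X} (h : ∀ x : VecGrp.pt k k ⟶ X, ev x f = ev x f') : f = f' := by
  haveI := finiteType_fn X
  refine sub_eq_zero.mp (IsNilpotent.eq_zero (ComodLib.Normal.isNilpotent_of_points (K := k) (f - f') fun ψ => ?_))
  have h1 : pullFn (VecGrp.ptMap ψ ≫ univ X) f = pullFn (VecGrp.ptMap ψ ≫ univ X) f' := by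
    rw [pullFn_apply, pullFn_apply, h]
  rw [pullFn_ptMap, pullFn_ptMap, pullFn_univ, pullFn_univ] at h1
  rw [map_sub, h1, sub_self]

/-- The map to the rational test point. -/
noncomputable def toPt (T : Over (Spec (CommRingCat.of k))) : T ⟶ VecGrp.pt k k :=
  Over.homMk T.hom (by
    show T.hom ≫ Spec.map (CommRingCat.ofHom (RingHom.id k)) = T.hom
    simp)

theorem hom_pt_ext {T : Over (Spec (CommRingCat.of k))} (a : T ⟶ VecGrp.pt k k) : a = toPt T := by
  refine Over.OverMorphism.ext ?_
  have h := Over.w a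
  have e : (VecGrp.pt k k).hom = 𝟙 (Spec (CommRingCat.of k)) := by
    show Spec.map (CommRingCat.ofHom (RingHom.id k)) = _
    simp
  rw [e] at h
  exact (Category.comp_id _).symm.trans h

theorem exists_scalar (x : Fn (VecGrp.pt k k)) : ∃ r : k, algebraMap k _ r = x :=
  ⟨spEquiv (k := k) k |>.symm x, by
    conv_rhs => rw [← (spEquiv (k := k) k).apply_symm_apply x]
    rw [← AlgEquiv.commutes (spEquiv (k := k) k)]
    rfl⟩

variable {G H : Over (Spec (CommRingCat.of k))} [GrpObj G]

/-- Invariance under a rational point is one equation of functions. -/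
theorem isRTransInv_pt_iff (z : VecGrp.pt k k ⟶ G) (f : Fn G) :
    AGF.IsRTransInv z f ↔ ev (𝟙 G * (toPt G ≫ z)) f = f := by
  rw [isRTransInv_iff]
  constructor
  · intro h
    rw [h G (𝟙 G) (toPt G), ev_id]
  · intro h T x a
    rw [hom_pt_ext a, show toPt T = x ≫ toPt G from (hom_pt_ext _).symm, Category.assoc]
    conv_lhs => enter [1, 1, 1]; rw [← Category.comp_id x]
    rw [← MonObj.comp_mul, ← ev_ev, h]

theorem isRTransInv_comp {T : Over (Spec (CommRingCat.of k))} {i : H ⟶ G} (h : T ⟶ H) {f : Fn G}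
    (hf : AGF.IsRTransInv i f) : AGF.IsRTransInv (h ≫ i) f :=
  (isRTransInv_iff _ _).2 fun T' g a => by rw [← Category.assoc]; exact (isRTransInv_iff i f).1 hf T' g _

variable [IsAffine G.left] [LocallyOfFiniteType G.hom]

/-- The hull of a subgroup is cut out by finitely many invariant functions. -/
theorem exists_finset_hull (i : H ⟶ G) :
    ∃ s : Finset (Fn G), (∀ f ∈ s, AGF.IsRTransInv i f) ∧
      ∀ (T : Over (Spec (CommRingCat.of k))) (g : T ⟶ G), (∀ f ∈ s, AGF.IsRTransInv g f) →
        ∀ f : Fn G, AGF.IsRTransInv i f → AGF.IsRTransInv g f := by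
  classical
  haveI : IsAffine (G ⊗ G).left := inferInstanceAs (IsAffine (Limits.pullback G.hom G.hom))
  haveI : LocallyOfFiniteType (G ⊗ G).hom :=
    inferInstanceAs (LocallyOfFiniteType (Limits.pullback.fst G.hom G.hom ≫ G.hom))
  haveI := finiteType_fn (G ⊗ G)
  haveI : IsNoetherianRing (Fn (G ⊗ G)) := Algebra.FiniteType.isNoetherianRing k _
  let δ : Fn G → Fn (G ⊗ G) := fun f => ev (fst G G * snd G G) f - ev (fst G G) f
  let I : Finset {f : Fn G // AGF.IsRTransInv i f} → Ideal (Fn (G ⊗ G)) := fun t => Ideal.span (δ '' (Subtype.val '' (t : Set {f : Fn G // AGF.IsRTransInv i f})))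
  obtain ⟨-, ⟨t, rfl⟩, hmax⟩ :=
    set_has_maximal_iff_noetherian.mpr (‹IsNoetherianRing (Fn (G ⊗ G))›) (Set.range I) ⟨_, ⟨∅, rfl⟩⟩
  refine ⟨t.image Subtype.val, fun f hf => ?_, fun T g hg f hf => ?_⟩
  · obtain ⟨f, -, rfl⟩ := Finset.mem_image.mp hf
    exact f.2
  have hle : I t ≤ I (insert ⟨f, hf⟩ t) := Ideal.span_mono
    (Set.image_mono (Set.image_mono (Finset.coe_subset.mpr (Finset.subset_insert _ _))))
  have hmem : δ f ∈ I t := by
    have heq : I (insert ⟨f, hf⟩ t) = I t :=
      (hle.lt_or_eq.resolve_left (hmax _ ⟨_, rfl⟩)).symm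
    rw [← heq]
    exact Ideal.subset_span ⟨f, ⟨⟨f, hf⟩, by simp, rfl⟩, rfl⟩
  refine (isRTransInv_iff g f).2 fun T' x a => ?_
  have hzero : ∀ z ∈ I t, ev (lift x (a ≫ g)) z = 0 := by
    intro z hz
    refine (Ideal.span_le (I := RingHom.ker (ev (lift x (a ≫ g))).toRingHom)).mpr ?_ hz
    rintro _ ⟨_, ⟨f', hf', rfl⟩, rfl⟩
    show ev (lift x (a ≫ g)) (δ f'.1) = 0
    simp only [δ, map_sub, ev_ev, MonObj.comp_mul, lift_fst, lift_snd]
    rw [(isRTransInv_iff g f'.1).1 (hg _ (Finset.mem_image.mpr ⟨f', hf', rfl⟩)) T' x a, sub_self]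
  have := hzero _ hmem
  simp only [δ, map_sub, ev_ev, MonObj.comp_mul, lift_fst, lift_snd] at this
  exact sub_eq_zero.mp this

end Groth.Agent.AGFLib
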