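import Groth.Agent.DynLimit.Connected
import Groth.Agent.DynLimit.Results
import Mathlib.RingTheory.Bialgebra.MonoidAlgebra

/-!
Cocharacters of affine groups in Hopf algebra form: a non-central one has a proper limit subgroup and a proper opposite
unipotent subgroup, and a non-central point of a split torus yields a non-central cocharacter.
-/

set_option autoImplicit false
set_option linter.style.haveILetI false

universe u

open LaurentPolynomial TensorProduct WithConv

noncomputable section

namespace Groth.Agent.AGFLib.RatCochar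

open Groth.Agent.DynLimit

attribute [local instance 2000] ptGroup

variable {k : Type u} [Field k] {A : Type u} [CommRing A] [HopfAlgebra k A]

/-- Inversion of the multiplicative group. -/
def invB (k : Type u) [Field k] : k[T;T⁻¹] →ₐc[k] k[T;T⁻¹] :=
  BialgHom.ofAlgHom (LaurentPolynomial.invert (R := k)).toAlgHom
    (laurent_ext fun n => by
      rw [AlgHom.comp_apply]
      rw [show (LaurentPolynomial.invert (R := k)).toAlgHom (AddMonoidAlgebra.single n (1 : k)) =
        AddMonoidAlgebra.single (-n) (1 : k) from LaurentPolynomial.invert_T n]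
      simp [-LaurentPolynomial.single_eq_C_mul_T])
    (laurent_ext fun n => by
      rw [AlgHom.comp_apply, AlgHom.comp_apply]
      rw [show (LaurentPolynomial.invert (R := k)).toAlgHom (AddMonoidAlgebra.single n (1 : k)) =
        AddMonoidAlgebra.single (-n) (1 : k) from LaurentPolynomial.invert_T n]
      simp only [Bialgebra.comulAlgHom_apply, AddMonoidAlgebra.comul_single, CommSemiring.comul_apply,
        TensorProduct.map_tmul, AddMonoidAlgebra.lsingle_apply, Algebra.TensorProduct.map_tmul]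
      rw [show (LaurentPolynomial.invert (R := k)).toAlgHom (AddMonoidAlgebra.single n (1 : k)) =
        AddMonoidAlgebra.single (-n) (1 : k) from LaurentPolynomial.invert_T n])

theorem invB_invB (x : k[T;T⁻¹]) : invB k (invB k x) = x :=
  (LaurentPolynomial.invert (R := k)).symm_apply_apply x

theorem hneg_invB (lam : A →ₐc[k] k[T;T⁻¹]) :
    (((invB k).comp lam : A →ₐc[k] k[T;T⁻¹]) : A →ₐ[k] k[T;T⁻¹]) = Dyn.negParam k A lam := rfl

/-- A cocharacter with non-central image. -/
def Noncentral (lam : A →ₐc[k] k[T;T⁻¹]) : Prop :=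
  ∃ (φ : k[T;T⁻¹] →ₐ[k] k) (γ : WithConv (A →ₐ[k] k)), ¬ Commute (lamPt lam φ) γ

theorem lamPt_invB (lam : A →ₐc[k] k[T;T⁻¹]) (φ : k[T;T⁻¹] →ₐ[k] k) :
    lamPt ((invB k).comp lam) φ = lamPt lam (φ.comp (invB k : k[T;T⁻¹] →ₐ[k] k[T;T⁻¹])) := rfl

theorem Noncentral.neg {lam : A →ₐc[k] k[T;T⁻¹]} (h : Noncentral lam) : Noncentral ((invB k).comp lam) := by
  obtain ⟨φ, γ, hc⟩ := h
  refine ⟨φ.comp (invB k : k[T;T⁻¹] →ₐ[k] k[T;T⁻¹]), γ, ?_⟩
  rw [lamPt_invB]
  convert hc using 3
  exact AlgHom.ext fun x => congrArg φ (invB_invB x)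

/-- Evaluation at a monomial is multiplicative. -/
theorem conv_T {C : Type u} [CommRing C] [Algebra k C] (φ ψ : WithConv (k[T;T⁻¹] →ₐ[k] C)) (n : ℤ) :
    (φ * ψ).ofConv (AddMonoidAlgebra.single n 1) =
      φ.ofConv (AddMonoidAlgebra.single n 1) * ψ.ofConv (AddMonoidAlgebra.single n 1) := by
  rw [show (φ * ψ).ofConv (AddMonoidAlgebra.single n 1) = (φ * ψ) (AddMonoidAlgebra.single n 1) from rfl,
    AlgHom.convMul_apply]
  simp [-LaurentPolynomial.single_eq_C_mul_T]

/-- The multiplicative group is commutative. -/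
theorem commute_lamPt (lam : A →ₐc[k] k[T;T⁻¹]) {C : Type u} [CommRing C] [Algebra k C]
    (φ ψ : k[T;T⁻¹] →ₐ[k] C) : Commute (lamPt lam φ) (lamPt lam ψ) := by
  show lamPt lam φ * lamPt lam ψ = lamPt lam ψ * lamPt lam φ
  rw [show φ = (toConv φ).ofConv from rfl, show ψ = (toConv ψ).ofConv from rfl, lamPt_mul, lamPt_mul]
  exact congrArg (lamPt lam) (laurent_ext fun n => by rw [conv_T, conv_T, mul_comm])

theorem comp_cst (φ : k[T;T⁻¹] →ₐ[k] k) : φ.comp (cst k k) = AlgHom.id k k := AlgHom.ext fun c => φ.commutes c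

theorem comp_mapT (φ : k[T;T⁻¹] →ₐ[k] k) : φ.comp (mapT k k) = φ :=
  laurent_ext fun n => by simp [mapT, -LaurentPolynomial.single_eq_C_mul_T]

/-- The orbit passes through all conjugates. -/
theorem push_orbit (lam : A →ₐc[k] k[T;T⁻¹]) (φ : k[T;T⁻¹] →ₐ[k] k) (γ : WithConv (A →ₐ[k] k)) :
    push φ (orbit lam k γ) = lamPt lam φ * γ * (lamPt lam φ)⁻¹ := by
  rw [orbit_apply, map_mul, map_mul, map_inv, push_lamPt, push_push, comp_cst, comp_mapT, push_id]

/-- If all points have both limits the cocharacter is central. -/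
theorem negIdeal_ne_bot {lam : A →ₐc[k] k[T;T⁻¹]} (h : Noncentral lam) :
    negIdeal lam ≠ ⊥ ∨ negIdeal ((invB k).comp lam) ≠ ⊥ := by
  by_contra hne
  push Not at hne
  obtain ⟨φ, γ, hc⟩ := h
  have key : orbit lam k γ = push (cst k k) γ :=
    (mem_lim_both_iff lam (hneg_invB lam) γ).1
      ⟨(forall_negIdeal_iff lam γ).1 fun x hx => by
          rw [hne.1, Ideal.mem_bot] at hx; rw [hx, map_zero],
       (forall_negIdeal_iff _ γ).1 fun x hx => by
          rw [hne.2, Ideal.mem_bot] at hx; rw [hx, map_zero]⟩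
  have := congrArg (push φ) key
  rw [push_orbit, push_push, comp_cst, push_id, mul_inv_eq_iff_eq_mul] at this
  exact hc this

/-- The subgroup contracted to `1` by a non-central cocharacter is proper. -/
theorem npIdeal_ne_bot {lam : A →ₐc[k] k[T;T⁻¹]} (h : Noncentral lam) : npIdeal lam ≠ ⊥ := by
  intro hbot
  obtain ⟨φ, γ, hc⟩ := h
  obtain ⟨p, h0, hp⟩ := (mem_limOneSubgroup lam k).1 ((forall_npIdeal_iff lam (lamPt lam φ)).1 fun x hx => by
    rw [hbot, Ideal.mem_bot] at hx; rw [hx, map_zero])
  have e : orbit lam k (lamPt lam φ) = push (cst k k) (lamPt lam φ) := by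
    rw [orbit_apply, push_lamPt, (commute_lamPt lam (mapT k k) ((cst k k).comp φ)).eq, mul_inv_cancel_right]
  rw [e] at hp
  have hp' : p = push ((Algebra.ofId k (Polynomial k)).restrictScalars k) (lamPt lam φ) :=
    push_injective (toL_injective k) (hp.trans (by rw [push_push, toL_comp_const]))
  rw [hp', push_push, evz_comp_const, push_id] at h0
  exact hc (h0 ▸ Commute.one_left γ)

/-- The coordinate projection of a split torus. -/
def proj (k : Type u) [Field k] {r : ℕ} (i : Fin r) :
    MonoidAlgebra k (Multiplicative (Fin r → ℤ)) →ₐc[k] k[T;T⁻¹] :=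
  ((AddMonoidAlgebra.toMultiplicativeBialgEquiv k k (M := ℤ)).symm :
      MonoidAlgebra k (Multiplicative ℤ) →ₐc[k] k[T;T⁻¹]).comp
    (MonoidAlgebra.mapDomainBialgHom k (AddMonoidHom.toMultiplicative (Pi.evalAddMonoidHom (fun _ : Fin r => ℤ) i)))

theorem proj_single {r : ℕ} (i : Fin r) (m : Fin r → ℤ) :
    proj k i (MonoidAlgebra.single (Multiplicative.ofAdd m) 1) = AddMonoidAlgebra.single (m i) 1 := by
  have h : (AddMonoidAlgebra.toMultiplicativeBialgEquiv k k (M := ℤ)) (AddMonoidAlgebra.single (m i) 1) =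
      MonoidAlgebra.single (Multiplicative.ofAdd (m i)) 1 := by
    simp [AddMonoidAlgebra.toMultiplicativeBialgEquiv, -LaurentPolynomial.single_eq_C_mul_T]
  show (AddMonoidAlgebra.toMultiplicativeBialgEquiv k k (M := ℤ)).symm (MonoidAlgebra.mapDomain _
    (MonoidAlgebra.single (Multiplicative.ofAdd m) 1)) = _
  rw [MonoidAlgebra.mapDomain_single]
  exact (congrArg _ h.symm).trans ((AddMonoidAlgebra.toMultiplicativeBialgEquiv k k (M := ℤ)).symm_apply_apply _)

/-- The coordinate embedding. -/
def emb (k : Type u) [Field k] {r : ℕ} (i : Fin r) :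
    k[T;T⁻¹] →ₐ[k] MonoidAlgebra k (Multiplicative (Fin r → ℤ)) :=
  (MonoidAlgebra.mapDomainAlgHom k k
      (AddMonoidHom.toMultiplicative (AddMonoidHom.single (fun _ : Fin r => ℤ) i))).comp
    (AddMonoidAlgebra.toMultiplicativeAlgEquiv k k ℤ).toAlgHom

theorem emb_single {r : ℕ} (i : Fin r) (n : ℤ) :
    emb k i (AddMonoidAlgebra.single n 1) = MonoidAlgebra.single (Multiplicative.ofAdd (Pi.single i n)) 1 := by
  simp [emb, -LaurentPolynomial.single_eq_C_mul_T]

/-- A point of a split torus is the product of its coordinates. -/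
theorem eq_prod {r : ℕ} (t : WithConv (MonoidAlgebra k (Multiplicative (Fin r → ℤ)) →ₐ[k] k)) :
    t = (List.ofFn fun i => pull (proj k i) (toConv (t.ofConv.comp (emb k i)))).prod := by
  refine WithConv.ext (MonoidAlgebra.algHom_ext (fun m => ?_) (by ext))
  let ev : WithConv (MonoidAlgebra k (Multiplicative (Fin r → ℤ)) →ₐ[k] k) →* k :=
    { toFun := fun f => f.ofConv (MonoidAlgebra.single m 1)
      map_one' := by
        show (1 : WithConv (MonoidAlgebra k (Multiplicative (Fin r → ℤ)) →ₐ[k] k)) (MonoidAlgebra.single m 1) = 1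
        rw [AlgHom.convOne_apply]
        simp
      map_mul' := fun f g => by
        show (f * g) (MonoidAlgebra.single m 1) = _
        rw [AlgHom.convMul_apply]
        simp }
  show ev t = ev _
  rw [map_list_prod, List.map_ofFn, List.prod_ofFn]
  have hev : ∀ i, (ev ∘ fun i => pull (proj k i) (toConv (t.ofConv.comp (emb k i)))) i =
      t.ofConv (MonoidAlgebra.single (Multiplicative.ofAdd (Pi.single i (Multiplicative.toAdd m i))) 1) := fun i => by
    show t.ofConv (emb k i (proj k i (MonoidAlgebra.single (Multiplicative.ofAdd (Multiplicative.toAdd m)) 1))) = _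
    rw [proj_single, emb_single]
  simp only [hev]
  rw [← map_prod]
  show t.ofConv (MonoidAlgebra.single m 1) = t.ofConv _
  congr 1
  rw [show (∏ i : Fin r, MonoidAlgebra.single (Multiplicative.ofAdd (Pi.single i (Multiplicative.toAdd m i))) (1 : k)) =
    ∏ i : Fin r, MonoidAlgebra.of k _ (Multiplicative.ofAdd (Pi.single i (Multiplicative.toAdd m i))) from rfl,
    ← map_prod, ← ofAdd_sum, Finset.univ_sum_single]
  rfl

/-- A non-central point of a split torus gives a non-central cocharacter. -/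
theorem exists_noncentral {r : ℕ} (f : A →ₐc[k] MonoidAlgebra k (Multiplicative (Fin r → ℤ)))
    (t : WithConv (MonoidAlgebra k (Multiplicative (Fin r → ℤ)) →ₐ[k] k)) (γ : WithConv (A →ₐ[k] k))
    (h : ¬ Commute (pull f t) γ) : ∃ lam : A →ₐc[k] k[T;T⁻¹], Noncentral lam := by
  by_contra hall
  push Not at hall
  refine h ?_
  rw [eq_prod t, map_list_prod]
  refine Commute.list_prod_left _ _ fun x hx => ?_
  rw [List.map_ofFn, List.mem_ofFn] at hx
  obtain ⟨i, rfl⟩ := hx
  have hl := hall ((proj k i).comp f)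
  simp only [Noncentral, not_exists, not_not] at hl
  exact hl (t.ofConv.comp (emb k i)) γ

end Groth.Agent.AGFLib.RatCochar
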