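import Mathlib.AlgebraicGeometry.AffineSpace
import Mathlib.AlgebraicGeometry.Pullbacks
import Mathlib.RingTheory.TensorProduct.MonoidAlgebra
import Mathlib.RingTheory.TensorProduct.MvPolynomial
import Mathlib.RingTheory.Flat.FaithfullyFlat.Basic
import Mathlib.Algebra.Polynomial.Laurent

/-!
Rationality of affine schemes over a field: a common open affine with affine space.
-/

set_option autoImplicit false
set_option linter.style.haveILetI false

universe u

open CategoryTheory Limits AlgebraicGeometry TensorProduct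

noncomputable section

namespace Groth.Agent.AGFLib.RatOpen

/-- The spectrum map is an open immersion. -/
abbrev IsOpenHom {A B : Type u} [CommRing A] [CommRing B] (f : A →+* B) : Prop :=
  IsOpenImmersion (Spec.map (CommRingCat.ofHom f))

theorem isOpenHom_comp {A B C : Type u} [CommRing A] [CommRing B] [CommRing C] {f : A →+* B} {g : B →+* C}
    (hf : IsOpenHom f) (hg : IsOpenHom g) : IsOpenHom (g.comp f) := by
  unfold IsOpenHom at *
  rw [CommRingCat.ofHom_comp, Spec.map_comp]
  infer_instance

theorem isOpenHom_equiv {k : Type u} [CommRing k] {A B : Type u} [CommRing A] [CommRing B] [Algebra k A] [Algebra k B]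
    (e : A ≃ₐ[k] B) : IsOpenHom (e.toAlgHom.toRingHom) := by
  haveI : IsIso (CommRingCat.ofHom e.toAlgHom.toRingHom) := (e.toRingEquiv.toCommRingCatIso).isIso_hom
  unfold IsOpenHom
  infer_instance

/-- A tensor product of open immersions is an open immersion. -/
theorem isOpenHom_map {k A B C D : Type u} [CommRing k] [CommRing A] [CommRing B] [CommRing C] [CommRing D]
    [Algebra k A] [Algebra k B] [Algebra k C] [Algebra k D] (φ : A →ₐ[k] C) (ψ : B →ₐ[k] D)
    (hφ : IsOpenHom φ.toRingHom) (hψ : IsOpenHom ψ.toRingHom) :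
    IsOpenHom (Algebra.TensorProduct.map φ ψ).toRingHom := by
  let a := Spec.map (CommRingCat.ofHom φ.toRingHom)
  let b := Spec.map (CommRingCat.ofHom ψ.toRingHom)
  have ha : Spec.map (CommRingCat.ofHom (algebraMap k C)) = a ≫ Spec.map (CommRingCat.ofHom (algebraMap k A)) := by
    rw [← Spec.map_comp, ← CommRingCat.ofHom_comp]
    exact congrArg (fun f => Spec.map (CommRingCat.ofHom f)) φ.comp_algebraMap.symm
  have hb : Spec.map (CommRingCat.ofHom (algebraMap k D)) = b ≫ Spec.map (CommRingCat.ofHom (algebraMap k B)) := by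
    rw [← Spec.map_comp, ← CommRingCat.ofHom_comp]
    exact congrArg (fun f => Spec.map (CommRingCat.ofHom f)) ψ.comp_algebraMap.symm
  let m := pullback.map (Spec.map (CommRingCat.ofHom (algebraMap k C))) (Spec.map (CommRingCat.ofHom (algebraMap k D)))
    (Spec.map (CommRingCat.ofHom (algebraMap k A))) (Spec.map (CommRingCat.ofHom (algebraMap k B))) a b (𝟙 _)
    (by rw [Category.comp_id, ha]) (by rw [Category.comp_id, hb])
  haveI : IsOpenImmersion m := MorphismProperty.pullbackMap (P := @IsOpenImmersion) hφ hψ ha hb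
  have key : Spec.map (CommRingCat.ofHom (Algebra.TensorProduct.map φ ψ).toRingHom) =
      (pullbackSpecIso k C D).inv ≫ m ≫ (pullbackSpecIso k A B).hom := by
    rw [← cancel_mono (pullbackSpecIso k A B).inv]
    simp only [Category.assoc, Iso.hom_inv_id, Category.comp_id]
    refine pullback.hom_ext ?_ ?_
    · simp only [Category.assoc, pullbackSpecIso_inv_fst, m, pullback.lift_fst, pullbackSpecIso_inv_fst_assoc]
      rw [← Spec.map_comp, ← Spec.map_comp, ← CommRingCat.ofHom_comp, ← CommRingCat.ofHom_comp]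
      exact congrArg (fun f => Spec.map (CommRingCat.ofHom f)) (RingHom.ext fun x => by simp)
    · simp only [Category.assoc, pullbackSpecIso_inv_snd, m, pullback.lift_snd, pullbackSpecIso_inv_snd_assoc]
      rw [← Spec.map_comp, ← Spec.map_comp, ← CommRingCat.ofHom_comp, ← CommRingCat.ofHom_comp]
      exact congrArg (fun f => Spec.map (CommRingCat.ofHom f)) (RingHom.ext fun x => by simp)
  unfold IsOpenHom
  rw [key]
  infer_instance

variable (k : Type u) [Field k]

/-- An open affine of `Spec A` is an open affine of an affine space. -/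
def Rat (A : Type u) [CommRing A] [Algebra k A] : Prop :=
  ∃ (n : ℕ) (C : Type u) (_ : CommRing C) (_ : Algebra k C) (φ : A →ₐ[k] C) (ψ : MvPolynomial (Fin n) k →ₐ[k] C),
    Nontrivial C ∧ IsOpenHom φ.toRingHom ∧ IsOpenHom ψ.toRingHom

variable {k}

theorem Rat.of_openHom {A B : Type u} [CommRing A] [Algebra k A] [CommRing B] [Algebra k B] (h : Rat k B)
    (f : A →ₐ[k] B) (hf : IsOpenHom f.toRingHom) : Rat k A := by
  obtain ⟨n, C, _, _, φ, ψ, hC, hφ, hψ⟩ := h
  exact ⟨n, C, inferInstance, inferInstance, φ.comp f, ψ, hC, isOpenHom_comp hf hφ, hψ⟩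

theorem Rat.of_equiv {A B : Type u} [CommRing A] [Algebra k A] [CommRing B] [Algebra k B] (h : Rat k B)
    (e : A ≃ₐ[k] B) : Rat k A := h.of_openHom e.toAlgHom (isOpenHom_equiv e)

theorem rat_mvPolynomial (n : ℕ) : Rat k (MvPolynomial (Fin n) k) :=
  ⟨n, MvPolynomial (Fin n) k, inferInstance, inferInstance, AlgHom.id k _, AlgHom.id k _, inferInstance,
    isOpenHom_equiv (AlgEquiv.refl (R := k) (A₁ := MvPolynomial (Fin n) k)),
    isOpenHom_equiv (AlgEquiv.refl (R := k) (A₁ := MvPolynomial (Fin n) k))⟩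

/-- A product of rational schemes is rational. -/
theorem Rat.tensor {A B : Type u} [CommRing A] [Algebra k A] [CommRing B] [Algebra k B] (hA : Rat k A) (hB : Rat k B) :
    Rat k (A ⊗[k] B) := by
  obtain ⟨n, C, _, _, φ, ψ, hC, hφ, hψ⟩ := hA
  obtain ⟨m, D, _, _, φ', ψ', hD, hφ', hψ'⟩ := hB
  haveI := hC
  haveI := hD
  let e : MvPolynomial (Fin (n + m)) k ≃ₐ[k] MvPolynomial (Fin n) k ⊗[k] MvPolynomial (Fin m) k :=
    ((MvPolynomial.tensorEquivSum k (Fin n) (Fin m) k).trans (MvPolynomial.renameEquiv k finSumFinEquiv)).symm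
  exact ⟨n + m, C ⊗[k] D, inferInstance, inferInstance, Algebra.TensorProduct.map φ φ',
    (Algebra.TensorProduct.map ψ ψ').comp e.toAlgHom,
    (Module.FaithfullyFlat.nontrivial_tensorProduct_iff_right k C).mpr hD,
    isOpenHom_map φ φ' hφ hφ', isOpenHom_comp (isOpenHom_equiv e) (isOpenHom_map ψ ψ' hψ hψ')⟩

theorem rat_laurent : Rat k (LaurentPolynomial k) := by
  let p : MvPolynomial (Fin 1) k ≃ₐ[k] Polynomial k := MvPolynomial.uniqueAlgEquiv k (Fin 1)
  have h : IsOpenHom (Polynomial.toLaurentAlg (R := k)).toRingHom :=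
    IsOpenImmersion.of_isLocalization (S := LaurentPolynomial k) (Polynomial.X : Polynomial k)
  exact ⟨1, LaurentPolynomial k, inferInstance, inferInstance, AlgHom.id k _,
    (Polynomial.toLaurentAlg (R := k)).comp p.toAlgHom, inferInstance,
    isOpenHom_equiv (AlgEquiv.refl (R := k) (A₁ := LaurentPolynomial k)),
    isOpenHom_comp (isOpenHom_equiv p) h⟩

theorem rat_lattice : ∀ r : ℕ, Rat k (MonoidAlgebra k (Multiplicative (Fin r → ℤ)))
  | 0 => (rat_mvPolynomial (k := k) 0).of_equiv
      ((MonoidAlgebra.uniqueAlgEquiv k (Multiplicative (Fin 0 → ℤ))).trans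
        (MvPolynomial.isEmptyAlgEquiv k (Fin 0)).symm)
  | r + 1 => by
    let e : Multiplicative ℤ × Multiplicative (Fin r → ℤ) ≃* Multiplicative (Fin (r + 1) → ℤ) :=
      (MulEquiv.prodMultiplicative ℤ (Fin r → ℤ)).symm.trans (AddEquiv.toMultiplicative
        { Fin.consEquiv (fun _ : Fin (r + 1) => ℤ) with
          map_add' := fun x y => by
            funext i
            refine Fin.cases ?_ (fun j => ?_) i <;> simp [Fin.consEquiv] })
    let l : LaurentPolynomial k ≃ₐ[k] MonoidAlgebra k (Multiplicative ℤ) := AddMonoidAlgebra.toMultiplicativeAlgEquiv k k ℤ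
    refine ((rat_lattice r).tensor (rat_laurent (k := k))).of_equiv ?_
    exact (MonoidAlgebra.domCongr k k e.symm).trans ((MonoidAlgebra.curryAlgEquiv k).trans
      (((MonoidAlgebra.scalarTensorEquiv k (MonoidAlgebra k (Multiplicative (Fin r → ℤ)))
        (M := Multiplicative ℤ)).restrictScalars k).symm.trans
          (Algebra.TensorProduct.congr AlgEquiv.refl l.symm)))

end Groth.Agent.AGFLib.RatOpen
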