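import Groth.Agent.AGFLib.SolvSection
import Groth.Agent.AGFLib.RatOpen
import Groth.Agent.AGFLib.RatCochar
import Groth.Agent.SolvGrp.Cartan
import Groth.Agent.SolvGrp.TorusSepClosed
import Groth.Agent.MultTypeLib.ConnCrit

/-!
Connected affine smooth groups over an algebraically closed field are rational: either solvable, or the big cell of a
non-central cocharacter reduces the dimension.
-/

set_option autoImplicit false
set_option backward.isDefEq.respectTransparency.types false
set_option linter.style.haveILetI false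
set_option linter.unusedSectionVars false
set_option maxHeartbeats 1000000

universe u

open CategoryTheory MonoidalCategory CartesianMonoidalCategory MonObj AlgebraicGeometry WithConv
open scoped TensorProduct LaurentPolynomial

namespace Groth.Agent.AGFLib.Rational

open SolvGrp GrpSchLib GrpSchLib.Kunneth GrpSchLib.LineGroups WeilCmp.Unip AGFLib AGFLib.Gen AGFLib.BorelFixed
  AGFLib.BorelExist AGFLib.RatOpen

attribute [local instance 2000] DynLimit.ptGroup

variable {k : Type u} [Field k] [IsAlgClosed k]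

local notation "PT" => 𝟙_ (Over (Spec (CommRingCat.of k)))

/-- Connected solvable groups are rational. -/
theorem rat_solvable {V : Over (Spec (CommRingCat.of k))} [GrpObj V] [IsAffine V.left] [Smooth V.hom]
    [ConnectedSpace V.left] (hs : Red.IsSolvableGrp V) : Rat k (Fn V) := by
  obtain ⟨U, Q, _, _, i, q, hi, hq, hsU, hcU, haU, haQ, hsQ, hflat, hsurj, hqc, hker, huU, hTQ⟩ :=
    SolvSection.exists_torus_quot hs
  haveI := hi; haveI := hq; haveI := hsU; haveI := hcU; haveI := haU; haveI := haQ; haveI := hsQ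
  haveI := hflat; haveI := hsurj; haveI := hqc
  obtain ⟨s, hs'⟩ := SolvSection.exists_section i q hker (SolvSection.h90_unip huU _ (SolvSection.base Q))
  obtain ⟨c⟩ := SolvSection.nonempty_iso_prod i q hker s hs'
  obtain ⟨n, ⟨θ⟩⟩ := SolvSection.exists_poly huU
  obtain ⟨r, ⟨ψ⟩⟩ := SolvSection.exists_torus_fn hTQ
  exact ((rat_mvPolynomial (k := k) n).tensor (rat_lattice r)).of_equiv
    ((fnEquiv c).symm.trans ((AlgEquiv.ofBijective (toProd U Q) (toProd_bijective U Q)).symm.trans
      (Algebra.TensorProduct.congr θ ψ)))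

/-- Precomposition of points with a map of Hopf algebras. -/
theorem fn_comp_spMap {A B : Type u} [CommRing A] [CommRing B] [HopfAlgebra k A] [HopfAlgebra k B]
    {T : Over (Spec (CommRingCat.of k))} (y : T ⟶ AffineHopf.sp k B) (f : A →ₐ[k] B) :
    LineVec.fn (y ≫ AffineHopf.spMap f) = (LineVec.fn y).comp f := by
  conv_lhs => rw [← LineVec.aff_fn y, Category.assoc, AffineHopf.spMap_comp]
  exact LineVec.fn_aff _

/-- A non-solvable connected group has a non-central cocharacter. -/
theorem exists_cochar {A : Type u} [CommRing A] [HopfAlgebra k A] [Smooth (AffineHopf.sp k A).hom]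
    [ConnectedSpace (AffineHopf.sp k A).left] (hns : ¬ Group.IsSolvable (PT ⟶ AffineHopf.sp k A)) :
    ∃ lam : A →ₐc[k] k[T;T⁻¹], RatCochar.Noncentral lam := by
  obtain ⟨T, _, iT, hT⟩ := SolvGrp.exists_maxTorus_closed (AffineHopf.sp k A)
  haveI := hT.1
  obtain ⟨g, s, hgs⟩ : ∃ (g : PT ⟶ AffineHopf.sp k A) (s : PT ⟶ T), ¬ Commute g (s ≫ iT) := by
    by_contra hall
    push Not at hall
    haveI := (SolvGrp.nilpotent_of_central iT hT hall).1
    exact hns inferInstance
  obtain ⟨r, ⟨eG⟩⟩ := exists_iso_sp hT.2.2.1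
  let a : AffineHopf.sp k (MonoidAlgebra k (Multiplicative (Fin r → ℤ))) ≅ T := (Grp.forget _).mapIso eG.symm
  haveI : IsMonHom a.hom := eG.inv.hom.isMonHom_hom
  obtain ⟨f, hf⟩ := AffineHopf.exists_bialgHom (a.hom ≫ iT)
  let Φ : (PT ⟶ AffineHopf.sp k A) →* WithConv (A →ₐ[k] k) :=
    MonoidHom.mk' (fun x => DynLimit.push (ProjAct.toK (k := k)).toAlgHom (toConv (LineVec.fn x))) fun x y => by
      rw [LineVec.fn_mul, toConv_ofConv, map_mul]
  have hinj : Function.Injective Φ := fun x y h =>
    LineVec.fn_injective (congrArg WithConv.ofConv (DynLimit.push_injective (ProjAct.toK (k := k)).injective h))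
  have e : Φ (s ≫ iT) =
      DynLimit.pull f (toConv ((ProjAct.toK (k := k)).toAlgHom.comp (LineVec.fn (s ≫ a.inv)))) := by
    refine WithConv.ext ?_
    show (ProjAct.toK (k := k)).toAlgHom.comp (LineVec.fn (s ≫ iT)) = _
    rw [show s ≫ iT = (s ≫ a.inv) ≫ AffineHopf.spMap (f : A →ₐ[k] _) by
      rw [← hf, Category.assoc, Iso.inv_hom_id_assoc], fn_comp_spMap]
    rfl
  refine RatCochar.exists_noncentral f (toConv ((ProjAct.toK (k := k)).toAlgHom.comp (LineVec.fn (s ≫ a.inv))))
    (Φ g) fun hc => hgs ?_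
  rw [← e] at hc
  refine hinj ?_
  rw [map_mul, map_mul]
  exact hc.eq.symm

theorem rat_aux (A₀ : Type u) [CommRing A₀] [Algebra k A₀] [IsNoetherianRing A₀] :
    ∀ (J : Ideal A₀) (A : Type u) [CommRing A] [HopfAlgebra k A] [Algebra.FiniteType k A] [Algebra.Smooth k A]
      (π : A₀ →ₐ[k] A), Function.Surjective π → RingHom.ker π = J →
      (∀ e : A, IsIdempotentElem e → e = 0 ∨ e = 1) → Rat k A := by
  intro J
  induction J using WellFoundedGT.induction with
  | _ J ih =>
  intro A _ _ _ _ π hπ hJ hconn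
  haveI : Nontrivial A := (Bialgebra.counitAlgHom k A).toRingHom.domain_nontrivial
  haveI : ConnectedSpace (AffineHopf.sp k A).left := MultTypeLib.connectedSpace_of_idem hconn
  haveI : Smooth (AffineHopf.sp k A).hom :=
    (HasRingHomProperty.Spec_iff (P := @Smooth)).mpr (RingHom.smooth_algebraMap.mpr inferInstance)
  by_cases hsol : Group.IsSolvable (PT ⟶ AffineHopf.sp k A)
  · obtain ⟨n, hn⟩ := hsol
    exact (rat_solvable (ProperSpace.isSolvableGrp_of_pts n hn)).of_equiv (LineVec.toFn (k := k) (A := A))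
  obtain ⟨lam₀, h₀⟩ := exists_cochar hsol
  obtain ⟨mu, hμ, hne⟩ : ∃ mu : A →ₐc[k] k[T;T⁻¹], RatCochar.Noncentral mu ∧ DynLimit.negIdeal mu ≠ ⊥ := by
    rcases RatCochar.negIdeal_ne_bot h₀ with h | h
    · exact ⟨lam₀, h₀, h⟩
    · exact ⟨_, h₀.neg, h⟩
  let ν : A →ₐc[k] k[T;T⁻¹] := (RatCochar.invB k).comp mu
  have hνne : DynLimit.npIdeal ν ≠ ⊥ := RatCochar.npIdeal_ne_bot hμ.neg
  haveI : Algebra.FinitePresentation k A := Algebra.FinitePresentation.of_finiteType.mp inferInstance
  haveI := DynLimit.isHopfIdeal_negIdeal mu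
  haveI := DynLimit.isHopfIdeal_npIdeal ν
  haveI := DynLimit.smooth_lim mu (DynLimit.represents_negIdeal mu)
  haveI := DynLimit.smooth_limOne ν (DynLimit.represents_npIdeal ν)
  have step : ∀ I : Ideal A, I ≠ ⊥ → J < RingHom.ker ((Ideal.Quotient.mkₐ k I).comp π) := fun I hI => by
    obtain ⟨x, hx, hx0⟩ := Submodule.exists_mem_ne_zero_of_ne_bot hI
    obtain ⟨y, rfl⟩ := hπ x
    refine lt_of_le_of_ne (fun z hz => ?_) fun h => hx0 ?_
    · rw [← hJ, RingHom.mem_ker] at hz
      show Ideal.Quotient.mkₐ k I (π z) = 0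
      rw [hz, map_zero]
    · have hy : y ∈ J := h ▸ (Ideal.Quotient.eq_zero_iff_mem.2 hx : Ideal.Quotient.mkₐ k I (π y) = 0)
      rwa [← hJ, RingHom.mem_ker] at hy
  have hm : Rat k (A ⧸ DynLimit.npIdeal ν) := ih _ (step _ hνne) _ ((Ideal.Quotient.mkₐ k _).comp π)
    ((Ideal.Quotient.mkₐ_surjective k _).comp hπ) rfl
    fun e he => DynLimit.eq_zero_or_one_of_isIdempotentElem ν (DynLimit.represents_npIdeal ν) he
  have hp : Rat k (A ⧸ DynLimit.negIdeal mu) := ih _ (step _ hne) _ ((Ideal.Quotient.mkₐ k _).comp π)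
    ((Ideal.Quotient.mkₐ_surjective k _).comp hπ) rfl
    fun e he => DynLimit.eq_zero_or_one_lim mu (DynLimit.represents_negIdeal mu) hconn he
  exact (hm.tensor hp).of_openHom _ (DynLimit.isOpenImmersion_cell_field mu (RatCochar.hneg_invB mu)
    (DynLimit.represents_negIdeal mu) (DynLimit.represents_npIdeal ν))

/-- A connected affine smooth group is rational. -/
theorem exists_rational (G : Over (Spec (CommRingCat.of k))) [GrpObj G] [IsAffine G.left] [Smooth G.hom]
    [ConnectedSpace G.left] :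
    ∃ (n : ℕ) (C : Type u) (_ : CommRing C) (_ : Algebra k C) (ψ : MvPolynomial (Fin n) k →ₐ[k] C)
      (j : AffineHopf.sp k C ⟶ G), Nontrivial C ∧ IsOpenHom ψ.toRingHom ∧ IsOpenImmersion j.left := by
  obtain ⟨A, _, _, ⟨eG⟩⟩ := AffineHopf.exists_hopf G
  let e : AffineHopf.sp k A ≅ G := (Grp.forget _).mapIso eG
  haveI : IsIso e.hom.left := ((Over.forget _).mapIso e).isIso_hom
  haveI : IsIso e.inv.left := ((Over.forget _).mapIso e).isIso_inv
  haveI : Smooth (AffineHopf.sp k A).hom := by
    rw [← Over.w e.hom]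
    infer_instance
  haveI : Algebra.Smooth k A :=
    RingHom.smooth_algebraMap.mp ((HasRingHomProperty.Spec_iff (P := @Smooth)).mp ‹Smooth (AffineHopf.sp k A).hom›)
  haveI : Algebra.FiniteType k A := inferInstance
  haveI : IsNoetherianRing A := Algebra.FiniteType.isNoetherianRing k A
  haveI : ConnectedSpace (PrimeSpectrum A) :=
    e.inv.left.surjective.connectedSpace e.inv.left.continuous
  obtain ⟨n, C, _, _, φ, ψ, hC, hφ, hψ⟩ := rat_aux A _ A (AlgHom.id k A) Function.surjective_id rfl
    fun x hx => MultTypeLib.idem_trivial hx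
  refine ⟨n, C, inferInstance, inferInstance, ψ, AffineHopf.spMap φ ≫ e.hom, hC, hψ, ?_⟩
  haveI : IsOpenImmersion (AffineHopf.spMap φ).left := hφ
  rw [Over.comp_left]
  infer_instance

end Groth.Agent.AGFLib.Rational
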