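import Groth.Agent.AGFLib.Rational
import Groth.Agent.RatPicProd.Core
import Groth.Agent.Neron6.BirOpen
import Groth.Agent.GrpSchLib.UnitsScheme
import Groth.Agent.FrobTwist.Pullback
import Groth.Agent.S16121
import Groth.Prelude.Def_AlgGrp

/-!
Invertible classes on a normal variety with an action of a connected linear group: pulled back along the action they
are a class of the group times the class itself, so they are fixed by translations.
-/

set_option autoImplicit false
set_option backward.isDefEq.respectTransparency.types false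
set_option linter.style.haveILetI false
set_option maxHeartbeats 1000000
set_option linter.unusedSectionVars false

universe u

open CategoryTheory MonoidalCategory CartesianMonoidalCategory MonObj AlgebraicGeometry

namespace Groth.Agent.AGFLib.LinPicInv

open H23.PicMul

variable {k : Type u} [Field k] [IsAlgClosed k]

local notation "PT" => 𝟙_ (Over (Spec (CommRingCat.of k)))

variable {G X : Over (Spec (CommRingCat.of k))} [GrpObj G] [IsAffine G.left] [Smooth G.hom] [ConnectedSpace ↥G.left]
  [IsIntegral X.left] [IsSeparated X.hom] [LocallyOfFiniteType X.hom] [QuasiCompact X.hom]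

/-- Restriction of a product class to a point times the second factor. -/
theorem pullCl_point (g : PT ⟶ G) {d₁ : PicF.Cl G.left} {d₂ : PicF.Cl X.left} (hd₁ : PicF.IsInvertibleCl d₁) :
    PicF.pullCl (lift (toUnit X ≫ g) (𝟙 X)).left
      (PicF.pullCl (fst G X).left d₁ * PicF.pullCl (snd G X).left d₂) = d₂ := by
  rw [pullCl_mul, ← PicLoc.pullCl_comp, ← PicLoc.pullCl_comp, ← Over.comp_left, ← Over.comp_left, lift_fst, lift_snd,
    Over.comp_left, Over.id_left, PicLoc.pullCl_id, PicLoc.pullCl_comp,
    RatPicProd.cl_trivial_of_field (PicLoc.isInvertibleCl_pullCl g.left hd₁), pullCl_one, _root_.one_mul]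

/-- The pullback of a class along the action. -/
theorem exists_act_eq (hX : Pi1.IsNormalScheme X.left) (a : AlgGrp.Action G X) {c : PicF.Cl X.left}
    (hc : PicF.IsInvertibleCl c) :
    ∃ d₁ : PicF.Cl G.left, PicF.IsInvertibleCl d₁ ∧
      PicF.pullCl a.act.left c = PicF.pullCl (fst G X).left d₁ * PicF.pullCl (snd G X).left c := by
  obtain ⟨U, n, V, e, hU, he⟩ := S16121.result k G
  haveI : QuasiCompact G.hom := inferInstance
  haveI : IsIntegral G.left := GrpSchLib.Kunneth.isIntegral_grp G
  haveI : IsSeparated G.hom := GrpSchLib.AntiAffine.isSeparated_grp G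
  have hG : Pi1.IsNormalScheme G.left := Neron6.isNormalScheme_of_smooth G.hom FrobTwist.isNormalScheme_Spec
  obtain ⟨d₁, d₂, hd₁, hd₂, hcd⟩ := RatPicProd.exists_eq_mul G.hom X.hom hG hX U hU V e he
    (PicLoc.isInvertibleCl_pullCl a.act.left hc)
  have hcd' : PicF.pullCl a.act.left c = PicF.pullCl (fst G X).left d₁ * PicF.pullCl (snd G X).left d₂ := hcd
  have key : d₂ = c := by
    have h := congrArg (PicF.pullCl (lift (toUnit X ≫ η[G]) (𝟙 X)).left) hcd'
    rw [pullCl_point _ hd₁, ← PicLoc.pullCl_comp, ← Over.comp_left] at h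
    rw [← h, show lift (toUnit X ≫ η[G]) (𝟙 X) ≫ a.act = 𝟙 X from ?_, Over.id_left, PicLoc.pullCl_id]
    have h1 : lift (toUnit X ≫ η[G]) (𝟙 X) = lift (toUnit X) (𝟙 X) ≫ (η[G] ▷ X) := by simp
    rw [h1, Category.assoc, a.one_act]
    simp
  exact ⟨d₁, hd₁, key ▸ hcd'⟩

/-- Invertible classes are invariant under translations. -/
theorem pullCl_translate (hX : Pi1.IsNormalScheme X.left) (a : AlgGrp.Action G X) {c : PicF.Cl X.left}
    (hc : PicF.IsInvertibleCl c) (g : PT ⟶ G) :
    PicF.pullCl (lift (toUnit X ≫ g) (𝟙 X) ≫ a.act).left c = c := by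
  obtain ⟨d₁, hd₁, h⟩ := exists_act_eq hX a hc
  rw [Over.comp_left, PicLoc.pullCl_comp, h, pullCl_point g hd₁]

end Groth.Agent.AGFLib.LinPicInv
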