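import Groth.Agent.AGFLib.TorsionHopf
import Groth.Agent.AGFLib.Rational
import Groth.Agent.ConsPropLib.FibreLocFreeRank
import Groth.Agent.H23.PicMul
import Groth.Agent.PicClLib.Basic
import Groth.Agent.H23.DegDet
import Groth.Agent.ProjUPX.Affine
import Groth.Agent.AGFLib.LinPicInv

/-!
The Picard set of a connected linear group over an algebraically closed field is finite.
-/

set_option autoImplicit false
set_option backward.isDefEq.respectTransparency.types false
set_option linter.style.haveILetI false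
set_option maxHeartbeats 1000000

universe u

open CategoryTheory MonoidalCategory CartesianMonoidalCategory AlgebraicGeometry

noncomputable section

namespace Groth.Agent.AGFLib.LinPicFinite

open LocFactIdeal

/-- A rank one projective module over a domain is isomorphic to a locally principal ideal. -/
theorem exists_lp_equiv {R : Type u} [CommRing R] [IsDomain R] (M : Type u) [AddCommGroup M] [Module R M]
    [Module.Finite R M] [Module.Projective R M] (hr : ∀ Q, Module.rankAtStalk (R := R) M Q = 1) :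
    ∃ J : Ideal R, LP J ∧ Nonempty (M ≃ₗ[R] J) := by
  have hgen : ∀ m : Ideal R, m.IsPrime → ∃ s : M, ∃ f ∉ m, ∀ x : M, ∃ c : R, f • x = c • s := fun m hm => by
    let L := Localization.AtPrime m
    let Mm := LocalizedModule m.primeCompl M
    haveI : Module.Free L Mm := Module.free_of_flat_of_isLocalRing
    have h1 : Module.finrank L Mm = 1 := hr ⟨m, hm⟩
    obtain ⟨b⟩ := Module.nonempty_linearEquiv_of_finrank_eq_one h1
    obtain ⟨⟨s, t⟩, hst⟩ := IsLocalizedModule.surj m.primeCompl (LocalizedModule.mkLinearMap m.primeCompl M) (b 1)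
    have hloc : ∀ x : M, ∃ g ∉ m, ∃ c : R, g • x = c • s := fun x => by
      let c₀ := b.symm (LocalizedModule.mkLinearMap m.primeCompl M x)
      obtain ⟨⟨c, v⟩, hcv⟩ := IsLocalization.surj m.primeCompl c₀
      have hcv' : (v : R) • c₀ = algebraMap R L c := by rw [Algebra.smul_def, mul_comm]; exact hcv
      have e : LocalizedModule.mkLinearMap m.primeCompl M (((v : R) * (t : R)) • x) =
          LocalizedModule.mkLinearMap m.primeCompl M (c • s) := by
        rw [map_smul, map_smul, ← hst, mul_comm, mul_smul, Submonoid.smul_def]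
        have e1 : (v : R) • LocalizedModule.mkLinearMap m.primeCompl M x = c • b 1 := by
          rw [show LocalizedModule.mkLinearMap m.primeCompl M x = b c₀ from (b.apply_symm_apply _).symm,
            ← algebraMap_smul L (v : R) (b c₀), ← map_smul, algebraMap_smul, hcv', ← algebraMap_smul L c (b 1),
            ← map_smul, smul_eq_mul, mul_one]
        rw [e1, smul_comm]
      obtain ⟨w, hw⟩ := IsLocalizedModule.exists_of_eq (S := m.primeCompl) e
      refine ⟨(w : R) * ((v : R) * (t : R)), fun h => ?_, (w : R) * c, ?_⟩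
      · rcases hm.mem_or_mem h with h | h
        · exact w.2 h
        · exact (hm.mem_or_mem h).elim v.2 t.2
      · rw [mul_smul (w : R), ← Submonoid.smul_def, hw, Submonoid.smul_def, ← mul_smul]
    obtain ⟨S, hS⟩ := Module.Finite.fg_top (R := R) (M := M)
    choose g hg c hgc using fun x : S => hloc x.1
    refine ⟨s, ∏ x : S, g x, fun h => ?_, fun x => ?_⟩
    · obtain ⟨x, -, hx⟩ := hm.prod_mem_iff.1 h
      exact hg x hx
    · have hx : x ∈ Submodule.span R (S : Set M) := hS ▸ Submodule.mem_top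
      induction hx using Submodule.span_induction with
      | mem y hy =>
        obtain ⟨d, hd⟩ := Finset.dvd_prod_of_mem g (Finset.mem_univ (⟨y, hy⟩ : S))
        exact ⟨d * c ⟨y, hy⟩, by rw [hd, mul_comm, mul_smul, hgc ⟨y, hy⟩, ← mul_smul]⟩
      | zero => exact ⟨0, by simp⟩
      | add y z _ _ hy hz =>
        obtain ⟨p, hp⟩ := hy; obtain ⟨q, hq⟩ := hz
        exact ⟨p + q, by rw [smul_add, hp, hq, add_smul]⟩
      | smul r y _ hy =>
        obtain ⟨p, hp⟩ := hy
        exact ⟨r * p, by rw [smul_comm, hp, mul_smul]⟩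
  haveI : Nontrivial M := Module.nontrivial_of_rankAtStalk_pos (R := R)
    (Pi.lt_def.2 ⟨fun _ => Nat.zero_le _, ⟨⊥, Ideal.isPrime_bot⟩, by rw [hr]; exact one_pos⟩)
  obtain ⟨x₀, hx₀⟩ := exists_ne (0 : M)
  obtain ⟨φ, hφ⟩ : ∃ φ : Module.Dual R M, φ x₀ ≠ 0 := by
    by_contra h
    push Not at h
    exact hx₀ ((Module.forall_dual_apply_eq_zero_iff R x₀).1 h)
  let J : Ideal R := LinearMap.range φ
  have hinj : Function.Injective φ := by
    rw [injective_iff_map_eq_zero]
    intro x hx
    obtain ⟨s, f, hf, h⟩ := hgen ⊥ Ideal.isPrime_bot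
    obtain ⟨a, ha⟩ := h x
    obtain ⟨a₀, ha₀⟩ := h x₀
    have hf0 : f ≠ 0 := fun h0 => hf (by rw [h0]; exact zero_mem _)
    have e0 : f * φ x₀ = a₀ * φ s := by simpa using congrArg φ ha₀
    have e : a * φ s = 0 := by simpa [hx] using (congrArg φ ha).symm
    have hs : φ s ≠ 0 := fun h0 => mul_ne_zero hf0 hφ (by rw [e0, h0, mul_zero])
    rw [(mul_eq_zero.1 e).resolve_right hs, zero_smul] at ha
    refine (Module.forall_dual_apply_eq_zero_iff R x).1 fun ψ => ?_
    have := congrArg ψ ha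
    rw [map_smul, map_zero, smul_eq_mul] at this
    exact (mul_eq_zero.1 this).resolve_left hf0
  refine ⟨J, ⟨fun h => hφ ?_, fun m hm => ?_⟩, ⟨LinearEquiv.ofInjective φ hinj⟩⟩
  · have : φ x₀ ∈ J := ⟨x₀, rfl⟩
    rwa [h, Ideal.mem_bot] at this
  · obtain ⟨s, f, hf, h⟩ := hgen m hm
    refine ⟨φ s, ⟨s, rfl⟩, f, hf, ?_⟩
    rintro _ ⟨x, rfl⟩
    obtain ⟨c, hc⟩ := h x
    exact ⟨c, by rw [← smul_eq_mul f, ← map_smul, hc, map_smul, smul_eq_mul, mul_comm]⟩

/-- Ideals in one class are isomorphic. -/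
theorem nonempty_equiv_of_sim {R : Type u} [CommRing R] [IsDomain R] {I J : Ideal R} (h : Sim I J) :
    Nonempty (I ≃ₗ[R] J) := by
  obtain ⟨a, b, ha, hb, e⟩ := h
  have h1 : ∀ x : I, ∃ y : J, b * (y : R) = a * x := fun x => by
    obtain ⟨y, hy, h⟩ := Ideal.mem_span_singleton_mul.1 (e ▸ Ideal.mul_mem_mul (Ideal.mem_span_singleton_self a) x.2)
    exact ⟨⟨y, hy⟩, h⟩
  choose F hF using h1
  let f : I →ₗ[R] J :=
    { toFun := F
      map_add' := fun x y => Subtype.ext (mul_left_cancel₀ hb (by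
        rw [Submodule.coe_add, mul_add b, hF, hF, hF, ← mul_add]; rfl))
      map_smul' := fun r x => Subtype.ext (mul_left_cancel₀ hb (by
        rw [RingHom.id_apply, Submodule.coe_smul, smul_eq_mul, mul_left_comm b, hF, hF, mul_left_comm r]; rfl)) }
  refine ⟨LinearEquiv.ofBijective f ⟨fun x y h => Subtype.ext (mul_left_cancel₀ ha ?_), fun y => ?_⟩⟩
  · rw [← hF x, ← hF y]; exact congrArg (fun z : J => b * (z : R)) h
  · obtain ⟨x, hx, h⟩ := Ideal.mem_span_singleton_mul.1 (e.symm ▸ Ideal.mul_mem_mul (Ideal.mem_span_singleton_self b) y.2)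
    exact ⟨⟨x, hx⟩, Subtype.ext (mul_left_cancel₀ hb ((hF ⟨x, hx⟩).trans h))⟩

/-- An invertible module on the spectrum of a domain is the sheaf of a locally principal ideal. -/
theorem exists_lp_tilde {R : CommRingCat.{u}} [IsDomain R] (L : (Spec R).Modules) (hL : PicF.IsInvertible L) :
    ∃ J : Ideal R, LP J ∧ Nonempty (L ≅ tilde (ModuleCat.of R J)) := by
  obtain ⟨M, ⟨e⟩⟩ := QCoh.isQCoh_spec_iff.1 (ProjUPX.isQCoh_of_isInvertible hL)
  obtain ⟨hfin, hproj, hr⟩ := (ConsPropLib.isFinLocFreeOfRank_tilde_iff M 1).1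
    ((ConsPropLib.isFinLocFreeOfRank_iso e).2 (InvEnd.isFinLocFreeOfRank_one hL))
  haveI := hfin
  haveI := hproj
  obtain ⟨J, hJ, ⟨l⟩⟩ := exists_lp_equiv M hr
  exact ⟨J, hJ, ⟨e.symm ≪≫ (tilde.functor R).mapIso l.toModuleIso⟩⟩

variable {k : Type u} [Field k] [IsAlgClosed k]

/-- The Picard set of a connected linear group is finite. -/
theorem finite_picSet (G : Over (Spec (CommRingCat.of k))) [GrpObj G] [IsAffine G.left] [Smooth G.hom]
    [ConnectedSpace G.left] : Finite (PicLoc.PicSet G.left) := by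
  classical
  haveI : IsIntegral G.left := GrpSchLib.Kunneth.isIntegral_grp G
  obtain ⟨A, _, _, ⟨eG⟩⟩ := GrpSchLib.AffineHopf.exists_hopf G
  let e : GrpSchLib.AffineHopf.sp k A ≅ G := (Grp.forget _).mapIso eG
  let i : Spec (CommRingCat.of A) ≅ G.left := (Over.forget _).mapIso e
  haveI : IsIso e.hom.left := ((Over.forget _).mapIso e).isIso_hom
  haveI : Nonempty (Spec (CommRingCat.of A)) := ⟨i.inv.base (Classical.arbitrary G.left)⟩
  haveI : IsIntegral (Spec (CommRingCat.of A)) := isIntegral_of_isOpenImmersion i.hom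
  haveI : IsDomain (CommRingCat.of A) :=
    MulEquiv.isDomain Γ(Spec (CommRingCat.of A), ⊤) (Scheme.ΓSpecIso (CommRingCat.of A)).commRingCatIsoToRingEquiv.symm.toMulEquiv
  haveI : IsDomain A := ‹IsDomain (CommRingCat.of A)›
  haveI : Smooth (GrpSchLib.AffineHopf.sp k A).hom := by
    rw [← Over.w e.hom]
    infer_instance
  haveI : Algebra.Smooth k A :=
    RingHom.smooth_algebraMap.mp ((HasRingHomProperty.Spec_iff (P := @Smooth)).mp ‹Smooth (GrpSchLib.AffineHopf.sp k A).hom›)
  haveI : Algebra.FiniteType k A := inferInstance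
  haveI : IsNoetherianRing A := Algebra.FiniteType.isNoetherianRing k A
  have hrat : RatOpen.Rat k A := Rational.rat_aux A _ A (AlgHom.id k A) Function.surjective_id rfl
    fun x hx => IsIdempotentElem.iff_eq_zero_or_one.1 hx
  obtain ⟨S, hS, hall⟩ := TorsionHopf.exists_finite_classes hrat
  have key : ∀ c : PicLoc.PicSet G.left, ∃ J ∈ S, PicF.pullCl i.hom c.1 = PicF.cl (tilde (ModuleCat.of A J)) := by
    intro c
    obtain ⟨L, hLc, hL⟩ := PicLoc.isInvertibleCl_pullCl i.hom c.2
    obtain ⟨J, hJ, ⟨a⟩⟩ := exists_lp_tilde (R := CommRingCat.of A) L hL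
    obtain ⟨J', hJ', hs⟩ := hall J hJ
    obtain ⟨l⟩ := nonempty_equiv_of_sim hs
    exact ⟨J', hJ', hLc ▸ H23.PicMul.cl_eq_iff.2 ⟨a ≪≫ (tilde.functor (CommRingCat.of A)).mapIso l.toModuleIso⟩⟩
  choose F hF hFc using key
  haveI := hS.to_subtype
  refine Finite.of_injective (fun c => (⟨F c, hF c⟩ : S)) fun c d h => Subtype.ext ?_
  have h' : F c = F d := congrArg Subtype.val h
  have h2 : PicF.pullCl i.hom c.1 = PicF.pullCl i.hom d.1 := by rw [hFc, hFc, h']
  have h3 := congrArg (PicF.pullCl i.inv) h2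
  rwa [← PicLoc.pullCl_comp, ← PicLoc.pullCl_comp, i.inv_hom_id, PicLoc.pullCl_id, PicLoc.pullCl_id] at h3

end Groth.Agent.AGFLib.LinPicFinite
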