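import Mathlib.RingTheory.UniqueFactorizationDomain.Basic
import Mathlib.RingTheory.Localization.AtPrime.Basic
import Mathlib.RingTheory.Localization.Away.Basic
import Mathlib.RingTheory.Localization.Submodule
import Mathlib.RingTheory.Noetherian.Basic
import Mathlib.RingTheory.Nakayama
import Mathlib.RingTheory.Ideal.MinimalPrime.Localization
import Mathlib.RingTheory.Ideal.Colon
import Mathlib.RingTheory.Ideal.AssociatedPrime.Finiteness
import Groth.Agent.ExtReesLib.Ufd

/-!
Locally principal ideals of a Noetherian domain with factorial local rings: they are products of primes of height one,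
and up to principal ideals only the primes through a complement of a factorial open are needed.
-/

set_option autoImplicit false
set_option linter.style.haveILetI false

universe u

noncomputable section

namespace Groth.Agent.AGFLib.LocFactIdeal

variable {A : Type u} [CommRing A]

/-- A nonzero locally principal ideal. -/
def LP (J : Ideal A) : Prop :=
  J ≠ ⊥ ∧ ∀ m : Ideal A, m.IsPrime → ∃ s ∈ J, ∃ f ∉ m, ∀ x ∈ J, s ∣ f * x

/-- Equality up to nonzero principal factors. -/
def Sim (I J : Ideal A) : Prop := ∃ a b : A, a ≠ 0 ∧ b ≠ 0 ∧ Ideal.span {a} * I = Ideal.span {b} * J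

theorem lp_span {a : A} (ha : a ≠ 0) : LP (Ideal.span {a}) :=
  ⟨by simpa using ha, fun m hm => ⟨a, Ideal.mem_span_singleton_self a, 1, fun h => hm.ne_top ((Ideal.eq_top_iff_one m).2 h),
    fun x hx => by rw [one_mul]; exact Ideal.mem_span_singleton.1 hx⟩⟩

theorem Sim.refl (I : Ideal A) [Nontrivial A] : Sim I I := ⟨1, 1, one_ne_zero, one_ne_zero, rfl⟩

theorem Sim.symm {I J : Ideal A} (h : Sim I J) : Sim J I := by
  obtain ⟨a, b, ha, hb, e⟩ := h
  exact ⟨b, a, hb, ha, e.symm⟩

variable [IsDomain A]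

theorem Sim.trans {I J K : Ideal A} (h : Sim I J) (h' : Sim J K) : Sim I K := by
  obtain ⟨a, b, ha, hb, e⟩ := h
  obtain ⟨c, d, hc, hd, e'⟩ := h'
  refine ⟨c * a, b * d, mul_ne_zero hc ha, mul_ne_zero hb hd, ?_⟩
  rw [← Ideal.span_singleton_mul_span_singleton, ← Ideal.span_singleton_mul_span_singleton, mul_assoc, e,
    mul_left_comm, e', ← mul_assoc]

theorem Sim.mul {I J K L : Ideal A} (h : Sim I J) (h' : Sim K L) : Sim (I * K) (J * L) := by
  obtain ⟨a, b, ha, hb, e⟩ := h
  obtain ⟨c, d, hc, hd, e'⟩ := h'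
  refine ⟨a * c, b * d, mul_ne_zero ha hc, mul_ne_zero hb hd, ?_⟩
  rw [← Ideal.span_singleton_mul_span_singleton, ← Ideal.span_singleton_mul_span_singleton, mul_mul_mul_comm, e, e',
    mul_mul_mul_comm]

theorem Sim.pow {I J : Ideal A} (h : Sim I J) : ∀ n : ℕ, Sim (I ^ n) (J ^ n)
  | 0 => by simpa using Sim.refl (1 : Ideal A)
  | n + 1 => by rw [pow_succ, pow_succ]; exact (h.pow n).mul h

theorem sim_span {a : A} (ha : a ≠ 0) : Sim (Ideal.span {a}) 1 :=
  ⟨1, a, one_ne_zero, ha, by rw [Ideal.span_singleton_one, Ideal.top_mul, mul_one]⟩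

theorem lp_mul {I J : Ideal A} (hI : LP I) (hJ : LP J) : LP (I * J) := by
  refine ⟨mul_ne_zero hI.1 hJ.1, fun m hm => ?_⟩
  obtain ⟨s, hs, f, hf, hfs⟩ := hI.2 m hm
  obtain ⟨t, ht, g, hg, hgt⟩ := hJ.2 m hm
  refine ⟨s * t, Ideal.mul_mem_mul hs ht, f * g, fun h => (hm.mem_or_mem h).elim hf hg, fun x hx => ?_⟩
  induction hx using Submodule.mul_induction_on' with
  | mem_mul_mem a ha b hb =>
    rw [show f * g * (a * b) = (f * a) * (g * b) by ring]
    exact mul_dvd_mul (hfs a ha) (hgt b hb)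
  | add a _ b _ ha hb => rw [mul_add]; exact dvd_add ha hb

theorem lp_one : LP (1 : Ideal A) := by
  rw [Ideal.one_eq_top, ← Ideal.span_singleton_one]
  exact lp_span one_ne_zero

theorem lp_pow {I : Ideal A} (hI : LP I) : ∀ n : ℕ, LP (I ^ n)
  | 0 => by rw [pow_zero]; exact lp_one
  | n + 1 => by rw [pow_succ]; exact lp_mul (lp_pow hI n) hI

theorem span_mul_cancel {a : A} (ha : a ≠ 0) {I J : Ideal A} (h : Ideal.span {a} * I = Ideal.span {a} * J) : I = J :=
  le_antisymm ((Ideal.span_singleton_mul_right_mono ha).1 h.le) ((Ideal.span_singleton_mul_right_mono ha).1 h.ge)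

omit [IsDomain A] in
theorem mem_of_forall_prime {I : Ideal A} {x : A} (h : ∀ m : Ideal A, m.IsPrime → ∃ f ∉ m, f * x ∈ I) : x ∈ I := by
  by_contra hx
  have hne : (I.colon {x}) ≠ ⊤ := fun ht => hx (by
    have : (1 : A) ∈ I.colon {x} := ht ▸ Submodule.mem_top
    simpa [Submodule.mem_colon_singleton] using this)
  obtain ⟨m, hm, hle⟩ := Ideal.exists_le_maximal _ hne
  obtain ⟨f, hf, hfx⟩ := h m hm.isPrime
  exact hf (hle (by simpa [Submodule.mem_colon_singleton, smul_eq_mul] using hfx))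

/-- A locally principal ideal has an inverse up to a principal ideal. -/
theorem exists_inverse {p : Ideal A} (hp : LP p) {a : A} (ha : a ∈ p) (ha0 : a ≠ 0) :
    ∃ q : Ideal A, LP q ∧ p * q = Ideal.span {a} := by
  let q : Ideal A := (Ideal.span {a}).colon (p : Set A)
  have hmem : ∀ x, x ∈ q ↔ ∀ y ∈ p, x * y ∈ Ideal.span {a} := fun x => Submodule.mem_colon
  have key : ∀ m : Ideal A, m.IsPrime → ∃ s ∈ p, ∃ f ∉ m, ∃ w ∈ q, s * w = f * a ∧ ∀ y ∈ q, w ∣ f * y := fun m hm => by
    obtain ⟨s, hs, f, hf, hfs⟩ := hp.2 m hm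
    have hf0 : f ≠ 0 := fun h => hf (h ▸ m.zero_mem)
    obtain ⟨w, hw⟩ := hfs a ha
    have hs0 : s ≠ 0 := fun h => mul_ne_zero hf0 ha0 (by rw [hw, h, zero_mul])
    have hwq : w ∈ q := (hmem w).2 fun x hx => by
      obtain ⟨c, hc⟩ := hfs x hx
      refine Ideal.mem_span_singleton.2 ⟨c, mul_left_cancel₀ hf0 ?_⟩
      calc f * (w * x) = w * (f * x) := by ring
        _ = (s * w) * c := by rw [hc]; ring
        _ = f * (a * c) := by rw [← hw]; ring
    refine ⟨s, hs, f, hf, w, hwq, hw.symm, fun y hy => ?_⟩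
    obtain ⟨d, hd⟩ := Ideal.mem_span_singleton.1 ((hmem y).1 hy s hs)
    refine ⟨d, mul_left_cancel₀ hs0 ?_⟩
    calc s * (f * y) = f * (y * s) := by ring
      _ = (f * a) * d := by rw [hd]; ring
      _ = s * (w * d) := by rw [hw]; ring
  refine ⟨q, ⟨fun h => ?_, fun m hm => ?_⟩, le_antisymm (Ideal.mul_le.2 fun x hx y hy => ?_) ?_⟩
  · have : a ∈ q := (hmem a).2 fun y _ => Ideal.mem_span_singleton.2 (dvd_mul_right a y)
    exact ha0 (by rwa [h, Ideal.mem_bot] at this)
  · obtain ⟨s, _, f, hf, w, hw, _, hdvd⟩ := key m hm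
    exact ⟨w, hw, f, hf, hdvd⟩
  · rw [mul_comm]; exact (hmem y).1 hy x hx
  · rw [Ideal.span_singleton_le_iff_mem]
    refine mem_of_forall_prime fun m hm => ?_
    obtain ⟨s, hs, f, hf, w, hw, he, _⟩ := key m hm
    exact ⟨f, hf, he ▸ Ideal.mul_mem_mul hs hw⟩

theorem lp_mul_cancel {p I J : Ideal A} (hp : LP p) (h : p * I = p * J) : I = J := by
  obtain ⟨a, ha, ha0⟩ := Submodule.exists_mem_ne_zero_of_ne_bot hp.1
  obtain ⟨q, -, hq⟩ := exists_inverse hp ha ha0
  refine span_mul_cancel ha0 ?_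
  rw [← hq, mul_comm p q, mul_assoc, mul_assoc, h]

variable [IsNoetherianRing A]

/-- Divisibility by a locally principal ideal containing the given one. -/
theorem exists_factor {p I : Ideal A} (hp : LP p) (hI : LP I) (hle : I ≤ p) :
    ∃ I' : Ideal A, LP I' ∧ p * I' = I ∧ I ≤ I' ∧ (p.IsPrime → I ≠ I') := by
  obtain ⟨a, ha, ha0⟩ := Submodule.exists_mem_ne_zero_of_ne_bot hp.1
  obtain ⟨q, hq, hpq⟩ := exists_inverse hp ha ha0
  have hIq : I * q ≤ Ideal.span {a} := hpq ▸ Ideal.mul_mono_left hle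
  let I' : Ideal A := (I * q).colon (Ideal.span {a} : Set A)
  have hmem : ∀ x, x ∈ I' ↔ x * a ∈ I * q := fun x => by
    refine ⟨fun h => Submodule.mem_colon.1 h a (Ideal.mem_span_singleton_self a), fun h => Submodule.mem_colon.2 fun y hy => ?_⟩
    obtain ⟨c, rfl⟩ := Ideal.mem_span_singleton.1 hy
    rw [smul_eq_mul, ← mul_assoc]
    exact Ideal.mul_mem_right _ _ h
  have he : Ideal.span {a} * I' = I * q := by
    refine le_antisymm (Ideal.span_singleton_mul_le_iff.2 fun x hx => mul_comm x a ▸ (hmem x).1 hx) fun z hz => ?_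
    obtain ⟨c, rfl⟩ := Ideal.mem_span_singleton.1 (hIq hz)
    exact Ideal.mem_span_singleton_mul.2 ⟨c, (hmem c).2 (mul_comm a c ▸ hz), rfl⟩
  have hpI : p * I' = I := span_mul_cancel ha0 (by
    calc Ideal.span {a} * (p * I') = p * (Ideal.span {a} * I') := by ac_rfl
      _ = (p * q) * I := by rw [he]; ac_rfl
      _ = Ideal.span {a} * I := by rw [hpq])
  refine ⟨I', ⟨fun h => hI.1 (by rw [← hpI, h, Ideal.mul_bot]), fun m hm => ?_⟩, hpI,
    hpI ▸ Ideal.mul_le_right, fun hpr h => ?_⟩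
  · obtain ⟨s, hs, f, hf, hfs⟩ := (lp_mul hI hq).2 m hm
    rw [← he] at hs
    obtain ⟨s', hs', rfl⟩ := Ideal.mem_span_singleton_mul.1 hs
    refine ⟨s', hs', f, hf, fun x hx => ?_⟩
    have := hfs (a * x) (mul_comm x a ▸ (hmem x).1 hx)
    rw [mul_left_comm] at this
    exact (mul_dvd_mul_iff_left ha0).1 this
  · have hle' : I ≤ p • I := by rw [smul_eq_mul]; conv_lhs => rw [← hpI, ← h]
    obtain ⟨r, hr, hr0⟩ := Submodule.exists_sub_one_mem_and_smul_eq_zero_of_fg_of_le_smul p I (IsNoetherian.noetherian I) hle'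
    obtain ⟨x, hx, hx0⟩ := Submodule.exists_mem_ne_zero_of_ne_bot hI.1
    have : r = 0 := (mul_eq_zero.1 (hr0 x hx)).resolve_right hx0
    rw [this, zero_sub, neg_mem_iff] at hr
    exact hpr.ne_top ((Ideal.eq_top_iff_one p).2 hr)

variable (hloc : ∀ (m : Ideal A) [m.IsMaximal], UniqueFactorizationMonoid (Localization.AtPrime m))

include hloc in
/-- A minimal prime of a locally principal ideal is locally principal and has height one. -/
theorem minimal_prime {I p : Ideal A} (hI : LP I) (hp : p ∈ I.minimalPrimes) :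
    LP p ∧ ∀ q : Ideal A, q.IsPrime → q ≠ ⊥ → q ≤ p → q = p := by
  haveI hpp : p.IsPrime := hp.1.1
  have key : ∀ (m : Ideal A) [m.IsMaximal], p ≤ m → ∃ π : Localization.AtPrime m,
      p.map (algebraMap A (Localization.AtPrime m)) = Ideal.span {π} ∧
      ∀ q : Ideal A, q.IsPrime → q ≠ ⊥ → q ≤ p → q = p := by
    intro m _ hpm
    set L := Localization.AtPrime m
    haveI : UniqueFactorizationMonoid L := hloc m
    have hinj : Function.Injective (algebraMap A L) :=
      IsLocalization.injective L (Ideal.primeCompl_le_nonZeroDivisors m)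
    obtain ⟨s, hs, f, hf, hfs⟩ := hI.2 m inferInstance
    have hf0 : f ≠ 0 := fun h => hf (h ▸ m.zero_mem)
    have hs0 : algebraMap A L s ≠ 0 := fun h => hI.1 ((Submodule.eq_bot_iff _).2 fun x hx => by
      obtain ⟨c, hc⟩ := hfs x hx
      rw [hinj (h.trans (map_zero _).symm), zero_mul] at hc
      exact (mul_eq_zero.1 hc).resolve_left hf0)
    set P := p.map (algebraMap A L)
    have hdis : Disjoint (m.primeCompl : Set A) p := Set.disjoint_left.2 fun x hx hxp => hx (hpm hxp)
    haveI hP : P.IsPrime := IsLocalization.isPrime_of_isPrime_disjoint m.primeCompl L p hpp hdis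
    have hPc : P.comap (algebraMap A L) = p := IsLocalization.under_map_of_isPrime_disjoint m.primeCompl L hpp hdis
    have hmem : algebraMap A L s ∈ P := Ideal.mem_map_of_mem _ (hp.1.2 hs)
    obtain ⟨π, hπP, hπ, hsπ⟩ : ∃ π, π ∈ P ∧ Prime π ∧ π ∣ algebraMap A L s := by
      obtain ⟨F, hF, u, hu⟩ := UniqueFactorizationMonoid.exists_prime_factors _ hs0
      obtain ⟨π, hπF, hπP⟩ : ∃ π ∈ F, π ∈ P := by
        rw [← hu] at hmem
        rcases hP.mem_or_mem hmem with h | h
        · exact (hP.multiset_prod_mem_iff_exists_mem F).1 h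
        · exact absurd (Ideal.eq_top_of_isUnit_mem _ h u.isUnit) hP.ne_top
      exact ⟨π, hπP, hF π hπF, hu ▸ (Multiset.dvd_prod hπF).mul_right _⟩
    haveI hπp : (Ideal.span {π}).IsPrime := (Ideal.span_singleton_prime hπ.ne_zero).2 hπ
    have hQ : (Ideal.span {π}).comap (algebraMap A L) = p := by
      have hle : (Ideal.span {π}).comap (algebraMap A L) ≤ p :=
        hPc ▸ Ideal.comap_mono ((Ideal.span_singleton_le_iff_mem _).2 hπP)
      refine le_antisymm hle (hp.2 ⟨Ideal.IsPrime.comap _, fun x hx => ?_⟩ hle)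
      obtain ⟨c, hc⟩ := hfs x hx
      have h1 : algebraMap A L f * algebraMap A L x ∈ Ideal.span {π} := by
        rw [← map_mul, hc, map_mul]
        exact Ideal.mul_mem_right _ _ (Ideal.mem_span_singleton.2 hsπ)
      exact (hπp.mem_or_mem h1).resolve_left fun h => hπp.ne_top
        (Ideal.eq_top_of_isUnit_mem _ h (IsLocalization.map_units L (⟨f, hf⟩ : m.primeCompl)))
    have hPπ : P = Ideal.span {π} :=
      (congrArg (Ideal.map (algebraMap A L)) hQ).symm.trans (IsLocalization.map_under m.primeCompl L _)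
    refine ⟨π, hPπ, fun q hq hq0 hqp => ?_⟩
    have hdq : Disjoint (m.primeCompl : Set A) q := hdis.mono_right hqp
    haveI hQp : (q.map (algebraMap A L)).IsPrime := IsLocalization.isPrime_of_isPrime_disjoint m.primeCompl L q hq hdq
    obtain ⟨x, hx, hx0⟩ := Submodule.exists_mem_ne_zero_of_ne_bot hq0
    obtain ⟨π', hπ'm, hπ'⟩ := hQp.exists_mem_prime_of_ne_bot fun h => hx0 (hinj (by
      rw [map_zero, ← Ideal.mem_bot, ← h]; exact Ideal.mem_map_of_mem _ hx))
    have hdvd : π ∣ π' := Ideal.mem_span_singleton.1 (hPπ ▸ Ideal.map_mono hqp hπ'm)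
    have hmem' : π ∈ q.map (algebraMap A L) :=
      Ideal.mem_of_dvd _ (hπ.irreducible.associated_of_dvd hπ'.irreducible hdvd).symm.dvd hπ'm
    rw [← IsLocalization.under_map_of_isPrime_disjoint m.primeCompl L hq hdq, ← hQ]
    refine le_antisymm (Ideal.comap_mono (hPπ ▸ Ideal.map_mono hqp)) (Ideal.comap_mono ?_)
    exact (Ideal.span_singleton_le_iff_mem _).2 hmem'
  obtain ⟨m₀, hm₀, hpm₀⟩ := Ideal.exists_le_maximal p hpp.ne_top
  obtain ⟨-, -, hmin⟩ := key m₀ hpm₀
  refine ⟨⟨fun h => hI.1 (le_bot_iff.1 (h ▸ hp.1.2)), fun m' hm' => ?_⟩, hmin⟩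
  obtain ⟨m, hm, hle⟩ := Ideal.exists_le_maximal m' hm'.ne_top
  suffices ∃ s ∈ p, ∃ f ∉ m, ∀ x ∈ p, s ∣ f * x by
    obtain ⟨s, hs, f, hf, h⟩ := this
    exact ⟨s, hs, f, fun h' => hf (hle h'), h⟩
  by_cases hpm : p ≤ m
  · obtain ⟨π, hπ, -⟩ := key m hpm
    obtain ⟨⟨⟨s, hs⟩, v⟩, hsv⟩ := (IsLocalization.mem_map_algebraMap_iff m.primeCompl (Localization.AtPrime m)).1
      (hπ ▸ Ideal.mem_span_singleton_self π : π ∈ p.map (algebraMap A (Localization.AtPrime m)))
    have hloc' : ∀ x ∈ p, ∃ g ∉ m, s ∣ g * x := fun x hx => by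
      obtain ⟨c, hc⟩ := Ideal.mem_span_singleton.1 (hπ ▸ Ideal.mem_map_of_mem _ hx)
      obtain ⟨⟨c', t⟩, hct⟩ := IsLocalization.surj m.primeCompl c
      have h1 : algebraMap A (Localization.AtPrime m) ((v : A) * (t : A) * x) =
          algebraMap A (Localization.AtPrime m) (s * c') := by
        rw [map_mul, map_mul, map_mul, ← hct, ← hsv, hc]
        ring
      exact ⟨v * t, fun h => (Ideal.IsPrime.mem_or_mem inferInstance h).elim v.2 t.2,
        ⟨c', IsLocalization.injective _ (Ideal.primeCompl_le_nonZeroDivisors m) h1⟩⟩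
    obtain ⟨S, hS⟩ := IsNoetherian.noetherian p
    choose g hg hgd using fun x : S => hloc' x.1 (hS ▸ Submodule.subset_span x.2)
    refine ⟨s, hs, ∏ x : S, g x, fun h => ?_, fun x hx => ?_⟩
    · obtain ⟨x, -, hx⟩ := (hm.isPrime.prod_mem_iff).1 h
      exact hg x hx
    · rw [← hS] at hx
      induction hx using Submodule.span_induction with
      | mem y hy => exact (hgd ⟨y, hy⟩).trans (mul_dvd_mul_right (Finset.dvd_prod_of_mem g (Finset.mem_univ _)) y)
      | zero => simp
      | add y z _ _ hy hz => rw [mul_add]; exact dvd_add hy hz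
      | smul c y _ hy => rw [smul_eq_mul, mul_left_comm]; exact hy.mul_left c
  · obtain ⟨f, hfp, hf⟩ := SetLike.not_le_iff_exists.1 hpm
    exact ⟨f, hfp, f, hf, fun x _ => dvd_mul_right f x⟩

include hloc in
theorem eq_minimal_of_mem {I p : Ideal A} (hI : LP I) (hp : p ∈ I.minimalPrimes) {f : A} (hf : f ≠ 0) (hfp : f ∈ p) :
    p ∈ (Ideal.span {f}).minimalPrimes := by
  haveI := hp.1.1
  obtain ⟨q, hq, hqp⟩ := Ideal.exists_minimalPrimes_le ((Ideal.span_singleton_le_iff_mem p).2 hfp)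
  have hq0 : q ≠ ⊥ := fun h => hf (by
    have := hq.1.2 (Ideal.mem_span_singleton_self f)
    rwa [h, Ideal.mem_bot] at this)
  exact ((minimal_prime hloc hI hp).2 q hq.1.1 hq0 hqp) ▸ hq

include hloc in
/-- Factorisation of locally principal ideals into minimal primes. -/
theorem induction_on {motive : Ideal A → Prop} (h1 : motive 1)
    (hmul : ∀ I J, LP I → LP J → motive I → motive J → motive (I * J))
    (hprime : ∀ p : Ideal A, p.IsPrime → LP p → (∀ q : Ideal A, q.IsPrime → q ≠ ⊥ → q ≤ p → q = p) → motive p)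
    (I : Ideal A) (hI : LP I) : motive I := by
  induction I using WellFoundedGT.induction with
  | _ I ih =>
  by_cases htop : I = ⊤
  · rw [htop, ← Ideal.one_eq_top]; exact h1
  obtain ⟨m, hm, hle⟩ := Ideal.exists_le_maximal I htop
  obtain ⟨p, hp, -⟩ := Ideal.exists_minimalPrimes_le hle
  obtain ⟨hlp, hmin⟩ := minimal_prime hloc hI hp
  obtain ⟨I', hI', he, hle', hne⟩ := exists_factor hlp hI hp.1.2
  rw [← he]
  exact hmul p I' hlp hI' (hprime p hp.1.1 hlp hmin) (ih I' (lt_of_le_of_ne hle' (hne hp.1.1)) hI')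

include hloc in
/-- Only the primes through `h` matter when `A` is factorial away from `h`. -/
theorem sim_induction {h : A} (hh : h ≠ 0) [IsDomain (Localization.Away h)] [UniqueFactorizationMonoid (Localization.Away h)]
    {motive : Ideal A → Prop} (h1 : motive 1)
    (hmul : ∀ I J, LP I → LP J → motive I → motive J → motive (I * J))
    (hinv : ∀ I J, LP I → LP J → Sim (I * J) 1 → motive I → motive J)
    (hprime : ∀ p ∈ (Ideal.span {h}).minimalPrimes, motive p)
    (I : Ideal A) (hI : LP I) : motive I := by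
  have hpow : ∀ (N : ℕ) (J : Ideal A), LP J → h ^ N ∈ J → motive J := by
    intro N J
    induction J using WellFoundedGT.induction with
    | _ J ih =>
    intro hJ hN
    by_cases htop : J = ⊤
    · rw [htop, ← Ideal.one_eq_top]; exact h1
    obtain ⟨m, hm, hle⟩ := Ideal.exists_le_maximal J htop
    obtain ⟨p, hp, -⟩ := Ideal.exists_minimalPrimes_le hle
    obtain ⟨hlp, -⟩ := minimal_prime hloc hJ hp
    obtain ⟨J', hJ', he, hle', hne⟩ := exists_factor hlp hJ hp.1.2
    rw [← he]
    exact hmul p J' hlp hJ' (hprime p (eq_minimal_of_mem hloc hJ hp hh (hp.1.1.mem_of_pow_mem N (hp.1.2 hN))))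
      (ih J' (lt_of_le_of_ne hle' (hne hp.1.1)) hJ' (hle' hN))
  refine induction_on hloc h1 hmul (fun p hpr hlp hmin => ?_) I hI
  by_cases hhp : h ∈ p
  · obtain ⟨q, hq, hqp⟩ := Ideal.exists_minimalPrimes_le ((Ideal.span_singleton_le_iff_mem p).2 hhp)
    have hq0 : q ≠ ⊥ := fun h' => hh (by
      have := hq.1.2 (Ideal.mem_span_singleton_self h)
      rwa [h', Ideal.mem_bot] at this)
    exact hprime p (hmin q hq.1.1 hq0 hqp ▸ hq)
  set L := Localization.Away h
  have hinj : Function.Injective (algebraMap A L) :=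
    IsLocalization.injective L (powers_le_nonZeroDivisors_of_noZeroDivisors hh)
  have hdis : Disjoint (Submonoid.powers h : Set A) p := Set.disjoint_left.2 fun x ⟨n, hn⟩ hxp =>
    hhp (hpr.mem_of_pow_mem n (show h ^ n ∈ p by rw [show h ^ n = x from hn]; exact hxp))
  haveI hP : (p.map (algebraMap A L)).IsPrime := IsLocalization.isPrime_of_isPrime_disjoint _ L p hpr hdis
  obtain ⟨π, hπP, hπ⟩ := hP.exists_mem_prime_of_ne_bot fun h' => hlp.1 (by
    rwa [Ideal.map_eq_bot_iff_of_injective hinj] at h')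
  haveI hπp : (Ideal.span {π}).IsPrime := (Ideal.span_singleton_prime hπ.ne_zero).2 hπ
  have hPπ : p.map (algebraMap A L) = Ideal.span {π} := by
    have hle : (Ideal.span {π}).comap (algebraMap A L) ≤ p :=
      (Ideal.comap_mono ((Ideal.span_singleton_le_iff_mem _).2 hπP)).trans
        (IsLocalization.under_map_of_isPrime_disjoint _ L hpr hdis).le
    have hne : (Ideal.span {π}).comap (algebraMap A L) ≠ ⊥ := fun h' => hπ.ne_zero (by
      have h2 : ((Ideal.span {π}).comap (algebraMap A L)).map (algebraMap A L) = Ideal.span {π} :=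
        IsLocalization.map_under (Submonoid.powers h) L (Ideal.span {π})
      rwa [h', Ideal.map_bot, eq_comm, Ideal.span_singleton_eq_bot] at h2)
    conv_lhs => rw [← hmin _ (Ideal.IsPrime.comap _) hne hle]
    exact IsLocalization.map_under (Submonoid.powers h) L _
  obtain ⟨⟨⟨b, hb⟩, v⟩, hbv⟩ := (IsLocalization.mem_map_algebraMap_iff (Submonoid.powers h) L).1 hπP
  replace hbv : π * algebraMap A L (v : A) = algebraMap A L b := hbv
  have hb0 : b ≠ 0 := fun h' => (IsLocalization.map_units L v).ne_zero (by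
    rw [h', map_zero] at hbv
    exact (mul_eq_zero.1 hbv).resolve_left hπ.ne_zero)
  obtain ⟨J', hJ', he, -, -⟩ := exists_factor hlp (lp_span hb0) ((Ideal.span_singleton_le_iff_mem p).2 hb)
  have hloc' : ∀ x ∈ p, ∃ N : ℕ, b ∣ h ^ N * x := fun x hx => by
    obtain ⟨c, hc⟩ := Ideal.mem_span_singleton.1 (hPπ ▸ Ideal.mem_map_of_mem _ hx)
    obtain ⟨⟨c', t⟩, hct⟩ := IsLocalization.surj (Submonoid.powers h) c
    obtain ⟨i, hi⟩ := v.2
    obtain ⟨j, hj⟩ := t.2
    refine ⟨i + j, c', hinj ?_⟩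
    rw [pow_add, show h ^ i = (v : A) from hi, show h ^ j = (t : A) from hj, map_mul, map_mul, map_mul, ← hct, ← hbv, hc]
    ring
  obtain ⟨S, hS⟩ := IsNoetherian.noetherian p
  choose N hN using fun x : S => hloc' x.1 (hS ▸ Submodule.subset_span x.2)
  have hNb : ∀ x ∈ p, b ∣ h ^ (∑ y : S, N y) * x := fun x hx => by
    rw [← hS] at hx
    induction hx using Submodule.span_induction with
    | mem y hy =>
      exact (hN ⟨y, hy⟩).trans
        (mul_dvd_mul_right (pow_dvd_pow _ (Finset.single_le_sum (fun _ _ => Nat.zero_le _) (Finset.mem_univ _))) y)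
    | zero => simp
    | add y z _ _ hy hz => rw [mul_add]; exact dvd_add hy hz
    | smul c y _ hy => rw [smul_eq_mul, mul_left_comm]; exact hy.mul_left c
  have hmemJ : h ^ (∑ y : S, N y) ∈ J' := by
    obtain ⟨a, ha, ha0⟩ := Submodule.exists_mem_ne_zero_of_ne_bot hlp.1
    obtain ⟨q, -, hq⟩ := exists_inverse hlp ha ha0
    have h3 : Ideal.span {a} * Ideal.span {h ^ (∑ y : S, N y)} ≤ Ideal.span {a} * J' := by
      calc Ideal.span {a} * Ideal.span {h ^ (∑ y : S, N y)}
          = q * (Ideal.span {h ^ (∑ y : S, N y)} * p) := by rw [← hq]; ac_rfl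
        _ ≤ q * Ideal.span {b} := Ideal.mul_mono_right (Ideal.span_singleton_mul_le_iff.2 fun x hx =>
            Ideal.mem_span_singleton.2 (hNb x hx))
        _ = Ideal.span {a} * J' := by rw [← he, ← hq]; ac_rfl
    exact (Ideal.span_singleton_le_iff_mem _).1 ((Ideal.span_singleton_mul_right_mono ha0).1 h3)
  refine hinv J' p hJ' hlp ?_ (hpow _ J' hJ' hmemJ)
  rw [mul_comm, he]
  exact sim_span hb0

end Groth.Agent.AGFLib.LocFactIdeal
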