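import Groth.Agent.GrpSchLib.LineVec
import Groth.Agent.GrpSchLib.AffineHopfClosed
import Groth.Agent.GrpSchLib.CentralGm
import Groth.Agent.GrpSchLib.AntiAffineGMod
import Groth.Prelude.Def_W4bk4grossh111Obs

/-! Functions invariant under right translation by a subgroup. -/

set_option backward.isDefEq.respectTransparency false
set_option backward.isDefEq.respectTransparency.types false
set_option linter.style.haveILetI false

universe u

open CategoryTheory MonoidalCategory CartesianMonoidalCategory MonObj AlgebraicGeometry TensorProduct WithConv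

namespace Groth.Agent.AGFLib

open GrpSchLib GrpSchLib.Kunneth GrpSchLib.LineGroups GrpSchLib.AffineHopf GrpSchLib.LineVec ComodLib

variable {k : Type u} [Field k] {G H : Over (Spec (CommRingCat.of k))} [GrpObj G]

theorem comp_translate {T : Over (Spec (CommRingCat.of k))} (i : H ⟶ G) (m : T ⟶ G ⊗ H) :
    m ≫ (G ◁ i) ≫ μ[G] = (m ≫ fst G H) * (m ≫ snd G H ≫ i) := by
  have : m ≫ (G ◁ i) = lift (m ≫ fst G H) (m ≫ snd G H ≫ i) := by
    apply CartesianMonoidalCategory.hom_ext <;> simp
  rw [Hom.mul_def, ← this, Category.assoc]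

/-- Invariance under right translation, on points. -/
theorem isRTransInv_iff (i : H ⟶ G) (f : Fn G) :
    AGF.IsRTransInv i f ↔
      ∀ (T : Over (Spec (CommRingCat.of k))) (g : T ⟶ G) (h : T ⟶ H), ev (g * (h ≫ i)) f = ev g f := by
  constructor
  · intro hf T g h
    have hf' : ev ((G ◁ i) ≫ μ[G]) f = ev (fst G H) f := hf
    have h1 := congrArg (ev (lift g h)) hf'
    rwa [ev_ev, ev_ev, comp_translate, lift_fst, lift_snd_assoc] at h1
  · intro hall
    show ev ((G ◁ i) ≫ μ[G]) f = ev (fst G H) f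
    have h1 := hall _ (fst G H) (snd G H)
    rwa [← Category.id_comp (fst G H), ← Category.id_comp (snd G H), Category.assoc (𝟙 _) (snd G H) i,
      ← comp_translate, Category.id_comp, Category.id_comp] at h1

theorem ev_eq_ev_one {T : Over (Spec (CommRingCat.of k))} {g : T ⟶ G} {f : Fn G} (h : AGF.IsRTransInv g f) :
    ev g f = ev (1 : T ⟶ G) f := by
  have := (isRTransInv_iff g f).1 h T 1 (𝟙 T)
  rwa [Category.id_comp, _root_.one_mul] at this

/-- A group without characters has no non-trivial group-like function. -/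
theorem eq_one_of_isGroupLike {B : Type u} [CommRing B] [HopfAlgebra k B]
    (hχ : ∀ χ : sp k B ⟶ Red.Gm (Spec (CommRingCat.of k)), IsMonHom χ → χ = 1)
    {b : B} (hb : IsGroupLikeElem k b) : b = 1 := by
  obtain ⟨c, hc⟩ := CentralGm.exists_character hb
  obtain ⟨e⟩ := AffineHopf.nonempty_DS_iso k ℤ
  let j : sp k (MonoidAlgebra k (Multiplicative ℤ)) ≅ Red.Gm (Spec (CommRingCat.of k)) := (Grp.forget _).mapIso e
  haveI : IsMonHom j.hom := e.hom.hom.isMonHom_hom
  haveI : IsMonHom j.inv := e.inv.hom.isMonHom_hom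
  have h1 := hχ (spMap (c : MonoidAlgebra k (Multiplicative ℤ) →ₐ[k] B) ≫ j.hom) inferInstance
  have h2 : spMap (c : MonoidAlgebra k (Multiplicative ℤ) →ₐ[k] B) = 1 := by
    rw [← Category.comp_id (spMap _), ← j.hom_inv_id, ← Category.assoc, h1, MonObj.one_comp]
  have h3 : (1 : sp k B ⟶ sp k (MonoidAlgebra k (Multiplicative ℤ))) =
      spMap (1 : WithConv (MonoidAlgebra k (Multiplicative ℤ) →ₐ[k] B)).ofConv := by
    rw [spMap_eq_mapMulEquiv, toConv_ofConv, map_one]
  have h4 := DFunLike.congr_fun (spMap_injective (h2.trans h3)) CentralGm.tt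
  rw [← hc]
  refine h4.trans ?_
  show (1 : WithConv (MonoidAlgebra k (Multiplicative ℤ) →ₐ[k] B)) CentralGm.tt = 1
  rw [AlgHom.convOne_apply]
  simp [CentralGm.tt]

/-- Without characters the subgroup is the stabiliser of a vector of functions. -/
theorem exists_inv_vec {A : Type u} [CommRing A] [HopfAlgebra k A] [Algebra.FiniteType k A] {B : Type u} [CommRing B]
    [HopfAlgebra k B] (π : A →ₐc[k] B) (hπ : Function.Surjective π)
    (hg : ∀ b : B, IsGroupLikeElem k b → b = 1) :
    ∃ (X : Type) (_ : Fintype X) (y : X → A),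
      (∀ (T : Over (Spec (CommRingCat.of k))) (g : T ⟶ sp k A) (h : T ⟶ sp k B) (x : X),
        fn (g * (h ≫ spMap (π : A →ₐ[k] B))) (y x) = fn g (y x)) ∧
      ∀ (T : Over (Spec (CommRingCat.of k))) (g : T ⟶ sp k A), (∀ x, fn g (y x) = fn (1 : T ⟶ sp k A) (y x)) →
        ∃ h : T ⟶ sp k B, h ≫ spMap (π : A →ₐ[k] B) = g := by
  classical
  obtain ⟨d, e, M, hM, hblock, hkill⟩ := exists_block_matrix π hπ
  let ι₀ : Fin d → Fin d ⊕ Fin e := Sum.inl
  let M₁ := powMatrix M d
  have hM₁ : IsComodMatrix k M₁ := hM.powMatrix d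
  let v₁ := minorVec k ι₀
  have hv₁ : v₁ ι₀ = 1 := minorVec_self Sum.inl_injective
  obtain ⟨χ, hχl, heig⟩ := orbit_block hM π hblock
  refine ⟨Fin d → Fin d ⊕ Fin e, inferInstance, fun x => orbit k M₁ v₁ x, fun T g h x => ?_, fun T g hfix => ?_⟩
  · have hy : ∀ s, fn (h ≫ spMap (π : A →ₐ[k] B)) (orbit k M₁ v₁ s) = fn (1 : T ⟶ sp k A) (orbit k M₁ v₁ s) := by
      intro s
      rw [fn_one_orbit hM₁, ← aff_fn h, Category.assoc, spMap_comp, fn_aff]
      show fn h (π (orbit k M₁ v₁ s)) = _
      rw [heig, hg χ hχl, map_smul, map_one, Algebra.smul_def, _root_.mul_one]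
    rw [fn_mul_orbit hM₁]
    conv_rhs => rw [← _root_.mul_one g, fn_mul_orbit hM₁]
    exact Finset.sum_congr rfl fun s _ => by rw [hy]
  · have hy : ∀ x, fn g (orbit k M₁ v₁ x) = algebraMap k _ (v₁ x) := fun x => by
      rw [hfix x, fn_one_orbit hM₁]
    have hker := hkill (Fn T) (fn g) fun r m => eq_zero_of_minors ((Matrix.of M).map (fn g)) 1 isUnit_one
      (fun i => (map_orbit_minorVec M (fn g) i).symm.trans
        ((hy i).trans ((Algebra.smul_def _ _).trans (_root_.mul_one _)).symm)) r m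
    let f : B →ₐ[k] Fn T := AlgHom.liftOfSurjective (π : A →ₐ[k] B) hπ (fn g) fun a ha => hker a ha
    refine ⟨aff T ≫ spMap f, fn_injective ?_⟩
    rw [Category.assoc, spMap_comp, fn_aff]
    exact AlgHom.liftOfSurjective_comp _ _ _ _

end Groth.Agent.AGFLib
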