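import Groth.Agent.AGFLib.ExtendCor
import Groth.Agent.AGFLib.FiniteIndex
import Groth.Agent.SolvGrp.Perfect2
import Groth.Agent.SolvGrp.MaxUnip
import Groth.Agent.SolvGrp.PerfectRad
import Groth.Agent.SolvGrp.OverClosed
import Groth.Agent.SolvGrp.Quot
import Groth.Agent.SolvGrp.GrothMax
import Groth.Agent.SolvGrp.Unip
import Groth.Agent.HMTorus.OneParam
import Groth.Agent.S8092
import Groth.Agent.S11200

/-! A subgroup is observable exactly when its radical is. -/

set_option backward.isDefEq.respectTransparency false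
set_option backward.isDefEq.respectTransparency.types false
set_option linter.style.haveILetI false

universe u

open CategoryTheory MonoidalCategory CartesianMonoidalCategory MonObj AlgebraicGeometry TensorProduct

namespace Groth.Agent.AGFLib

open GrpSchLib GrpSchLib.Kunneth GrpSchLib.LineGroups GrpSchLib.LineVec

variable {k : Type u} [Field k] [IsAlgClosed k] {G H : Over (Spec (CommRingCat.of k))} [GrpObj G] [GrpObj H]
  [IsAffine G.left] [Smooth G.hom]

omit [IsAlgClosed k] [IsAffine G.left] [Smooth G.hom] in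
theorem val_one_lT (y : VecGrp.pt k k ⟶ G) (f : Fn G) : val (1 : VecGrp.pt k k ⟶ G) (lT y f) = val y f := by
  apply algebraMap_fn_injective
  rw [← ev_eq_algebraMap, ← ev_eq_algebraMap, ev_lT, ← hom_pt_ext (𝟙 _), Category.id_comp, _root_.mul_one]

omit [IsAlgClosed k] [IsAffine G.left] [Smooth G.hom] in
theorem val_rT (y z : VecGrp.pt k k ⟶ G) (f : Fn G) : val y (rT z f) = val (y * z) f := by
  apply algebraMap_fn_injective
  rw [← ev_eq_algebraMap, ← ev_eq_algebraMap, ev_rT, ← hom_pt_ext (𝟙 _), Category.id_comp]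

theorem exists_val_ne_zero {f : Fn G} (hf : f ≠ 0) : ∃ y : VecGrp.pt k k ⟶ G, val y f ≠ 0 := by
  haveI : IsReduced G.left := isReduced_of_smooth_field G.hom
  by_contra h
  push Not at h
  exact hf (eq_of_pts fun y => by rw [ev_eq_algebraMap, h y, map_zero, map_zero])

/-- A subgroup is observable if the inverses of its semi-invariant weights are semi-invariant weights. -/
theorem isObservableIn_of_semi_inverse [Smooth H.hom] (i : H ⟶ G) [IsMonHom i] [IsClosedImmersion i.left]
    (hinv : ∀ (δ : (VecGrp.pt k k ⟶ H) → k) (f : Fn G), f ≠ 0 → (∀ x, rT (x ≫ i) f = δ x • f) →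
      ∃ c : Fn G, c ≠ 0 ∧ ∀ x, δ x • rT (x ≫ i) c = c) :
    AGF.IsObservableIn k i := by
  haveI : IsAffine H.left := isAffine_of_isAffineHom i.left
  haveI : IsReduced G.left := isReduced_of_smooth_field G.hom
  obtain ⟨A, _, _, ⟨eG⟩⟩ := AffineHopf.exists_hopf G
  obtain ⟨B, _, _, ⟨eN⟩⟩ := AffineHopf.exists_hopf H
  let a : AffineHopf.sp k A ≅ G := (Grp.forget _).mapIso eG
  let b : AffineHopf.sp k B ≅ H := (Grp.forget _).mapIso eN
  haveI : IsMonHom a.hom := eG.hom.hom.isMonHom_hom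
  haveI : IsMonHom a.inv := eG.inv.hom.isMonHom_hom
  haveI : IsMonHom b.hom := eN.hom.hom.isMonHom_hom
  haveI : IsMonHom b.inv := eN.inv.hom.isMonHom_hom
  haveI : IsIso a.inv.left := ((Over.forget _).mapIso a).isIso_inv
  haveI : IsIso b.hom.left := ((Over.forget _).mapIso b).isIso_hom
  haveI : Algebra.FiniteType k A := RingHom.finiteType_algebraMap.mp
    ((HasRingHomProperty.Spec_iff (P := @LocallyOfFiniteType)).mp (by
      show LocallyOfFiniteType (AffineHopf.sp k A).hom
      rw [← Over.w a.hom]; infer_instance))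
  obtain ⟨π, hπ⟩ := AffineHopf.exists_bialgHom (b.hom ≫ i ≫ a.inv)
  have hsurj : Function.Surjective π := AffineHopf.surjective_of_isClosedImmersion (π : A →ₐ[k] B) (by
    rw [← hπ, Over.comp_left, Over.comp_left]; infer_instance)
  obtain ⟨n, y, j₀, χ, -, -, hone, hsemi, hstab⟩ := exists_char_vec π hsurj
  let w : Fin n → Fn G := fun x => ev a.inv (toFn (k := k) (A := A) (y x))
  have hw : ∀ (z : VecGrp.pt k k ⟶ G) (x : Fin n), algebraMap k _ (val z (w x)) = fn (z ≫ a.inv) (y x) := fun z x => by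
    rw [← ev_eq_algebraMap]
    rfl
  let δ : (VecGrp.pt k k ⟶ H) → k := fun x => val (x ≫ b.inv) (toFn (k := k) (A := B) χ)
  have hδ : ∀ x, algebraMap k _ (δ x) = fn (x ≫ b.inv) χ := fun x => by
    rw [← ev_eq_algebraMap]
    rfl
  have hws : ∀ (x : VecGrp.pt k k ⟶ H) (s : Fin n), rT (x ≫ i) (w s) = δ x • w s := fun x s => by
    refine eq_of_pts fun z => ?_
    rw [map_smul, ev_eq_algebraMap, ev_eq_algebraMap, val_rT, Algebra.smul_def, ← map_mul]
    apply congrArg (algebraMap k _)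
    apply algebraMap_fn_injective
    rw [map_mul, hw, hw, hδ, _root_.mul_comm, MonObj.mul_comp, ← hsemi, ← hπ]
    simp
  have hw1 : val (1 : VecGrp.pt k k ⟶ G) (w j₀) = 1 := algebraMap_fn_injective (by
    rw [hw, MonObj.one_comp, hone, map_one])
  obtain ⟨c, hc0, hc⟩ := hinv δ (w j₀) (fun h => by
    rw [h] at hw1
    simp [val] at hw1) (fun x => hws x j₀)
  obtain ⟨z, hz⟩ := exists_val_ne_zero hc0
  let c' := lT z c
  have hc1 : val (1 : VecGrp.pt k k ⟶ G) c' ≠ 0 := by rwa [val_one_lT]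
  intro g hg
  have key : ∀ s, val g (w s) * val g c' = val (1 : VecGrp.pt k k ⟶ G) (w s) * val (1 : VecGrp.pt k k ⟶ G) c' :=
    fun s => by
    have h1 : AGF.IsRTransInv i (w s * c') := isRTransInv_of_pts i _ fun x => by
      rw [map_mul, hws, rT_lT, smul_mul_assoc, ← mul_smul_comm, ← map_smul (lT z), hc]
    have h2 := ev_eq_ev_one (hg _ h1)
    rw [ev_eq_algebraMap, ev_eq_algebraMap] at h2
    simpa [val] using algebraMap_fn_injective h2
  have hg1 : val g c' ≠ 0 := fun h0 => hc1 (by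
    have := key j₀
    rw [h0, MulZeroClass.mul_zero, hw1, _root_.one_mul] at this
    exact this.symm)
  obtain ⟨h, hh⟩ := hstab _ (g ≫ a.inv) (algebraMap k _ (val (1 : VecGrp.pt k k ⟶ G) c' / val g c'))
    ((isUnit_iff_ne_zero.mpr (div_ne_zero hc1 hg1)).map _) fun x => by
      rw [← hw, show (1 : VecGrp.pt k k ⟶ AffineHopf.sp k A) = (1 : VecGrp.pt k k ⟶ G) ≫ a.inv from
        (MonObj.one_comp a.inv).symm, ← hw, ← map_mul, ← mul_div_assoc, ← key x, mul_div_cancel_right₀ _ hg1]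
  refine ⟨h ≫ b.hom, ?_⟩
  rw [← hπ] at hh
  simpa using congrArg (fun m => m ≫ a.hom) hh

omit [IsAlgClosed k] [IsAffine G.left] [Smooth G.hom] in
theorem semi_span (i : H ⟶ G) {δ : (VecGrp.pt k k ⟶ H) → k} {f F : Fn G} (hf : ∀ x, rT (x ≫ i) f = δ x • f)
    (hF : F ∈ Submodule.span k (Set.range fun y => lT y f)) (x : VecGrp.pt k k ⟶ H) : rT (x ≫ i) F = δ x • F := by
  induction hF using Submodule.span_induction with
  | mem a ha => obtain ⟨y, rfl⟩ := ha; rw [rT_lT, hf, map_smul]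
  | zero => simp
  | add a b _ _ ha hb => rw [map_add, ha, hb, smul_add]
  | smul r a _ ha => rw [map_smul, ha, smul_comm]

omit [IsAffine G.left] [Smooth G.hom] in
theorem rT_comp_mul (i : H ⟶ G) [IsMonHom i] (x x' : VecGrp.pt k k ⟶ H) (f : Fn G) :
    rT (x ≫ i) (rT (x' ≫ i) f) = rT ((x * x') ≫ i) f := by
  rw [rT_mul, MonObj.mul_comp]

set_option maxHeartbeats 1000000 in
/-- Observability passes from a normal subgroup on which the characters are detected. -/
theorem isObservableIn_of_normal [Smooth H.hom] {R : Over (Spec (CommRingCat.of k))} [GrpObj R] [Smooth R.hom]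
    (r : R ⟶ H) [IsMonHom r] [IsClosedImmersion r.left] (i : H ⟶ G) [IsMonHom i] [IsClosedImmersion i.left]
    (hn : AlgGrp.IsNormalHom r) (hobs : AGF.IsObservableIn k (r ≫ i))
    (hperf : ∀ ch : (VecGrp.pt k k ⟶ H) →* k, (∀ y : VecGrp.pt k k ⟶ R, ch (y ≫ r) = 1) → ch = 1) :
    AGF.IsObservableIn k i := by
  classical
  haveI : IsReduced G.left := isReduced_of_smooth_field G.hom
  haveI : IsAffine H.left := isAffine_of_isAffineHom i.left
  haveI : IsAffine R.left := isAffine_of_isAffineHom r.left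
  haveI : IsClosedImmersion (r ≫ i).left := inferInstanceAs (IsClosedImmersion (r.left ≫ i.left))
  refine isObservableIn_of_semi_inverse i fun δ f hf0 hf => ?_
  have hone : rT (1 : VecGrp.pt k k ⟶ G) = AlgHom.id k (Fn G) := AlgHom.ext fun f => by
    show ev (𝟙 G * (toPt G ≫ 1)) f = f
    rw [MonObj.comp_one, _root_.mul_one, ev_id]
  have hδmul : ∀ x x', δ (x * x') = δ x * δ x' := fun x x' => smul_left_injective k hf0 (by
    simp only
    rw [← hf, ← rT_comp_mul i, hf, map_smul, hf, smul_smul, _root_.mul_comm])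
  have hδone : δ 1 = 1 := smul_left_injective k hf0 (by
    simp only
    rw [← hf, MonObj.one_comp, hone, one_smul]; rfl)
  obtain ⟨F, hFreg, hF⟩ := exists_semi_inverse (r ≫ i) hobs (fun y => δ (y ≫ r)) f hf0 fun y => by
    rw [← Category.assoc, hf]
  haveI : Nontrivial (Fn G) := RingHom.domain_nontrivial (pullFn (1 : VecGrp.pt k k ⟶ G)).toRingHom
  have hF0 : F ≠ 0 := nonZeroDivisors.ne_zero hFreg
  have hF' : ∀ y : VecGrp.pt k k ⟶ R, δ (y ≫ r) • rT ((y ≫ r) ≫ i) F = F := fun y => by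
    rw [Category.assoc]; exact hF y
  let W : Submodule k (Fn G) :=
    { carrier := {c | ∀ y : VecGrp.pt k k ⟶ R, δ (y ≫ r) • rT ((y ≫ r) ≫ i) c = c}
      zero_mem' := fun y => by simp
      add_mem' := fun {a b} ha hb y => by rw [map_add, smul_add, ha y, hb y]
      smul_mem' := fun t a ha y => by rw [map_smul, smul_comm, ha y] }
  have hWs : ∀ (x : VecGrp.pt k k ⟶ H), ∀ c ∈ W, rT (x ≫ i) c ∈ W := by
    intro x c hc y
    obtain ⟨y', hy'⟩ := hn _ x⁻¹ y
    have e : (y ≫ r) * x = x * (y' ≫ r) := by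
      rw [← hy']; group
    have hδ' : δ (y ≫ r) = δ (y' ≫ r) := by
      have h1 := congrArg δ e
      rw [hδmul, hδmul, _root_.mul_comm (δ x)] at h1
      refine mul_right_cancel₀ (fun h0 => ?_) h1
      have h2 := hδmul x x⁻¹
      rw [mul_inv_cancel, hδone, h0, MulZeroClass.zero_mul] at h2
      exact one_ne_zero h2
    rw [rT_comp_mul i, e, ← rT_comp_mul i, hδ', ← map_smul, hc y']
  obtain ⟨n, w, N, -, -, hFw, hw⟩ := exists_stable (G := G) {F}
  let U : Submodule k (Fn G) := W ⊓ Submodule.span k (Set.range w)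
  haveI : Module.Finite k (Submodule.span k (Set.range w)) := Module.Finite.span_of_finite k (Set.finite_range w)
  haveI : Module.Finite k U :=
    Module.Finite.of_injective (Submodule.inclusion (inf_le_right (a := W) (b := Submodule.span k (Set.range w))))
      (Submodule.inclusion_injective _)
  have hFU : F ∈ U := ⟨hF', hFw (Finset.mem_coe.mpr (Finset.mem_singleton_self F))⟩
  have hUs : ∀ (x : VecGrp.pt k k ⟶ H), ∀ c ∈ U, rT (x ≫ i) c ∈ U := fun x c hc =>
    ⟨hWs x c hc.1, rT_mem_span hw _ hc.2⟩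
  let bU := Module.finBasis k U
  let d := Module.finrank k U
  let e : Fin d → Fn G := fun j => (bU j : Fn G)
  have hli : LinearIndependent k e := bU.linearIndependent.map' U.subtype U.ker_subtype
  obtain ⟨y, hy⟩ := isUnit_det_of_pts e hli
  let P : Fn G := (Matrix.of fun a j => lT (y a) (e j)).det
  have hP1 : val (1 : VecGrp.pt k k ⟶ G) P ≠ 0 := by
    have : val (1 : VecGrp.pt k k ⟶ G) P = (Matrix.of fun a j => val (y a) (e j)).det := by
      show pullFn (1 : VecGrp.pt k k ⟶ G) P = _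
      rw [AlgHom.map_det]
      congr 1
      ext a j
      exact val_one_lT (y a) (e j)
    rw [this]
    exact hy.ne_zero
  have hP0 : P ≠ 0 := fun h => hP1 (by rw [h]; exact map_zero _)
  have hPH : ∀ x : VecGrp.pt k k ⟶ H, ∃ D : k, rT (x ≫ i) P = D • P := by
    intro x
    let Am : Matrix (Fin d) (Fin d) k := Matrix.of fun l j => bU.repr ⟨rT (x ≫ i) (e j), hUs x _ (bU j).2⟩ l
    have hAm : ∀ j, rT (x ≫ i) (e j) = ∑ l, Am l j • e l := fun j => by
      have := congrArg Subtype.val (bU.sum_repr ⟨rT (x ≫ i) (e j), hUs x _ (bU j).2⟩)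
      simp only [Submodule.coe_sum, Submodule.coe_smul] at this
      exact this.symm
    refine ⟨Am.det, ?_⟩
    show rT (x ≫ i) (Matrix.det _) = _
    rw [AlgHom.map_det]
    have hE : (rT (x ≫ i)).mapMatrix (Matrix.of fun a j => lT (y a) (e j)) =
        (Matrix.of fun a j => lT (y a) (e j)) * Am.map (algebraMap k (Fn G)) := by
      ext a j
      simp only [AlgHom.mapMatrix_apply, Matrix.map_apply, Matrix.of_apply, Matrix.mul_apply, rT_lT]
      rw [hAm, map_sum]
      exact Finset.sum_congr rfl fun l _ => by rw [map_smul, Algebra.smul_def, _root_.mul_comm]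
    rw [hE, Matrix.det_mul, ← RingHom.mapMatrix_apply, ← RingHom.map_det, _root_.mul_comm, ← Algebra.smul_def]
  choose D hD using hPH
  have hPR : ∀ yR : VecGrp.pt k k ⟶ R, δ (yR ≫ r) ^ d * D (yR ≫ r) = 1 := fun yR => by
    have h1 : δ (yR ≫ r) ^ d • rT ((yR ≫ r) ≫ i) P = P := by
      show δ (yR ≫ r) ^ d • rT ((yR ≫ r) ≫ i) (Matrix.det _) = _
      rw [AlgHom.map_det]
      refine Eq.trans (by rw [Matrix.det_smul_of_tower, Fintype.card_fin] :
        _ = (δ (yR ≫ r) • (rT ((yR ≫ r) ≫ i)).mapMatrix (Matrix.of fun a j => lT (y a) (e j))).det) ?_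
      congr 1
      ext a j
      simp only [Matrix.smul_apply, AlgHom.mapMatrix_apply, Matrix.map_apply, Matrix.of_apply]
      rw [rT_lT, ← map_smul, (bU j).2.1 yR]
    rw [hD, smul_smul] at h1
    exact smul_left_injective k hP0 (h1.trans (one_smul k P).symm)
  obtain ⟨F₁, hF₁m, hF₁⟩ := exists_regular P hP0
  obtain ⟨F₂, hF₂m, hF₂⟩ := exists_regular f hf0
  have h₁ : ∀ x, rT (x ≫ i) F₁ = D x • F₁ := semi_span i hD hF₁m
  have h₂ : ∀ x, rT (x ≫ i) F₂ = δ x • F₂ := semi_span i hf hF₂m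
  have hQ0 : F₁ * F₂ ^ d ≠ 0 := nonZeroDivisors.ne_zero (mul_mem hF₁ (pow_mem hF₂ d))
  have hQ : ∀ x, rT (x ≫ i) (F₁ * F₂ ^ d) = (D x * δ x ^ d) • (F₁ * F₂ ^ d) := fun x => by
    rw [map_mul, map_pow, h₁, h₂, smul_pow, smul_mul_smul_comm]
  let ch : (VecGrp.pt k k ⟶ H) →* k :=
    { toFun := fun x => D x * δ x ^ d
      map_one' := smul_left_injective k hQ0 (by simp only; rw [← hQ, MonObj.one_comp, hone, one_smul]; rfl)
      map_mul' := fun x x' => smul_left_injective k hQ0 (by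
        simp only
        rw [← hQ, ← rT_comp_mul i, hQ, map_smul, hQ, smul_smul, _root_.mul_comm]) }
  have hch : ∀ x, D x * δ x ^ d = 1 := fun x =>
    DFunLike.congr_fun (hperf ch fun yR => (_root_.mul_comm _ _).trans (hPR yR)) x
  have hd : d - 1 + 1 = d := by
    haveI : Nontrivial U := ⟨⟨F, hFU⟩, 0, fun h => hF0 (congrArg Subtype.val h)⟩
    have : 0 < d := Module.finrank_pos
    omega
  refine ⟨F₁ * F₂ ^ (d - 1), nonZeroDivisors.ne_zero (mul_mem hF₁ (pow_mem hF₂ _)), fun x => ?_⟩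
  rw [map_mul, map_pow, h₁, h₂, smul_pow, smul_mul_smul_comm, smul_smul,
    show δ x * (D x * δ x ^ (d - 1)) = D x * δ x ^ (d - 1 + 1) by ring, hd, hch, one_smul]

omit [IsAffine G.left] [Smooth G.hom] in
/-- A smooth normal subgroup of an affine group is observable. -/
theorem isObservableIn_of_isNormalHom [IsAffine H.left] [Smooth H.hom] {R : Over (Spec (CommRingCat.of k))} [GrpObj R]
    (r : R ⟶ H) [IsMonHom r] [IsClosedImmersion r.left] (hn : AlgGrp.IsNormalHom r) : AGF.IsObservableIn k r := by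
  obtain ⟨Q, _, q, hq, haQ, -, -, -, hker⟩ := S3278.result k H R r hn
  haveI := hq
  haveI := haQ
  intro g hg
  have h1 : g ≫ q = 1 := by
    refine ext_ev (AlgHom.ext fun φ => ?_)
    have hinv : AGF.IsRTransInv r (ev q φ) := (isRTransInv_iff r _).2 fun T g' h => by
      rw [ev_ev, ev_ev, MonObj.mul_comp, Category.assoc, hker.w]
      rw [← Category.assoc h, toUnit_unique (h ≫ _) (toUnit T), ← Hom.one_def, _root_.mul_one]
    have h2 := ev_eq_ev_one (hg _ hinv)
    rwa [ev_ev, ev_ev, MonObj.one_comp] at h2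
  exact ⟨hker.lift g (toUnit _) (by rw [h1, Hom.one_def]), hker.lift_fst _ _ _⟩

section Radical

variable {X : Over (Spec (CommRingCat.of k))} [GrpObj X] [IsAffine X.left] [Smooth X.hom] [ConnectedSpace X.left]

omit [IsAffine G.left] [Smooth G.hom] in
/-- A character on points trivial on the radical of a connected group is trivial. -/
theorem char_eq_one_of_radical {R : Over (Spec (CommRingCat.of k))} [GrpObj R] [Smooth R.hom] [ConnectedSpace R.left]
    (r : R ⟶ X) [IsMonHom r] [IsClosedImmersion r.left] (hn : AlgGrp.IsNormalHom r) (hsol : Red.IsSolvableGrp R)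
    (hmax : ∀ (R' : Over (Spec (CommRingCat.of k))) [GrpObj R'] (r' : R' ⟶ X) [IsMonHom r'], IsClosedImmersion r'.left →
      Smooth R'.hom → ConnectedSpace R'.left → Red.IsSolvableGrp R' → AlgGrp.IsNormalHom r' → ∃ f : R' ⟶ R, f ≫ r = r')
    (ch : (VecGrp.pt k k ⟶ X) →* k) (hch : ∀ y : VecGrp.pt k k ⟶ R, ch (y ≫ r) = 1) : ch = 1 := by
  haveI : IsReduced X.left := isReduced_of_smooth_field X.hom
  obtain ⟨Q, _, q, hq, haQ, hlQ, hfl, hsu, hker⟩ := S3278.result k X R r hn
  haveI := hq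
  haveI := haQ
  haveI := hlQ
  haveI := hfl
  haveI := hsu
  haveI : IsReduced Q.left := FBaseLib.isReduced_of_flat_surjective q.left
  haveI : Smooth Q.hom := GrpSchLib.smooth_of_perfectField_of_isReduced Q
  haveI : ConnectedSpace Q.left := q.left.surjective.connectedSpace q.left.continuous
  have hss : Red.IsSemisimpleOver k Q :=
    SolvGrp.isSemisimpleOver_of_geomFibre (IsLocalRing.closedPoint k)
      ((S8092.result k X R r inferInstance hsol hn hmax Q q hker).2.2 _)
  haveI := AntiAffine.isSeparated_grp Q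
  let ip : 𝟙_ (Over (Spec (CommRingCat.of k))) ⟶ VecGrp.pt k k := toPt _
  let ka : VecGrp.pt k k ⟶ 𝟙_ (Over (Spec (CommRingCat.of k))) := toUnit _
  have hkaip : ka ≫ ip = 𝟙 _ := (hom_pt_ext _).trans (hom_pt_ext _).symm
  let ch' : (𝟙_ (Over (Spec (CommRingCat.of k))) ⟶ X) →* kˣ :=
    MonoidHom.toHomUnits
      { toFun := fun x => ch (ka ≫ x)
        map_one' := by rw [MonObj.comp_one, map_one]
        map_mul' := fun x x' => by rw [MonObj.comp_mul, map_mul] }
  refine MonoidHom.ext fun x₀ => ?_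
  have hx : ch x₀ = (ch' (ip ≫ x₀) : k) := by
    show ch x₀ = ch (ka ≫ ip ≫ x₀)
    rw [← Category.assoc, hkaip, Category.id_comp]
  rw [MonoidHom.one_apply, hx]
  have hsurj : Function.Surjective (SolvGrp.ptsHom q) := fun z => AGFLib.Gen.exists_of_mem_range q z (q.left.surjective _)
  have hle : (SolvGrp.ptsHom q).ker ≤ ch'.ker := fun z hz => by
    refine MonoidHom.mem_ker.mpr (Units.ext ?_)
    let n := hker.lift z (toUnit _) (by rw [show z ≫ q = 1 from hz, Hom.one_def])
    show ch (ka ≫ z) = 1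
    rw [show z = n ≫ r from (hker.lift_fst _ _ _).symm, ← Category.assoc]
    exact hch _
  let ψ := (SolvGrp.ptsHom q).liftOfSurjective hsurj ⟨ch', hle⟩
  have h1 : (SolvGrp.ptsHom q) (ip ≫ x₀) ∈ ψ.ker :=
    Abelianization.commutator_subset_ker ψ (SolvGrp.commutator_eq_top hss ▸ Subgroup.mem_top _)
  have h2 : ψ ((SolvGrp.ptsHom q) (ip ≫ x₀)) = ch' (ip ≫ x₀) :=
    (SolvGrp.ptsHom q).liftOfRightInverse_comp_apply _ _ _ _
  rw [← h2, MonoidHom.mem_ker.mp h1]
  rfl

end Radical

omit [IsAffine G.left] [Smooth G.hom] [IsAlgClosed k] in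
/-- A connected group maps into the identity component. -/
theorem exists_lift_component {H₀ R' : Over (Spec (CommRingCat.of k))} [GrpObj H₀] [GrpObj R'] (j : H₀ ⟶ H) [IsMonHom j]
    [IsOpenImmersion j.left] [IsClosedImmersion j.left] [ConnectedSpace R'.left] (r' : R' ⟶ H) [IsMonHom r'] :
    ∃ f : R' ⟶ H₀, f ≫ j = r' := by
  let p : (𝟙_ (Over (Spec (CommRingCat.of k)))).left := IsLocalRing.closedPoint k
  have hclopen : IsClopen (r'.left ⁻¹' Set.range j.left) :=
    ⟨j.left.isClosedEmbedding.isClosed_range.preimage r'.left.continuous,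
      j.left.isOpenEmbedding.isOpen_range.preimage r'.left.continuous⟩
  have he : (η[R'] : 𝟙_ (Over (Spec (CommRingCat.of k))) ⟶ R').left p ∈ r'.left ⁻¹' Set.range j.left :=
    ⟨(η[H₀] : 𝟙_ (Over (Spec (CommRingCat.of k))) ⟶ H₀).left p,
      (congrArg (fun m : 𝟙_ (Over (Spec (CommRingCat.of k))) ⟶ H => m.left p) (IsMonHom.one_hom j)).trans
      (congrArg (fun m : 𝟙_ (Over (Spec (CommRingCat.of k))) ⟶ H => m.left p) (IsMonHom.one_hom r')).symm⟩
  have hr : Set.range r'.left ⊆ Set.range j.left := by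
    rintro _ ⟨z, rfl⟩
    exact ((hclopen.eq_univ ⟨_, he⟩).ge (Set.mem_univ z))
  exact ⟨Over.homMk (IsOpenImmersion.lift j.left r'.left hr) (by
    rw [← Over.w j, IsOpenImmersion.lift_fac_assoc, Over.w r']), Over.OverMorphism.ext (IsOpenImmersion.lift_fac _ _ _)⟩

omit [IsAffine G.left] [Smooth G.hom] [IsAlgClosed k] in
/-- Conjugation by a point restricts to the identity component. -/
theorem exists_conj_component {H₀ : Over (Spec (CommRingCat.of k))} [GrpObj H₀] [ConnectedSpace H₀.left] (j : H₀ ⟶ H)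
    [IsMonHom j] [IsOpenImmersion j.left] [IsClosedImmersion j.left] (g : 𝟙_ (Over (Spec (CommRingCat.of k))) ⟶ H) :
    ∃ (c : H₀ ⟶ H₀) (_ : IsMonHom c), IsClosedImmersion c.left ∧
      (∀ {x : 𝟙_ (Over (Spec (CommRingCat.of k))) ⟶ H₀}, (x ≫ c) ≫ j = g * (x ≫ j) * g⁻¹) ∧
      ∀ h : 𝟙_ (Over (Spec (CommRingCat.of k))) ⟶ H₀, ∃ h', h' ≫ c = h := by
  haveI : Mono j := Over.mono_of_mono_left _
  let cm : (𝟙_ (Over (Spec (CommRingCat.of k))) ⟶ H) → (H₀ ⟶ H) := fun g => (toUnit H₀ ≫ g) * j * (toUnit H₀ ≫ g)⁻¹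
  have hmon : ∀ g, IsMonHom (cm g) := fun g => by
    constructor
    · simp only [cm, MonObj.comp_mul, GrpObj.comp_inv, IsMonHom.one_hom, ← Category.assoc,
        toUnit_unique (η[H₀] ≫ toUnit H₀) (𝟙 _), Category.id_comp]
      rw [show (η[H] : 𝟙_ (Over (Spec (CommRingCat.of k))) ⟶ H) = 1 from MonObj.one_eq_one H, _root_.mul_one, mul_inv_cancel]
    · have hμ : μ[H₀] ≫ j = (fst H₀ H₀ ≫ j) * (snd H₀ H₀ ≫ j) := by
        rw [IsMonHom.mul_hom, Hom.mul_def, lift_fst_comp_snd_comp]
      have hc : ∀ (T : Over (Spec (CommRingCat.of k))) (p : T ⟶ H₀),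
          p ≫ cm g = (toUnit T ≫ g) * (p ≫ j) * (toUnit T ≫ g)⁻¹ := fun T p => by
        simp only [cm, MonObj.comp_mul, GrpObj.comp_inv, ← Category.assoc, toUnit_unique (p ≫ toUnit H₀) (toUnit T)]
      rw [hc, hμ]
      conv_rhs => rw [show (cm g ⊗ₘ cm g) = lift (fst H₀ H₀ ≫ cm g) (snd H₀ H₀ ≫ cm g) from (lift_fst_comp_snd_comp _ _).symm,
        ← Hom.mul_def, hc, hc]
      group
  have hl : ∀ g, ∃ c : H₀ ⟶ H₀, c ≫ j = cm g := fun g => haveI := hmon g; exists_lift_component j (cm g)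
  obtain ⟨c, hc⟩ := hl g
  obtain ⟨c', hc'⟩ := hl g⁻¹
  haveI := hmon g
  have hcp : ∀ {T : Over (Spec (CommRingCat.of k))} (x : T ⟶ H₀),
      (x ≫ c) ≫ j = (toUnit T ≫ g) * (x ≫ j) * (toUnit T ≫ g)⁻¹ := fun x => by
    rw [Category.assoc, hc]
    simp only [cm, MonObj.comp_mul, GrpObj.comp_inv, ← Category.assoc, toUnit_unique (x ≫ toUnit H₀) (toUnit _)]
  have hcp' : ∀ {T : Over (Spec (CommRingCat.of k))} (x : T ⟶ H₀),
      (x ≫ c') ≫ j = (toUnit T ≫ g)⁻¹ * (x ≫ j) * (toUnit T ≫ g) := fun x => by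
    rw [Category.assoc, hc']
    simp only [cm, MonObj.comp_mul, GrpObj.comp_inv, ← Category.assoc, toUnit_unique (x ≫ toUnit H₀) (toUnit _), _root_.inv_inv]
  have h12 : c ≫ c' = 𝟙 H₀ := (cancel_mono j).mp (by
    rw [hcp', ← Category.id_comp c, hcp, Category.id_comp]; group)
  have h21 : c' ≫ c = 𝟙 H₀ := (cancel_mono j).mp (by
    rw [hcp, ← Category.id_comp c', hcp', Category.id_comp]; group)
  haveI : IsMonHom c := by
    constructor
    · rw [← cancel_mono j, Category.assoc, hc, IsMonHom.one_hom, IsMonHom.one_hom]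
    · rw [← cancel_mono j, Category.assoc, hc, IsMonHom.mul_hom, Category.assoc, IsMonHom.mul_hom]
      simp only [MonoidalCategory.tensorHom_comp_tensorHom_assoc, hc]
  haveI : IsIso c.left := ((Over.forget _).mapIso ⟨c, c', h12, h21⟩).isIso_hom
  refine ⟨c, inferInstance, inferInstance, fun {x} => ?_, fun h => ⟨h ≫ c', by rw [Category.assoc, h21, Category.comp_id]⟩⟩
  rw [hcp, toUnit_unique (toUnit (𝟙_ (Over (Spec (CommRingCat.of k))))) (𝟙 _), Category.id_comp]

/-- The radical of a group is the radical of its identity component, and decides observability. -/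
theorem isObservableIn_of_radical [Smooth H.hom] (i : H ⟶ G) [IsMonHom i] [IsClosedImmersion i.left]
    (hobs : ∀ (R : Over (Spec (CommRingCat.of k))) [GrpObj R] [Smooth R.hom] [ConnectedSpace R.left] (r : R ⟶ H) [IsMonHom r]
      [IsClosedImmersion r.left], AlgGrp.IsNormalHom r → Red.IsSolvableGrp R →
      (∀ (R' : Over (Spec (CommRingCat.of k))) [GrpObj R'] (r' : R' ⟶ H) [IsMonHom r'], IsClosedImmersion r'.left →
        Smooth R'.hom → ConnectedSpace R'.left → Red.IsSolvableGrp R' → AlgGrp.IsNormalHom r' →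
        ∃ f : R' ⟶ R, f ≫ r = r') →
      AGF.IsObservableIn k (r ≫ i)) :
    AGF.IsObservableIn k i := by
  haveI : IsAffine H.left := isAffine_of_isAffineHom i.left
  obtain ⟨H₀, _, j, hj, hjc, hjo, haH, hsH, hcH⟩ := SolvGrp.Groth.exists_identityComponent_smooth H
  haveI := hj
  haveI := hjc
  haveI := hjo
  haveI := haH
  haveI := hsH
  haveI := hcH
  haveI : IsClosedImmersion (j ≫ i).left := inferInstanceAs (IsClosedImmersion (j.left ≫ i.left))
  rw [isObservableIn_iff_open i j]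
  obtain ⟨R, _, r, hr, hrc, hrs, hrconn, hrn, hrsol, hrmax⟩ := SolvGrp.exists_solvRad H₀
  haveI := hr
  haveI := hrc
  haveI := hrs
  haveI := hrconn
  haveI : IsReduced H₀.left := isReduced_of_smooth_field H₀.hom
  haveI : IsAffine R.left := isAffine_of_isAffineHom r.left
  haveI : IsReduced R.left := isReduced_of_smooth_field R.hom
  have hRsol : Red.IsSolvableGrp R := AGFLib.ProperSpace.isSolvableGrp_of_pts _ hrsol.choose_spec
  have hmax : ∀ (R' : Over (Spec (CommRingCat.of k))) [GrpObj R'] (r' : R' ⟶ H₀) [IsMonHom r'], IsClosedImmersion r'.left →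
      Smooth R'.hom → ConnectedSpace R'.left → Red.IsSolvableGrp R' → AlgGrp.IsNormalHom r' → ∃ f : R' ⟶ R, f ≫ r = r' :=
    fun R' _ r' _ h1 h2 h3 h4 h5 => hrmax R' r' h1 h2 h3 h5 (SolvGrp.solvPts_of_isSolvableGrp h4)
  haveI : Mono j := Over.mono_of_mono_left _
  haveI : IsClosedImmersion (r ≫ j).left := inferInstanceAs (IsClosedImmersion (r.left ≫ j.left))
  have hnorm : AlgGrp.IsNormalHom (r ≫ j) := by
    refine SolvGrp.isNormalHom_of_pts (r ≫ j) ⟨?_⟩
    rintro _ ⟨y, rfl⟩ g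
    obtain ⟨c, hc, hcc, hcs⟩ := exists_conj_component j g
    haveI := hc
    haveI : IsClosedImmersion c.left := hcc
    haveI : IsClosedImmersion (r ≫ c).left := inferInstanceAs (IsClosedImmersion (r.left ≫ c.left))
    haveI : Mono r := Over.mono_of_mono_left _
    have hnc : AlgGrp.IsNormalHom (r ≫ c) := by
      refine SolvGrp.isNormalHom_of_pts (r ≫ c) ⟨?_⟩
      rintro _ ⟨z, rfl⟩ h
      obtain ⟨h', rfl⟩ := hcs.2 h
      obtain ⟨z', hz'⟩ := hrn _ h' z
      refine ⟨z', ?_⟩
      show z' ≫ r ≫ c = _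
      rw [← Category.assoc, ← hz', MonObj.mul_comp, MonObj.mul_comp, GrpObj.inv_comp, Category.assoc z]
    obtain ⟨f, hf⟩ := hmax R (r ≫ c) inferInstance hrs hrconn hRsol hnc
    refine ⟨y ≫ f, ?_⟩
    show (y ≫ f) ≫ r ≫ j = g * (y ≫ r ≫ j) * g⁻¹
    have h1 := hcs.1 (x := y ≫ r)
    simp only [Category.assoc] at h1
    rw [Category.assoc, reassoc_of% hf, h1]
  have hobsR : AGF.IsObservableIn k ((r ≫ j) ≫ i) := hobs R (r ≫ j) hnorm hRsol fun R' _ r' _ h1 h2 h3 h4 h5 => by
    haveI := h1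
    haveI := h2
    haveI := h3
    obtain ⟨r'', hr''⟩ := exists_lift_component j r'
    haveI : IsMonHom r'' := by
      constructor
      · rw [← cancel_mono j, Category.assoc, hr'', IsMonHom.one_hom, IsMonHom.one_hom]
      · rw [← cancel_mono j, Category.assoc, hr'', IsMonHom.mul_hom, Category.assoc, IsMonHom.mul_hom]
        simp only [MonoidalCategory.tensorHom_comp_tensorHom_assoc, hr'']
    haveI : IsClosedImmersion r''.left := by
      haveI : IsClosedImmersion (r''.left ≫ j.left) := by rw [← Over.comp_left, hr'']; exact h1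
      exact IsClosedImmersion.of_comp r''.left j.left
    obtain ⟨f, hf⟩ := hmax R' r'' inferInstance h2 h3 h4 fun T g n => by
      obtain ⟨n', hn'⟩ := h5 T (g ≫ j) n
      refine ⟨n', (cancel_mono j).mp ?_⟩
      rw [MonObj.mul_comp, MonObj.mul_comp, GrpObj.inv_comp, Category.assoc n, Category.assoc n', hr'', hn']
    exact ⟨f, by rw [reassoc_of% hf, hr'']⟩
  rw [Category.assoc] at hobsR
  exact isObservableIn_of_normal r (j ≫ i) hrn hobsR (char_eq_one_of_radical r hrn hRsol hmax)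

end Groth.Agent.AGFLib
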