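import Groth.Agent.AGFLib.BorelFixed
import Groth.Agent.GrpSchLib.ProjLine
import Groth.Agent.GrpSchLib.MatrixCoeff
import Groth.Agent.H23.PnChart
import Groth.Agent.PnCoh.Chow.Proper
import Groth.Agent.ZetaLib.ProjPoints

/-! The action of a group on projective space given by a matrix representation. -/

set_option backward.isDefEq.respectTransparency false
set_option backward.isDefEq.respectTransparency.types false
set_option linter.style.haveILetI false

universe u

open CategoryTheory Limits AlgebraicGeometry MonoidalCategory CartesianMonoidalCategory MonObj GrpObj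

namespace Groth.Agent.AGFLib.ProjAct

open Groth.Agent.GrpSchLib Groth.Agent.GrpSchLib.Kunneth Groth.Agent.GrpSchLib.ProjLine
open Groth.Agent.AGFLib.Gen Groth.Agent.AGFLib.BorelFixed

variable {k : Type u} [Field k] {n : ℕ}

local notation "PT" => 𝟙_ (Over (Spec (CommRingCat.of k)))

instance isProper_Pn : IsProper (Pn k n).hom := PnCoh.Chow.isProper_toSpec n k

instance isReduced_Pn : IsReduced (Pn k n).left := by
  haveI := H23.PnChart.isIntegral_projSpace n k
  exact inferInstanceAs (IsReduced (CohB1.ProjSpace n k))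

/-- Functions on the point are scalars. -/
theorem bijective_fnPT : Function.Bijective (algebraMap k (Fn PT)) := by
  show Function.Bijective ((Scheme.ΓSpecIso (CommRingCat.of k)).inv ≫ (PT).hom.appTop)
  haveI : IsIso (PT).hom := inferInstanceAs (IsIso (𝟙 (Spec (CommRingCat.of k))))
  exact ConcreteCategory.bijective_of_isIso _

/-- The scalar of a function on the point. -/
noncomputable def toK : Fn PT ≃ₐ[k] k :=
  (AlgEquiv.ofBijective (Algebra.ofId k (Fn PT)) bijective_fnPT).symm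

theorem toK_algebraMap (c : k) : toK (algebraMap k (Fn PT) c) = c := (toK (k := k)).commutes c

theorem algebraMap_toK (f : Fn PT) : algebraMap k (Fn PT) (toK f) = f :=
  (toK (k := k)).injective (by rw [toK_algebraMap])

theorem exists_ne (v : Fin (n + 1) → k) (hv : v ≠ 0) : ∃ i, IsUnit (algebraMap k (Fn PT) (v i)) := by
  obtain ⟨i, hi⟩ := Function.ne_iff.mp hv
  exact ⟨i, (isUnit_iff_ne_zero.mpr hi).map _⟩

/-- The line spanned by a non-zero vector, as a point of projective space. -/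
noncomputable def lineP (v : Fin (n + 1) → k) (hv : v ≠ 0) : PT ⟶ Pn k n :=
  pv (fun l => algebraMap k (Fn PT) (v l)) (exists_ne v hv).choose (exists_ne v hv).choose_spec

theorem pv_eq_lineP (v : Fin (n + 1) → k) (i : Fin (n + 1)) (hu : IsUnit (algebraMap k (Fn PT) (v i))) (hv : v ≠ 0) :
    pv (fun l => algebraMap k (Fn PT) (v l)) i hu = lineP v hv :=
  (pv_eq_iff _ _ _ _ _ _).mpr fun _ _ => mul_comm _ _

theorem lineP_eq_iff (v w : Fin (n + 1) → k) (hv : v ≠ 0) (hw : w ≠ 0) :
    lineP v hv = lineP w hw ↔ ∀ x q, v x * w q = v q * w x := by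
  rw [lineP, lineP, pv_eq_iff]
  refine forall_congr' fun x => forall_congr' fun q => ?_
  rw [← map_mul, ← map_mul]
  exact bijective_fnPT.1.eq_iff

theorem lineP_congr {v w : Fin (n + 1) → k} (h : v = w) (hv : v ≠ 0) (hw : w ≠ 0) : lineP v hv = lineP w hw := by
  subst h; rfl

/-- The chart as a scheme over the field. -/
noncomputable abbrev D (k : Type u) [Field k] (n : ℕ) (i : Fin (n + 1)) : Over (Spec (CommRingCat.of k)) :=
  Over.mk (ZetaLib.chart n k i ≫ CohB1.ProjSpace.toSpec n k)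

/-- The chart. -/
noncomputable def dι (i : Fin (n + 1)) : D k n i ⟶ Pn k n := Over.homMk (ZetaLib.chart n k i) rfl

/-- The coordinates on a chart. -/
noncomputable def crdFn (i l : Fin (n + 1)) : Fn (D k n i) :=
  (Scheme.ΓSpecIso (CommRingCat.of _)).inv (ProjPt.crd i l)

theorem crdFn_self (i : Fin (n + 1)) : crdFn (k := k) i i = 1 := by
  rw [crdFn, ProjPt.crd_self]
  exact map_one _

theorem dι_eq_pv (i : Fin (n + 1)) (hu : IsUnit (crdFn (k := k) i i)) : dι i = pv (crdFn i) i hu := by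
  refine Over.OverMorphism.ext ?_
  show ZetaLib.chart n k i = ProjPt.pt _ _ _ _ _
  let u : HomogeneousLocalization.Away (CohB1.polyGrading n k) (MvPolynomial.X i) →+* Fn (D k n i) :=
    (Scheme.ΓSpecIso (CommRingCat.of (HomogeneousLocalization.Away (CohB1.polyGrading n k) (MvPolynomial.X i)))).inv.hom
  have hc : str (D k n i) = u.comp (ProjPt.cst i) := by
    have h : (D k n i).hom = Spec.map (CommRingCat.ofHom (ZetaLib.base n k i)) := ZetaLib.chart_toSpec i
    show ((Scheme.ΓSpecIso (CommRingCat.of k)).inv ≫ (D k n i).hom.appTop).hom = _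
    rw [h, Scheme.Hom.appTop, ← Scheme.ΓSpecIso_inv_naturality]
    rfl
  have e : u = ProjPt.coordHom (CohB1.polyGrading n k)
      (MvPolynomial.eval₂Hom (str (D k n i)) (crdFn i)) (isUnit_evalX (crdFn i) i hu) := by
    have h2 := ProjPt.eq_coordHom i u (by rw [MvPolynomial.eval₂Hom_X', ProjPt.crd_self, map_one]; exact isUnit_one)
    refine h2.trans ?_
    congr 1
    rw [hc]
    rfl
  rw [ProjPt.pt, ← e]
  have h1 : (D k n i).left.toSpecΓ ≫ Spec.map (CommRingCat.ofHom u) =
      𝟙 (Spec (CommRingCat.of (HomogeneousLocalization.Away (CohB1.polyGrading n k) (MvPolynomial.X i)))) := by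
    show (Spec _).toSpecΓ ≫ _ = _
    rw [← SpecMap_ΓSpecIso_hom]
    refine (Spec.map_comp _ _).symm.trans (Eq.trans ?_ (Spec.map_id _))
    congr 1
    exact Iso.inv_hom_id _
  refine Eq.trans ?_ (Category.assoc _ _ _)
  refine Eq.trans ?_ (congrArg (· ≫ _) h1).symm
  exact (Category.id_comp _).symm

theorem exists_factor {T : Over (Spec (CommRingCat.of k))} (f : T ⟶ Pn k n) (i : Fin (n + 1))
    (h : Set.range f.left ⊆ Set.range (ZetaLib.chart n k i)) : ∃ d : T ⟶ D k n i, d ≫ dι i = f := by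
  refine ⟨Over.homMk (IsOpenImmersion.lift (ZetaLib.chart n k i) f.left h) ?_,
    Over.OverMorphism.ext (IsOpenImmersion.lift_fac _ _ _)⟩
  show _ ≫ ZetaLib.chart n k i ≫ _ = _
  rw [IsOpenImmersion.lift_fac_assoc]
  exact Over.w f

theorem exists_mem_chart (x : (Pn k n).left) : ∃ i, x ∈ Set.range (ZetaLib.chart n k i) := by
  exact ZetaLib.exists_mem_chart x

/-- Every rational point is a line, with a coordinate normalised in any chart containing it. -/
theorem exists_lineP (p : PT ⟶ Pn k n) : ∃ (v : Fin (n + 1) → k) (hv : v ≠ 0), p = lineP v hv := by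
  obtain ⟨i, hi⟩ := exists_mem_chart (cp p)
  obtain ⟨d, hd⟩ := exists_factor p i (by
    rintro _ ⟨t, rfl⟩
    rwa [Subsingleton.elim (α := Spec (CommRingCat.of k)) t (IsLocalRing.closedPoint k)])
  have hu : IsUnit (crdFn (k := k) i i) := crdFn_self (k := k) i ▸ isUnit_one
  have hv : (fun l => toK (ev d (crdFn i l))) i = 1 := by simp [crdFn_self]
  have hv0 : (fun l => toK (ev d (crdFn i l))) ≠ 0 := fun h => one_ne_zero (hv.symm.trans (congrFun h i))
  refine ⟨_, hv0, ?_⟩
  rw [← hd, dι_eq_pv i hu, comp_pv,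
    ← pv_eq_lineP (fun l => toK (ev d (crdFn i l))) i ((isUnit_iff_ne_zero.mpr (fun h0 => one_ne_zero (hv.symm.trans h0))).map _)]
  exact (pv_eq_iff _ _ _ _ _ _).mpr fun x q => by simp only [algebraMap_toK]; exact mul_comm _ _

/-- A unimodular vector of functions gives a morphism to projective space, computed on rational points. -/
theorem exists_hom_pts (T : Over (Spec (CommRingCat.of k))) (z α : Fin (n + 1) → Fn T) (h1 : ∑ l, α l * z l = 1) :
    ∃ φ : T ⟶ Pn k n, ∀ (t : PT ⟶ T) (v : Fin (n + 1) → k) (hv : v ≠ 0),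
      (∀ l, toK (ev t (z l)) = v l) → t ≫ φ = lineP v hv := by
  let W : Fin (n + 1) → Over (Spec (CommRingCat.of k)) := fun i => Over.mk ((T.left.basicOpen (z i)).ι ≫ T.hom)
  let wι : ∀ i, W i ⟶ T := fun i => Over.homMk (T.left.basicOpen (z i)).ι rfl
  have hmem : ∀ p : T.left, ∃ i, p ∈ T.left.basicOpen (z i) := by
    intro p
    by_contra hne
    push Not at hne
    have hm : (∑ l, T.left.presheaf.germ ⊤ p trivial (α l) * T.left.presheaf.germ ⊤ p trivial (z l)) ∈
        IsLocalRing.maximalIdeal (T.left.presheaf.stalk p) :=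
      Ideal.sum_mem _ fun l _ => Ideal.mul_mem_left _ _ (by
        rw [IsLocalRing.mem_maximalIdeal, mem_nonunits_iff, ← Scheme.mem_basicOpen_top T.left (z l) p]
        exact hne l)
    simp only [← map_mul, ← map_sum, h1, map_one] at hm
    exact (IsLocalRing.maximalIdeal.isMaximal _).ne_top ((Ideal.eq_top_iff_one _).mpr hm)
  have hu : ∀ i, IsUnit (ev (wι i) (z i)) := fun i => by
    have h : (T.left.basicOpen (z i)).toScheme.basicOpen (ev (wι i) (z i)) = ⊤ := by
      rw [ev_apply]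
      refine (Scheme.preimage_basicOpen_top (T.left.basicOpen (z i)).ι (z i)).symm.trans ?_
      exact (T.left.basicOpen (z i)).ι_preimage_self
    refine (W i).left.toLocallyRingedSpace.toRingedSpace.isUnit_of_isUnit_germ ⊤ _ fun x hx => ?_
    exact ((W i).left.mem_basicOpen_top (ev (wι i) (z i)) x).mp ((SetLike.ext_iff.mp h x).mpr hx)
  let 𝒰 : T.left.OpenCover := T.left.openCoverOfIsOpenCover (fun i => T.left.basicOpen (z i))
    (TopologicalSpace.IsOpenCover.mk (eq_top_iff.2 fun p _ => TopologicalSpace.Opens.mem_iSup.2 (hmem p)))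
  let ch : ∀ i, W i ⟶ Pn k n := fun i => pv (fun l => ev (wι i) (z l)) i (hu i)
  let φ₀ : T.left ⟶ CohB1.ProjSpace n k := 𝒰.glueMorphisms (fun i => (ch i).left) fun a b => by
    let Z : Over (Spec (CommRingCat.of k)) := Over.mk (pullback.fst (𝒰.f a) (𝒰.f b) ≫ (W a).hom)
    let h₁ : Z ⟶ W a := Over.homMk (pullback.fst (𝒰.f a) (𝒰.f b)) rfl
    let h₂ : Z ⟶ W b := Over.homMk (pullback.snd (𝒰.f a) (𝒰.f b)) (by
      show pullback.snd (𝒰.f a) (𝒰.f b) ≫ 𝒰.f b ≫ T.hom = pullback.fst (𝒰.f a) (𝒰.f b) ≫ 𝒰.f a ≫ T.hom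
      rw [← pullback.condition_assoc])
    have h : h₁ ≫ wι a = h₂ ≫ wι b := Over.OverMorphism.ext pullback.condition
    have : h₁ ≫ ch a = h₂ ≫ ch b := by
      simp only [ch, comp_pv, pv_eq_iff, ev_ev, h]
      exact fun x q => mul_comm _ _
    exact congrArg CommaMorphism.left this
  have hφ₀ : ∀ i, 𝒰.f i ≫ φ₀ = (ch i).left := fun i => Scheme.Cover.ι_glueMorphisms 𝒰 _ _ i
  let φ : T ⟶ Pn k n := Over.homMk φ₀ (Scheme.Cover.hom_ext 𝒰 _ _ fun i => by
    rw [← Category.assoc, hφ₀]
    exact Over.w (ch i))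
  refine ⟨φ, fun t v hv hz => ?_⟩
  obtain ⟨i, hi⟩ := hmem (cp t)
  let s : PT ⟶ W i := Over.homMk (IsOpenImmersion.lift (T.left.basicOpen (z i)).ι t.left (by
      rintro _ ⟨x, rfl⟩
      refine (Scheme.Opens.range_ι (T.left.basicOpen (z i))).ge ?_
      rwa [Subsingleton.elim (α := Spec (CommRingCat.of k)) x (IsLocalRing.closedPoint k)])) (by
    show _ ≫ (T.left.basicOpen (z i)).ι ≫ T.hom = _
    rw [IsOpenImmersion.lift_fac_assoc, Over.w t])
  have hs : s ≫ wι i = t := Over.OverMorphism.ext (IsOpenImmersion.lift_fac _ _ _)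
  have hφi : wι i ≫ φ = ch i := Over.OverMorphism.ext (hφ₀ i)
  rw [← hs, Category.assoc, hφi]
  simp only [ch, comp_pv, lineP, pv_eq_iff, ev_ev, hs]
  intro x q
  simp only [← hz, algebraMap_toK]
  exact mul_comm _ _

variable {G : Over (Spec (CommRingCat.of k))} [GrpObj G]

/-- The scalar matrix of a rational point. -/
noncomputable def valM {m : ℕ} (M : Matrix (Fin m) (Fin m) (Fn G)) (g : PT ⟶ G) : Matrix (Fin m) (Fin m) k :=
  M.map fun f => toK (ev g f)

theorem valM_mul {m : ℕ} {M : Matrix (Fin m) (Fin m) (Fn G)} (hM : IsRepMatrix M) (g h : PT ⟶ G) :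
    valM M (g * h) = valM M g * valM M h := by
  have e : ∀ x : PT ⟶ G, valM M x = (M.map (ev x)).map (toK : Fn PT → k) := fun _ => by
    rw [Matrix.map_map]; rfl
  rw [e, e, e, hM.mul, Matrix.map_mul]

theorem valM_one {m : ℕ} {M : Matrix (Fin m) (Fin m) (Fn G)} (hM : IsRepMatrix M) :
    valM M (1 : PT ⟶ G) = 1 := by
  have e : valM M (1 : PT ⟶ G) = (M.map (ev (1 : PT ⟶ G))).map (toK : Fn PT → k) := by
    rw [Matrix.map_map]; rfl
  rw [e, hM.one, Matrix.map_one _ (map_zero _) (map_one _)]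

theorem mulVec_ne_zero {m : ℕ} {M : Matrix (Fin m) (Fin m) (Fn G)} (hM : IsRepMatrix M) (g : PT ⟶ G)
    {v : Fin m → k} (hv : v ≠ 0) : (valM M g).mulVec v ≠ 0 := fun h => hv (by
  have := congrArg (valM M g⁻¹).mulVec h
  rwa [Matrix.mulVec_mulVec, ← valM_mul hM, inv_mul_cancel, valM_one hM, Matrix.one_mulVec, Matrix.mulVec_zero]
    at this)

/-- A matrix representation acts on projective space. -/
theorem exists_act [IsAlgClosed k] [LocallyOfFiniteType G.hom] [IsReduced G.left]
    {M : Matrix (Fin (n + 1)) (Fin (n + 1)) (Fn G)} (hM : IsRepMatrix M) :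
    ∃ a : AlgGrp.Action G (Pn k n), ∀ (g : PT ⟶ G) (v : Fin (n + 1) → k) (hv : v ≠ 0),
      lift g (lineP v hv) ≫ a.act = lineP ((valM M g).mulVec v) (mulVec_ne_zero hM g hv) := by
  haveI : IsProper (Pn k n).hom := isProper_Pn
  haveI : IsReduced (G ⊗ Pn k n).left := isReduced_pullback_of_perfectField G.hom (Pn k n).hom
  haveI : LocallyOfFiniteType (G ⊗ Pn k n).hom :=
    inferInstanceAs (LocallyOfFiniteType (pullback.fst G.hom (Pn k n).hom ≫ G.hom))
  let U : Fin (n + 1) → (G ⊗ Pn k n).left.Opens :=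
    fun i => (snd G (Pn k n)).left ⁻¹ᵁ (ZetaLib.chart n k i).opensRange
  let W : Fin (n + 1) → Over (Spec (CommRingCat.of k)) := fun i => Over.mk ((U i).ι ≫ (G ⊗ Pn k n).hom)
  let wι : ∀ i, W i ⟶ G ⊗ Pn k n := fun i => Over.homMk (U i).ι rfl
  haveI : ∀ i, IsReduced (W i).left := fun i => inferInstanceAs (IsReduced (U i).toScheme)
  haveI : ∀ i, LocallyOfFiniteType (W i).hom := fun i =>
    inferInstanceAs (LocallyOfFiniteType ((U i).ι ≫ (G ⊗ Pn k n).hom))
  have hd : ∀ i, ∃ d : W i ⟶ D k n i, d ≫ dι i = wι i ≫ snd G (Pn k n) := fun i => exists_factor _ i (by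
    rintro _ ⟨t, rfl⟩
    exact t.2)
  choose d hd using hd
  let N := fun i => M.map (ev (wι i ≫ fst G (Pn k n)))
  let z : ∀ i, Fin (n + 1) → Fn (W i) := fun i a => ∑ b, N i a b * ev (d i) (crdFn i b)
  have hN : ∀ i, IsUnit (N i).det := fun i =>
    (Matrix.isUnit_iff_isUnit_det _).mp (hM.isUnit.map (ev (wι i ≫ fst G (Pn k n))).mapMatrix)
  have h1 : ∀ i, ∑ l, (N i)⁻¹ i l * z i l = 1 := fun i => by
    have e : ((N i)⁻¹.mulVec ((N i).mulVec fun b => ev (d i) (crdFn i b))) i = 1 := by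
      rw [Matrix.mulVec_mulVec, Matrix.nonsing_inv_mul _ (hN i), Matrix.one_mulVec, crdFn_self, map_one]
    exact e
  choose φ hφ using fun i => exists_hom_pts (W i) (z i) (fun l => (N i)⁻¹ i l) (h1 i)
  have hval : ∀ i (w : PT ⟶ W i) (v : Fin (n + 1) → k) (hv : v ≠ 0), w ≫ wι i ≫ snd G _ = lineP v hv →
      w ≫ φ i = lineP ((valM M (w ≫ wι i ≫ fst G _)).mulVec v) (mulVec_ne_zero hM _ hv) := by
    intro i w v hv hwv
    let c : Fin (n + 1) → k := fun b => toK (ev w (ev (d i) (crdFn i b)))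
    have hc1 : c i = 1 := by simp [c, crdFn_self]
    have hc : c ≠ 0 := fun h => one_ne_zero (hc1.symm.trans (congrFun h i))
    have hline : lineP c hc = lineP v hv := by
      rw [← hwv, ← hd i, dι_eq_pv i (crdFn_self (k := k) i ▸ isUnit_one), comp_pv, comp_pv,
        ← pv_eq_lineP c i ((isUnit_iff_ne_zero.mpr (by rw [hc1]; exact one_ne_zero)).map _), pv_eq_iff]
      intro x q
      simp only [c, algebraMap_toK]
      exact mul_comm _ _
    rw [hφ i w ((valM M (w ≫ wι i ≫ fst G _)).mulVec c) (mulVec_ne_zero hM _ hc) (fun l => by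
      simp only [z, N, map_sum, map_mul, Matrix.map_apply, ev_ev, Matrix.mulVec, dotProduct, valM, c]),
      lineP_eq_iff]
    rw [lineP_eq_iff] at hline
    intro x q
    simp only [Matrix.mulVec, dotProduct, Finset.sum_mul, Finset.mul_sum]
    refine Finset.sum_comm.trans (Finset.sum_congr rfl fun a _ => Finset.sum_congr rfl fun b _ => ?_)
    first
      | linear_combination (valM M (w ≫ wι i ≫ fst G _) x b * valM M (w ≫ wι i ≫ fst G _) q a) * hline b a
      | linear_combination (valM M (w ≫ wι i ≫ fst G _) x b * valM M (w ≫ wι i ≫ fst G _) q a) * hline a b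
      | linear_combination (valM M (w ≫ wι i ≫ fst G _) x a * valM M (w ≫ wι i ≫ fst G _) q b) * hline b a
      | linear_combination (valM M (w ≫ wι i ≫ fst G _) x a * valM M (w ≫ wι i ≫ fst G _) q b) * hline a b
  let 𝒰 : (G ⊗ Pn k n).left.OpenCover := (G ⊗ Pn k n).left.openCoverOfIsOpenCover U
    (TopologicalSpace.IsOpenCover.mk (eq_top_iff.2 fun p _ => TopologicalSpace.Opens.mem_iSup.2
      (exists_mem_chart ((snd G (Pn k n)).left p))))
  let act₀ : (G ⊗ Pn k n).left ⟶ (Pn k n).left := 𝒰.glueMorphisms (fun i => (φ i).left) fun a b => by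
    let Z : Over (Spec (CommRingCat.of k)) := Over.mk (pullback.fst (𝒰.f a) (𝒰.f b) ≫ (W a).hom)
    haveI : IsOpenImmersion (pullback.fst (𝒰.f a) (𝒰.f b)) := inferInstance
    haveI : IsReduced Z.left := isReduced_of_isOpenImmersion (pullback.fst (𝒰.f a) (𝒰.f b))
    haveI : LocallyOfFiniteType Z.hom :=
      inferInstanceAs (LocallyOfFiniteType (pullback.fst (𝒰.f a) (𝒰.f b) ≫ (W a).hom))
    let h₁ : Z ⟶ W a := Over.homMk (pullback.fst (𝒰.f a) (𝒰.f b)) rfl
    let h₂ : Z ⟶ W b := Over.homMk (pullback.snd (𝒰.f a) (𝒰.f b)) (by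
      show pullback.snd (𝒰.f a) (𝒰.f b) ≫ 𝒰.f b ≫ _ = pullback.fst (𝒰.f a) (𝒰.f b) ≫ 𝒰.f a ≫ _
      rw [← pullback.condition_assoc])
    have h : h₁ ≫ wι a = h₂ ≫ wι b := Over.OverMorphism.ext pullback.condition
    have : h₁ ≫ φ a = h₂ ≫ φ b := hom_ext_pts fun t => by
      obtain ⟨v, hv, hp⟩ := exists_lineP (t ≫ h₁ ≫ wι a ≫ snd G _)
      rw [← Category.assoc, ← Category.assoc, hval a _ v hv (by simpa only [Category.assoc] using hp),
        hval b _ v hv (by rw [← hp]; simp only [Category.assoc, reassoc_of% h])]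
      exact lineP_congr (by simp only [Category.assoc, reassoc_of% h]) _ _
    exact congrArg CommaMorphism.left this
  have hact₀ : ∀ i, 𝒰.f i ≫ act₀ = (φ i).left := fun i => Scheme.Cover.ι_glueMorphisms 𝒰 _ _ i
  let act : G ⊗ Pn k n ⟶ Pn k n := Over.homMk act₀ (Scheme.Cover.hom_ext 𝒰 _ _ fun i => by
    rw [← Category.assoc, hact₀]
    exact Over.w (φ i))
  have hpt : ∀ (g : PT ⟶ G) (v : Fin (n + 1) → k) (hv : v ≠ 0),
      lift g (lineP v hv) ≫ act = lineP ((valM M g).mulVec v) (mulVec_ne_zero hM g hv) := by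
    intro g v hv
    obtain ⟨i, hi⟩ := exists_mem_chart (cp (lineP v hv))
    let p := lift g (lineP v hv)
    let w : PT ⟶ W i := Over.homMk (IsOpenImmersion.lift (U i).ι p.left (by
        rintro _ ⟨x, rfl⟩
        refine (Scheme.Opens.range_ι (U i)).ge ?_
        rw [Subsingleton.elim (α := Spec (CommRingCat.of k)) x (IsLocalRing.closedPoint k)]
        show (p.left ≫ (snd G (Pn k n)).left) (IsLocalRing.closedPoint k) ∈ Set.range (ZetaLib.chart n k i)
        rw [← Over.comp_left, lift_snd]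
        exact hi)) (by
      show _ ≫ (U i).ι ≫ _ = _
      rw [IsOpenImmersion.lift_fac_assoc, Over.w p])
    have hw : w ≫ wι i = p := Over.OverMorphism.ext (IsOpenImmersion.lift_fac _ _ _)
    have hi' : wι i ≫ act = φ i := Over.OverMorphism.ext (hact₀ i)
    show p ≫ act = _
    rw [← hw, Category.assoc, hi', hval i w v hv (by rw [reassoc_of% hw]; simp [p])]
    exact lineP_congr (by rw [reassoc_of% hw]; simp [p]) _ _
  haveI : IsReduced (PT).left := inferInstanceAs (IsReduced (Spec (CommRingCat.of k)))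
  haveI : LocallyOfFiniteType (PT).hom := inferInstanceAs (LocallyOfFiniteType (𝟙 _))
  haveI : IsReduced ((PT) ⊗ Pn k n).left := isReduced_pullback_of_perfectField (PT).hom (Pn k n).hom
  haveI : LocallyOfFiniteType ((PT) ⊗ Pn k n).hom :=
    inferInstanceAs (LocallyOfFiniteType (pullback.fst (PT).hom (Pn k n).hom ≫ (PT).hom))
  haveI : IsReduced (G ⊗ G).left := isReduced_pullback_of_perfectField G.hom G.hom
  haveI : LocallyOfFiniteType (G ⊗ G).hom :=
    inferInstanceAs (LocallyOfFiniteType (pullback.fst G.hom G.hom ≫ G.hom))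
  haveI : IsReduced ((G ⊗ G) ⊗ Pn k n).left := isReduced_pullback_of_perfectField (G ⊗ G).hom (Pn k n).hom
  haveI : LocallyOfFiniteType ((G ⊗ G) ⊗ Pn k n).hom :=
    inferInstanceAs (LocallyOfFiniteType (pullback.fst (G ⊗ G).hom (Pn k n).hom ≫ (G ⊗ G).hom))
  refine ⟨⟨act, hom_ext_pts fun t => ?_, hom_ext_pts fun t => ?_⟩, hpt⟩
  · obtain ⟨v, hv, hp⟩ := exists_lineP (t ≫ snd _ _)
    have e : t ≫ (η[G] ▷ Pn k n) = lift 1 (lineP v hv) := by
      apply CartesianMonoidalCategory.hom_ext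
      · rw [Category.assoc, whiskerRight_fst, lift_fst, ← Category.assoc,
          toUnit_unique (t ≫ fst _ _) (𝟙 _), Category.id_comp, MonObj.one_eq_one]
      · rw [Category.assoc, whiskerRight_snd, lift_snd, hp]
    rw [← Category.assoc, e, hpt, leftUnitor_hom, hp]
    exact lineP_congr (by rw [valM_one hM, Matrix.one_mulVec]) _ _
  · obtain ⟨v, hv, hp⟩ := exists_lineP (t ≫ snd _ _)
    obtain ⟨g, hg⟩ : ∃ g, g = t ≫ fst (G ⊗ G) _ ≫ fst G G := ⟨_, rfl⟩
    obtain ⟨h, hh⟩ := (⟨_, rfl⟩ : ∃ h, h = t ≫ fst (G ⊗ G) _ ≫ snd G G)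
    have ht : t = lift (lift g h) (lineP v hv) := by
      apply CartesianMonoidalCategory.hom_ext
      · apply CartesianMonoidalCategory.hom_ext <;> simp [hg, hh]
      · simp [hp]
    rw [ht, ← Category.assoc, lift_whiskerRight, lift_lift_associator_hom_assoc, lift_whiskerLeft_assoc,
      ← Hom.mul_def, hpt, hpt, hpt]
    exact lineP_congr (by rw [Matrix.mulVec_mulVec, valM_mul hM]) _ _

end Groth.Agent.AGFLib.ProjAct
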