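import Groth.Agent.GrpSchLib.SmallestSubgroup
import Groth.Agent.GrpSchLib.AntiAffineHom
import Groth.Agent.AGFLib.AntPart
import Groth.Agent.H23.CubeField
import Groth.Agent.H23.MaxAbelian
import Groth.Agent.H23.GeomConn
import Groth.Agent.VarDim.Fibre

/-! The subgroup generated by a proper subvariety is proper. -/

set_option autoImplicit false
set_option backward.isDefEq.respectTransparency false
set_option backward.isDefEq.respectTransparency.types false
set_option linter.style.haveILetI false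
set_option maxHeartbeats 1000000

universe u

open CategoryTheory CategoryTheory.Limits MonoidalCategory CartesianMonoidalCategory MonObj AlgebraicGeometry

namespace Groth.Agent.AGFLib.ProperSubvar

open GrpSchLib

variable {k : Type u} [Field k]


section Words

variable {G : (Over (Spec (CommRingCat.of k)))} [GrpObj G] {W : (Over (Spec (CommRingCat.of k)))} (φ : W ⟶ G)

/-- Iterated products of a family. -/
noncomputable def Wn (W : (Over (Spec (CommRingCat.of k)))) : ℕ → (Over (Spec (CommRingCat.of k)))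
  | 0 => 𝟙_ (Over (Spec (CommRingCat.of k)))
  | n + 1 => W ⊗ Wn W n

/-- Iterated products of a family. -/
noncomputable def fn : ∀ n, Wn W n ⟶ G
  | 0 => η[G]
  | n + 1 => (fst W (Wn W n) ≫ φ) * (snd W (Wn W n) ≫ fn n)

theorem wn_props [IsProper W.hom] [GeometricallyIntegral W.hom] :
    ∀ n, IsProper (Wn W n).hom ∧ GeometricallyIntegral (Wn W n).hom
  | 0 => ⟨inferInstanceAs (IsProper (𝟙 _)), H23.MaxAbelian.geometricallyIntegral_of_pullback (𝟙 (Spec (CommRingCat.of k))) fun K _ x => H23.MaxAbelian.isIntegral_of_iso (asIso (pullback.snd (𝟙 _) x))⟩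
  | n + 1 => by
    obtain ⟨_, _⟩ := wn_props n
    exact ⟨inferInstanceAs (IsProper (pullback.fst W.hom (Wn W n).hom ≫ W.hom)),
      H23.MaxAbelian.geometricallyIntegral_tensor W (Wn W n)⟩

/-- The points given by products of members of the family. -/
def Mem {T : (Over (Spec (CommRingCat.of k)))} (g : T ⟶ G) : Prop := ∃ (n : ℕ) (y : T ⟶ Wn W n), y ≫ fn φ n = g

theorem mem_one {T : (Over (Spec (CommRingCat.of k)))} : Mem φ (1 : T ⟶ G) := ⟨0, toUnit T, Hom.one_def.symm⟩

theorem mem_cons {T : (Over (Spec (CommRingCat.of k)))} (x : T ⟶ W) {g : T ⟶ G} (hg : Mem φ g) : Mem φ ((x ≫ φ) * g) := by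
  obtain ⟨n, y, rfl⟩ := hg
  refine ⟨n + 1, lift x y, ?_⟩
  show lift x y ≫ ((fst W (Wn W n) ≫ φ) * (snd W (Wn W n) ≫ fn φ n)) = _
  rw [MonObj.comp_mul, lift_fst_assoc, lift_snd_assoc]

theorem mem_mul {T : (Over (Spec (CommRingCat.of k)))} {g g' : T ⟶ G} (hg : Mem φ g) (hg' : Mem φ g') : Mem φ (g * g') := by
  obtain ⟨n, y, rfl⟩ := hg
  induction n with
  | zero =>
    rw [show y ≫ fn φ 0 = (1 : T ⟶ G) from (congrArg (· ≫ η[G]) (toUnit_unique y (toUnit T))).trans Hom.one_def.symm,
      _root_.one_mul]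
    exact hg'
  | succ n ih =>
    rw [show y ≫ fn φ (n + 1) = (((show T ⟶ W ⊗ Wn W n from y) ≫ fst W (Wn W n)) ≫ φ) *
      (((show T ⟶ W ⊗ Wn W n from y) ≫ snd W (Wn W n)) ≫ fn φ n) by
        rw [Category.assoc, Category.assoc]; exact MonObj.comp_mul _ _ _, _root_.mul_assoc]
    exact mem_cons φ _ (ih _)

theorem mem_inv (s : W ⟶ W) (hs : s ≫ φ = φ⁻¹) {T : (Over (Spec (CommRingCat.of k)))} {g : T ⟶ G} (hg : Mem φ g) : Mem φ g⁻¹ := by
  obtain ⟨n, y, rfl⟩ := hg
  induction n with
  | zero =>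
    rw [show y ≫ fn φ 0 = (1 : T ⟶ G) from (congrArg (· ≫ η[G]) (toUnit_unique y (toUnit T))).trans Hom.one_def.symm,
      _root_.inv_one]
    exact mem_one φ
  | succ n ih =>
    rw [show y ≫ fn φ (n + 1) = (((show T ⟶ W ⊗ Wn W n from y) ≫ fst W (Wn W n)) ≫ φ) *
      (((show T ⟶ W ⊗ Wn W n from y) ≫ snd W (Wn W n)) ≫ fn φ n) by
        rw [Category.assoc, Category.assoc]; exact MonObj.comp_mul _ _ _, _root_.mul_inv_rev]
    refine mem_mul φ (ih _) ?_
    rw [← GrpObj.comp_inv, ← hs, ← Category.assoc, ← _root_.mul_one (_ ≫ φ)]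
    exact mem_cons φ _ (mem_one φ)

end Words

/-- The subgroup generated by the differences of a proper geometrically integral family is proper, with constant
functions. -/
theorem exists_generated {G Z : (Over (Spec (CommRingCat.of k)))} [GrpObj G] [LocallyOfFiniteType G.hom] [QuasiCompact G.hom]
    [IsProper Z.hom] [GeometricallyIntegral Z.hom] (z : Z ⟶ G) :
    ∃ (Γ : (Over (Spec (CommRingCat.of k)))) (_ : GrpObj Γ) (i : Γ ⟶ G), IsMonHom i ∧ IsClosedImmersion i.left ∧ IsProper Γ.hom ∧
      Function.Bijective Γ.hom.appTop ∧ ∃ f : Z ⊗ Z ⟶ Γ, f ≫ i = (fst Z Z ≫ z) * (snd Z Z ≫ z)⁻¹ := by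
  haveI := AntiAffine.isSeparated_grp G
  haveI : IsLocallyNoetherian G.left := LocallyOfFiniteType.isLocallyNoetherian G.hom
  let W : (Over (Spec (CommRingCat.of k))) := Z ⊗ Z
  haveI : GeometricallyIntegral W.hom := H23.MaxAbelian.geometricallyIntegral_tensor Z Z
  haveI : IsProper W.hom := inferInstanceAs (IsProper (pullback.fst Z.hom Z.hom ≫ Z.hom))
  let φ : W ⟶ G := (fst Z Z ≫ z) * (snd Z Z ≫ z)⁻¹
  have hs : (β_ Z Z).hom ≫ φ = φ⁻¹ := by
    simp only [φ, MonObj.comp_mul, GrpObj.comp_inv, _root_.mul_inv_rev, inv_inv]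
    rw [← Category.assoc, ← Category.assoc, show (β_ Z Z).hom ≫ fst Z Z = snd Z Z by simp,
      show (β_ Z Z).hom ≫ snd Z Z = fst Z Z by simp]
  -- the unit is a difference
  let Δ : Z ⟶ W := lift (𝟙 Z) (𝟙 Z)
  have hΔ : Δ ≫ φ = 1 := by
    simp only [φ, Δ, MonObj.comp_mul, GrpObj.comp_inv, lift_fst_assoc, lift_snd_assoc, Category.id_comp,
      mul_inv_cancel]
  haveI : ∀ n, IsProper (Wn W n).hom := fun n => (wn_props n).1
  haveI : ∀ n, GeometricallyIntegral (Wn W n).hom := fun n => (wn_props n).2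
  haveI : ∀ n, IrreducibleSpace (Wn W n).left := fun n => by
    haveI := H23.MaxAbelian.isIntegral_of_geometricallyIntegral (X := Wn W n)
    infer_instance
  haveI : ∀ n, IsProper (fn φ n).left := fun n => by
    haveI : IsProper ((fn φ n).left ≫ G.hom) := by rw [Over.w (fn φ n)]; infer_instance
    exact IsProper.of_comp (fn φ n).left G.hom
  let S : ℕ → Set G.left := fun n => Set.range (fn φ n).left
  have hSc : ∀ n, IsClosed (S n) := fun n => (fn φ n).left.isClosedMap.isClosed_range
  have hirr : ∀ n, IsIrreducible (S n) := fun n => by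
    show IsIrreducible (Set.range _)
    rw [← Set.image_univ]
    exact (IrreducibleSpace.isIrreducible_univ _).image _ (fn φ n).left.continuous.continuousOn
  haveI : IsIntegral Z.left := H23.MaxAbelian.isIntegral_of_geometricallyIntegral (X := Z)
  haveI : Surjective Z.hom := ⟨fun p => ⟨Classical.arbitrary _, @Subsingleton.elim _
    (inferInstanceAs (Subsingleton (PrimeSpectrum k))) _ _⟩⟩
  have hmono : Monotone S := monotone_nat_of_le_succ fun n => by
    rintro _ ⟨x, rfl⟩
    haveI : Surjective (snd Z (Wn W n)).left := inferInstanceAs (Surjective (pullback.snd Z.hom (Wn W n).hom))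
    obtain ⟨p, hp⟩ := (snd Z (Wn W n)).left.surjective x
    let j : Z ⊗ Wn W n ⟶ Wn W (n + 1) := Δ ▷ Wn W n
    have e : j ≫ fn φ (n + 1) = snd Z (Wn W n) ≫ fn φ n := by
      show (Δ ▷ Wn W n) ≫ ((fst W (Wn W n) ≫ φ) * (snd W (Wn W n) ≫ fn φ n)) = _
      rw [MonObj.comp_mul, whiskerRight_fst_assoc, whiskerRight_snd_assoc, hΔ, MonObj.comp_one, _root_.one_mul]
    exact ⟨j.left p, (congrArg (fun f : Z ⊗ Wn W n ⟶ G => f.left p) e).trans (congrArg (fn φ n).left hp)⟩
  obtain ⟨n, hn⟩ : ∃ n, ∀ m, S m ⊆ S n := by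
    haveI : CompactSpace G.left := QuasiCompact.compactSpace_of_compactSpace G.hom
    haveI : Nonempty G.left := ⟨η[G].left (IsLocalRing.closedPoint k)⟩
    obtain ⟨η₀, -, hmax, -⟩ := VarDim.exists_deg_eq_topologicalKrullDim (p := G.hom)
    let e : ℕ → G.left := fun m => (hirr m).genericPoint
    have he : ∀ m, closure {e m} = S m := fun m => by
      rw [((hirr m).isGenericPoint_genericPoint (hSc m)).def]
    have hfin : (Set.range fun m => VarDim.deg G.hom (e m)).Finite :=
      (Set.finite_Iic (VarDim.deg G.hom η₀)).subset (by rintro _ ⟨m, rfl⟩; exact hmax _)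
    obtain ⟨_, ⟨n, rfl⟩, hnmax⟩ := hfin.exists_maximal ⟨_, 0, rfl⟩
    refine ⟨n, fun m => ?_⟩
    rcases le_total m n with h | h
    · exact hmono h
    · have hsp : e m ⤳ e n := specializes_iff_mem_closure.mpr (by
        rw [he m]; exact hmono h (he n ▸ subset_closure rfl))
      by_contra hne
      have hlt : e n < e m := lt_iff_le_not_ge.2 ⟨hsp, fun h' => hne (by
        rw [← he m, ← he n]
        exact closure_minimal (Set.singleton_subset_iff.mpr (specializes_iff_mem_closure.mp h')) isClosed_closure)⟩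
      have h3 := VarDim.deg_strictMono G.hom hlt
      exact absurd (hnmax ⟨m, rfl⟩ h3.le) (not_le.mpr h3)
  obtain ⟨Γ, _, i, hi, hic, ⟨f, hf⟩, hΓr, -, hrange⟩ := SmallestSubgroup.exists_smallest_range G W φ
  haveI := hi; haveI := hic; haveI := hΓr
  have hmem : ∀ {T : (Over (Spec (CommRingCat.of k)))} (g : T ⟶ G), g ∈ Subgroup.closure (Set.range fun x : T ⟶ W => x ≫ φ) → Mem φ g :=
    fun {T} g hg => by
      induction hg using Subgroup.closure_induction with
      | mem g h =>
        obtain ⟨x, rfl⟩ := h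
        show Mem φ (x ≫ φ)
        rw [← _root_.mul_one (x ≫ φ)]
        exact mem_cons φ x (mem_one φ)
      | one => exact mem_one φ
      | mul a b _ _ ha hb => exact mem_mul φ ha hb
      | inv a _ ha => exact mem_inv φ (β_ Z Z).hom hs ha
  have hsub : Set.range i.left ⊆ S n := by
    refine hrange.trans (closure_minimal ?_ (hSc n))
    rintro p ⟨T, g, t, hg, rfl⟩
    obtain ⟨m, y, rfl⟩ := hmem g hg
    exact hn m ⟨y.left t, rfl⟩
  let P : Wn W n ⟶ Γ := fn f n
  have hfn : ∀ m, fn f m ≫ i = fn φ m := fun m => by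
    induction m with
    | zero => exact IsMonHom.one_hom i
    | succ m ih =>
      show ((fst W (Wn W m) ≫ f) * (snd W (Wn W m) ≫ fn f m)) ≫ i = _
      rw [MonObj.mul_comp, Category.assoc, Category.assoc, hf, ih]
      rfl
  haveI : Surjective P.left := ⟨fun x => by
    obtain ⟨w, hw⟩ := hsub ⟨x, rfl⟩
    refine ⟨w, i.left.isClosedEmbedding.injective ?_⟩
    rw [← hw, ← hfn n]
    rfl⟩
  haveI : LocallyOfFiniteType Γ.hom := by rw [← Over.w i]; infer_instance
  haveI : IsSeparated Γ.hom := by rw [← Over.w i]; infer_instance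
  haveI : UniversallyClosed (P.left ≫ Γ.hom) := by rw [Over.w P]; infer_instance
  haveI : UniversallyClosed Γ.hom := UniversallyClosed.of_comp_surjective P.left Γ.hom
  haveI : QuasiCompact Γ.hom := inferInstance
  haveI : IsProper Γ.hom := ⟨⟩
  haveI : ConnectedSpace Γ.left := P.left.surjective.connectedSpace P.left.continuous
  haveI : GeometricallyConnected Γ.hom := H23.GeomConn.of_point k Γ.hom η[Γ].left (Over.w η[Γ])
  exact ⟨Γ, inferInstance, i, hi, hic, inferInstance, H23.CubeField.bijective_appTop_of_connected Γ, f, hf⟩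

/-- In a minimal anti-affine group which is not proper every proper subvariety is a point. -/
theorem dim_eq_zero {G Z : (Over (Spec (CommRingCat.of k)))} [GrpObj G] [LocallyOfFiniteType G.hom] [QuasiCompact G.hom]
    (hmin : ∀ (H : (Over (Spec (CommRingCat.of k)))) [GrpObj H] (h : H ⟶ G) [IsMonHom h] [IsClosedImmersion h.left], ¬ IsIso h →
      Function.Bijective H.hom.appTop → Red.IsTrivialGrp H)
    (hG : ¬ IsProper G.hom) (z : Z ⟶ G) [IsClosedImmersion z.left] [IsProper Z.hom] [GeometricallyIntegral Z.hom] :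
    topologicalKrullDim ↥Z.left = 0 := by
  obtain ⟨Γ, _, i, hi, hic, hp, hb, f, hf⟩ := exists_generated z
  haveI := hi; haveI := hic
  have hniso : ¬ IsIso i := fun h => hG (by
    haveI : IsIso i.left := (Over.forget _).map_isIso i
    haveI := hp
    rw [show G.hom = inv i.left ≫ Γ.hom by rw [IsIso.eq_inv_comp, Over.w i]]
    infer_instance)
  haveI : IsIso Γ.hom := hmin Γ i hniso hb
  have h1 : f = toUnit _ ≫ η[Γ] := by
    refine Over.OverMorphism.ext ?_
    rw [← cancel_mono Γ.hom, Over.w f, Over.comp_left, Category.assoc, Over.w η[Γ]]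
    exact (Category.comp_id _).symm
  have h2 : (fst Z Z ≫ z) * (snd Z Z ≫ z)⁻¹ = 1 := by
    rw [← hf, h1, Category.assoc, IsMonHom.one_hom i]; rfl
  haveI : Mono z := (Over.forget _).mono_of_mono_map (inferInstanceAs (Mono z.left))
  have h3 : fst Z Z = snd Z Z := (cancel_mono z).1 (mul_inv_eq_one.1 h2)
  haveI : IsIntegral Z.left := H23.MaxAbelian.isIntegral_of_geometricallyIntegral (X := Z)
  haveI : Subsingleton ↥(Spec (CommRingCat.of k)) := inferInstanceAs (Subsingleton (PrimeSpectrum k))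
  haveI : Subsingleton Z.left := ⟨fun a b => by
    obtain ⟨p, hp1, hp2⟩ := Scheme.Pullback.exists_preimage_pullback (f := Z.hom) (g := Z.hom) a b (Subsingleton.elim _ _)
    rw [← hp1, ← hp2]
    exact congrArg (fun m : Z ⊗ Z ⟶ Z => m.left p) h3⟩
  haveI : Unique Z.left := uniqueOfSubsingleton (Classical.arbitrary _)
  haveI : Nonempty (TopologicalSpace.IrreducibleCloseds Z.left) := ⟨⟨Set.univ, IrreducibleSpace.isIrreducible_univ _, isClosed_univ⟩⟩
  exact le_antisymm (topologicalKrullDim_zero_of_discreteTopology Z.left) (Order.krullDim_nonneg)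

end Groth.Agent.AGFLib.ProperSubvar
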