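import Groth.Agent.AGFLib.RatOpen
import Groth.Agent.RingPO.Open
import Groth.Agent.GrpSchLib.LaurentPic
import Groth.Agent.GrpSchLib.TensorDomain
import Groth.Agent.ExtReesLib.Ufd
import Groth.Agent.S2821
import Groth.Agent.S2116

/-!
A rational smooth algebra over an algebraically closed field and its tensor square are factorial away from one element
and factorial at every closed point.
-/

set_option autoImplicit false
set_option linter.style.haveILetI false
set_option backward.isDefEq.respectTransparency.types false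

universe u

open CategoryTheory AlgebraicGeometry TensorProduct

noncomputable section

namespace Groth.Agent.AGFLib.RatTensorUfd

open RatOpen

variable {k : Type u} [Field k] [IsAlgClosed k]

/-- Smooth algebras are factorial at closed points. -/
theorem ufd_atMaximal (A : Type u) [CommRing A] [Algebra k A] [Algebra.Smooth k A] (m : Ideal A) [m.IsMaximal] :
    UniqueFactorizationMonoid (Localization.AtPrime m) := by
  haveI : Algebra.FormallyEtale A (Localization.AtPrime m) :=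
    Algebra.FormallyEtale.of_isLocalization (M := m.primeCompl)
  haveI : Algebra.IsSmoothAt k m := Algebra.FormallySmooth.comp k A (Localization.AtPrime m)
  haveI : IsRegularLocalRing (Localization.AtPrime m) := (Groth.Agent.S2116.result (k := k) m).2 inferInstance
  exact (Groth.Agent.S2821.result (Localization.AtPrime m)).2

/-- A localisation of a factorial domain away from a nonzero element. -/
theorem ufd_away {B : Type u} [CommRing B] [IsDomain B] [UniqueFactorizationMonoid B] {b : B} (hb : b ≠ 0) :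
    IsDomain (Localization.Away b) ∧ UniqueFactorizationMonoid (Localization.Away b) := by
  have hle : Submonoid.powers b ≤ nonZeroDivisors B := powers_le_nonZeroDivisors_of_noZeroDivisors hb
  haveI : IsDomain (Localization.Away b) := IsLocalization.isDomain_localization hle
  exact ⟨inferInstance, ExtReesLib.ufd_of_isLocalization (Submonoid.powers b) hle _⟩

omit [IsAlgClosed k] in
/-- Points over a tensor of distinguished opens lift along an open immersion. -/
theorem range_tensor {A C : Type u} [CommRing A] [CommRing C] [Algebra k A] [Algebra k C] (φ : A →ₐ[k] C) {f : A}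
    (hf : Function.Bijective (Localization.awayMap φ.toRingHom f)) :
    (PrimeSpectrum.basicOpen (f ⊗ₜ[k] f) : Set (PrimeSpectrum (A ⊗[k] A))) ⊆
      Set.range (PrimeSpectrum.comap (Algebra.TensorProduct.map φ φ).toRingHom) := by
  intro q hq
  let κ := FractionRing ((A ⊗[k] A) ⧸ q.asIdeal)
  let χ : A ⊗[k] A →ₐ[k] κ := (IsScalarTower.toAlgHom k ((A ⊗[k] A) ⧸ q.asIdeal) κ).comp (Ideal.Quotient.mkₐ k q.asIdeal)
  have hker : ∀ x, χ x = 0 ↔ x ∈ q.asIdeal := fun x => by
    show algebraMap _ κ (Ideal.Quotient.mk q.asIdeal x) = 0 ↔ _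
    rw [map_eq_zero_iff _ (IsFractionRing.injective _ κ), Ideal.Quotient.eq_zero_iff_mem]
  have lift : ∀ α : A →ₐ[k] κ, α f ≠ 0 → ∃ β : C →ₐ[k] κ, β.comp φ = α := fun α hα => by
    let e := RingEquiv.ofBijective _ hf
    let l : Localization.Away f →+* κ := IsLocalization.Away.lift f (g := α.toRingHom) (isUnit_iff_ne_zero.2 hα)
    let b : C →+* κ := (l.comp e.symm.toRingHom).comp (algebraMap C (Localization.Away (φ.toRingHom f)))
    have hb : ∀ a, b (φ a) = α a := fun a => by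
      show l (e.symm (algebraMap C (Localization.Away (φ.toRingHom f)) (φ.toRingHom a))) = α a
      rw [show algebraMap C (Localization.Away (φ.toRingHom f)) (φ.toRingHom a) = e (algebraMap A (Localization.Away f) a) by
        simp [e, Localization.awayMap, IsLocalization.Away.map], RingEquiv.symm_apply_apply]
      exact IsLocalization.Away.lift_eq f _ a
    have hc : ∀ c : k, b (algebraMap k C c) = algebraMap k κ c := fun c => by rw [← φ.commutes, hb, α.commutes]
    exact ⟨{ b with commutes' := hc }, AlgHom.ext hb⟩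
  have hff : χ (f ⊗ₜ[k] f) ≠ 0 := fun h => hq ((hker _).1 h)
  rw [show f ⊗ₜ[k] f = (f ⊗ₜ[k] (1 : A)) * ((1 : A) ⊗ₜ[k] f) by simp, map_mul] at hff
  obtain ⟨β₁, h₁⟩ := lift (χ.comp Algebra.TensorProduct.includeLeft) (left_ne_zero_of_mul hff)
  obtain ⟨β₂, h₂⟩ := lift (χ.comp Algebra.TensorProduct.includeRight) (right_ne_zero_of_mul hff)
  let β : C ⊗[k] C →ₐ[k] κ := Algebra.TensorProduct.lift β₁ β₂ fun _ _ => Commute.all _ _
  have hβ : β.comp (Algebra.TensorProduct.map φ φ) = χ := by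
    refine Algebra.TensorProduct.ext' fun a b => ?_
    rw [show a ⊗ₜ[k] b = (a ⊗ₜ[k] (1 : A)) * ((1 : A) ⊗ₜ[k] b) by simp, map_mul χ,
      show χ (a ⊗ₜ[k] 1) = (χ.comp Algebra.TensorProduct.includeLeft) a from rfl,
      show χ (1 ⊗ₜ[k] b) = (χ.comp Algebra.TensorProduct.includeRight) b from rfl, ← h₁, ← h₂]
    simp [β]
  refine ⟨⟨RingHom.ker β.toRingHom, RingHom.ker_isPrime _⟩, PrimeSpectrum.ext (Ideal.ext fun x => ?_)⟩
  show β (Algebra.TensorProduct.map φ φ x) = 0 ↔ _
  rw [← AlgHom.comp_apply, hβ]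
  exact hker x

omit [IsAlgClosed k] in
/-- A factorial domain open in affine space, and a distinguished open of the source inside it. -/
theorem exists_chart {A : Type u} [CommRing A] [Algebra k A] [IsDomain A] (h : Rat k A) :
    ∃ (n : ℕ) (C : Type u) (_ : CommRing C) (_ : Algebra k C) (φ : A →ₐ[k] C) (ψ : MvPolynomial (Fin n) k →ₐ[k] C)
      (f : A) (g : MvPolynomial (Fin n) k), IsOpenHom φ.toRingHom ∧ IsOpenHom ψ.toRingHom ∧ f ≠ 0 ∧ g ≠ 0 ∧
        IsUnit (ψ g) ∧ φ f ≠ 0 ∧ Function.Bijective (Localization.awayMap φ.toRingHom f) ∧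
        Function.Bijective (Localization.awayMap ψ.toRingHom g) ∧ IsDomain C ∧ UniqueFactorizationMonoid C := by
  obtain ⟨n, C₀, _, _, φ₀, ψ₀, hC, hφ, hψ⟩ := h
  haveI := hC
  haveI : IsOpenImmersion (Spec.map (CommRingCat.ofHom ψ₀.toRingHom)) := hψ
  haveI : IsOpenImmersion (Spec.map (CommRingCat.ofHom φ₀.toRingHom)) := hφ
  obtain ⟨x₀⟩ := (inferInstance : Nonempty (PrimeSpectrum C₀))
  obtain ⟨_, ⟨g, rfl⟩, hxg, hg⟩ := PrimeSpectrum.isTopologicalBasis_basic_opens.exists_subset_of_mem_open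
    (show PrimeSpectrum.comap ψ₀.toRingHom x₀ ∈ Set.range (PrimeSpectrum.comap ψ₀.toRingHom) from ⟨x₀, rfl⟩)
    (Spec.map (CommRingCat.ofHom ψ₀.toRingHom)).isOpenEmbedding.isOpen_range
  have hg0 : g ≠ 0 := fun h => by subst h; exact hxg (zero_mem _)
  have hb := RingPO.awayMap_bijective_of_isOpenImmersion ψ₀.toRingHom g hg
  let C := Localization.Away (ψ₀.toRingHom g)
  let e : Localization.Away g ≃+* C := RingEquiv.ofBijective _ hb
  obtain ⟨hd, hu⟩ := ufd_away hg0
  haveI := hd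
  haveI := hu
  obtain ⟨hCd, hCu⟩ := GrpSchLib.LaurentPic.ufd_of_ringEquiv e
  haveI := hCd
  let φ : A →ₐ[k] C := (IsScalarTower.toAlgHom k C₀ C).comp φ₀
  let ψ : MvPolynomial (Fin n) k →ₐ[k] C := (IsScalarTower.toAlgHom k C₀ C).comp ψ₀
  have hloc : IsOpenHom (algebraMap C₀ C) := IsOpenImmersion.of_isLocalization (S := C) (ψ₀.toRingHom g)
  have hφ' : IsOpenHom φ.toRingHom := isOpenHom_comp (f := φ₀.toRingHom) (g := algebraMap C₀ C) hφ hloc
  have hψ' : IsOpenHom ψ.toRingHom := isOpenHom_comp (f := ψ₀.toRingHom) (g := algebraMap C₀ C) hψ hloc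
  haveI : IsOpenImmersion (Spec.map (CommRingCat.ofHom ψ.toRingHom)) := hψ'
  haveI : IsOpenImmersion (Spec.map (CommRingCat.ofHom φ.toRingHom)) := hφ'
  have hgu : IsUnit (ψ g) := IsLocalization.map_units C (⟨_, Submonoid.mem_powers _⟩ : Submonoid.powers (ψ₀.toRingHom g))
  have hg' : (PrimeSpectrum.basicOpen g : Set (PrimeSpectrum (MvPolynomial (Fin n) k))) ⊆
      Set.range (PrimeSpectrum.comap ψ.toRingHom) := fun p hp => by
    obtain ⟨y, rfl⟩ := hg hp
    have hy : y ∈ Set.range (PrimeSpectrum.comap (algebraMap C₀ C)) := by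
      rw [PrimeSpectrum.localization_away_comap_range C (ψ₀.toRingHom g)]
      exact hp
    obtain ⟨z, rfl⟩ := hy
    exact ⟨z, rfl⟩
  obtain ⟨x⟩ := (inferInstance : Nonempty (PrimeSpectrum C))
  obtain ⟨_, ⟨f, rfl⟩, hxf, hf⟩ := PrimeSpectrum.isTopologicalBasis_basic_opens.exists_subset_of_mem_open
    (show PrimeSpectrum.comap φ.toRingHom x ∈ Set.range (PrimeSpectrum.comap φ.toRingHom) from ⟨x, rfl⟩)
    (Spec.map (CommRingCat.ofHom φ.toRingHom)).isOpenEmbedding.isOpen_range
  have hφf : φ f ≠ 0 := fun h => hxf (show φ f ∈ x.asIdeal by rw [h]; exact zero_mem _)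
  exact ⟨n, C, inferInstance, inferInstance, φ, ψ, f, g, hφ', hψ', fun h => hφf (by rw [h, map_zero]), hg0, hgu, hφf,
    RingPO.awayMap_bijective_of_isOpenImmersion _ f hf, RingPO.awayMap_bijective_of_isOpenImmersion _ g hg',
    hCd, hCu⟩

/-- Factoriality away from `f` and from `f ⊗ f`. -/
theorem exists_ufd_away {A : Type u} [CommRing A] [Algebra k A] [IsDomain A] (h : Rat k A) :
    ∃ f : A, f ≠ 0 ∧ (IsDomain (Localization.Away f) ∧ UniqueFactorizationMonoid (Localization.Away f)) ∧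
      (IsDomain (Localization.Away (f ⊗ₜ[k] f)) ∧ UniqueFactorizationMonoid (Localization.Away (f ⊗ₜ[k] f))) := by
  obtain ⟨n, C, _, _, φ, ψ, f, g, hφ, hψ, hf0, hg0, hgu, hφf, hbf, hbg, hCd, hCu⟩ := exists_chart h
  haveI := hCd
  haveI := hCu
  obtain ⟨h1, h2⟩ := ufd_away (b := φ f) hφf
  haveI := h1
  haveI := h2
  refine ⟨f, hf0, GrpSchLib.LaurentPic.ufd_of_ringEquiv
    (RingEquiv.ofBijective _ hbf : Localization.Away f ≃+* Localization.Away (φ.toRingHom f)).symm, ?_⟩
  let P := MvPolynomial (Fin n) k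
  let eP : P ⊗[k] P ≃ₐ[k] MvPolynomial (Fin (n + n)) k :=
    (MvPolynomial.tensorEquivSum k (Fin n) (Fin n) k).trans (MvPolynomial.renameEquiv k finSumFinEquiv)
  obtain ⟨hPd, hPu⟩ := GrpSchLib.LaurentPic.ufd_of_ringEquiv eP.symm.toRingEquiv
  haveI := hPd
  haveI := hPu
  haveI hCC : IsDomain (C ⊗[k] C) := GrpSchLib.isDomain_tensor_of_isAlgClosed
  let Ψ := Algebra.TensorProduct.map ψ ψ
  let Φ := Algebra.TensorProduct.map φ φ
  haveI : IsOpenImmersion (Spec.map (CommRingCat.ofHom Ψ.toRingHom)) := isOpenHom_map ψ ψ hψ hψ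
  haveI : IsOpenImmersion (Spec.map (CommRingCat.ofHom Φ.toRingHom)) := isOpenHom_map φ φ hφ hφ
  have hΨg : IsUnit (Ψ.toRingHom (g ⊗ₜ[k] g)) := by
    show IsUnit (ψ g ⊗ₜ[k] ψ g)
    rw [show ψ g ⊗ₜ[k] ψ g = (ψ g ⊗ₜ[k] (1 : C)) * ((1 : C) ⊗ₜ[k] ψ g) by simp]
    exact (hgu.map (Algebra.TensorProduct.includeLeft : C →ₐ[k] C ⊗[k] C)).mul
      (hgu.map (Algebra.TensorProduct.includeRight : C →ₐ[k] C ⊗[k] C))
  have hgg : g ⊗ₜ[k] g ≠ 0 := fun h => hΨg.ne_zero (by rw [h, map_zero])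
  have hb := RingPO.awayMap_bijective_of_isOpenImmersion Ψ.toRingHom (g ⊗ₜ[k] g) (range_tensor ψ hbg)
  obtain ⟨h3, h4⟩ := ufd_away hgg
  haveI := h3
  haveI := h4
  obtain ⟨h5, h6⟩ := GrpSchLib.LaurentPic.ufd_of_ringEquiv
    (RingEquiv.ofBijective _ hb : Localization.Away (g ⊗ₜ[k] g) ≃+* Localization.Away (Ψ.toRingHom (g ⊗ₜ[k] g)))
  haveI := h5
  haveI := h6
  haveI : UniqueFactorizationMonoid (C ⊗[k] C) :=
    (GrpSchLib.LaurentPic.ufd_of_ringEquiv (IsLocalization.atUnit (C ⊗[k] C)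
      (Localization.Away (Ψ.toRingHom (g ⊗ₜ[k] g))) _ hΨg).symm.toRingEquiv).2
  have hff : Φ.toRingHom (f ⊗ₜ[k] f) ≠ 0 := fun h => by
    rw [show Φ.toRingHom (f ⊗ₜ[k] f) = (φ f ⊗ₜ[k] (1 : C)) * ((1 : C) ⊗ₜ[k] φ f) by simp [Φ]] at h
    rcases mul_eq_zero.1 h with h' | h'
    · exact hφf ((Module.FaithfullyFlat.one_tmul_eq_zero_iff k C (A := C) (φ f)).1
        (by simpa using congrArg (TensorProduct.comm k C C) h'))
    · exact hφf ((Module.FaithfullyFlat.one_tmul_eq_zero_iff k C (A := C) (φ f)).1 h')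
  have hb' := RingPO.awayMap_bijective_of_isOpenImmersion Φ.toRingHom (f ⊗ₜ[k] f) (range_tensor φ hbf)
  obtain ⟨h7, h8⟩ := ufd_away hff
  haveI := h7
  haveI := h8
  exact GrpSchLib.LaurentPic.ufd_of_ringEquiv
    (RingEquiv.ofBijective _ hb' : Localization.Away (f ⊗ₜ[k] f) ≃+* Localization.Away (Φ.toRingHom (f ⊗ₜ[k] f))).symm

end Groth.Agent.AGFLib.RatTensorUfd
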