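import Groth.Agent.AGFLib.InvIdeal
import Groth.Agent.GrpSchLib.Kunneth
import Mathlib.RingTheory.Flat.Basic

/-! The translation action of a subgroup on the functions of a group. -/

set_option backward.isDefEq.respectTransparency false
set_option backward.isDefEq.respectTransparency.types false
set_option linter.style.haveILetI false

universe u

open CategoryTheory MonoidalCategory CartesianMonoidalCategory MonObj AlgebraicGeometry TensorProduct

namespace Groth.Agent.AGFLib

open GrpSchLib GrpSchLib.Kunneth GrpSchLib.LineGroups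

variable {k : Type u} [Field k]

variable (B : Type u) [CommRing B] [Algebra k B] (X : Over (Spec (CommRingCat.of k))) [IsAffine X.left]

/-- Functions on the product with an affine test scheme. -/
noncomputable def prodFn : B ⊗[k] Fn X ≃ₐ[k] Fn (VecGrp.pt k B ⊗ X) :=
  haveI : IsAffine (VecGrp.pt k B).left := isAffine_Spec _
  haveI : QuasiCompact (VecGrp.pt k B).hom := inferInstance
  haveI : IsSeparated (VecGrp.pt k B).hom := inferInstance
  (Algebra.TensorProduct.congr (spEquiv (k := k) B) (AlgEquiv.refl : Fn X ≃ₐ[k] Fn X)).trans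
    (AlgEquiv.ofBijective (toProd (VecGrp.pt k B) X) (toProd_bijective _ _))

theorem prodFn_tmul (b : B) (f : Fn X) :
    prodFn B X (b ⊗ₜ[k] f) = ev (fst (VecGrp.pt k B) X) (spEquiv (k := k) B b) * ev (snd (VecGrp.pt k B) X) f := by
  show toProd (VecGrp.pt k B) X (spEquiv (k := k) B b ⊗ₜ[k] f) = _
  rw [toProd, Algebra.TensorProduct.lift_tmul]

theorem ev_ptMap_spEquiv {B' : Type u} [CommRing B'] [Algebra k B'] (φ : B →ₐ[k] B') (b : B) :
    ev (VecGrp.ptMap φ) (spEquiv (k := k) B b) = spEquiv (k := k) B' (φ b) :=
  (ConcreteCategory.congr_hom (Scheme.ΓSpecIso_inv_naturality (CommRingCat.ofHom φ.toRingHom)) b).symm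

theorem prodFn_Wmap {B' : Type u} [CommRing B'] [Algebra k B'] (φ : B →ₐ[k] B') (z : B ⊗[k] Fn X) :
    prodFn B' X (VecGrp.Wmap φ z) = ev (VecGrp.ptMap φ ▷ X) (prodFn B X z) := by
  induction z using TensorProduct.induction_on with
  | zero => simp
  | tmul b f =>
    rw [VecGrp.Wmap_tmul, prodFn_tmul, prodFn_tmul, map_mul, ev_ev, ev_ev, whiskerRight_fst, whiskerRight_snd,
      ← ev_ev, ev_ptMap_spEquiv]
  | add x y hx hy => simp only [map_add, hx, hy]

variable {X} {Y : Over (Spec (CommRingCat.of k))} [IsAffine Y.left]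

theorem prodFn_lTensor (c : Y ⟶ X) (z : B ⊗[k] Fn X) :
    prodFn B Y ((ev c).toLinearMap.lTensor B z) = ev (VecGrp.pt k B ◁ c) (prodFn B X z) := by
  induction z using TensorProduct.induction_on with
  | zero => simp
  | tmul b f =>
    rw [LinearMap.lTensor_tmul, prodFn_tmul, prodFn_tmul, map_mul, ev_ev, ev_ev, whiskerLeft_fst, whiskerLeft_snd,
      ← ev_ev (snd (VecGrp.pt k B) Y)]
    rfl
  | add x y hx hy => simp only [map_add, hx, hy]

variable {G H : Over (Spec (CommRingCat.of k))} [GrpObj G] [GrpObj H]

/-- The translation of the product by a point of the subgroup. -/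
noncomputable def shift {B : Type u} [CommRing B] [Algebra k B] (i : H ⟶ G) (q : VecGrp.pt k B ⟶ H) :
    VecGrp.pt k B ⊗ G ⟶ VecGrp.pt k B ⊗ G :=
  lift (fst _ G) (snd _ G * (fst _ G ≫ q ≫ i))

theorem shift_comp {B : Type u} [CommRing B] [Algebra k B] (i : H ⟶ G) [IsMonHom i] (q q' : VecGrp.pt k B ⟶ H) :
    shift i q ≫ shift i q' = shift i (q * q') := by
  rw [shift, shift, shift, comp_lift, lift_fst, MonObj.comp_mul, lift_snd, lift_fst_assoc, MonObj.mul_comp,
    MonObj.comp_mul, _root_.mul_assoc]

theorem shift_one {B : Type u} [CommRing B] [Algebra k B] (i : H ⟶ G) [IsMonHom i] :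
    shift i (1 : VecGrp.pt k B ⟶ H) = 𝟙 _ := by
  rw [shift, MonObj.one_comp, MonObj.comp_one, _root_.mul_one, lift_fst_snd]

variable [IsAffine G.left]

/-- Right translation by a point, as a ring endomorphism. -/
noncomputable def transl {B : Type u} [CommRing B] [Algebra k B] (i : H ⟶ G) (q : VecGrp.pt k B ⟶ H) :
    B ⊗[k] Fn G →ₐ[k] B ⊗[k] Fn G :=
  ((prodFn B G).symm.toAlgHom.comp (ev (shift i q))).comp (prodFn B G).toAlgHom

theorem prodFn_transl {B : Type u} [CommRing B] [Algebra k B] (i : H ⟶ G) (q : VecGrp.pt k B ⟶ H)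
    (z : B ⊗[k] Fn G) : prodFn B G (transl i q z) = ev (shift i q) (prodFn B G z) :=
  (prodFn B G).apply_symm_apply _

/-- The translation action of a subgroup on the functions. -/
noncomputable def translMod (i : H ⟶ G) [IsMonHom i] : VecGrp.GMod H (Fn G) where
  ρ B _ _ :=
    (LinearMap.GeneralLinearGroup.generalLinearEquiv B (B ⊗[k] Fn G)).toMonoidHom.comp
      (MonoidHom.toHomUnits
        { toFun := fun q =>
            { toFun := transl i q
              map_add' := map_add _
              map_smul' := fun b z => by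
                apply (prodFn B G).injective
                have e : ∀ x : B ⊗[k] Fn G, b • x = (b ⊗ₜ[k] (1 : Fn G)) * x := fun x => by
                  induction x using TensorProduct.induction_on with
                  | zero => simp
                  | tmul c f => rw [TensorProduct.smul_tmul', Algebra.TensorProduct.tmul_mul_tmul, _root_.one_mul, smul_eq_mul]
                  | add x y hx hy => rw [smul_add, hx, hy, mul_add]
                rw [RingHom.id_apply, e, e, map_mul (prodFn B G), prodFn_transl, map_mul, map_mul, prodFn_transl,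
                  prodFn_tmul, map_mul, map_one, map_one, _root_.mul_one, ev_ev, shift, lift_fst, _root_.mul_one] }
          map_one' := LinearMap.ext fun z => by
            apply (prodFn B G).injective
            show prodFn B G (transl i 1 z) = _
            rw [prodFn_transl, shift_one, ev_id]
            rfl
          map_mul' := fun q q' => LinearMap.ext fun z => by
            apply (prodFn B G).injective
            show prodFn B G (transl i (q * q') z) = prodFn B G (transl i q (transl i q' z))
            rw [prodFn_transl, prodFn_transl, prodFn_transl, ev_ev, shift_comp] })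
  naturality {B B'} _ _ _ _ φ q z := by
    show VecGrp.Wmap φ (transl i q z) = transl i (VecGrp.ptMap φ ≫ q) (VecGrp.Wmap φ z)
    apply (prodFn B' G).injective
    rw [prodFn_Wmap, prodFn_transl, prodFn_transl, prodFn_Wmap, ev_ev, ev_ev]
    congr 2
    rw [shift, shift, comp_lift, MonObj.comp_mul, whiskerRight_fst, whiskerRight_snd]
    refine CartesianMonoidalCategory.hom_ext _ _ ?_ ?_
    · simp
    · simp [MonObj.mul_comp]

theorem translMod_apply {B : Type u} [CommRing B] [Algebra k B] (i : H ⟶ G) [IsMonHom i] (q : VecGrp.pt k B ⟶ H)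
    (z : B ⊗[k] Fn G) : (translMod i).ρ B q z = transl i q z := rfl

theorem translMod_isMult (i : H ⟶ G) [IsMonHom i] : (translMod i).IsMult := fun B _ _ q =>
  ⟨fun x y => map_mul (transl i q) x y, map_one (transl i q)⟩

/-- The functions killed by a translate of the subgroup form a stable subspace. -/
theorem translMod_isStable [IsAffine H.left] (i : H ⟶ G) [IsMonHom i] (t : VecGrp.pt k k ⟶ G) :
    (translMod i).IsStable (𝟙 H) ((RingHom.ker (ev ((toPt H ≫ t) * i))).restrictScalars k) := by
  intro B _ _ q f hf
  rw [Category.comp_id, translMod_apply]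
  set ψ := (ev ((toPt H ≫ t) * i)).toLinearMap
  have hker : ψ.lTensor B (transl i q ((1 : B) ⊗ₜ[k] f)) = 0 := by
    apply (prodFn B H).injective
    rw [map_zero, prodFn_lTensor, prodFn_transl, prodFn_tmul, map_one, map_one, _root_.one_mul, ev_ev, ev_ev]
    have e : (VecGrp.pt k B ◁ ((toPt H ≫ t) * i) ≫ shift i q) ≫ snd (VecGrp.pt k B) G =
        (snd (VecGrp.pt k B) H * (fst (VecGrp.pt k B) H ≫ q)) ≫ ((toPt H ≫ t) * i) := by
      have a1 : ∀ {T : Over (Spec (CommRingCat.of k))} (w : T ⟶ H),
          w ≫ ((toPt H ≫ t) * i) = (toPt T ≫ t) * (w ≫ i) := fun {T} w => by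
        rw [MonObj.comp_mul, ← Category.assoc, hom_pt_ext (w ≫ toPt H)]
      rw [Category.assoc, shift, lift_snd, MonObj.comp_mul, whiskerLeft_snd, whiskerLeft_fst_assoc, a1, a1,
        MonObj.mul_comp, Category.assoc, _root_.mul_assoc]
    rw [e, ← ev_ev]
    rw [show ev ((toPt H ≫ t) * i) f = 0 from hf, map_zero]
  have hex := Module.Flat.lTensor_exact B (LinearMap.exact_subtype_ker_map ψ)
  obtain ⟨z, hz⟩ := (hex _).1 hker
  rw [← hz]
  clear hz hker
  induction z using TensorProduct.induction_on with
  | zero => simp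
  | tmul b x =>
    rw [LinearMap.lTensor_tmul]
    exact Submodule.tmul_mem_baseChange_of_mem b x.2
  | add x y hx hy => rw [map_add]; exact add_mem hx hy

end Groth.Agent.AGFLib
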