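import Groth.Agent.AGFLib.GenericSection
import Groth.Agent.AGFLib.KernelTorsor
import Groth.Agent.AGFLib.AntPart
import Groth.Agent.AGFLib.Borel
import Groth.Agent.GrpSchLib.TorsorFibre
import Groth.Agent.GrpSchLib.ImageFactor
import Groth.Agent.GrpSchLib.HomFlat
import Groth.Agent.SolvGrp.BorelNormScheme
import Groth.Agent.H23.RigidBase
import Groth.Agent.S5260
import Groth.Agent.S0348

/-!
Homomorphisms with connected solvable affine kernel have rational sections; the extension of an abelian variety by an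
affine group reduces to one by a Borel subgroup and is Zariski locally trivial.
-/

set_option autoImplicit false
set_option backward.isDefEq.respectTransparency.types false
set_option linter.style.haveILetI false
set_option maxHeartbeats 1000000

universe u

open CategoryTheory MonoidalCategory CartesianMonoidalCategory MonObj AlgebraicGeometry

namespace Groth.Agent.AGFLib.SolvKernel

open GrpSchLib AGFLib AGFLib.Gen

variable {k : Type u} [Field k] [IsAlgClosed k]

local notation "PT" => 𝟙_ (Over (Spec (CommRingCat.of k)))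

/-- A surjective homomorphism with connected solvable affine kernel has a rational section. -/
theorem exists_section {B G A : Over (Spec (CommRingCat.of k))} [GrpObj B] [GrpObj G] [GrpObj A]
    [Smooth A.hom] [ConnectedSpace A.left] [IsAffine B.left] [Smooth B.hom] [ConnectedSpace B.left]
    [LocallyOfFiniteType G.hom] [QuasiCompact G.hom] (hs : Red.IsSolvableGrp B) (i : B ⟶ G) [IsMonHom i]
    (q : G ⟶ A) [IsMonHom q] [Surjective q.left] [Flat q.left] (hker : AlgGrp.IsKernel i q) :
    ∃ U : A.left.Opens, (U : Set A.left).Nonempty ∧ ∃ s : (↑U : Scheme.{u}) ⟶ G.left, s ≫ q.left = U.ι := by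
  haveI : IrreducibleSpace A.left := Groth.Agent.S0348.result k A
  haveI : IsReduced A.left := GrpSchLib.isReduced_of_smooth_field A.hom
  haveI : IsIntegral A.left := isIntegral_of_irreducibleSpace_of_isReduced A.left
  haveI : LocallyOfFiniteType (q.left ≫ A.hom) := by rw [Over.w q]; infer_instance
  haveI : LocallyOfFiniteType q.left := locallyOfFiniteType_of_comp q.left A.hom
  let K : Type u := A.left.functionField
  let ξ : Spec (CommRingCat.of K) ⟶ A.left := A.left.fromSpecStalk (genericPoint A.left)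
  let σ : Spec (CommRingCat.of K) ⟶ Spec (CommRingCat.of k) := ξ ≫ A.hom
  obtain ⟨hinv, htors⟩ := KernelTorsor.shear i q hker
  haveI : Nonempty (TorsorFibre.fib (K := CommRingCat.of K) q ξ).left := by
    haveI : Surjective (Limits.pullback.snd q.left ξ) := inferInstance
    exact ⟨((Limits.pullback.snd q.left ξ).surjective (IsLocalRing.closedPoint K)).choose⟩
  obtain ⟨x⟩ := GenericSection.exists_point hs σ
    (TorsorFibre.action (K := CommRingCat.of K) (H26.GaExtRational.act i) q σ ξ rfl hinv)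
    (TorsorFibre.isIso_shear (K := CommRingCat.of K) _ q σ ξ rfl hinv htors)
  exact GenericSection.exists_open_section q.left (x.left ≫ Limits.pullback.fst q.left ξ) (by
    have hx : x.left ≫ Limits.pullback.snd q.left ξ = 𝟙 _ := Over.w x
    rw [Category.assoc, Limits.pullback.condition, reassoc_of% hx])

/-- A section over a nonempty open can be translated around any point. -/
theorem exists_section_nhd {G A : Over (Spec (CommRingCat.of k))} [GrpObj G] [GrpObj A]
    [LocallyOfFiniteType G.hom] [LocallyOfFiniteType A.hom] (q : G ⟶ A) [IsMonHom q] [Surjective q.left]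
    (U : A.left.Opens) (hU : (U : Set A.left).Nonempty) (s : (↑U : Scheme.{u}) ⟶ G.left) (hs : s ≫ q.left = U.ι)
    (y : A.left) : ∃ V : A.left.Opens, y ∈ V ∧ ∃ t : (↑V : Scheme.{u}) ⟶ G.left, t ≫ q.left = V.ι := by
  haveI := AntiAffine.isSeparated_grp A
  haveI : JacobsonSpace A.left := LocallyOfFiniteType.jacobsonSpace A.hom
  obtain ⟨z, hz1, hz2⟩ := nonempty_inter_closedPoints (Z := closure ({y} : Set A.left))
    ⟨y, subset_closure rfl⟩ isClosed_closure.isLocallyClosed
  obtain ⟨v, hv1, hv2⟩ := nonempty_inter_closedPoints (Z := (U : Set A.left)) hU U.isOpen.isLocallyClosed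
  obtain ⟨zp, rfl⟩ := exists_cp hz2
  obtain ⟨vp, rfl⟩ := exists_cp hv2
  obtain ⟨g, hg⟩ := exists_of_mem_range q (zp * vp⁻¹) (q.left.surjective _)
  let τ : A ⟶ A := (toUnit A ≫ (zp * vp⁻¹)⁻¹) * 𝟙 A
  let V : A.left.Opens := τ.left ⁻¹ᵁ U
  have hzV : cp zp ∈ V := by
    show τ.left (zp.left (IsLocalRing.closedPoint k)) ∈ U
    rw [← Scheme.Hom.comp_apply, ← Over.comp_left]
    have e : zp ≫ τ = vp := by
      rw [MonObj.comp_mul, Category.comp_id, ← Category.assoc, toUnit_unique (zp ≫ toUnit A) (𝟙 _),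
        Category.id_comp, mul_inv_rev, _root_.inv_inv, inv_mul_cancel_right]
    rw [e]
    exact hv1
  refine ⟨V, (specializes_iff_mem_closure.mpr hz1).mem_open V.isOpen hzV, ?_⟩
  let tr : (↑V : Scheme.{u}) ⟶ ↑U := IsOpenImmersion.lift U.ι (V.ι ≫ τ.left) (by
    rintro _ ⟨x, rfl⟩
    exact ⟨⟨_, x.2⟩, rfl⟩)
  have htr : tr ≫ U.ι = V.ι ≫ τ.left := IsOpenImmersion.lift_fac _ _ _
  let T : Over (Spec (CommRingCat.of k)) := Over.mk (V.ι ≫ A.hom)
  let vT : T ⟶ A := Over.homMk V.ι rfl
  let sT : T ⟶ G := Over.homMk (tr ≫ s) (by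
    show (tr ≫ s) ≫ G.hom = V.ι ≫ A.hom
    rw [← Over.w q, Category.assoc, reassoc_of% hs, reassoc_of% htr, Over.w τ])
  have hsT : sT ≫ q = vT ≫ τ := Over.OverMorphism.ext (by
    show (tr ≫ s) ≫ q.left = V.ι ≫ τ.left
    rw [Category.assoc, hs, htr])
  refine ⟨((toUnit T ≫ g) * sT).left, ?_⟩
  have e : ((toUnit T ≫ g) * sT) ≫ q = vT := by
    rw [MonObj.mul_comp, Category.assoc, hg, hsT]
    show (toUnit T ≫ (zp * vp⁻¹)) * (vT ≫ ((toUnit A ≫ (zp * vp⁻¹)⁻¹) * 𝟙 A)) = vT
    generalize zp * vp⁻¹ = a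
    rw [MonObj.comp_mul, Category.comp_id, ← Category.assoc, toUnit_unique (vT ≫ toUnit A) (toUnit T),
      GrpObj.comp_inv, mul_inv_cancel_left]
  exact congrArg CommaMorphism.left e

/-- A point commuting with everything lies in every Borel subgroup. -/
theorem exists_fac_borel {N B : Over (Spec (CommRingCat.of k))} [GrpObj N] [GrpObj B] [IsAffine N.left]
    [Smooth N.hom] [ConnectedSpace N.left] (iB : B ⟶ N) [IsMonHom iB] (hB : Red.IsBorelOver k iB)
    {T : Over (Spec (CommRingCat.of k))} (c : T ⟶ N)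
    (hc : ∀ (T' : Over (Spec (CommRingCat.of k))) (x : T' ⟶ T) (g : T' ⟶ N), (x ≫ c) * g = g * (x ≫ c)) :
    ∃ b : T ⟶ B, b ≫ iB = c := by
  haveI := hB.2.1; haveI := hB.2.2.1; haveI := hB.2.2.2.1
  obtain ⟨haB, hlB, hqB, hmono, -⟩ := SolvGrp.sub_props iB
  haveI := haB; haveI := hlB; haveI := hqB; haveI := hmono
  haveI := AntiAffine.isSeparated_grp B
  have hconn : ∀ s : Spec (CommRingCat.of k),
      ConnectedSpace ↥(Limits.pullback B.hom ((Spec (CommRingCat.of k)).fromSpecResidueField s)) := fun s => by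
    haveI : IsIso ((Spec (CommRingCat.of k)).fromSpecResidueField s) := H23.RigidBase.isIso_fromSpecResidueField k s
    exact (asIso (Limits.pullback.fst B.hom ((Spec (CommRingCat.of k)).fromSpecResidueField s))).inv.surjective.connectedSpace
      (Scheme.Hom.continuous _)
  haveI := AntiAffine.isSeparated_grp N
  obtain ⟨Z, _, z, hz, hcz, -⟩ := Groth.Agent.S5260.result N B hconn iB
  obtain ⟨f, hf⟩ := SolvGrp.exists_fac_normalizer iB hB z hz hcz
  obtain ⟨w, hw⟩ := (hz.2.2 T c).mpr fun T' x h => by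
    refine ⟨⟨h, ?_⟩, h, ?_⟩
    · rw [hc, mul_inv_cancel_right]
    · rw [_root_.mul_assoc, ← hc, inv_mul_cancel_left]
  exact ⟨w ≫ f, by rw [Category.assoc, hf, hw]⟩

/-- The extension of a proper group by an affine group comes from an extension by a Borel subgroup. -/
theorem exists_borel_reduction {G N A : Over (Spec (CommRingCat.of k))} [GrpObj G] [GrpObj N] [GrpObj A]
    [Smooth G.hom] [QuasiCompact G.hom] [ConnectedSpace G.left]
    (i : N ⟶ G) [IsMonHom i] [IsClosedImmersion i.left] [Smooth N.hom] [ConnectedSpace N.left] [IsAffine N.left]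
    [IsProper A.hom] [Smooth A.hom] (q : G ⟶ A) [IsMonHom q] [Surjective q.left] [Flat q.left]
    (hker : AlgGrp.IsKernel i q) :
    ∃ (U : A.left.Opens) (s : (↑U : Scheme.{u}) ⟶ G.left), (U : Set A.left).Nonempty ∧ s ≫ q.left = U.ι := by
  haveI := AntiAffine.isSeparated_grp G
  haveI : ConnectedSpace A.left := q.left.surjective.connectedSpace q.left.continuous
  haveI : QuasiCompact A.hom := inferInstance
  haveI : IsReduced A.left := GrpSchLib.isReduced_of_smooth_field A.hom
  obtain ⟨M, _, m, hm, hmc, -, hlM, hqM, hM, -, -⟩ := AntPart.exists_ant G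
  haveI := hm; haveI := hmc; haveI := hlM; haveI := hqM
  obtain ⟨MA, _, mA, hmA, -, -, -, -, hA, -, -⟩ := AntPart.exists_ant A
  haveI := hmA
  have hMA : Set.range (m ≫ q).left = Set.univ := by
    rw [AntPart.range_comp_quot q hM hA, AntPart.range_ant_of_proper A hA]
  haveI : Surjective (m ≫ q).left := ⟨Set.range_eq_univ.mp hMA⟩
  have hcent : ∀ {T : Over (Spec (CommRingCat.of k))} (a : T ⟶ M) (g : T ⟶ G),
      (a ≫ m) * g = g * (a ≫ m) := fun a g =>
    AntiAffine.commute hM.bij m (by rw [IsMonHom.one_hom m, MonObj.one_eq_one]) a g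
  obtain ⟨B, _, iB, _, _, _, hB, -, -⟩ := AGFLib.Borel.exists_borel N
  obtain ⟨hiB, hiBc, hsB, hcB, hsolv, -⟩ := id hB
  haveI := hiB; haveI := hiBc; haveI := hsB; haveI := hcB
  obtain ⟨haB, hlB, hqB, -, -⟩ := SolvGrp.sub_props iB
  haveI := haB; haveI := hlB; haveI := hqB
  haveI : LocallyOfFiniteType (M ⊗ B).hom :=
    inferInstanceAs (LocallyOfFiniteType (Limits.pullback.fst M.hom B.hom ≫ M.hom))
  haveI : QuasiCompact (M ⊗ B).hom :=
    inferInstanceAs (QuasiCompact (Limits.pullback.fst M.hom B.hom ≫ M.hom))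
  let ψ : M ⊗ B ⟶ G := (fst M B ≫ m) * (snd M B ≫ iB ≫ i)
  haveI : IsMonHom ψ := AGFLib.isMonHom_of_mul _ fun X a b => by
    simp only [ψ, MonObj.comp_mul, ← Category.assoc]
    simp only [MonObj.mul_comp, Category.assoc]
    rw [_root_.mul_assoc, ← _root_.mul_assoc (b ≫ fst M B ≫ m) _ _, ← Category.assoc b (fst M B) m,
      hcent (b ≫ fst M B), Category.assoc]
    simp only [_root_.mul_assoc]
  obtain ⟨G', _, p, j, hp, hj, hpj, hjc, hpf, hps, hl', hq'⟩ := GrpSchLib.ImageFactor.exists_image ψ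
  haveI := hp; haveI := hj; haveI := hjc; haveI := hpf; haveI := hps; haveI := hl'; haveI := hq'
  haveI : Mono j := AntPart.mono_sub j
  have hiq : i ≫ q = 1 := by rw [hker.w, Hom.one_def]
  have hψq : ψ ≫ q = fst M B ≫ m ≫ q := by
    rw [MonObj.mul_comp, Category.assoc, Category.assoc, Category.assoc, hiq, MonObj.comp_one, MonObj.comp_one,
      _root_.mul_one]
  haveI : Surjective (j ≫ q).left := ⟨fun y => by
    obtain ⟨w, hw⟩ := (m ≫ q).left.surjective y
    refine ⟨(lift (𝟙 M) 1 ≫ p).left w, ?_⟩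
    rw [← hw, ← Scheme.Hom.comp_apply, ← Over.comp_left]
    congr 2
    rw [Category.assoc, ← Category.assoc p, hpj, hψq, lift_fst_assoc, Category.id_comp]⟩
  haveI := AntiAffine.isSeparated_grp A
  haveI : QuasiCompact (j ≫ q).left := AntPart.qc_hom (j ≫ q)
  haveI : Flat (j ≫ q).left := GrpSchLib.flat_of_surjective_hom (j ≫ q)
  let u : B ⟶ G' := lift 1 (𝟙 B) ≫ p
  haveI : IsMonHom (lift (1 : B ⟶ M) (𝟙 B)) := AGFLib.isMonHom_of_mul _ fun X a b => by
    refine CartesianMonoidalCategory.hom_ext _ _ ?_ ?_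
    · simp [MonObj.mul_comp, MonObj.comp_one]
    · simp [MonObj.mul_comp]
  haveI : IsMonHom u := inferInstanceAs (IsMonHom (lift 1 (𝟙 B) ≫ p))
  have hu : u ≫ j = iB ≫ i := by
    rw [Category.assoc, hpj, MonObj.comp_mul, lift_fst_assoc, lift_snd_assoc, Category.id_comp, MonObj.one_comp,
      _root_.one_mul]
  haveI : IsClosedImmersion (iB ≫ i).left := inferInstanceAs (IsClosedImmersion (iB.left ≫ i.left))
  haveI : Mono (iB ≫ i) := AntPart.mono_sub _
  have hlift : ∀ {T : Over (Spec (CommRingCat.of k))} (g : T ⟶ G'), g ≫ j ≫ q = 1 →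
      ∃ b : T ⟶ B, b ≫ u = g := by
    intro T g hg
    obtain ⟨W, a, e, hae, he⟩ : ∃ (W : Over (Spec (CommRingCat.of k))) (a : W ⟶ M ⊗ B) (e : W ⟶ T),
        a ≫ p = e ≫ g ∧ (QuasiCompact e.left ∧ Surjective e.left ∧ Flat e.left) := by
      refine ⟨Over.mk (Limits.pullback.snd p.left g.left ≫ T.hom), Over.homMk (Limits.pullback.fst p.left g.left) (by
        show Limits.pullback.fst p.left g.left ≫ (M ⊗ B).hom = Limits.pullback.snd p.left g.left ≫ T.hom
        rw [← Over.w p, Limits.pullback.condition_assoc, Over.w g]), Over.homMk (Limits.pullback.snd p.left g.left) rfl,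
        Over.OverMorphism.ext Limits.pullback.condition, ?_⟩
      haveI := AntiAffine.isSeparated_grp G'
      haveI : QuasiCompact p.left := AntPart.qc_hom p
      exact ⟨inferInstanceAs (QuasiCompact (Limits.pullback.snd p.left g.left)),
        inferInstanceAs (Surjective (Limits.pullback.snd p.left g.left)),
        inferInstanceAs (Flat (Limits.pullback.snd p.left g.left))⟩
    obtain ⟨he1, he2, he3⟩ := he
    haveI := he1; haveI := he2; haveI := he3
    have h1 : (a ≫ fst M B ≫ m) ≫ q = toUnit W ≫ η[A] := by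
      simp only [Category.assoc]
      rw [← hψq, ← hpj, ← Category.assoc, ← Category.assoc, hae, Category.assoc, Category.assoc, hg, MonObj.comp_one,
        Hom.one_def]
    let c : W ⟶ N := hker.lift (a ≫ fst M B ≫ m) (toUnit W) h1
    have hc : c ≫ i = a ≫ fst M B ≫ m := hker.lift_fst _ _ _
    haveI : Mono i := AntPart.mono_sub i
    obtain ⟨b₁, hb₁⟩ := exists_fac_borel iB hB c fun T' x y => by
      rw [← cancel_mono i, MonObj.mul_comp, MonObj.mul_comp, Category.assoc, hc]
      simp only [← Category.assoc]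
      exact hcent _ _
    have hW : (b₁ * (a ≫ snd M B)) ≫ (iB ≫ i) = e ≫ g ≫ j := by
      rw [← Category.assoc e, ← hae, Category.assoc, hpj, MonObj.mul_comp, MonObj.comp_mul, ← Category.assoc b₁, hb₁,
        hc]
      simp only [Category.assoc]
    obtain ⟨b, hb⟩ := AntPart.exists_lift_of_cover (iB ≫ i) (g ≫ j) e _ hW
    exact ⟨b, by rw [← cancel_mono j, Category.assoc, hu, hb]⟩
  have hk' : AlgGrp.IsKernel u (j ≫ q) := by
    refine IsPullback.mk ⟨?_⟩ ⟨Limits.PullbackCone.IsLimit.mk _
      (fun c => (hlift c.fst (c.condition.trans (by rw [Hom.one_def, toUnit_unique c.snd (toUnit _)]))).choose)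
      (fun c => (hlift c.fst (c.condition.trans (by rw [Hom.one_def, toUnit_unique c.snd (toUnit _)]))).choose_spec)
      (fun c => toUnit_unique _ _) fun c n n1 _ => ?_⟩
    · rw [← Category.assoc, hu, Category.assoc, hker.w, ← Category.assoc, toUnit_unique (iB ≫ toUnit N) (toUnit B)]
    · have hch := (hlift c.fst (c.condition.trans (by rw [Hom.one_def, toUnit_unique c.snd (toUnit _)]))).choose_spec
      have h2 := congrArg (· ≫ j) (n1.trans hch.symm)
      simp only [Category.assoc, hu] at h2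
      exact (cancel_mono (iB ≫ i)).mp h2
  obtain ⟨U, hU, s, hs⟩ := exists_section hsolv u (j ≫ q) hk'
  exact ⟨U, s ≫ j.left, hU, (Category.assoc _ _ _).trans hs⟩

end Groth.Agent.AGFLib.SolvKernel
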