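import Groth.Agent.AGFLib.SolvTorsor
import Groth.Agent.AGFLib.GlobalH90
import Mathlib.RingTheory.TensorProduct.MvPolynomial
import Mathlib.RingTheory.TensorProduct.MonoidAlgebra

/-!
Connected solvable affine groups over an algebraically closed field as schemes: unipotent ones are affine spaces, all
have factorial coordinate rings, and homomorphisms between them with connected solvable kernel have sections.
-/

set_option autoImplicit false
set_option backward.isDefEq.respectTransparency.types false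
set_option linter.style.haveILetI false
set_option linter.unusedSectionVars false
set_option maxHeartbeats 1000000

universe u

open CategoryTheory MonoidalCategory CartesianMonoidalCategory MonObj AlgebraicGeometry
open scoped Polynomial TensorProduct

namespace Groth.Agent.AGFLib.SolvSection

open SolvGrp GrpSchLib GrpSchLib.Kunneth GrpSchLib.LineGroups WeilCmp.Unip AGFLib AGFLib.Gen AGFLib.BorelFixed
  AGFLib.BorelExist AGFLib.GlobalH90

variable {k : Type u} [Field k] [IsAlgClosed k]

local notation "PT" => 𝟙_ (Over (Spec (CommRingCat.of k)))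

/-- The trivial group. -/
theorem h90_trivialGrp {V : Over (Spec (CommRingCat.of k))} [GrpObj V] (h : Red.IsTrivialGrp V) {R : Type u} [CommRing R]
    (j : Spec (CommRingCat.of R) ⟶ Spec (CommRingCat.of k)) : H90At V j := by
  refine h90_trivial ?_ j
  haveI : IsIso (toUnit V).left := by
    rw [show (toUnit V).left = V.hom from (Category.comp_id _).symm.trans (Over.w (toUnit V))]
    exact h
  haveI : IsIso ((Over.forget (Spec (CommRingCat.of k))).map (toUnit V)) := ‹IsIso (toUnit V).left›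
  haveI : IsIso (toUnit V) := isIso_of_reflects_iso _ (Over.forget (Spec (CommRingCat.of k)))
  exact (cancel_mono (toUnit V)).mp (toUnit_unique _ _)

/-- Hilbert 90 over every affine base for connected groups of unipotent points. -/
theorem h90_unip {U : Over (Spec (CommRingCat.of k))} [GrpObj U] [IsAffine U.left] [Smooth U.hom]
    [ConnectedSpace U.left] (hu : ∀ g : PT ⟶ U, IsUnipPt g) (R : Type u) [CommRing R]
    (j : Spec (CommRingCat.of R) ⟶ Spec (CommRingCat.of k)) : H90At U j := by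
  refine SolvTorsor.unip_induction
    (fun V _ => ∀ (R : Type u) [CommRing R] (j : Spec (CommRingCat.of R) ⟶ Spec (CommRingCat.of k)), H90At V j)
    (fun V _ _ _ _ hV R _ j => h90_trivialGrp hV j)
    (fun V D Q _ _ _ _ _ _ _ _ _ _ _ i _ _ q _ _ _ hker e hD R _ j => ?_) hu R j
  haveI : QuasiCompact q.left := by
    haveI : QuasiCompact (q.left ≫ Q.hom) := by rw [Over.w q]; infer_instance
    exact QuasiCompact.of_comp q.left Q.hom
  exact h90_step i q hker hD (h90_of_iso e (h90_ga j))

/-- The affine base given by an affine scheme. -/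
noncomputable abbrev base (Q : Over (Spec (CommRingCat.of k))) [IsAffine Q.left] :
    Spec (CommRingCat.of Γ(Q.left, ⊤)) ⟶ Spec (CommRingCat.of k) :=
  Q.left.isoSpec.inv ≫ Q.hom

/-- A homomorphism onto an affine group has a section if its kernel has Hilbert 90 over the target. -/
theorem exists_section {N G Q : Over (Spec (CommRingCat.of k))} [GrpObj N] [GrpObj G] [GrpObj Q] [IsAffine Q.left]
    (i : N ⟶ G) [IsMonHom i] (q : G ⟶ Q) [IsMonHom q] [Flat q.left] [Surjective q.left] [QuasiCompact q.left]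
    (hk : AlgGrp.IsKernel i q) (hN : H90At N (base Q)) : ∃ s : Q ⟶ G, s ≫ q = 𝟙 Q := by
  let c : Over.mk (base Q) ≅ Q := Over.isoMk Q.left.isoSpec.symm rfl
  obtain ⟨y, hy⟩ := exists_lift i q hk hN c.hom
  exact ⟨c.inv ≫ y, by rw [Category.assoc, hy, c.inv_hom_id]⟩

/-- A section splits a group as a scheme. -/
theorem nonempty_iso_prod {N G Q : Over (Spec (CommRingCat.of k))} [GrpObj N] [GrpObj G] [GrpObj Q]
    (i : N ⟶ G) [IsMonHom i] (q : G ⟶ Q) [IsMonHom q] (hk : AlgGrp.IsKernel i q) (s : Q ⟶ G)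
    (hs : s ≫ q = 𝟙 Q) : Nonempty (G ≅ N ⊗ Q) := by
  have h1 : (𝟙 G * (q ≫ s)⁻¹) ≫ q = toUnit G ≫ η[Q] := by
    rw [MonObj.mul_comp, GrpObj.inv_comp, Category.id_comp, Category.assoc, hs, Category.comp_id, mul_inv_cancel,
      Hom.one_def]
  have hiq : i ≫ q = 1 := by rw [hk.w, Hom.one_def]
  let f : G ⟶ N ⊗ Q := lift (hk.lift _ (toUnit G) h1) q
  let g : N ⊗ Q ⟶ G := (fst N Q ≫ i) * (snd N Q ≫ s)
  have hgq : g ≫ q = snd N Q := by
    rw [MonObj.mul_comp, Category.assoc, hiq, MonObj.comp_one, _root_.one_mul, Category.assoc, hs, Category.comp_id]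
  refine ⟨⟨f, g, ?_, ?_⟩⟩
  · rw [MonObj.comp_mul, lift_fst_assoc, lift_snd_assoc, hk.lift_fst, inv_mul_cancel_right]
  · refine CartesianMonoidalCategory.hom_ext _ _ (hk.hom_ext ?_ (toUnit_unique _ _)) ?_
    · rw [Category.assoc, Category.assoc, lift_fst_assoc, hk.lift_fst, MonObj.comp_mul, GrpObj.comp_inv,
        Category.comp_id, ← Category.assoc g, hgq, Category.id_comp]
      show (fst N Q ≫ i) * (snd N Q ≫ s) * (snd N Q ≫ s)⁻¹ = _
      rw [mul_inv_cancel_right]
    · rw [Category.assoc, lift_snd, hgq, Category.id_comp]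

/-- A connected group of unipotent points has a polynomial ring of functions. -/
theorem exists_poly {U : Over (Spec (CommRingCat.of k))} [GrpObj U] [IsAffine U.left] [Smooth U.hom]
    [ConnectedSpace U.left] (hu : ∀ g : PT ⟶ U, IsUnipPt g) :
    ∃ n : ℕ, Nonempty (Fn U ≃ₐ[k] MvPolynomial (Fin n) k) := by
  refine SolvTorsor.unip_induction (fun V _ => (∀ g : PT ⟶ V, IsUnipPt g) →
    ∃ n : ℕ, Nonempty (Fn V ≃ₐ[k] MvPolynomial (Fin n) k))
    (fun V _ _ _ _ hV _ => ?_)
    (fun V D Q _ _ _ _ _ _ _ _ _ _ _ i _ _ q _ _ _ hker e hD huV => ?_) hu hu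
  · haveI : IsIso V.hom := hV
    let c : V ≅ PT := Over.isoMk (asIso V.hom) (Category.comp_id _)
    exact ⟨0, ⟨(fnEquiv c).symm.trans ((ProjAct.toK (k := k)).trans (MvPolynomial.isEmptyAlgEquiv k (Fin 0)).symm)⟩⟩
  · obtain ⟨-, -, -, -, hev⟩ := sub_props i
    haveI : IsReduced D.left := isReduced_of_smooth_field D.hom
    haveI : IsReduced V.left := isReduced_of_smooth_field V.hom
    have huD : ∀ g : PT ⟶ D, IsUnipPt g := fun g => IsUnipPt.map i hev (huV _)
    obtain ⟨n, ⟨θ⟩⟩ := hD huD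
    haveI : QuasiCompact q.left := by
      haveI : QuasiCompact (q.left ≫ Q.hom) := by rw [Over.w q]; infer_instance
      exact QuasiCompact.of_comp q.left Q.hom
    obtain ⟨s, hs⟩ := exists_section i q hker (h90_unip huD _ (base Q))
    obtain ⟨c⟩ := nonempty_iso_prod i q hker s hs
    obtain ⟨hA, φ, -⟩ := S15606.exists_gaCoord k
    let cQ : Q ≅ Red.Ga (Spec (CommRingCat.of k)) := (Grp.forget _).mapIso e
    let ψ : Fn Q ≃ₐ[k] MvPolynomial (Fin 1) k :=
      ((fnEquiv cQ).symm.trans φ.symm).trans (MvPolynomial.uniqueAlgEquiv k (Fin 1)).symm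
    exact ⟨n + 1, ⟨(fnEquiv c).symm.trans (((AlgEquiv.ofBijective (toProd D Q) (toProd_bijective D Q)).symm.trans
      (Algebra.TensorProduct.congr θ ψ)).trans ((MvPolynomial.tensorEquivSum k (Fin n) (Fin 1) k).trans
        (MvPolynomial.renameEquiv k finSumFinEquiv)))⟩⟩

/-- Group algebras of lattices over factorial rings are factorial. -/
theorem ufd_lattice (D : Type u) [CommRing D] [IsDomain D] [UniqueFactorizationMonoid D] : ∀ r : ℕ,
    IsDomain (MonoidAlgebra D (Multiplicative (Fin r → ℤ))) ∧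
      UniqueFactorizationMonoid (MonoidAlgebra D (Multiplicative (Fin r → ℤ)))
  | 0 => LaurentPic.ufd_of_ringEquiv (MonoidAlgebra.uniqueRingEquiv (R := D) (Multiplicative (Fin 0 → ℤ))).symm
  | r + 1 => by
    obtain ⟨h1, h2⟩ := ufd_lattice D r
    obtain ⟨h3, h4⟩ := LaurentPic.ufd_laurent (MonoidAlgebra D (Multiplicative (Fin r → ℤ)))
    let e : Multiplicative ℤ × Multiplicative (Fin r → ℤ) ≃* Multiplicative (Fin (r + 1) → ℤ) :=
      (MulEquiv.prodMultiplicative ℤ (Fin r → ℤ)).symm.trans (AddEquiv.toMultiplicative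
        { Fin.consEquiv (fun _ : Fin (r + 1) => ℤ) with
          map_add' := fun x y => by
            funext i
            refine Fin.cases ?_ (fun j => ?_) i <;> simp [Fin.consEquiv] })
    exact LaurentPic.ufd_of_ringEquiv ((MonoidAlgebra.curryRingEquiv (R := D) (M := Multiplicative ℤ)
      (N := Multiplicative (Fin r → ℤ))).symm.trans (MonoidAlgebra.mapDomainRingEquiv D e))

/-- The functions on a split torus. -/
theorem exists_torus_fn {T : Over (Spec (CommRingCat.of k))} [GrpObj T] (hT : Red.IsTorus T) :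
    ∃ r : ℕ, Nonempty (Fn T ≃ₐ[k] MonoidAlgebra k (Multiplicative (Fin r → ℤ))) := by
  obtain ⟨r, ⟨eG⟩⟩ := exists_iso_sp hT
  let a : AffineHopf.sp k (MonoidAlgebra k (Multiplicative (Fin r → ℤ))) ≅ T := (Grp.forget _).mapIso eG.symm
  exact ⟨r, ⟨((LineVec.toFn (k := k) (A := MonoidAlgebra k (Multiplicative (Fin r → ℤ)))).trans (fnEquiv a.symm)).symm⟩⟩

/-- The torus quotient of a connected solvable affine group. -/
theorem exists_torus_quot {V : Over (Spec (CommRingCat.of k))} [GrpObj V] [IsAffine V.left] [Smooth V.hom]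
    [ConnectedSpace V.left] (hs : Red.IsSolvableGrp V) :
    ∃ (U Q : Over (Spec (CommRingCat.of k))) (_ : GrpObj U) (_ : GrpObj Q) (i : U ⟶ V) (q : V ⟶ Q),
      IsMonHom i ∧ IsMonHom q ∧ Smooth U.hom ∧ ConnectedSpace U.left ∧ IsAffine U.left ∧ IsAffine Q.left ∧
      Smooth Q.hom ∧ Flat q.left ∧ Surjective q.left ∧ QuasiCompact q.left ∧ AlgGrp.IsKernel i q ∧
      (∀ g : PT ⟶ U, IsUnipPt g) ∧ Red.IsTorus Q := by
  haveI : IsReduced V.left := isReduced_of_smooth_field V.hom
  obtain ⟨U, _, i, hi, hic, hsU, hcU, haU, hn, hU⟩ := exists_unipRad hs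
  haveI := hi; haveI := hic; haveI := hsU; haveI := hcU; haveI := haU
  obtain ⟨-, hlU, -, -, hev⟩ := sub_props i
  haveI := hlU
  haveI : IsReduced U.left := isReduced_of_smooth_field U.hom
  have huU : ∀ g : PT ⟶ U, IsUnipPt g := fun g => IsUnipPt.map i hev ((hU _).mp ⟨g, rfl⟩)
  obtain ⟨Q, _, q, hq, haQ, hlQ, hflat, hsurj, hker⟩ := Groth.Agent.S3278.result k V U i (isNormalHom_of_pts i hn)
  haveI := hq; haveI := haQ; haveI := hlQ; haveI := hflat; haveI := hsurj
  haveI : IsReduced Q.left := FBaseLib.isReduced_of_flat_surjective q.left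
  haveI : Smooth Q.hom := smooth_of_perfectField_of_isReduced Q
  haveI : ConnectedSpace Q.left := q.left.surjective.connectedSpace q.left.continuous
  haveI := AntiAffine.isSeparated_grp Q
  obtain ⟨n, hn'⟩ := id hs
  obtain ⟨T, _, t, ht, hct, hT, hA, -⟩ := exists_torus_of_derivedSeries n V (hn' _)
  haveI := ht; haveI := hct
  have key : ∀ x : PT ⟶ Q, ∃ a : PT ⟶ T, a ≫ t ≫ q = x := fun x => by
    obtain ⟨g, rfl⟩ := exists_of_mem_range q x (q.left.surjective _)
    obtain ⟨_, ⟨a, rfl⟩, hu⟩ := hA g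
    obtain ⟨z, hz⟩ := (hU _).mpr hu
    refine ⟨a, ?_⟩
    have hz1 : (z ≫ i) ≫ q = 1 := by
      rw [Category.assoc, hker.w, Hom.one_def, ← Category.assoc]
      congr 1
      exact toUnit_unique _ _
    rw [show z ≫ i = (a ≫ t)⁻¹ * g from hz, MonObj.mul_comp, GrpObj.inv_comp, inv_mul_eq_one, Category.assoc] at hz1
    exact hz1
  have hTQ : Red.IsTorus Q := SolvGrp.isTorus_of_pts Q (fun x => by
    obtain ⟨a, rfl⟩ := key x
    exact isSsPt_of_torus hT (t ≫ q) a) fun x y => by
    obtain ⟨a, rfl⟩ := key x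
    obtain ⟨b, rfl⟩ := key y
    show (a ≫ t ≫ q) * (b ≫ t ≫ q) = (b ≫ t ≫ q) * (a ≫ t ≫ q)
    rw [← MonObj.mul_comp, ← MonObj.mul_comp, (torus_commute hT a b).eq]
  haveI : QuasiCompact q.left := by
    haveI : QuasiCompact (q.left ≫ Q.hom) := by rw [Over.w q]; infer_instance
    exact QuasiCompact.of_comp q.left Q.hom
  exact ⟨U, Q, inferInstance, inferInstance, i, q, hi, hq, hsU, hcU, haU, haQ, inferInstance, hflat, hsurj,
    inferInstance, hker, huU, hTQ⟩

/-- The coordinate ring of a connected solvable affine group is factorial, so has trivial Picard group. -/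
theorem subsingleton_pic {V : Over (Spec (CommRingCat.of k))} [GrpObj V] [IsAffine V.left] [Smooth V.hom]
    [ConnectedSpace V.left] (hs : Red.IsSolvableGrp V) : Subsingleton (CommRing.Pic (Γ(V.left, ⊤) : Type u)) := by
  obtain ⟨U, Q, _, _, i, q, hi, hq, hsU, hcU, haU, haQ, hsQ, hflat, hsurj, hqc, hker, huU, hTQ⟩ := exists_torus_quot hs
  haveI := hi; haveI := hq; haveI := hsU; haveI := hcU; haveI := haU; haveI := haQ; haveI := hsQ
  haveI := hflat; haveI := hsurj; haveI := hqc
  obtain ⟨s, hs'⟩ := exists_section i q hker (h90_unip huU _ (base Q))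
  obtain ⟨c⟩ := nonempty_iso_prod i q hker s hs'
  obtain ⟨n, ⟨θ⟩⟩ := exists_poly huU
  obtain ⟨r, ⟨ψ⟩⟩ := exists_torus_fn hTQ
  let e : Fn V ≃ₐ[k] MonoidAlgebra (MvPolynomial (Fin n) k) (Multiplicative (Fin r → ℤ)) :=
    (fnEquiv c).symm.trans (((AlgEquiv.ofBijective (toProd U Q) (toProd_bijective U Q)).symm.trans
      (Algebra.TensorProduct.congr θ ψ)).trans
        ((MonoidAlgebra.scalarTensorEquiv k (MvPolynomial (Fin n) k)).restrictScalars k))
  obtain ⟨h1, h2⟩ := ufd_lattice (MvPolynomial (Fin n) k) r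
  obtain ⟨h3, h4⟩ := LaurentPic.ufd_of_ringEquiv (B := (Γ(V.left, ⊤) : Type u)) e.symm.toRingEquiv
  infer_instance

/-- Hilbert 90 for a connected solvable affine group over a base with trivial Picard group. -/
theorem h90_solvable {V : Over (Spec (CommRingCat.of k))} [GrpObj V] [IsAffine V.left] [Smooth V.hom]
    [ConnectedSpace V.left] (hs : Red.IsSolvableGrp V) {R : Type u} [CommRing R] [Subsingleton (CommRing.Pic R)]
    (j : Spec (CommRingCat.of R) ⟶ Spec (CommRingCat.of k)) : H90At V j := by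
  obtain ⟨U, Q, _, _, i, q, hi, hq, hsU, hcU, haU, haQ, hsQ, hflat, hsurj, hqc, hker, huU, hTQ⟩ := exists_torus_quot hs
  haveI := hi; haveI := hq; haveI := hsU; haveI := hcU; haveI := haU; haveI := haQ
  haveI := hflat; haveI := hsurj; haveI := hqc
  obtain ⟨r, ⟨e⟩⟩ := exists_iso_sp hTQ
  obtain ⟨e'⟩ := AffineHopf.nonempty_DS_iso k (Fin r → ℤ)
  exact h90_step i q hker (fun R' _ j' => h90_unip huU R' j') (h90_of_iso (e ≪≫ e') (h90_ds r j))

end Groth.Agent.AGFLib.SolvSection
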