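import Groth.Agent.AGFLib.TorsorStep
import Groth.Agent.GrpSchLib.RankOneNonComm
import Groth.Agent.GrpSchLib.LineInUnip
import Groth.Agent.SolvGrp.MaxUnip
import Groth.Agent.S3278
import Groth.Agent.S3280
import Groth.Agent.S15606
import Groth.Agent.WittEndoLib.Basic

/-!
Torsors over an arbitrary field under a connected solvable affine group defined over an algebraically closed field have
rational points.
-/

set_option autoImplicit false
set_option backward.isDefEq.respectTransparency.types false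
set_option linter.style.haveILetI false
set_option maxHeartbeats 1000000

universe u

open CategoryTheory MonoidalCategory CartesianMonoidalCategory MonObj AlgebraicGeometry
open scoped Polynomial

namespace Groth.Agent.AGFLib.SolvTorsor

open SolvGrp GrpSchLib GrpSchLib.Kunneth GrpSchLib.LineGroups WeilCmp.Unip AGFLib AGFLib.Gen AGFLib.BorelFixed
  AGFLib.BorelExist AGFLib.TorsorStep CechTorsorX.ZariskiTriv

variable {k : Type u} [Field k] [IsAlgClosed k]

local notation "PT" => 𝟙_ (Over (Spec (CommRingCat.of k)))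

/-- Commutativity is invariant under isomorphism. -/
theorem isCommMonObj_of_iso {S : Scheme.{u}} {G H : Over S} [GrpObj G] [GrpObj H] (e : Grp.mk G ≅ Grp.mk H)
    [IsCommMonObj H] : IsCommMonObj G := by
  let a : G ≅ H := (Grp.forget _).mapIso e
  haveI : IsMonHom a.hom := e.hom.hom.isMonHom_hom
  refine ⟨(cancel_mono a.hom).mp ?_⟩
  rw [Category.assoc, IsMonHom.mul_hom, ← Category.assoc, ← BraidedCategory.braiding_naturality,
    Category.assoc, IsCommMonObj.mul_comm]

/-- An additive function gives a homomorphism to the additive group. -/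
theorem exists_gaHom {V : Over (Spec (CommRingCat.of k))} [GrpObj V] [IsAffine V.left] [Smooth V.hom]
    (h : Fn V) (hadd : ∀ x g : PT ⟶ V, vl (x * g) h = vl x h + vl g h) :
    ∃ f : V ⟶ Red.Ga (Spec (CommRingCat.of k)), IsMonHom f ∧
      ∀ {T : Over (Spec (CommRingCat.of k))} (x : T ⟶ V), Red.gaFn (x ≫ f) = ev x h := by
  let f : V ⟶ Red.Ga (Spec (CommRingCat.of k)) := GaPts.ptOfFn h
  have hf : ∀ {T : Over (Spec (CommRingCat.of k))} (x : T ⟶ V), Red.gaFn (x ≫ f) = ev x h := fun x => by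
    rw [GaPts.gaFn_comp, GaPts.gaFn_ptOfFn]; rfl
  refine ⟨f, WittEndoLib.isMonHom_of_mul f fun T x y => ?_, hf⟩
  haveI : IsReduced V.left := isReduced_of_smooth_field V.hom
  haveI : IsReduced (V ⊗ V).left := GrpSchLib.isReduced_pullback_of_perfectField V.hom V.hom
  haveI : LocallyOfFiniteType (V ⊗ V).hom :=
    inferInstanceAs (LocallyOfFiniteType (Limits.pullback.fst V.hom V.hom ≫ V.hom))
  haveI := RankOne.smooth_ga (Spec (CommRingCat.of k))
  haveI := AntiAffine.isSeparated_grp (Red.Ga (Spec (CommRingCat.of k)))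
  have key : (fst V V * snd V V) ≫ f = (fst V V ≫ f) * (snd V V ≫ f) := by
    refine hom_ext_pts fun t => GaPts.gaFn_injective ?_
    show Red.gaFn _ = Red.gaFn _
    rw [← Category.assoc, MonObj.comp_mul, hf, MonObj.comp_mul, ← Category.assoc, ← Category.assoc, GaPts.gaFn_mul,
      hf, hf]
    exact (ProjAct.toK (k := k)).injective ((hadd _ _).trans (map_add (ProjAct.toK (k := k)) _ _).symm)
  have := congrArg (lift x y ≫ ·) key
  simp only [MonObj.comp_mul, ← Category.assoc, lift_fst, lift_snd] at this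
  exact this

/-- A line group is the additive group. -/
theorem nonempty_iso_ga {Q : Over (Spec (CommRingCat.of k))} [GrpObj Q] [IsAffine Q.left]
    (θ : Fn Q ≃ₐ[k] k[X]) : Nonempty (Grp.mk Q ≅ Grp.mk (Red.Ga (Spec (CommRingCat.of k)))) := by
  obtain ⟨hA, φ, h0⟩ := S15606.exists_gaCoord k
  haveI := hA
  let c := evPt η[Q] (θ.symm Polynomial.X)
  refine S15606.nonempty_iso φ h0 ((Polynomial.algEquivAevalXAddC (-c)).trans θ.symm) ?_
  show evPt η[Q] (θ.symm (Polynomial.aeval _ Polynomial.X)) = 0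
  rw [Polynomial.aeval_X, map_add, map_add]
  show c + evPt η[Q] (θ.symm (algebraMap k _ (-c))) = 0
  rw [AlgEquiv.commutes, AlgHom.commutes]
  exact add_neg_cancel c

/-- The neutral part of a normal closed subgroup of points is normal. -/
theorem normal_connSub {V D : Over (Spec (CommRingCat.of k))} [GrpObj V] [GrpObj D] [IsAffine V.left] [Smooth V.hom]
    [Smooth D.hom] [ConnectedSpace D.left] (i : D ⟶ V) [IsMonHom i] [IsClosedImmersion i.left]
    (Γ : Subgroup (PT ⟶ V)) [hΓ : Γ.Normal] (hle : rangePts i ≤ Γ) (S : Set (PT ⟶ V)) (hS : S.Finite)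
    (hcov : ∀ g ∈ Γ, ∃ s ∈ S, s⁻¹ * g ∈ rangePts i) : (rangePts i).Normal := by
  obtain ⟨haD, hlD, hqD, -, -⟩ := sub_props i
  haveI := haD; haveI := hlD; haveI := hqD
  refine ⟨fun n hn g => ?_⟩
  obtain ⟨x, rfl⟩ := hn
  let c : (PT ⟶ D) →* (PT ⟶ V) := (MulAut.conj g).toMonoidHom.comp (ptsHom i)
  have hc : ∀ y, c y = g * (y ≫ i) * g⁻¹ := fun y => rfl
  let Δ : Subgroup (PT ⟶ D) := (rangePts i).comap c
  have hΔ : PtsClosed (Δ : Set (PT ⟶ D)) := by
    let m : D ⟶ V := (toUnit D ≫ g) * i * (toUnit D ≫ g)⁻¹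
    have hm : ∀ y : PT ⟶ D, y ≫ m = c y := fun y => by
      rw [hc, MonObj.comp_mul, MonObj.comp_mul, GrpObj.comp_inv, ← Category.assoc, toUnit_unique (y ≫ toUnit D) (𝟙 _),
        Category.id_comp]
    have e : (Δ : Set (PT ⟶ D)) = (fun y => y ≫ m) ⁻¹' (rangePts i : Set (PT ⟶ V)) := by
      ext y
      show c y ∈ rangePts i ↔ y ≫ m ∈ rangePts i
      rw [hm]
    rw [e]
    exact (ptsClosed_range i).preimage m
  classical
  let pick : (PT ⟶ V) → (PT ⟶ D) := fun s => if h : ∃ y : PT ⟶ D, s⁻¹ * c y ∈ rangePts i then h.choose else 1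
  have htop : Δ = ⊤ := by
    refine eq_top_of_finite Δ hΔ (pick '' S) (hS.image _) fun y => ?_
    obtain ⟨s, hs, hy⟩ := hcov (c y) (hΓ.conj_mem _ (hle ⟨y, rfl⟩) g)
    refine ⟨pick s, ⟨s, hs, rfl⟩, ?_⟩
    have hp : s⁻¹ * c (pick s) ∈ rangePts i := by
      have h : ∃ y : PT ⟶ D, s⁻¹ * c y ∈ rangePts i := ⟨y, hy⟩
      simp only [pick, dif_pos h]
      exact h.choose_spec
    show c ((pick s)⁻¹ * y) ∈ rangePts i
    have h2 := mul_mem (inv_mem hp) hy
    rw [map_mul, map_inv]
    simpa [_root_.mul_assoc] using h2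
  exact (htop ▸ Subgroup.mem_top x : x ∈ Δ)

/-- Connected groups of unipotent points are successive extensions by the additive group. -/
theorem unip_induction (P : ∀ (V : Over (Spec (CommRingCat.of k))) [GrpObj V], Prop)
    (h0 : ∀ (V : Over (Spec (CommRingCat.of k))) [GrpObj V] [IsAffine V.left] [Smooth V.hom] [ConnectedSpace V.left],
      Red.IsTrivialGrp V → P V)
    (hstep : ∀ (V D Q : Over (Spec (CommRingCat.of k))) [GrpObj V] [GrpObj D] [GrpObj Q] [IsAffine V.left]
      [Smooth V.hom] [ConnectedSpace V.left] [IsAffine D.left] [Smooth D.hom] [ConnectedSpace D.left]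
      [IsAffine Q.left] [Smooth Q.hom] (i : D ⟶ V) [IsMonHom i] [IsClosedImmersion i.left] (q : V ⟶ Q) [IsMonHom q]
      [Flat q.left] [Surjective q.left], AlgGrp.IsKernel i q →
      (Grp.mk Q ≅ Grp.mk (Red.Ga (Spec (CommRingCat.of k)))) → P D → P V)
    {U : Over (Spec (CommRingCat.of k))} [GrpObj U] [IsAffine U.left] [Smooth U.hom]
    [ConnectedSpace U.left] (hu : ∀ g : PT ⟶ U, IsUnipPt g) : P U := by
  haveI : IsLocallyNoetherian U.left := LocallyOfFiniteType.isLocallyNoetherian U.hom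
  haveI : IsNoetherian U.left := ⟨⟩
  haveI : IsReduced U.left := isReduced_of_smooth_field U.hom
  suffices key : ∀ (Z : TopologicalSpace.Closeds U.left) (V : Over (Spec (CommRingCat.of k))) [GrpObj V] (j : V ⟶ U)
      [IsMonHom j] [IsClosedImmersion j.left] [Smooth V.hom] [ConnectedSpace V.left],
      Set.range j.left = Z → P V by
    haveI : IsClosedImmersion (𝟙 U : U ⟶ U).left := inferInstanceAs (IsClosedImmersion (𝟙 U.left))
    exact key ⊤ U (𝟙 U) (by simp)
  intro Z
  induction Z using (wellFounded_lt (α := TopologicalSpace.Closeds U.left)).induction with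
  | _ Z ih =>
    intro V _ j _ _ _ _ hrV
    obtain ⟨haV, -, hqV, hmono, hev⟩ := sub_props j
    haveI := haV; haveI := hqV; haveI := hmono
    haveI : IsReduced V.left := isReduced_of_smooth_field V.hom
    haveI : IrreducibleSpace V.left := Groth.Agent.S0348.result k V
    haveI : IsIntegral V.left := isIntegral_of_irreducibleSpace_of_isReduced V.left
    have huV : ∀ g : PT ⟶ V, IsUnipPt g := fun g => IsUnipPt.map j hev (hu _)
    by_cases hneV : ∃ g : PT ⟶ V, g ≠ 1
    swap
    · push Not at hneV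
      exact h0 V (isTrivialGrp_of_pts hneV)
    obtain ⟨h, ⟨g₁, hg₁⟩, hadd⟩ := LineInUnip.exists_additive huV hneV
    have h0 : vl (1 : PT ⟶ V) h = 0 := by simpa using hadd 1 1
    obtain ⟨f, hfm, hf⟩ := exists_gaHom h hadd
    haveI := hfm
    have hzero : ∀ g : PT ⟶ V, g ≫ f = 1 ↔ vl g h = 0 := fun g => by
      rw [← GaPts.gaFn_injective.eq_iff, hf, GaPts.gaFn_one]
      exact (map_eq_zero_iff _ (ProjAct.toK (k := k)).injective).symm
    let Γ : Subgroup (PT ⟶ V) := (ptsHom f).ker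
    have hΓm : ∀ g, g ∈ Γ ↔ vl g h = 0 := hzero
    have hΓ : PtsClosed (Γ : Set (PT ⟶ V)) := by
      have e : (Γ : Set (PT ⟶ V)) = {g : PT ⟶ V | ∀ a ∈ ({h} : Set (Fn V)), vl g a = 0} := by
        ext g; simpa using hΓm g
      rw [e]; exact ptsClosed_zero _
    obtain ⟨D, _, i, hi, hic, hsD, hcD, haD, hle, S, hSf, -, hS⟩ := exists_connSub Γ hΓ
    haveI := hi; haveI := hic; haveI := hsD; haveI := hcD
    obtain ⟨-, hlD, hqD, -, -⟩ := sub_props i
    haveI := hlD; haveI := hqD
    haveI : IsReduced D.left := isReduced_of_smooth_field D.hom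
    haveI : IsClosedImmersion (i ≫ j).left := inferInstanceAs (IsClosedImmersion (i.left ≫ j.left))
    have hD : P D := by
      refine ih ⟨_, (i ≫ j).left.isClosedEmbedding.isClosed_range⟩ ?_ D (i ≫ j) rfl
      refine lt_of_le_of_ne (fun z => ?_) fun heq => ?_
      · rintro ⟨d, rfl⟩
        exact hrV.le ⟨i.left d, rfl⟩
      · obtain ⟨d, hd⟩ : cp (g₁ ≫ j) ∈ Set.range (i ≫ j).left :=
          (congrArg (fun W : TopologicalSpace.Closeds U.left => (W : Set U.left)) heq).ge (hrV.le ⟨cp g₁, rfl⟩)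
        haveI := AntiAffine.isSeparated_grp U
        obtain ⟨x, hx⟩ := exists_of_mem_range (i ≫ j) (g₁ ≫ j) ⟨d, hd⟩
        rw [← Category.assoc, cancel_mono] at hx
        exact hg₁ ((hΓm _).mp (hle ⟨x, hx⟩))
    have hN : AlgGrp.IsNormalHom i := isNormalHom_of_pts i (normal_connSub i Γ hle S hSf hS)
    obtain ⟨Q, _, q, hq, haQ, hlQ, hflat, hsurj, hker⟩ := Groth.Agent.S3278.result k V D i hN
    haveI := hq; haveI := haQ; haveI := hlQ; haveI := hflat; haveI := hsurj
    haveI : IsReduced Q.left := FBaseLib.isReduced_of_flat_surjective q.left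
    haveI : Smooth Q.hom := smooth_of_perfectField_of_isReduced Q
    haveI : ConnectedSpace Q.left := q.left.surjective.connectedSpace q.left.continuous
    haveI : IrreducibleSpace Q.left := Groth.Agent.S0348.result k Q
    haveI : IsIntegral Q.left := isIntegral_of_irreducibleSpace_of_isReduced Q.left
    haveI := RankOne.smooth_ga (Spec (CommRingCat.of k))
    haveI := AntiAffine.isSeparated_grp (Red.Ga (Spec (CommRingCat.of k)))
    haveI := AntiAffine.isSeparated_grp Q
    haveI : QuasiCompact (Red.Ga (Spec (CommRingCat.of k))).hom :=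
      haveI := (S15606.exists_gaCoord k).1
      inferInstance
    obtain ⟨fb, -, hfb, -⟩ := Groth.Agent.S3280.result k V D Q (Red.Ga (Spec (CommRingCat.of k))) q i hker f (by
      refine hom_ext_pts fun x => ?_
      rw [← Category.assoc, (hzero _).mpr ((hΓm _).mp (hle ⟨x, rfl⟩)), Hom.one_def, ← Category.assoc]
      congr 1
      exact toUnit_unique _ _)
    have hvl : ∀ g : PT ⟶ V, vl (g ≫ q) (Red.gaFn fb) = vl g h := fun g => by
      show ProjAct.toK ((g ≫ q).left.appTop (Red.gaFn fb)) = ProjAct.toK (ev g h)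
      rw [← GaPts.gaFn_comp, Category.assoc, hfb, hf]
    have hlift : ∀ x : PT ⟶ Q, ∃ g : PT ⟶ V, g ≫ q = x := fun x => exists_of_mem_range q x (q.left.surjective _)
    have hu' : ∀ x : PT ⟶ Q, IsUnipPt x := fun x => by
      obtain ⟨g, rfl⟩ := hlift x
      exact (map_isSsPt_isUnipPt q g).2 (huV g)
    have hne' : ∃ x : PT ⟶ Q, vl x (Red.gaFn fb) ≠ 0 := ⟨g₁ ≫ q, by rwa [hvl]⟩
    have hq1 : ∀ n ∈ rangePts i, n ≫ q = (1 : PT ⟶ Q) := by
      rintro _ ⟨d, rfl⟩
      show (d ≫ i) ≫ q = 1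
      rw [Category.assoc, hker.w, Hom.one_def, ← Category.assoc]
      congr 1
      exact toUnit_unique _ _
    have hfin : {x : PT ⟶ Q | vl x (Red.gaFn fb) = 0}.Finite := (hSf.image fun s => s ≫ q).subset fun x hx => by
      obtain ⟨g, rfl⟩ := hlift x
      obtain ⟨s, hs, hsg⟩ := hS g ((hΓm _).mpr ((hvl g).symm.trans hx))
      refine ⟨s, hs, ?_⟩
      have := hq1 _ hsg
      rw [MonObj.mul_comp, GrpObj.inv_comp, inv_mul_eq_one] at this
      exact this
    have hne1 : ∃ x : PT ⟶ Q, x ≠ 1 := by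
      obtain ⟨x, hx⟩ := hne'
      refine ⟨x, fun e => hx ?_⟩
      rw [e, ← MonObj.one_comp q, hvl, h0]
    obtain ⟨θ⟩ := LineInUnip.exists_polyEquiv
      (LineInUnip.ringKrullDim_eq_one (Red.gaFn fb) (by rw [← MonObj.one_comp q, hvl, h0]) hne' hfin)
      (hasNoSubtorus_of_isUnipPt hu') hne1
    obtain ⟨e⟩ := nonempty_iso_ga θ
    exact hstep V D Q i q hker e hD

variable {K : Type u} [Field K] (σ : Spec (CommRingCat.of K) ⟶ Spec (CommRingCat.of k))

/-- Hilbert 90 for the additive group after base change. -/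
theorem localH90_bc_ga {Q : Over (Spec (CommRingCat.of k))} [GrpObj Q]
    (e : Grp.mk Q ≅ Grp.mk (Red.Ga (Spec (CommRingCat.of k)))) : LocalH90 (Red.bc σ Q) := by
  obtain ⟨e₁⟩ := MultTypeBC.bc_bc σ (Limits.IsTerminal.from specULiftZIsTerminal (Spec (CommRingCat.of k))) Red.GaZ
  obtain ⟨e₂⟩ := MultTypeBC.bc_congr (specULiftZIsTerminal.hom_ext
    (σ ≫ Limits.IsTerminal.from specULiftZIsTerminal (Spec (CommRingCat.of k)))
    (Limits.IsTerminal.from specULiftZIsTerminal (Spec (CommRingCat.of K)))) Red.GaZ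
  exact localH90_of_iso ((Over.pullback σ).mapGrp.mapIso e ≪≫ e₁ ≪≫ e₂) CechTorsorX.GaGmH90.localH90_ga

/-- Torsors under a connected group of unipotent points. -/
theorem hasPt_unip {U : Over (Spec (CommRingCat.of k))} [GrpObj U] [IsAffine U.left] [Smooth U.hom]
    [ConnectedSpace U.left] (hu : ∀ g : PT ⟶ U, IsUnipPt g) : HasPt (Red.bc σ U) :=
  unip_induction (fun V _ => HasPt (Red.bc σ V)) (fun _ _ _ _ _ hV => hasPt_trivial σ hV)
    (fun _ _ Q _ _ _ _ _ _ _ _ _ _ _ i _ _ q _ _ _ hker e hD => by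
      haveI := TorsorDevissage.isCommMonObj_Ga (Spec (CommRingCat.of k))
      haveI := isCommMonObj_of_iso e
      exact hasPt_step σ i q hker (localH90_bc_ga σ e) hD) hu

/-- Torsors under a connected solvable affine group. -/
theorem hasPt_solvable {V : Over (Spec (CommRingCat.of k))} [GrpObj V] [IsAffine V.left] [Smooth V.hom]
    [ConnectedSpace V.left] (hs : Red.IsSolvableGrp V) : HasPt (Red.bc σ V) := by
  haveI : IsReduced V.left := isReduced_of_smooth_field V.hom
  obtain ⟨U, _, i, hi, hic, hsU, hcU, haU, hn, hU⟩ := exists_unipRad hs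
  haveI := hi; haveI := hic; haveI := hsU; haveI := hcU; haveI := haU
  obtain ⟨-, hlU, -, -, hev⟩ := sub_props i
  haveI := hlU
  haveI : IsReduced U.left := isReduced_of_smooth_field U.hom
  have huU : ∀ g : PT ⟶ U, IsUnipPt g := fun g => IsUnipPt.map i hev ((hU _).mp ⟨g, rfl⟩)
  obtain ⟨Q, _, q, hq, haQ, hlQ, hflat, hsurj, hker⟩ := Groth.Agent.S3278.result k V U i (isNormalHom_of_pts i hn)
  haveI := hq; haveI := haQ; haveI := hlQ; haveI := hflat; haveI := hsurj
  haveI : IsReduced Q.left := FBaseLib.isReduced_of_flat_surjective q.left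
  haveI : Smooth Q.hom := smooth_of_perfectField_of_isReduced Q
  haveI : ConnectedSpace Q.left := q.left.surjective.connectedSpace q.left.continuous
  haveI := AntiAffine.isSeparated_grp Q
  obtain ⟨n, hn'⟩ := id hs
  obtain ⟨T, _, t, ht, hct, hT, hA, -⟩ := exists_torus_of_derivedSeries n V (hn' _)
  haveI := ht; haveI := hct
  have key : ∀ x : PT ⟶ Q, ∃ a : PT ⟶ T, a ≫ t ≫ q = x := fun x => by
    obtain ⟨g, rfl⟩ := exists_of_mem_range q x (q.left.surjective _)
    obtain ⟨_, ⟨a, rfl⟩, hu⟩ := hA g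
    obtain ⟨z, hz⟩ := (hU _).mpr hu
    refine ⟨a, ?_⟩
    have hz1 : (z ≫ i) ≫ q = 1 := by
      rw [Category.assoc, hker.w, Hom.one_def, ← Category.assoc]
      congr 1
      exact toUnit_unique _ _
    rw [show z ≫ i = (a ≫ t)⁻¹ * g from hz, MonObj.mul_comp, GrpObj.inv_comp, inv_mul_eq_one, Category.assoc] at hz1
    exact hz1
  have hTQ : Red.IsTorus Q := isTorus_of_pts Q (fun x => by
    obtain ⟨a, rfl⟩ := key x
    exact isSsPt_of_torus hT (t ≫ q) a) fun x y => by
    obtain ⟨a, rfl⟩ := key x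
    obtain ⟨b, rfl⟩ := key y
    show (a ≫ t ≫ q) * (b ≫ t ≫ q) = (b ≫ t ≫ q) * (a ≫ t ≫ q)
    rw [← MonObj.mul_comp, ← MonObj.mul_comp, (torus_commute hT a b).eq]
  haveI : IsCommMonObj Q := ⟨by
    rw [show (β_ Q Q).hom = lift (snd _ _) (fst _ _) from
      CartesianMonoidalCategory.hom_ext _ _ (by simp) (by simp), ← Hom.mul_def,
      MultTypeComm.points_comm (TorusQI.isMultTypeFT_of_isTorus hTQ), Hom.mul_def, lift_fst_snd, Category.id_comp]⟩
  obtain ⟨r, ⟨e⟩⟩ := exists_iso_sp hTQ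
  obtain ⟨e'⟩ := AffineHopf.nonempty_DS_iso k (Fin r → ℤ)
  obtain ⟨e''⟩ := MultTypeBC.bc_DS σ (Fin r → ℤ)
  exact hasPt_step σ i q hker (localH90_of_iso ((Over.pullback σ).mapGrp.mapIso (e ≪≫ e') ≪≫ e'') (localH90_ds r))
    (hasPt_unip σ huU)

end Groth.Agent.AGFLib.SolvTorsor
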