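import Groth.Agent.AGFLib.Hull
import Mathlib.LinearAlgebra.Matrix.Kronecker

/-! Finite stable spaces of functions and stabilisers of vectors. -/

set_option backward.isDefEq.respectTransparency false
set_option backward.isDefEq.respectTransparency.types false
set_option linter.style.haveILetI false

universe u

open CategoryTheory MonoidalCategory CartesianMonoidalCategory MonObj AlgebraicGeometry TensorProduct WithConv
open scoped Kronecker

namespace Groth.Agent.AGFLib

open GrpSchLib GrpSchLib.Kunneth GrpSchLib.LineGroups GrpSchLib.AffineHopf GrpSchLib.LineVec ComodLib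

variable {k : Type u} [Field k] {G H : Over (Spec (CommRingCat.of k))} [GrpObj G] [IsAffine G.left]
  [LocallyOfFiniteType G.hom]

/-- Finitely many functions lie in a finite space stable under right translations. -/
theorem exists_stable (F : Finset (Fn G)) :
    ∃ (n : ℕ) (w : Fin n → Fn G) (N : Matrix (Fin n) (Fin n) (Fn G)), IsRepMatrix N ∧ LinearIndependent k w ∧
      (↑F ⊆ (Submodule.span k (Set.range w) : Set (Fn G))) ∧
      ∀ (T : Over (Spec (CommRingCat.of k))) (g h : T ⟶ G) (j : Fin n),
        ev (g * h) (w j) = ∑ i, ev g (w i) * ev h (N i j) := by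
  classical
  obtain ⟨A, _, _, ⟨eG⟩⟩ := AffineHopf.exists_hopf G
  let a : sp k A ≅ G := (Grp.forget _).mapIso eG
  haveI : IsMonHom a.hom := eG.hom.hom.isMonHom_hom
  haveI : IsMonHom a.inv := eG.inv.hom.isMonHom_hom
  let φ : A ≃ₐ[k] Fn G := (toFn (k := k) (A := A)).trans (fnEquiv a.symm)
  have hev : ∀ (T : Over (Spec (CommRingCat.of k))) (g : T ⟶ G) (x : A), ev g (φ x) = fn (g ≫ a.inv) x :=
    fun T g x => rfl
  obtain ⟨U, hUf, hFU, hU⟩ := exists_finite_subcomod_le (k := k) (C := A) (V := A)
    (F.image φ.symm).finite_toSet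
  haveI := hUf
  let cU : HopfRep.Comod k A U := ComodSub.Comod.restr (HopfRep.Comod.regular k A) U hU
  let b := Module.finBasis k U
  let M := @matrixOf k _ A _ _ _ (Fin (Module.finrank k U)) U _ _ cU b
  have hM : IsComodMatrix k M := @isComodMatrix_matrixOf k _ A _ _ _ (Fin (Module.finrank k U)) _ _ U _ _ cU b
  have hΔ : ∀ j, Coalgebra.comul (R := k) (b j : A) = ∑ i, (b i : A) ⊗ₜ[k] M i j := by
    intro j
    rw [← show _ = Coalgebra.comul (R := k) (b j : A) from
      ComodSub.restr_coact_coe (HopfRep.Comod.regular k A) U hU (b j),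
      @coact_matrixOf k _ A _ _ _ (Fin (Module.finrank k U)) _ _ U _ _ cU b j, map_sum]
    rfl
  refine ⟨Module.finrank k U, fun j => φ (b j : A), fun i j => φ (M i j), ⟨fun T g h => ?_, fun T => ?_⟩, ?_, ?_,
    fun T g h j => ?_⟩
  · refine Matrix.ext fun i j => ?_
    simp only [Matrix.map_apply, Matrix.mul_apply, hev, MonObj.mul_comp]
    rw [fn_mul]
    show (toConv (fn (g ≫ a.inv)) * toConv (fn (h ≫ a.inv))) (M i j) = _
    rw [AlgHom.convMul_apply, hM.comul, map_sum]
    simp
  · refine Matrix.ext fun i j => ?_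
    simp only [Matrix.map_apply, hev, MonObj.one_comp, fn_one]
    show (1 : WithConv (A →ₐ[k] Fn T)) (M i j) = _
    rw [AlgHom.convOne_apply, hM.counit, Matrix.one_apply]
    split_ifs <;> simp
  · have h1 := b.linearIndependent.map' U.subtype (Submodule.ker_subtype U)
    exact h1.map' φ.toLinearMap (LinearMap.ker_eq_bot.mpr φ.injective)
  · intro f hf
    have hx : φ.symm f ∈ U := hFU (Finset.mem_coe.mpr (Finset.mem_image.mpr ⟨f, hf, rfl⟩))
    have h2 := congrArg (fun z : U => φ (z : A)) (b.sum_repr ⟨φ.symm f, hx⟩)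
    simp only [Submodule.coe_sum, Submodule.coe_smul, map_sum, map_smul, AlgEquiv.apply_symm_apply] at h2
    rw [← h2]
    exact Submodule.sum_mem _ fun i _ => Submodule.smul_mem _ _ (Submodule.subset_span ⟨i, rfl⟩)
  · simp only [hev, MonObj.mul_comp]
    rw [fn_mul]
    show (toConv (fn (g ≫ a.inv)) * toConv (fn (h ≫ a.inv))) (b j : A) = _
    rw [AlgHom.convMul_apply, hΔ, map_sum]
    simp

/-- Left translates of finitely many invariant functions span a finite space of invariant functions. -/
theorem exists_translates (i : H ⟶ G) (F : Finset (Fn G)) (hF : ∀ f ∈ F, AGF.IsRTransInv i f) :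
    ∃ s : Finset (Fn G), (∀ f ∈ s, AGF.IsRTransInv i f) ∧
      ∀ g g' : VecGrp.pt k k ⟶ G, (∀ f ∈ s, ev g f = ev g' f) →
        ∀ f ∈ F, ∀ y : VecGrp.pt k k ⟶ G, ev (y * g) f = ev (y * g') f := by
  classical
  obtain ⟨n, w, N, -, -, hFw, hw⟩ := exists_stable (G := G) F
  let L : Fn G → (VecGrp.pt k k ⟶ G) → Fn G := fun f y => ev ((toPt G ≫ y) * 𝟙 G) f
  have hL : ∀ f y (h : VecGrp.pt k k ⟶ G), ev h (L f y) = ev (y * h) f := fun f y h => by
    rw [ev_ev, MonObj.comp_mul, ← Category.assoc, hom_pt_ext (h ≫ toPt G), ← hom_pt_ext (𝟙 _), Category.id_comp,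
      Category.comp_id]
  let W : Submodule k (Fn G) := Submodule.span k {z | ∃ f ∈ F, ∃ y, L f y = z}
  let W' : Submodule k (Fn G) := Submodule.span k (Set.range fun p : Fin n × Fin n => N p.1 p.2)
  haveI : Module.Finite k W' := Module.Finite.span_of_finite k (Set.finite_range _)
  have hwL : ∀ j y, L (w j) y ∈ W' := fun j y => by
    show ev ((toPt G ≫ y) * 𝟙 G) (w j) ∈ W'
    rw [hw]
    refine Submodule.sum_mem _ fun l _ => ?_
    obtain ⟨r, hr⟩ := exists_scalar (ev y (w l))
    rw [← ev_ev, ← hr, AlgHom.commutes, ev_id, ← Algebra.smul_def]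
    exact Submodule.smul_mem _ _ (Submodule.subset_span ⟨(l, j), rfl⟩)
  have hWW : W ≤ W' := by
    refine Submodule.span_le.mpr ?_
    rintro _ ⟨f, hf, y, rfl⟩
    show (ev ((toPt G ≫ y) * 𝟙 G)) f ∈ W'
    suffices ∀ x ∈ Submodule.span k (Set.range w), (ev ((toPt G ≫ y) * 𝟙 G)) x ∈ W' from this f (hFw hf)
    intro x hx
    induction hx using Submodule.span_induction with
    | mem x hx => obtain ⟨j, rfl⟩ := hx; exact hwL j y
    | zero => simp
    | add x x' _ _ hx hx' => rw [map_add]; exact add_mem hx hx'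
    | smul r x _ hx => rw [map_smul]; exact W'.smul_mem r hx
  haveI : Module.Finite k W := Submodule.finiteDimensional_of_le hWW
  obtain ⟨n', v, hv⟩ := Module.Finite.exists_fin (R := k) (M := W)
  refine ⟨Finset.univ.image fun l => (v l : Fn G), fun f hf => ?_, fun g g' hgg f hf y => ?_⟩
  · obtain ⟨l, -, rfl⟩ := Finset.mem_image.mp hf
    suffices ∀ x ∈ W, AGF.IsRTransInv i x from this _ (v l).2
    intro x hx
    induction hx using Submodule.span_induction with
    | mem x hx =>
      obtain ⟨f, hf', y, rfl⟩ := hx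
      refine (isRTransInv_iff i _).2 fun T a c => ?_
      rw [ev_ev, ev_ev, MonObj.comp_mul, MonObj.comp_mul, ← Category.assoc, ← Category.assoc,
        hom_pt_ext ((a * (c ≫ i)) ≫ toPt G), hom_pt_ext (a ≫ toPt G), Category.comp_id, Category.comp_id,
        ← _root_.mul_assoc]
      exact (isRTransInv_iff i f).1 (hF f hf') T _ c
    | zero => exact (AGF.rTransInv i).zero_mem
    | add x x' _ _ hx hx' => exact (AGF.rTransInv i).add_mem hx hx'
    | smul r x _ hx =>
      refine (isRTransInv_iff i _).2 fun T a c => ?_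
      rw [map_smul, map_smul, (isRTransInv_iff i x).1 hx T a c]
  · rw [← hL, ← hL]
    have hmem : L f y ∈ W := Submodule.subset_span ⟨f, hf, y, rfl⟩
    have h1 := hv ▸ (Submodule.mem_top (x := (⟨L f y, hmem⟩ : W)))
    obtain ⟨c, hc⟩ := (Submodule.mem_span_range_iff_exists_fun k).mp h1
    have h2 : ∑ l, c l • (v l : Fn G) = L f y := by simpa using congrArg Subtype.val hc
    rw [← h2, map_sum, map_sum]
    exact Finset.sum_congr rfl fun l _ => by
      rw [map_smul, map_smul, hgg _ (Finset.mem_image_of_mem _ (Finset.mem_univ l))]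

end Groth.Agent.AGFLib
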