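import Groth.Agent.AGFLib.LocFactIdeal
import Groth.Agent.AGFLib.RatTensorUfd
import Groth.Agent.DynLimit.Basic
import Mathlib.LinearAlgebra.TensorProduct.RightExactness
import Mathlib.LinearAlgebra.Dimension.Finite
import Mathlib.RingTheory.Jacobson.Ring

/-!
On a connected rational affine group every locally principal ideal has a principal power: the class is primitive, so
translations act semilinearly on it, and the determinant of the translates of a finite-dimensional space of sections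
is a nowhere vanishing section of a power.
-/

set_option autoImplicit false
set_option linter.style.haveILetI false
set_option linter.unusedSectionVars false
set_option maxHeartbeats 2000000

universe u

open TensorProduct WithConv

noncomputable section

namespace Groth.Agent.AGFLib.TorsionClass

open LocFactIdeal

attribute [local instance 2000] DynLimit.ptGroup

variable {k : Type u} [Field k] {A : Type u} [CommRing A] [Algebra k A]

local notation "B" => A ⊗[k] A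
local notation "iL" => (Algebra.TensorProduct.includeLeft : A →ₐ[k] A ⊗[k] A)
local notation "iR" => (Algebra.TensorProduct.includeRight : A →ₐ[k] A ⊗[k] A)

variable (k) in
/-- The ideal of products of the two ideals in the tensor square. -/
def prodIdeal (J₁ J₂ : Ideal A) : Ideal (A ⊗[k] A) :=
  J₁.map (Algebra.TensorProduct.includeLeft : A →ₐ[k] A ⊗[k] A) *
    J₂.map (Algebra.TensorProduct.includeRight : A →ₐ[k] A ⊗[k] A)

theorem tmul_mem_prodIdeal {J₁ J₂ : Ideal A} {x y : A} (hx : x ∈ J₁) (hy : y ∈ J₂) :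
    x ⊗ₜ[k] y ∈ prodIdeal k J₁ J₂ := by
  rw [show x ⊗ₜ[k] y = (x ⊗ₜ[k] (1 : A)) * ((1 : A) ⊗ₜ[k] y) by simp]
  exact Ideal.mul_mem_mul (Ideal.mem_map_of_mem _ hx) (Ideal.mem_map_of_mem _ hy)

theorem prodIdeal_eq_span (J₁ J₂ : Ideal A) :
    prodIdeal k J₁ J₂ = Ideal.span {z | ∃ x ∈ J₁, ∃ y ∈ J₂, x ⊗ₜ[k] y = z} := by
  refine le_antisymm ?_ (Ideal.span_le.2 fun z ⟨x, hx, y, hy, hz⟩ => hz ▸ tmul_mem_prodIdeal hx hy)
  rw [prodIdeal, Ideal.map, Ideal.map, Ideal.span_mul_span, Ideal.span_le]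
  rintro _ ⟨_, ⟨x, hx, rfl⟩, _, ⟨y, hy, rfl⟩, rfl⟩
  exact Ideal.subset_span ⟨x, hx, y, hy, by simp⟩

theorem mem_span_tmul {J₁ J₂ : Ideal A} {z : B} (hz : z ∈ prodIdeal k J₁ J₂) :
    z ∈ Submodule.span k {z | ∃ x ∈ J₁, ∃ y ∈ J₂, x ⊗ₜ[k] y = z} := by
  rw [prodIdeal_eq_span] at hz
  induction hz using Submodule.span_induction with
  | mem y hy => exact Submodule.subset_span hy
  | zero => exact zero_mem _
  | add x y _ _ hx hy => exact add_mem hx hy
  | smul c y hyB hy =>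
    clear hyB
    induction hy using Submodule.span_induction with
    | mem z hz =>
      obtain ⟨x, hx, w, hw, rfl⟩ := hz
      rw [smul_eq_mul]
      induction c using TensorProduct.induction_on with
      | zero => rw [zero_mul]; exact zero_mem _
      | tmul a b =>
        rw [Algebra.TensorProduct.tmul_mul_tmul]
        exact Submodule.subset_span ⟨_, J₁.mul_mem_left a hx, _, J₂.mul_mem_left b hw, rfl⟩
      | add c d hc hd => rw [add_mul]; exact add_mem hc hd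
    | zero => rw [smul_zero]; exact zero_mem _
    | add x y _ _ hx hy => rw [smul_add]; exact add_mem hx hy
    | smul r y _ hy => rw [smul_comm]; exact Submodule.smul_mem _ r hy

/-- A linear property of the elements of the product ideal is checked on pure tensors. -/
theorem eq_on_prodIdeal {M : Type*} [AddCommGroup M] [Module k M] {J₁ J₂ : Ideal A} (F F' : B →ₗ[k] M)
    (h : ∀ x ∈ J₁, ∀ y ∈ J₂, F (x ⊗ₜ[k] y) = F' (x ⊗ₜ[k] y)) {z : B} (hz : z ∈ prodIdeal k J₁ J₂) : F z = F' z :=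
  LinearMap.eqOn_span (R := k) (by rintro w ⟨x, hx, y, hy, rfl⟩; exact h x hx y hy) (mem_span_tmul hz)

/-- Contraction of the right factor by a functional. -/
def lc (φ : A →ₗ[k] k) : B →ₗ[k] A := (TensorProduct.rid k A).toLinearMap ∘ₗ TensorProduct.map LinearMap.id φ

@[simp] theorem lc_tmul (φ : A →ₗ[k] k) (x y : A) : lc φ (x ⊗ₜ[k] y) = φ y • x := by simp [lc]

/-- Contraction of the left factor by a functional. -/
def rc (φ : A →ₗ[k] k) : B →ₗ[k] A := (TensorProduct.lid k A).toLinearMap ∘ₗ TensorProduct.map φ LinearMap.id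

@[simp] theorem rc_tmul (φ : A →ₗ[k] k) (x y : A) : rc φ (x ⊗ₜ[k] y) = φ x • y := by simp [rc]

theorem lc_mem {J₁ J₂ : Ideal A} (φ : A →ₗ[k] k) {z : B} (hz : z ∈ prodIdeal k J₁ J₂) : lc φ z ∈ J₁ := by
  have h := Submodule.span_le (p := (J₁.restrictScalars k).comap (lc φ)).2
    (by
      rintro w ⟨x, hx, y, hy, rfl⟩
      show lc φ (x ⊗ₜ[k] y) ∈ J₁
      rw [lc_tmul]; exact Submodule.smul_of_tower_mem _ _ hx) (mem_span_tmul hz)
  exact h

theorem rc_mem {J₁ J₂ : Ideal A} (φ : A →ₗ[k] k) {z : B} (hz : z ∈ prodIdeal k J₁ J₂) : rc φ z ∈ J₂ := by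
  have h := Submodule.span_le (p := (J₂.restrictScalars k).comap (rc φ)).2
    (by
      rintro w ⟨x, hx, y, hy, rfl⟩
      show rc φ (x ⊗ₜ[k] y) ∈ J₂
      rw [rc_tmul]; exact Submodule.smul_of_tower_mem _ _ hy) (mem_span_tmul hz)
  exact h

/-- Evaluation of the right factor at a point. -/
def evR (g : A →ₐ[k] k) : B →ₐ[k] A :=
  (Algebra.TensorProduct.rid k k A).toAlgHom.comp (Algebra.TensorProduct.map (AlgHom.id k A) g)

theorem evR_tmul (g : A →ₐ[k] k) (x y : A) : evR g (x ⊗ₜ[k] y) = g y • x := by simp [evR]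

theorem lc_mul {J₁ J₂ : Ideal A} (g : A →ₐ[k] k) (ψ : A →ₗ[k] k) (hψ : ∀ a, ∀ y ∈ J₂, ψ (a * y) = g a * ψ y) (w : B)
    {z : B} (hz : z ∈ prodIdeal k J₁ J₂) : lc ψ (w * z) = evR g w * lc ψ z := by
  refine eq_on_prodIdeal (lc ψ ∘ₗ LinearMap.mulLeft k w) (LinearMap.mulLeft k (evR g w) ∘ₗ lc ψ) (fun x _ y hy => ?_) hz
  show lc ψ (w * x ⊗ₜ[k] y) = evR g w * lc ψ (x ⊗ₜ[k] y)
  induction w using TensorProduct.induction_on with
  | zero => simp
  | tmul a b =>
    rw [Algebra.TensorProduct.tmul_mul_tmul, lc_tmul, lc_tmul, evR_tmul, hψ b y hy, smul_mul_smul_comm]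
  | add a b ha hb => simp only [add_mul, map_add, ha, hb]

variable [IsDomain A]

theorem lp_map {C : Type u} [CommRing C] [IsDomain C] (φ : A →+* C) (hφ : Function.Injective φ) {J : Ideal A}
    (hJ : LP J) : LP (J.map φ) := by
  refine ⟨fun h => hJ.1 ((Ideal.map_eq_bot_iff_of_injective hφ).1 h), fun m hm => ?_⟩
  obtain ⟨s, hs, f, hf, hfs⟩ := hJ.2 (m.comap φ) (Ideal.IsPrime.comap φ)
  refine ⟨φ s, Ideal.mem_map_of_mem φ hs, φ f, hf, fun x hx => ?_⟩
  induction hx using Submodule.span_induction with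
  | mem y hy => obtain ⟨a, ha, rfl⟩ := hy; rw [← map_mul]; exact map_dvd φ (hfs a ha)
  | zero => simp
  | add y z _ _ hy hz => rw [mul_add]; exact dvd_add hy hz
  | smul c y _ hy => rw [smul_eq_mul, mul_left_comm]; exact hy.mul_left c

theorem sim_map {C : Type u} [CommRing C] [IsDomain C] (φ : A →+* C) (hφ : Function.Injective φ) {I J : Ideal A}
    (h : Sim I J) : Sim (I.map φ) (J.map φ) := by
  obtain ⟨a, b, ha, hb, e⟩ := h
  refine ⟨φ a, φ b, (map_ne_zero_iff φ hφ).2 ha, (map_ne_zero_iff φ hφ).2 hb, ?_⟩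
  simpa [Ideal.map_mul, Ideal.map_span] using congrArg (Ideal.map φ) e

theorem includeLeft_inj : Function.Injective iL :=
  Algebra.TensorProduct.includeLeft_injective (S := k) (RingHom.injective (algebraMap k A))

theorem includeRight_inj : Function.Injective iR :=
  Algebra.TensorProduct.includeRight_injective (RingHom.injective (algebraMap k A))

/-- A functional on an ideal, semilinear at a point and equal to one at a local generator. -/
theorem exists_functional {J : Ideal A} (hJ : LP J) (g : A →ₐ[k] k) :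
    ∃ (ψ : A →ₗ[k] k) (s f : A), s ∈ J ∧ g f ≠ 0 ∧ (∀ x ∈ J, s ∣ f * x) ∧ ψ s = 1 ∧
      (∀ a, ∀ y ∈ J, ψ (a * y) = g a * ψ y) ∧ ∀ y c, y ∈ J → f * y = s * c → g f * ψ y = g c := by
  obtain ⟨s, hs, f, hf, hfs⟩ := hJ.2 (RingHom.ker g.toRingHom) (RingHom.ker_isPrime _)
  have hgf : g f ≠ 0 := hf
  have hf0 : f ≠ 0 := fun h => hgf (by rw [h, map_zero])
  have hs0 : s ≠ 0 := fun h => hJ.1 ((Submodule.eq_bot_iff _).2 fun x hx => by
    obtain ⟨c, hc⟩ := hfs x hx
    rw [h, zero_mul] at hc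
    exact (mul_eq_zero.1 hc).resolve_left hf0)
  choose c hc using fun y : J => hfs y.1 y.2
  have huniq : ∀ (y : J) d, f * (y : A) = s * d → c y = d := fun y d h =>
    mul_left_cancel₀ hs0 ((hc y).symm.trans h)
  let φ : (J.restrictScalars k) →ₗ[k] k :=
    { toFun := fun y => g (c ⟨y.1, y.2⟩) / g f
      map_add' := fun y z => by
        rw [huniq ⟨_, (y + z).2⟩ (c ⟨y.1, y.2⟩ + c ⟨z.1, z.2⟩) (by
          rw [mul_add s, ← hc, ← hc, ← mul_add]; rfl), map_add, add_div]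
      map_smul' := fun r y => by
        have e : c ⟨(r • y).1, (r • y).2⟩ = r • c ⟨y.1, y.2⟩ := huniq _ _ (by
          show f * (r • (y : A)) = _
          rw [mul_smul_comm, mul_smul_comm]
          exact congrArg (r • ·) (hc ⟨y.1, y.2⟩))
        rw [e, map_smul, smul_div_assoc, RingHom.id_apply] }
  obtain ⟨ψ, hψ⟩ := LinearMap.exists_extend φ
  have hψ' : ∀ y (hy : y ∈ J), ψ y = g (c ⟨y, hy⟩) / g f := fun y hy =>
    LinearMap.congr_fun hψ (⟨y, hy⟩ : J.restrictScalars k)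
  refine ⟨ψ, s, f, hs, hgf, hfs, ?_, fun a y hy => ?_, fun y d hy hd => ?_⟩
  · rw [hψ' s hs, huniq ⟨s, hs⟩ f (mul_comm f s), div_self hgf]
  · rw [hψ' _ (J.mul_mem_left a hy), hψ' y hy, huniq ⟨_, J.mul_mem_left a hy⟩ (a * c ⟨y, hy⟩) (by
      rw [mul_left_comm s, ← hc, mul_left_comm]), map_mul, mul_div_assoc]
  · rw [hψ' y hy, huniq ⟨y, hy⟩ d hd, mul_div_cancel₀ _ hgf]

variable [IsDomain (A ⊗[k] A)]

/-- The semilinear map defined by an equality of classes. -/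
theorem exists_delta (D : A →ₐ[k] A ⊗[k] A) {J J₁ J₂ : Ideal A} {α β : B} (hβ : β ≠ 0)
    (h : Ideal.span {α} * J.map D = Ideal.span {β} * prodIdeal k J₁ J₂) :
    ∃ δ : A →ₗ[k] B, (∀ v ∈ J, δ v ∈ prodIdeal k J₁ J₂ ∧ β * δ v = α * D v) ∧
      (∀ a, ∀ v ∈ J, δ (a * v) = D a * δ v) ∧ Ideal.span (δ '' (J : Set A)) = prodIdeal k J₁ J₂ := by
  have hex : ∀ v : J, ∃ z ∈ prodIdeal k J₁ J₂, β * z = α * D v := fun v => Ideal.mem_span_singleton_mul.1
    (h ▸ Ideal.mul_mem_mul (Ideal.mem_span_singleton_self α) (Ideal.mem_map_of_mem D v.2))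
  choose z hz hzv using hex
  let φ : (J.restrictScalars k) →ₗ[k] B :=
    { toFun := fun v => z ⟨v.1, v.2⟩
      map_add' := fun v w => mul_left_cancel₀ hβ (by rw [mul_add β, hzv, hzv, hzv, ← mul_add, ← map_add]; rfl)
      map_smul' := fun r v => mul_left_cancel₀ hβ (by
        rw [RingHom.id_apply, mul_smul_comm r β, hzv, hzv, ← mul_smul_comm, ← map_smul]; rfl) }
  obtain ⟨δ, hδ⟩ := LinearMap.exists_extend φ
  have hδ' : ∀ v (hv : v ∈ J), δ v = z ⟨v, hv⟩ := fun v hv => LinearMap.congr_fun hδ (⟨v, hv⟩ : J.restrictScalars k)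
  have h1 : ∀ v ∈ J, δ v ∈ prodIdeal k J₁ J₂ ∧ β * δ v = α * D v := fun v hv => by
    rw [hδ' v hv]; exact ⟨hz _, hzv _⟩
  refine ⟨δ, h1, fun a v hv => mul_left_cancel₀ hβ ?_, ?_⟩
  · rw [(h1 _ (J.mul_mem_left a hv)).2, mul_left_comm, (h1 v hv).2, map_mul]
    ring
  · refine le_antisymm (Ideal.span_le.2 ?_) ((Ideal.span_singleton_mul_right_mono hβ).1 ?_)
    · rintro _ ⟨v, hv, rfl⟩; exact (h1 v hv).1
    · rw [← h, Ideal.map, Ideal.span_mul_span, Ideal.span_le]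
      rintro _ ⟨a', ha', _, ⟨v, hv, rfl⟩, rfl⟩
      show a' * D v ∈ Ideal.span {β} * Ideal.span (δ '' (J : Set A))
      rw [Set.mem_singleton_iff.1 ha']
      rw [← (h1 v hv).2]
      exact Ideal.mul_mem_mul (Ideal.mem_span_singleton_self β) (Ideal.subset_span ⟨v, hv, rfl⟩)

/-- The translation maps are bijective. -/
theorem bijOn_translate (D : A →ₐ[k] A ⊗[k] A) {J J₁ J₂ : Ideal A} (hJ : LP J) (hJ₁ : J₁ ≠ ⊥)
    {δ : A →ₗ[k] B} (hmem : ∀ v ∈ J, δ v ∈ prodIdeal k J₁ J₂)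
    (hsl : ∀ a, ∀ v ∈ J, δ (a * v) = D a * δ v) (hspan : Ideal.span (δ '' (J : Set A)) = prodIdeal k J₁ J₂)
    (g : A →ₐ[k] k) (hg : Function.Bijective ((evR g).comp D))
    (ψ : A →ₗ[k] k) (hψ : ∀ a, ∀ y ∈ J₂, ψ (a * y) = g a * ψ y) {s : A} (hs : s ∈ J₂) (hψs : ψ s = 1) :
    (∀ a, ∀ v ∈ J, lc ψ (δ (a * v)) = evR g (D a) * lc ψ (δ v)) ∧
      (∀ z ∈ J₁, ∃ v ∈ J, lc ψ (δ v) = z) ∧ ∀ v ∈ J, lc ψ (δ v) = 0 → v = 0 := by
  have hT : ∀ a, ∀ v ∈ J, lc ψ (δ (a * v)) = evR g (D a) * lc ψ (δ v) := fun a v hv => by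
    rw [hsl a v hv, lc_mul g ψ hψ _ (hmem v hv)]
  have hsurj : ∀ z ∈ J₁, ∃ v ∈ J, lc ψ (δ v) = z := fun z hz => by
    have hzs : z ⊗ₜ[k] s ∈ Ideal.span (δ '' (J : Set A)) := hspan ▸ tmul_mem_prodIdeal hz hs
    have key : ∀ w ∈ Ideal.span (δ '' (J : Set A)), ∀ c : B, ∃ v ∈ J, lc ψ (δ v) = lc ψ (c * w) := fun w hw => by
      induction hw using Submodule.span_induction with
      | mem x hx =>
        obtain ⟨v, hv, rfl⟩ := hx
        intro c
        obtain ⟨a, ha⟩ := hg.2 (evR g c)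
        exact ⟨a * v, J.mul_mem_left a hv, by rw [hT a v hv, lc_mul g ψ hψ _ (hmem v hv)]; exact congrArg (· * _) ha⟩
      | zero => exact fun c => ⟨0, zero_mem _, by simp⟩
      | add x y _ _ hx hy =>
        intro c
        obtain ⟨v, hv, e⟩ := hx c
        obtain ⟨w, hw, e'⟩ := hy c
        exact ⟨v + w, add_mem hv hw, by rw [map_add, map_add, e, e', mul_add, map_add]⟩
      | smul r x _ hx =>
        intro c
        obtain ⟨v, hv, e⟩ := hx (c * r)
        exact ⟨v, hv, by rw [e, smul_eq_mul, mul_assoc]⟩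
    obtain ⟨v, hv, e⟩ := key _ hzs 1
    exact ⟨v, hv, by rw [e, one_mul, lc_tmul, hψs, one_smul]⟩
  refine ⟨hT, hsurj, fun v hv h0 => by_contra fun hv0 => hJ₁ ((Submodule.eq_bot_iff _).2 fun z hz => ?_)⟩
  obtain ⟨w, hw, rfl⟩ := hsurj z hz
  have e := hT w v hv
  rw [h0, mul_zero, mul_comm w v, hT v w hw] at e
  exact (mul_eq_zero.1 e).resolve_left fun h' => hv0 (hg.1 (h'.trans (map_zero _).symm))

/-- Restricting an equality of classes on the square to a fibre. -/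
theorem sim_of_eq (D : A →ₐ[k] A ⊗[k] A) {J J₁ J₂ : Ideal A} (hJ : LP J) (hJ₁ : LP J₁) (hJ₂ : LP J₂)
    (h : Sim (J.map D) (prodIdeal k J₁ J₂)) (e : A →ₐ[k] k) (he : (evR e).comp D = AlgHom.id k A) : Sim J J₁ := by
  obtain ⟨α, β, hα, hβ, hab⟩ := h
  obtain ⟨δ, h1, hsl, hspan⟩ := exists_delta D hβ hab
  obtain ⟨ψ, s, f, hs, -, -, hψs, hψ, -⟩ := exists_functional hJ₂ e
  obtain ⟨hT, hsurj, hinj⟩ := bijOn_translate D hJ hJ₁.1 (fun v hv => (h1 v hv).1) hsl hspan e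
    (by rw [he]; exact Function.bijective_id) ψ hψ hs hψs
  have he' : ∀ a, evR e (D a) = a := fun a => AlgHom.congr_fun he a
  obtain ⟨v₀, hv₀, hv00⟩ := Submodule.exists_mem_ne_zero_of_ne_bot hJ.1
  have hsym : ∀ v ∈ J, lc ψ (δ v₀) * v = v₀ * lc ψ (δ v) := fun v hv => by
    have a1 := hT v₀ v hv
    rw [mul_comm v₀ v, hT v v₀ hv₀, he', he'] at a1
    rw [mul_comm, a1]
  refine ⟨lc ψ (δ v₀), v₀, fun h0 => hv00 (hinj v₀ hv₀ h0), hv00, le_antisymm ?_ ?_⟩
  · refine Ideal.span_singleton_mul_le_iff.2 fun v hv => ?_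
    rw [hsym v hv]
    exact Ideal.mul_mem_mul (Ideal.mem_span_singleton_self _) (lc_mem ψ (h1 v hv).1)
  · refine Ideal.span_singleton_mul_le_iff.2 fun z hz => ?_
    obtain ⟨v, hv, rfl⟩ := hsurj z hz
    rw [← hsym v hv]
    exact Ideal.mul_mem_mul (Ideal.mem_span_singleton_self _) hv

end Groth.Agent.AGFLib.TorsionClass
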