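import Groth.Agent.AGFLib.TorsionClass
import Groth.Agent.S16117
import Groth.Agent.GrpSchLib.Kunneth
import Groth.Agent.GrpSchLib.LineGroups
import Groth.Agent.GrpSchLib.AffineHopf

/-!
On a rational connected affine group every class of locally principal ideals is killed by a power, and there are
finitely many of them.
-/

set_option autoImplicit false
set_option backward.isDefEq.respectTransparency.types false
set_option linter.style.haveILetI false
set_option linter.unusedSectionVars false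
set_option maxHeartbeats 2000000

universe u

open CategoryTheory MonoidalCategory CartesianMonoidalCategory AlgebraicGeometry TensorProduct WithConv

noncomputable section

namespace Groth.Agent.AGFLib.TorsionHopf

open LocFactIdeal TorsionClass GrpSchLib GrpSchLib.Kunneth GrpSchLib.LineGroups AffineHopf

variable {k : Type u} [Field k] [IsAlgClosed k]

/-- Units of a tensor product of finitely generated domains are products. -/
theorem exists_unit_split (A C : Type u) [CommRing A] [Algebra k A] [Algebra.FiniteType k A] [IsDomain A]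
    [CommRing C] [Algebra k C] [Algebra.FiniteType k C] [IsDomain C] (u : A ⊗[k] C) (hu : IsUnit u) :
    ∃ (a : A) (z : C), IsUnit a ∧ u = a ⊗ₜ[k] z := by
  let X := sp k A
  let Y := sp k C
  haveI : LocallyOfFiniteType X.hom :=
    (HasRingHomProperty.Spec_iff (P := @LocallyOfFiniteType)).mpr (RingHom.finiteType_algebraMap.mpr inferInstance)
  haveI : LocallyOfFiniteType Y.hom :=
    (HasRingHomProperty.Spec_iff (P := @LocallyOfFiniteType)).mpr (RingHom.finiteType_algebraMap.mpr inferInstance)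
  haveI : IsIntegral X.left := inferInstanceAs (IsIntegral (Spec (CommRingCat.of A)))
  haveI : IsIntegral Y.left := inferInstanceAs (IsIntegral (Spec (CommRingCat.of C)))
  haveI : IsAffine X.left := isAffine_Spec _
  haveI : IsAffine Y.left := isAffine_Spec _
  let e : A ⊗[k] C ≃ₐ[k] Fn X ⊗[k] Fn Y := Algebra.TensorProduct.congr (spEquiv (k := k) A) (spEquiv (k := k) C)
  let Φ : A ⊗[k] C →ₐ[k] Fn (X ⊗ Y) := (toProd X Y).comp e.toAlgHom
  have hΦ : Function.Bijective Φ := (toProd_bijective X Y).comp e.bijective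
  obtain ⟨g, h, hg, -, he⟩ := S16117.result k X Y (Φ u) (hu.map Φ)
  refine ⟨(spEquiv (k := k) A).symm g, (spEquiv (k := k) C).symm h, hg.map (spEquiv (k := k) A).symm, hΦ.1 (he.trans ?_)⟩
  show _ = toProd X Y (e ((spEquiv (k := k) A).symm g ⊗ₜ[k] (spEquiv (k := k) C).symm h))
  simp only [e, Algebra.TensorProduct.congr_apply, Algebra.TensorProduct.map_tmul, AlgEquiv.coe_toAlgHom,
    toProd, Algebra.TensorProduct.lift_tmul]
  erw [AlgEquiv.apply_symm_apply, AlgEquiv.apply_symm_apply]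
  rfl

attribute [local instance 2000] DynLimit.ptGroup

variable {A : Type u} [CommRing A] [HopfAlgebra k A]

local notation "B" => A ⊗[k] A
local notation "B3" => A ⊗[k] (A ⊗[k] A)
local notation "Δ" => Bialgebra.comulAlgHom k A
local notation "iL" => (Algebra.TensorProduct.includeLeft : A →ₐ[k] A ⊗[k] A)
local notation "iR" => (Algebra.TensorProduct.includeRight : A →ₐ[k] A ⊗[k] A)

theorem simA {R S : Type u} [CommRing R] [CommRing S] [Algebra k R] [Algebra k S] [IsDomain R] [IsDomain S]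
    (φ : R →ₐ[k] S) (hφ : Function.Injective φ) {I J : Ideal R} (h : Sim I J) : Sim (I.map φ) (J.map φ) := by
  obtain ⟨a, b, ha, hb, e⟩ := h
  refine ⟨φ a, φ b, (map_ne_zero_iff φ hφ).2 ha, (map_ne_zero_iff φ hφ).2 hb, ?_⟩
  simpa [Ideal.map_mul, Ideal.map_span] using congrArg (Ideal.map φ) e

theorem map_mapA {R S T : Type u} [CommRing R] [CommRing S] [CommRing T] [Algebra k R] [Algebra k S] [Algebra k T]
    (φ : R →ₐ[k] S) (ψ : S →ₐ[k] T) (I : Ideal R) : (I.map φ).map ψ = I.map (ψ.comp φ) :=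
  Ideal.map_map φ.toRingHom ψ.toRingHom

theorem map_prodIdeal {T : Type u} [CommRing T] [Algebra k T] (φ : B →ₐ[k] T) (J₁ J₂ : Ideal A) :
    (prodIdeal k J₁ J₂).map φ = J₁.map (φ.comp iL) * J₂.map (φ.comp iR) := by
  rw [prodIdeal, Ideal.map_mul, map_mapA, map_mapA]

theorem evR_counit : (evR (Bialgebra.counitAlgHom k A)).comp Δ = AlgHom.id k A := by
  refine AlgHom.ext fun a => ?_
  show TensorProduct.rid k A (TensorProduct.map LinearMap.id (Coalgebra.counit (R := k)) (Coalgebra.comul a)) = a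
  rw [show TensorProduct.map LinearMap.id (Coalgebra.counit (R := k)) (Coalgebra.comul a) = a ⊗ₜ[k] (1 : k) from
    Coalgebra.lTensor_counit_comul a, TensorProduct.rid_tmul, one_smul]

theorem evR_counit_comm :
    (evR (Bialgebra.counitAlgHom k A)).comp ((Algebra.TensorProduct.comm k A A).toAlgHom.comp Δ) = AlgHom.id k A := by
  refine AlgHom.ext fun a => ?_
  show evR (Bialgebra.counitAlgHom k A) (Algebra.TensorProduct.comm k A A (Coalgebra.comul (R := k) a)) = a
  rw [show evR (Bialgebra.counitAlgHom k A) (Algebra.TensorProduct.comm k A A (Coalgebra.comul (R := k) a)) =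
    TensorProduct.lid k A (TensorProduct.map (Coalgebra.counit (R := k)) LinearMap.id (Coalgebra.comul (R := k) a)) from by
      induction Coalgebra.comul (R := k) a using TensorProduct.induction_on with
      | zero => simp
      | tmul x y => simp [evR]
      | add x y hx hy => simp only [map_add, hx, hy],
    show TensorProduct.map (Coalgebra.counit (R := k)) LinearMap.id (Coalgebra.comul a) = (1 : k) ⊗ₜ[k] a from
      Coalgebra.rTensor_counit_comul a, TensorProduct.lid_tmul, one_smul]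

/-- Right translations are bijective. -/
theorem bijective_translate (g : A →ₐ[k] k) : Function.Bijective ((evR g).comp Δ) := by
  let pk := DynLimit.push (k := k) (A := A) (Algebra.ofId k A)
  let r : WithConv (A →ₐ[k] k) → (A →ₐ[k] A) := fun γ => (toConv (AlgHom.id k A) * pk γ).ofConv
  have hr : ∀ γ : WithConv (A →ₐ[k] k), (evR γ.ofConv).comp Δ = r γ := fun γ => AlgHom.ext fun a => by
    show evR γ.ofConv (Coalgebra.comul (R := k) a) = (toConv (AlgHom.id k A) * pk γ) a
    rw [AlgHom.convMul_apply]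
    induction Coalgebra.comul (R := k) a using TensorProduct.induction_on with
    | zero => simp
    | tmul x y => simp [evR, pk, DynLimit.push, Algebra.smul_def, mul_comm]
    | add x y hx hy => simp only [map_add, hx, hy]
  have hcomp : ∀ γ γ', (r γ).comp (r γ') = r (γ * γ') := fun γ γ' => by
    have e1 := map_mul (DynLimit.push (k := k) (A := A) (r γ)) (toConv (AlgHom.id k A)) (pk γ')
    rw [show DynLimit.push (r γ) (pk γ') = pk γ' from WithConv.ext (AlgHom.ext fun a => (r γ).commutes _),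
      show DynLimit.push (r γ) (toConv (AlgHom.id k A)) = toConv (r γ) from rfl,
      show toConv (r γ) = toConv (AlgHom.id k A) * pk γ from rfl, mul_assoc, ← map_mul] at e1
    exact congrArg WithConv.ofConv e1
  have h1 : r 1 = AlgHom.id k A := by
    show (toConv (AlgHom.id k A) * pk 1).ofConv = _
    rw [map_one, mul_one]
  have hinv : ∀ γ γ', γ * γ' = 1 → ∀ a, r γ (r γ' a) = a := fun γ γ' h a => by
    rw [← AlgHom.comp_apply, hcomp, h, h1]; rfl
  rw [hr (toConv g)]
  exact Function.bijective_iff_has_inverse.2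
    ⟨r (toConv g)⁻¹, hinv _ _ (inv_mul_cancel _), hinv _ _ (mul_inv_cancel _)⟩

variable [Algebra.FiniteType k A] [Algebra.Smooth k A] [IsDomain A]

theorem isDomain_square : IsDomain (A ⊗[k] A) := GrpSchLib.isDomain_tensor_of_isAlgClosed

theorem comul_injective : Function.Injective Δ := fun a b h => by
  have ha := AlgHom.congr_fun (evR_counit (k := k) (A := A)) a
  have hb := AlgHom.congr_fun (evR_counit (k := k) (A := A)) b
  simp only [AlgHom.comp_apply, AlgHom.id_apply] at ha hb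
  rw [← ha, ← hb, h]

/-- The primes over a divisor on either factor are pulled back from it. -/
theorem prime_eq_map {f : A} {P : Ideal B} (hP : P ∈ (Ideal.span {f ⊗ₜ[k] f}).minimalPrimes) :
    ∃ p ∈ (Ideal.span {f}).minimalPrimes, P = p.map iL ∨ P = p.map iR := by
  haveI := hP.1.1
  have hmem : f ⊗ₜ[k] f ∈ P := hP.1.2 (Ideal.mem_span_singleton_self _)
  rw [show f ⊗ₜ[k] f = iL f * iR f by simp] at hmem
  rcases (inferInstance : P.IsPrime).mem_or_mem hmem with hl | hl
  · obtain ⟨p, hp, hle⟩ := Ideal.exists_minimalPrimes_le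
      ((Ideal.span_singleton_le_iff_mem (P.comap iL)).2 hl)
    haveI := hp.1.1
    haveI : IsDomain ((A ⧸ p) ⊗[k] A) := GrpSchLib.isDomain_tensor_of_isAlgClosed
    have hk : RingHom.ker (Algebra.TensorProduct.map (Ideal.Quotient.mkₐ k p) (AlgHom.id k A)) = p.map iL := by
      rw [Algebra.TensorProduct.rTensor_ker _ (Ideal.Quotient.mkₐ_surjective k p)]
      congr 1
      exact Ideal.mk_ker
    haveI : (p.map iL).IsPrime := hk ▸ RingHom.ker_isPrime _
    have hle' : p.map iL ≤ P := Ideal.map_le_iff_le_comap.2 hle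
    refine ⟨p, hp, Or.inl (le_antisymm (hP.2 ⟨inferInstance, ?_⟩ hle') hle')⟩
    rw [Ideal.span_singleton_le_iff_mem, show f ⊗ₜ[k] f = iL f * iR f by simp]
    exact Ideal.mul_mem_right _ _ (Ideal.mem_map_of_mem _ (hp.1.2 (Ideal.mem_span_singleton_self f)))
  · obtain ⟨p, hp, hle⟩ := Ideal.exists_minimalPrimes_le
      ((Ideal.span_singleton_le_iff_mem (P.comap iR)).2 hl)
    haveI := hp.1.1
    haveI : IsDomain (A ⊗[k] (A ⧸ p)) := GrpSchLib.isDomain_tensor_of_isAlgClosed
    have hk : RingHom.ker (Algebra.TensorProduct.map (AlgHom.id k A) (Ideal.Quotient.mkₐ k p)) = p.map iR := by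
      rw [Algebra.TensorProduct.lTensor_ker _ (Ideal.Quotient.mkₐ_surjective k p)]
      congr 1
      exact Ideal.mk_ker
    haveI : (p.map iR).IsPrime := hk ▸ RingHom.ker_isPrime _
    have hle' : p.map iR ≤ P := Ideal.map_le_iff_le_comap.2 hle
    refine ⟨p, hp, Or.inr (le_antisymm (hP.2 ⟨inferInstance, ?_⟩ hle') hle')⟩
    rw [Ideal.span_singleton_le_iff_mem, show f ⊗ₜ[k] f = iL f * iR f by simp]
    exact Ideal.mul_mem_left _ _ (Ideal.mem_map_of_mem _ (hp.1.2 (Ideal.mem_span_singleton_self f)))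

theorem lp_prodIdeal {J₁ J₂ : Ideal A} (h₁ : LP J₁) (h₂ : LP J₂) : LP (prodIdeal k J₁ J₂) := by
  haveI := isDomain_square (k := k) (A := A)
  exact lp_mul (lp_map _ includeLeft_inj h₁) (lp_map _ includeRight_inj h₂)

theorem prodIdeal_mul (J₁ J₂ K₁ K₂ : Ideal A) :
    prodIdeal k J₁ J₂ * prodIdeal k K₁ K₂ = prodIdeal k (J₁ * K₁) (J₂ * K₂) := by
  simp only [prodIdeal, Ideal.map_mul]
  exact mul_mul_mul_comm _ _ _ _

theorem prodIdeal_one : prodIdeal k (1 : Ideal A) 1 = 1 := by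
  simp [prodIdeal, Ideal.map_top]

theorem sim_inverse {J : Ideal A} (hJ : LP J) : ∃ q : Ideal A, LP q ∧ Sim (J * q) 1 := by
  obtain ⟨a, ha, ha0⟩ := Submodule.exists_mem_ne_zero_of_ne_bot hJ.1
  obtain ⟨q, hq, he⟩ := exists_inverse hJ ha ha0
  exact ⟨q, hq, he ▸ sim_span ha0⟩

/-- The classes on the square are products of classes on the factors. -/
theorem exists_sim_prod (hrat : RatOpen.Rat k A) (I : Ideal B) (hI : LP I) :
    ∃ J₁ J₂ : Ideal A, LP J₁ ∧ LP J₂ ∧ Sim I (prodIdeal k J₁ J₂) := by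
  haveI := isDomain_square (k := k) (A := A)
  haveI : Algebra.FiniteType k (A ⊗[k] A) := Algebra.FiniteType.trans (R := k) (S := A) inferInstance inferInstance
  haveI : IsNoetherianRing (A ⊗[k] A) := Algebra.FiniteType.isNoetherianRing k _
  haveI : IsNoetherianRing A := Algebra.FiniteType.isNoetherianRing k _
  haveI : Algebra.Smooth k (A ⊗[k] A) := Algebra.Smooth.comp k A (A ⊗[k] A)
  obtain ⟨f, hf0, -, hd, hufd⟩ := RatTensorUfd.exists_ufd_away hrat
  haveI := hd
  haveI := hufd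
  have hff : f ⊗ₜ[k] f ≠ 0 := by
    rw [show f ⊗ₜ[k] f = iL f * iR f by simp]
    exact mul_ne_zero ((map_ne_zero_iff _ includeLeft_inj).2 hf0) ((map_ne_zero_iff _ includeRight_inj).2 hf0)
  refine sim_induction (fun m _ => RatTensorUfd.ufd_atMaximal (k := k) (A ⊗[k] A) m) hff
    (motive := fun I => ∃ J₁ J₂ : Ideal A, LP J₁ ∧ LP J₂ ∧ Sim I (prodIdeal k J₁ J₂)) ?_ ?_ ?_ ?_ I hI
  · exact ⟨1, 1, lp_one, lp_one, by rw [prodIdeal_one]; exact Sim.refl _⟩
  · rintro I J - - ⟨J₁, J₂, h₁, h₂, hs⟩ ⟨K₁, K₂, g₁, g₂, hs'⟩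
    exact ⟨J₁ * K₁, J₂ * K₂, lp_mul h₁ g₁, lp_mul h₂ g₂, prodIdeal_mul (k := k) J₁ J₂ K₁ K₂ ▸ hs.mul hs'⟩
  · rintro I J - - hIJ ⟨J₁, J₂, h₁, h₂, hs⟩
    obtain ⟨q₁, hq₁, e₁⟩ := sim_inverse h₁
    obtain ⟨q₂, hq₂, e₂⟩ := sim_inverse h₂
    refine ⟨q₁, q₂, hq₁, hq₂, ?_⟩
    have e : Sim (prodIdeal k J₁ J₂ * prodIdeal k q₁ q₂) 1 := by
      rw [prodIdeal_mul]
      simpa [prodIdeal, Ideal.map_top] using
        (simA (iL) includeLeft_inj e₁).mul (simA (iR) includeRight_inj e₂)
    -- J ~ J * (J₁J₂ q₁q₂) ~ (J I) * q₁q₂ ~ q₁q₂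
    have s1 : Sim J (J * (prodIdeal k J₁ J₂ * prodIdeal k q₁ q₂)) := by
      simpa using (Sim.refl J).mul e.symm
    have s2 : Sim (J * (prodIdeal k J₁ J₂ * prodIdeal k q₁ q₂)) (J * (I * prodIdeal k q₁ q₂)) :=
      (Sim.refl J).mul (hs.symm.mul (Sim.refl _))
    have s3 : Sim (J * (I * prodIdeal k q₁ q₂)) (prodIdeal k q₁ q₂) := by
      rw [← mul_assoc, mul_comm J I]
      simpa using hIJ.mul (Sim.refl (prodIdeal k q₁ q₂))
    exact s1.trans (s2.trans s3)
  · intro P hP
    obtain ⟨p, hp, he⟩ := prime_eq_map hP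
    obtain ⟨hlp, -⟩ := minimal_prime (fun m _ => RatTensorUfd.ufd_atMaximal (k := k) A m) (lp_span hf0) hp
    rcases he with rfl | rfl
    · exact ⟨p, 1, hlp, lp_one, by simpa [prodIdeal, Ideal.map_top] using Sim.refl _⟩
    · exact ⟨1, p, lp_one, hlp, by simpa [prodIdeal, Ideal.map_top] using Sim.refl _⟩

/-- Every class is primitive. -/
theorem sim_comul (hrat : RatOpen.Rat k A) {J : Ideal A} (hJ : LP J) : Sim (J.map Δ) (prodIdeal k J J) := by
  haveI := isDomain_square (k := k) (A := A)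
  obtain ⟨J₁, J₂, h₁, h₂, h0⟩ := exists_sim_prod hrat _ (lp_map _ comul_injective hJ)
  have h : Sim (J.map Δ) (prodIdeal k J₁ J₂) := h0
  have s₁ : Sim J J₁ := sim_of_eq Δ hJ h₁ h₂ h (Bialgebra.counitAlgHom k A) evR_counit
  let σ : B →ₐ[k] B := (Algebra.TensorProduct.comm k A A).toAlgHom
  have hσL : σ.comp iL = iR := AlgHom.ext fun a => by simp [σ]
  have hσR : σ.comp iR = iL := AlgHom.ext fun a => by simp [σ]
  have h' : Sim (J.map (σ.comp Δ)) (prodIdeal k J₂ J₁) := by
    have hs := simA σ (Algebra.TensorProduct.comm k A A).injective h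
    rw [map_mapA, map_prodIdeal, hσL, hσR, mul_comm] at hs
    exact hs
  have s₂ : Sim J J₂ := sim_of_eq (σ.comp Δ) hJ h₂ h₁ h' (Bialgebra.counitAlgHom k A) evR_counit_comm
  exact h.trans ((simA (iL) includeLeft_inj s₁.symm).mul (simA (iR) includeRight_inj s₂.symm))

/-- Pairing a spanning set on the left gives the same span. -/
theorem span_left (S : Set B) (T : Ideal A) {I : Ideal B} (h : Ideal.span S = I) :
    Ideal.span {w | ∃ p ∈ S, ∃ y ∈ T, Algebra.TensorProduct.assoc k k k A A A (p ⊗ₜ[k] y) = w} =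
      Ideal.span {w | ∃ p ∈ I, ∃ y ∈ T, Algebra.TensorProduct.assoc k k k A A A (p ⊗ₜ[k] y) = w} := by
  refine le_antisymm (Ideal.span_mono fun w ⟨p, hp, h'⟩ => ⟨p, h ▸ Ideal.subset_span hp, h'⟩) (Ideal.span_le.2 ?_)
  rintro _ ⟨p, hp, y, hy, rfl⟩
  rw [← h] at hp
  show Algebra.TensorProduct.assoc k k k A A A (p ⊗ₜ[k] y) ∈
    Ideal.span {w | ∃ p ∈ S, ∃ y ∈ T, Algebra.TensorProduct.assoc k k k A A A (p ⊗ₜ[k] y) = w}
  induction hp using Submodule.span_induction with
  | mem x hx => exact Ideal.subset_span ⟨x, hx, y, hy, rfl⟩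
  | zero => simp
  | add p q _ _ hp hq => rw [TensorProduct.add_tmul, map_add]; exact add_mem hp hq
  | smul r x _ hx =>
    rw [show (r • x) ⊗ₜ[k] y = (r ⊗ₜ[k] (1 : A)) * (x ⊗ₜ[k] y) by simp, map_mul]
    exact Ideal.mul_mem_left _ _ hx

/-- Pairing a spanning set on the right gives the same span. -/
theorem span_right (S : Set B) (T : Ideal A) {I : Ideal B} (h : Ideal.span S = I) :
    Ideal.span {w | ∃ x ∈ T, ∃ p ∈ S, x ⊗ₜ[k] p = w} = Ideal.span {w | ∃ x ∈ T, ∃ p ∈ I, x ⊗ₜ[k] p = w} := by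
  refine le_antisymm (Ideal.span_mono fun w ⟨x, hx, p, hp, h'⟩ => ⟨x, hx, p, h ▸ Ideal.subset_span hp, h'⟩)
    (Ideal.span_le.2 ?_)
  rintro _ ⟨x, hx, p, hp, rfl⟩
  rw [← h] at hp
  show x ⊗ₜ[k] p ∈ Ideal.span {w | ∃ x ∈ T, ∃ p ∈ S, x ⊗ₜ[k] p = w}
  induction hp using Submodule.span_induction with
  | mem q hq => exact Ideal.subset_span ⟨x, hx, q, hq, rfl⟩
  | zero => simp
  | add p q _ _ hp hq => rw [TensorProduct.tmul_add]; exact add_mem hp hq
  | smul r q _ hq =>
    rw [show x ⊗ₜ[k] (r • q) = ((1 : A) ⊗ₜ[k] r) * (x ⊗ₜ[k] q) by simp]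
    exact Ideal.mul_mem_left _ _ hq

/-- A linear map compatible with an algebra map is determined up to spans by pure tensors. -/
theorem span_image {S : Type u} [CommRing S] [Algebra k S] {J : Ideal A} {δ : A →ₗ[k] B}
    (hspan : Ideal.span (δ '' (J : Set A)) = prodIdeal k J J) (X : B →ₗ[k] S) (D : B →ₐ[k] S)
    (hmul : ∀ w, ∀ z ∈ prodIdeal k J J, X (w * z) = D w * X z) :
    Ideal.span ((fun v => X (δ v)) '' (J : Set A)) = Ideal.span {w | ∃ x ∈ J, ∃ y ∈ J, X (x ⊗ₜ[k] y) = w} := by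
  refine le_antisymm (Ideal.span_le.2 ?_) (Ideal.span_le.2 ?_)
  · rintro _ ⟨v, hv, rfl⟩
    have hm : δ v ∈ prodIdeal k J J := hspan ▸ Ideal.subset_span ⟨v, hv, rfl⟩
    refine Submodule.span_le (p := ((Ideal.span {w | ∃ x ∈ J, ∃ y ∈ J, X (x ⊗ₜ[k] y) = w}).restrictScalars k).comap X).2
      ?_ (mem_span_tmul hm)
    rintro _ ⟨x, hx, y, hy, rfl⟩
    exact Ideal.subset_span ⟨x, hx, y, hy, rfl⟩
  · rintro _ ⟨x, hx, y, hy, rfl⟩
    have hz : x ⊗ₜ[k] y ∈ Ideal.span (δ '' (J : Set A)) := hspan ▸ tmul_mem_prodIdeal hx hy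
    suffices ∀ w, X (w * x ⊗ₜ[k] y) ∈ Ideal.span ((fun v => X (δ v)) '' (J : Set A)) by simpa using this 1
    generalize x ⊗ₜ[k] y = q at hz ⊢
    induction hz using Submodule.span_induction with
    | mem q hq =>
      obtain ⟨v, hv, rfl⟩ := hq
      intro w
      rw [hmul w _ (hspan ▸ Ideal.subset_span ⟨v, hv, rfl⟩)]
      exact Ideal.mul_mem_left _ _ (Ideal.subset_span ⟨v, hv, rfl⟩)
    | zero => intro w; simp
    | add p q _ _ hp hq => intro w; rw [mul_add, map_add]; exact add_mem (hp w) (hq w)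
    | smul r q _ hq => intro w; rw [smul_eq_mul, ← mul_assoc]; exact hq _

/-- The two composites of the semilinear map differ by a product unit. -/
theorem exists_unit_rel {J : Ideal A} (hJ : LP J) {α β : B} (hα : α ≠ 0) (hβ : β ≠ 0) {δ : A →ₗ[k] B}
    (hδ : ∀ v ∈ J, δ v ∈ prodIdeal k J J ∧ β * δ v = α * Δ v)
    (hspan : Ideal.span (δ '' (J : Set A)) = prodIdeal k J J) :
    ∃ (a : A) (z' : B), IsUnit a ∧ ∀ v ∈ J,
      Algebra.TensorProduct.assoc k k k A A A (TensorProduct.map δ LinearMap.id (δ v)) =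
        (a ⊗ₜ[k] z') * TensorProduct.map LinearMap.id δ (δ v) := by
  haveI := isDomain_square (k := k) (A := A)
  haveI : IsDomain B3 := GrpSchLib.isDomain_tensor_of_isAlgClosed
  haveI : Algebra.FiniteType k (A ⊗[k] A) := Algebra.FiniteType.trans (R := k) (S := A) inferInstance inferInstance
  let E := Algebra.TensorProduct.assoc k k k A A A
  let D₁ : B →ₐ[k] B3 := E.toAlgHom.comp (Algebra.TensorProduct.map Δ (AlgHom.id k A))
  let D₂ : B →ₐ[k] B3 := Algebra.TensorProduct.map (AlgHom.id k A) Δ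
  let X₁ : B →ₗ[k] B3 := E.toLinearMap ∘ₗ TensorProduct.map δ LinearMap.id
  let X₂ : B →ₗ[k] B3 := TensorProduct.map LinearMap.id δ
  let α₁ : B3 := E (α ⊗ₜ[k] (1 : A)); let β₁ : B3 := E (β ⊗ₜ[k] (1 : A))
  let α₂ : B3 := (1 : A) ⊗ₜ[k] α; let β₂ : B3 := (1 : A) ⊗ₜ[k] β
  have hE1 : ∀ z ∈ prodIdeal k J J, β₁ * X₁ z = α₁ * D₁ z := fun z hz =>
    eq_on_prodIdeal (LinearMap.mulLeft k β₁ ∘ₗ X₁) (LinearMap.mulLeft k α₁ ∘ₗ D₁.toLinearMap) (fun x hx y _ => by
      show E (β ⊗ₜ[k] (1 : A)) * E (δ x ⊗ₜ[k] y) = E (α ⊗ₜ[k] (1 : A)) * E (Δ x ⊗ₜ[k] y)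
      rw [← map_mul, ← map_mul, Algebra.TensorProduct.tmul_mul_tmul, Algebra.TensorProduct.tmul_mul_tmul, (hδ x hx).2]) hz
  have hE2 : ∀ z ∈ prodIdeal k J J, β₂ * X₂ z = α₂ * D₂ z := fun z hz =>
    eq_on_prodIdeal (LinearMap.mulLeft k β₂ ∘ₗ X₂) (LinearMap.mulLeft k α₂ ∘ₗ D₂.toLinearMap) (fun x _ y hy => by
      show ((1 : A) ⊗ₜ[k] β) * (x ⊗ₜ[k] δ y) = ((1 : A) ⊗ₜ[k] α) * (x ⊗ₜ[k] Δ y)
      rw [Algebra.TensorProduct.tmul_mul_tmul, Algebra.TensorProduct.tmul_mul_tmul, (hδ y hy).2]) hz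
  have hcoassoc : ∀ a, D₁ (Δ a) = D₂ (Δ a) := fun a => Coalgebra.coassoc_apply (R := k) a
  have hiL : Function.Injective (fun z : B => z ⊗ₜ[k] (1 : A)) :=
    Algebra.TensorProduct.includeLeft_injective (S := k) (RingHom.injective (algebraMap k A))
  have hiR : Function.Injective (fun z : B => (1 : A) ⊗ₜ[k] z) :=
    Algebra.TensorProduct.includeRight_injective (RingHom.injective (algebraMap k A))
  have hne₁ : ∀ z : B, z ≠ 0 → E (z ⊗ₜ[k] (1 : A)) ≠ 0 := fun z hz h => hz
    (hiL (by simpa using E.injective (h.trans (map_zero E).symm)))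
  have hne₂ : ∀ z : B, z ≠ 0 → (1 : A) ⊗ₜ[k] z ≠ 0 := fun z hz h => hz (hiR (by simpa using h))
  have hD₁ : Function.Injective D₁ := E.injective.comp
    (Module.Flat.rTensor_preserves_injective_linearMap (M := A) (Bialgebra.comulAlgHom k A).toLinearMap comul_injective)
  have hD₂ : Function.Injective D₂ :=
    Module.Flat.lTensor_preserves_injective_linearMap (M := A) (Bialgebra.comulAlgHom k A).toLinearMap comul_injective
  have hc₁ : β₁ * D₁ β ≠ 0 := mul_ne_zero (hne₁ β hβ) ((map_ne_zero_iff _ hD₁).2 hβ)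
  have hd₂ : α₂ * D₂ α ≠ 0 := mul_ne_zero (hne₂ α hα) ((map_ne_zero_iff _ hD₂).2 hα)
  have hcmp : ∀ v ∈ J, (β₁ * D₁ β * (α₂ * D₂ α)) * X₁ (δ v) = (β₂ * D₂ β * (α₁ * D₁ α)) * X₂ (δ v) := fun v hv => by
    have e1 : (β₁ * D₁ β) * X₁ (δ v) = (α₁ * D₁ α) * D₁ (Δ v) := by
      rw [show (β₁ * D₁ β) * X₁ (δ v) = D₁ β * (β₁ * X₁ (δ v)) by ring, hE1 _ (hδ v hv).1,
        show D₁ β * (α₁ * D₁ (δ v)) = α₁ * D₁ (β * δ v) by rw [map_mul]; ring, (hδ v hv).2, map_mul]
      ring
    have e2 : (β₂ * D₂ β) * X₂ (δ v) = (α₂ * D₂ α) * D₁ (Δ v) := by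
      rw [show (β₂ * D₂ β) * X₂ (δ v) = D₂ β * (β₂ * X₂ (δ v)) by ring, hE2 _ (hδ v hv).1,
        show D₂ β * (α₂ * D₂ (δ v)) = α₂ * D₂ (β * δ v) by rw [map_mul]; ring, (hδ v hv).2, map_mul, hcoassoc]
      ring
    calc (β₁ * D₁ β * (α₂ * D₂ α)) * X₁ (δ v) = (α₂ * D₂ α) * ((β₁ * D₁ β) * X₁ (δ v)) := by ring
      _ = (α₁ * D₁ α) * ((α₂ * D₂ α) * D₁ (Δ v)) := by rw [e1]; ring
      _ = (β₂ * D₂ β * (α₁ * D₁ α)) * X₂ (δ v) := by rw [← e2]; ring
  have hmul₁ : ∀ w, ∀ z ∈ prodIdeal k J J, X₁ (w * z) = D₁ w * X₁ z := fun w z hz => mul_left_cancel₀ (hne₁ β hβ) (by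
    show β₁ * X₁ (w * z) = β₁ * (D₁ w * X₁ z)
    rw [hE1 _ (Ideal.mul_mem_left _ w hz), map_mul, mul_left_comm β₁, hE1 z hz]
    ring)
  have hmul₂ : ∀ w, ∀ z ∈ prodIdeal k J J, X₂ (w * z) = D₂ w * X₂ z := fun w z hz => mul_left_cancel₀ (hne₂ β hβ) (by
    show β₂ * X₂ (w * z) = β₂ * (D₂ w * X₂ z)
    rw [hE2 _ (Ideal.mul_mem_left _ w hz), map_mul, mul_left_comm β₂, hE2 z hz]
    ring)
  let K3 : Ideal B3 := Ideal.span {w | ∃ x ∈ J, ∃ p ∈ prodIdeal k J J, x ⊗ₜ[k] p = w}
  have hK3 : LP K3 := by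
    have e : K3 = J.map (Algebra.TensorProduct.includeLeft : A →ₐ[k] B3) *
        (prodIdeal k J J).map (Algebra.TensorProduct.includeRight : B →ₐ[k] B3) := by
      rw [Ideal.map, Ideal.map, Ideal.span_mul_span]
      refine congrArg Ideal.span (Set.ext fun w => ?_)
      constructor
      · rintro ⟨x, hx, p, hp, rfl⟩
        exact ⟨_, ⟨x, hx, rfl⟩, _, ⟨p, hp, rfl⟩, by simp⟩
      · rintro ⟨_, ⟨x, hx, rfl⟩, _, ⟨p, hp, rfl⟩, rfl⟩
        exact ⟨x, hx, p, hp, by simp⟩
    rw [e]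
    exact lp_mul (lp_map _ (Algebra.TensorProduct.includeLeft_injective (S := k)
      (RingHom.injective (algebraMap k B))) hJ) (lp_map _ hiR (lp_prodIdeal hJ hJ))
  have hP : Ideal.span {q : B | ∃ p ∈ J, ∃ r ∈ J, p ⊗ₜ[k] r = q} = prodIdeal k J J := (prodIdeal_eq_span J J).symm
  have hS₂ : Ideal.span ((fun v => X₂ (δ v)) '' (J : Set A)) = K3 := by
    rw [span_image hspan X₂ D₂ hmul₂]
    refine Eq.trans ?_ (span_right (δ '' (J : Set A)) J hspan)
    refine congrArg Ideal.span (Set.ext fun w => ?_)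
    constructor
    · rintro ⟨x, hx, y, hy, rfl⟩; exact ⟨x, hx, _, ⟨y, hy, rfl⟩, rfl⟩
    · rintro ⟨x, hx, _, ⟨y, hy, rfl⟩, rfl⟩; exact ⟨x, hx, y, hy, rfl⟩
  have hS₁ : Ideal.span ((fun v => X₁ (δ v)) '' (J : Set A)) = K3 := by
    rw [span_image hspan X₁ D₁ hmul₁]
    refine Eq.trans ?_ (((span_left (δ '' (J : Set A)) J hspan).trans (span_left _ J hP).symm).trans
      (Eq.trans ?_ (span_right _ J hP)))
    · refine congrArg Ideal.span (Set.ext fun w => ?_)
      constructor
      · rintro ⟨x, hx, y, hy, rfl⟩; exact ⟨_, ⟨x, hx, rfl⟩, y, hy, rfl⟩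
      · rintro ⟨_, ⟨x, hx, rfl⟩, y, hy, rfl⟩; exact ⟨x, hx, y, hy, rfl⟩
    · refine congrArg Ideal.span (Set.ext fun w => ?_)
      constructor
      · rintro ⟨_, ⟨p, hp, r, hr, rfl⟩, y, hy, rfl⟩
        exact ⟨p, hp, r ⊗ₜ[k] y, ⟨r, hr, y, hy, rfl⟩, (by simp)⟩
      · rintro ⟨p, hp, _, ⟨r, hr, y, hy, rfl⟩, rfl⟩
        exact ⟨p ⊗ₜ[k] r, ⟨p, hp, r, hr, rfl⟩, y, hy, (by simp)⟩
  have hKK : Ideal.span {β₁ * D₁ β * (α₂ * D₂ α)} * K3 = Ideal.span {β₂ * D₂ β * (α₁ * D₁ α)} * K3 := by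
    conv_lhs => rw [← hS₁, Ideal.span_mul_span]
    conv_rhs => rw [← hS₂, Ideal.span_mul_span]
    congr 1
    rw [Set.singleton_mul, Set.singleton_mul, Set.image_image, Set.image_image]
    exact Set.image_congr hcmp
  obtain ⟨u, hu⟩ := Ideal.span_singleton_eq_span_singleton.1
    (lp_mul_cancel hK3 (((mul_comm (K3 : Ideal B3) (Ideal.span {β₁ * D₁ β * (α₂ * D₂ α)} : Ideal B3)).trans hKK).trans (mul_comm (Ideal.span {β₂ * D₂ β * (α₁ * D₁ α)} : Ideal B3) K3)))
  obtain ⟨a, z', ha, hsplit⟩ := exists_unit_split A B (u : B3) u.isUnit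
  refine ⟨a, z', ha, fun v hv => mul_left_cancel₀ (mul_ne_zero hc₁ hd₂) ((hcmp v hv).trans ?_)⟩
  rw [← hu, hsplit, mul_assoc]

/-- A finite-dimensional space of sections moved into a translate of itself. -/
theorem exists_space {J : Ideal A} (hJ : LP J) {α β : B} (hα : α ≠ 0) {δ : A →ₗ[k] B}
    (hδ : ∀ v ∈ J, δ v ∈ prodIdeal k J J ∧ β * δ v = α * Δ v) {a : A} (ha : IsUnit a) {z' : B}
    (hX : ∀ v ∈ J, Algebra.TensorProduct.assoc k k k A A A (TensorProduct.map δ LinearMap.id (δ v)) =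
        (a ⊗ₜ[k] z') * TensorProduct.map LinearMap.id δ (δ v)) :
    ∃ (n : ℕ) (x : Fin n → A) (M : Fin n → Fin n → A), 0 < n ∧ LinearIndependent k x ∧ (∀ i, x i ∈ J) ∧
      (∀ j i, M j i ∈ J) ∧ ∀ j, δ (x j) = ∑ i, (a * x i) ⊗ₜ[k] M j i := by
  classical
  haveI := isDomain_square (k := k) (A := A)
  obtain ⟨v₀, hv₀, hv00⟩ := Submodule.exists_mem_ne_zero_of_ne_bot hJ.1
  let z := δ v₀
  have hz : z ∈ prodIdeal k J J := (hδ v₀ hv₀).1
  have hz0 : z ≠ 0 := fun h => hα (by
    have h2 := (hδ v₀ hv₀).2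
    rw [show δ v₀ = 0 from h, mul_zero] at h2
    exact (mul_eq_zero.1 h2.symm).resolve_right ((map_ne_zero_iff _ comul_injective).2 hv00))
  let ev : (A →ₗ[k] k) →ₗ[k] A :=
    { toFun := fun φ => lc φ z
      map_add' := fun φ ψ => by simp [lc, TensorProduct.map_add_right]
      map_smul' := fun r φ => by simp [lc, TensorProduct.map_smul_right] }
  let V := LinearMap.range ev
  obtain ⟨S, hS⟩ := TensorProduct.exists_finset z
  have hVfin : V ≤ Submodule.span k ((S.image Prod.fst : Finset A) : Set A) := by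
    rintro _ ⟨φ, rfl⟩
    show lc φ z ∈ _
    rw [hS, map_sum]
    refine Submodule.sum_mem _ fun p hp => ?_
    rw [lc_tmul]
    exact Submodule.smul_mem _ _ (Submodule.subset_span (Finset.mem_image_of_mem _ hp))
  haveI : Module.Finite k V := Submodule.finiteDimensional_of_le hVfin
  let n := Module.finrank k V
  let b := Module.finBasis k V
  let x : Fin n → A := fun i => (b i : A)
  have hxJ : ∀ i, x i ∈ J := fun i => by
    obtain ⟨φ, hφ⟩ := (b i).2
    show (b i : A) ∈ J
    rw [← hφ]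
    exact lc_mem φ hz
  have hzdec : ∃ y : Fin n → A, z = ∑ i, x i ⊗ₜ[k] y i := by
    let bA := Module.Free.chooseBasis k A
    have hsum : z ∈ LinearMap.range (TensorProduct.map V.subtype (LinearMap.id (R := k) (M := A))) := by
      rw [show z = (TensorProduct.equivFinsuppOfBasisRight bA z).sum (fun i m => m ⊗ₜ[k] bA i) from
        ((TensorProduct.equivFinsuppOfBasisRight bA).symm_apply_apply z).symm.trans
          (TensorProduct.equivFinsuppOfBasisRight_symm_apply bA _)]
      refine Submodule.sum_mem _ fun i _ => ?_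
      refine ⟨(⟨lc (bA.coord i) z, bA.coord i, rfl⟩ : V) ⊗ₜ[k] bA i, ?_⟩
      show lc (bA.coord i) z ⊗ₜ[k] bA i = _
      congr 1
      induction z using TensorProduct.induction_on with
      | zero => simp
      | tmul p q => simp
      | add p q hp hq => simp only [map_add, hp, hq, Finsupp.add_apply]
    obtain ⟨w, hw⟩ := hsum
    obtain ⟨y, hy⟩ := (TensorProduct.equivFinsuppOfBasisLeft b).symm.surjective w
    refine ⟨fun i => y i, ?_⟩
    rw [← hw, ← hy, TensorProduct.equivFinsuppOfBasisLeft_symm_apply, Finsupp.sum_fintype _ _ (by simp), map_sum]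
    rfl
  obtain ⟨y, hy⟩ := hzdec
  -- translates of the space
  let F : (A →ₗ[k] k) → (B3 →ₗ[k] B) := fun φ => TensorProduct.map LinearMap.id (lc φ)
  have hF : ∀ (φ : A →ₗ[k] k) (p : B),
      F φ (Algebra.TensorProduct.assoc k k k A A A (TensorProduct.map δ LinearMap.id p)) = δ (lc φ p) := fun φ p => by
    induction p using TensorProduct.induction_on with
    | zero => simp [F]
    | tmul p q =>
      rw [TensorProduct.map_tmul, lc_tmul, map_smul, LinearMap.id_apply]
      induction δ p using TensorProduct.induction_on with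
      | zero => simp [F]
      | tmul c d => simp [F]
      | add c d hc hd => simp only [TensorProduct.add_tmul, map_add, hc, hd, smul_add]
    | add p q hp hq => simp only [map_add, hp, hq]
  have hdec : ∀ j, ∃ M : Fin n → A, δ (x j) = ∑ i, (a * x i) ⊗ₜ[k] M i := fun j => by
    obtain ⟨φ, hφ⟩ := (b j).2
    refine ⟨fun i => lc φ (z' * δ (y i)), ?_⟩
    have e : F φ (Algebra.TensorProduct.assoc k k k A A A (TensorProduct.map δ LinearMap.id z)) = δ (x j) := by
      rw [hF φ z]; exact congrArg δ hφ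
    rw [← e, show Algebra.TensorProduct.assoc k k k A A A (TensorProduct.map δ LinearMap.id z) =
      (a ⊗ₜ[k] z') * TensorProduct.map LinearMap.id δ z from hX v₀ hv₀, hy]
    simp only [map_sum, Finset.mul_sum, F, TensorProduct.map_tmul, LinearMap.id_apply,
      Algebra.TensorProduct.tmul_mul_tmul]
  choose M hM using hdec
  have hax : LinearIndependent k fun i => a * x i :=
    ((b.linearIndependent.map' V.subtype V.ker_subtype).map' (LinearMap.mulLeft k a)
      (LinearMap.ker_eq_bot.2 (mul_right_injective₀ ha.ne_zero)))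
  have hMJ : ∀ j i, M j i ∈ J := fun j i => by
    obtain ⟨ξ, hξ⟩ := LinearMap.exists_extend ((Module.Basis.span hax).coord i)
    have hval : ∀ l, ξ (a * x l) = if l = i then 1 else 0 := fun l => by
      have h2 : ξ (a * x l) = (Module.Basis.span hax).coord i (Module.Basis.span hax l) := by
        rw [← LinearMap.congr_fun hξ (Module.Basis.span hax l), LinearMap.comp_apply, Submodule.subtype_apply,
          Module.Basis.span_apply]
      rw [h2, Module.Basis.coord_apply, Module.Basis.repr_self, Finsupp.single_apply]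
    have := rc_mem ξ (hδ (x j) (hxJ j)).1
    rw [hM j, map_sum] at this
    simpa [rc_tmul, hval] using this
  refine ⟨n, x, M, Nat.pos_of_ne_zero fun h => ?_, b.linearIndependent.map' V.subtype V.ker_subtype, hxJ, hMJ, hM⟩
  haveI : IsEmpty (Fin n) := by rw [h]; infer_instance
  exact hz0 (by rw [hy]; exact Finset.sum_of_isEmpty _)

/-- Some power of a locally principal ideal is principal. -/
theorem exists_pow_principal (hrat : RatOpen.Rat k A) {J : Ideal A} (hJ : LP J) :
    ∃ (n : ℕ) (D : A), 0 < n ∧ D ≠ 0 ∧ J ^ n = Ideal.span {D} := by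
  classical
  haveI := isDomain_square (k := k) (A := A)
  obtain ⟨α, β, hα, hβ, hab⟩ := sim_comul hrat hJ
  obtain ⟨δ, hδ, hsl, hspan⟩ := exists_delta Δ hβ hab
  obtain ⟨a, z', ha, hX⟩ := exists_unit_rel hJ hα hβ hδ hspan
  obtain ⟨n, x, M, hn, hlin, hxJ, hMJ, hM⟩ := exists_space hJ hα hδ ha hX
  let Mat : Matrix (Fin n) (Fin n) A := Matrix.of fun j i => M j i
  have hDJ : Mat.det ∈ J ^ n := by
    rw [Matrix.det_apply]
    refine Submodule.sum_mem _ fun σ _ => ?_
    refine Submodule.smul_of_tower_mem _ _ ?_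
    have := Ideal.prod_mem_prod (s := (Finset.univ : Finset (Fin n))) (I := fun _ => J) (x := fun i => Mat (σ i) i)
      fun i _ => hMJ _ _
    simpa using this
  -- the determinant generates at every closed point
  have hgen : ∀ m : Ideal A, m.IsMaximal → ∃ F ∉ m, ∀ w ∈ J ^ n, F * w ∈ Ideal.span {Mat.det} := by
    intro m hm
    letI := Ideal.Quotient.field m
    haveI : Module.Finite k (A ⧸ m) := finite_of_finite_type_of_isJacobsonRing k (A ⧸ m)
    let e : k ≃ₐ[k] A ⧸ m := AlgEquiv.ofBijective (Algebra.ofId k (A ⧸ m))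
      (IsAlgClosed.algebraMap_bijective_of_isIntegral (k := k) (K := A ⧸ m))
    let g : A →ₐ[k] k := e.symm.toAlgHom.comp (Ideal.Quotient.mkₐ k m)
    have hgm : ∀ c, g c = 0 ↔ c ∈ m := fun c => by
      show e.symm (Ideal.Quotient.mk m c) = 0 ↔ _
      rw [map_eq_zero_iff _ e.symm.injective, Ideal.Quotient.eq_zero_iff_mem]
    obtain ⟨ψ, s, f, hs, hgf, hfs, hψs, hψ, hval⟩ := exists_functional hJ g
    obtain ⟨hT, -, hinj⟩ := bijOn_translate Δ hJ hJ.1 (fun v hv => (hδ v hv).1) hsl hspan g (bijective_translate g) ψ hψ hs hψs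
    choose N hN using fun j i => hfs (M j i) (hMJ j i)
    let NM : Matrix (Fin n) (Fin n) A := Matrix.of N
    have hdet : g NM.det ≠ 0 := by
      rw [AlgHom.map_det]
      let P : Matrix (Fin n) (Fin n) k := Matrix.of fun j i => ψ (M j i)
      have hP : g.mapMatrix NM = g f • P := by
        ext j i
        show g (N j i) = g f * ψ (M j i)
        exact (hval _ _ (hMJ j i) (hN j i)).symm
      rw [hP, Matrix.det_smul]
      refine mul_ne_zero (pow_ne_zero _ hgf) fun h0 => ?_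
      obtain ⟨c, hc0, hc⟩ := Matrix.exists_vecMul_eq_zero_iff.2 h0
      refine hc0 (funext fun j => ?_)
      have hsum : ∑ j, c j • x j = 0 := by
        refine hinj _ (Submodule.sum_mem _ fun j _ => Submodule.smul_of_tower_mem _ _ (hxJ j)) ?_
        simp only [map_sum, map_smul, hM, lc_tmul, Finset.smul_sum, smul_smul]
        rw [Finset.sum_comm]
        refine Finset.sum_eq_zero fun i _ => ?_
        rw [← Finset.sum_smul, show ∑ j, c j * ψ (M j i) = Matrix.vecMul c P i from rfl, hc, Pi.zero_apply, zero_smul]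
      exact (Fintype.linearIndependent_iff.1 hlin) c hsum j
    have key : f ^ n * Mat.det = s ^ n * NM.det := by
      have e : f • Mat = s • NM := by ext j i; exact hN j i
      have := congrArg Matrix.det e
      rwa [Matrix.det_smul, Matrix.det_smul, Fintype.card_fin] at this
    have hpow : ∀ l, ∀ w ∈ J ^ l, s ^ l ∣ f ^ l * w := fun l => by
      induction l with
      | zero => intro w _; simp
      | succ l ihl =>
        intro w hw
        rw [pow_succ] at hw
        induction hw using Submodule.mul_induction_on' with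
        | mem_mul_mem p hp q hq =>
          rw [show f ^ (l + 1) * (p * q) = (f ^ l * p) * (f * q) by ring, pow_succ]
          exact mul_dvd_mul (ihl p hp) (hfs q hq)
        | add p _ q _ hp hq => rw [mul_add]; exact dvd_add hp hq
    refine ⟨f ^ n * NM.det, fun h => ?_, fun w hw => ?_⟩
    · rw [← hgm, map_mul, map_pow] at h
      exact mul_ne_zero (pow_ne_zero _ hgf) hdet h
    · obtain ⟨c, hc⟩ := hpow n w hw
      refine Ideal.mem_span_singleton.2 ⟨f ^ n * c, ?_⟩
      rw [show f ^ n * NM.det * w = NM.det * (f ^ n * w) by ring, hc,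
        show Mat.det * (f ^ n * c) = (f ^ n * Mat.det) * c by ring, key]
      ring
  have hle : J ^ n ≤ Ideal.span {Mat.det} := fun w hw => mem_of_forall_prime fun m hm => by
    obtain ⟨m', hm', hle⟩ := Ideal.exists_le_maximal m hm.ne_top
    obtain ⟨F', hF', h⟩ := hgen m' hm'
    exact ⟨F', fun h' => hF' (hle h'), h w hw⟩
  have heq : J ^ n = Ideal.span {Mat.det} := le_antisymm hle ((Ideal.span_singleton_le_iff_mem _).2 hDJ)
  exact ⟨n, Mat.det, hn, fun h0 => (lp_pow hJ n).1 (by rw [heq, h0, Ideal.span_singleton_eq_bot]), heq⟩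

/-- There are finitely many classes of locally principal ideals. -/
theorem exists_finite_classes (hrat : RatOpen.Rat k A) :
    ∃ S : Set (Ideal A), S.Finite ∧ ∀ J : Ideal A, LP J → ∃ J' ∈ S, Sim J J' := by
  classical
  haveI : IsNoetherianRing A := Algebra.FiniteType.isNoetherianRing k _
  obtain ⟨f, hf0, ⟨hd, hufd⟩, -⟩ := RatTensorUfd.exists_ufd_away hrat
  haveI := hd
  haveI := hufd
  have hloc : ∀ (m : Ideal A) [m.IsMaximal], UniqueFactorizationMonoid (Localization.AtPrime m) :=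
    fun m _ => RatTensorUfd.ufd_atMaximal (k := k) A m
  haveI : Finite (Ideal.span {f}).minimalPrimes := (Ideal.finite_minimalPrimes_of_isNoetherianRing A _).to_subtype
  haveI := Fintype.ofFinite (Ideal.span {f}).minimalPrimes
  let P := (Ideal.span {f}).minimalPrimes
  have hlp : ∀ p : P, LP (p : Ideal A) := fun p => (minimal_prime hloc (lp_span hf0) p.2).1
  choose N D hN hD hND using fun p : P => exists_pow_principal hrat (hlp p)
  let G : (P → ℕ) → Ideal A := fun e => ∏ p : P, (p : Ideal A) ^ e p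
  have hG : ∀ e, LP (G e) := fun e => Finset.prod_induction _ LP (fun _ _ => lp_mul) lp_one fun p _ => lp_pow (hlp p) _
  have hred : ∀ e, Sim (G e) (G fun p => e p % N p) := fun e => by
    have h : Sim (G e) (G (fun p => e p % N p) * 1) := by
      rw [show G e = G (fun p => e p % N p) * ∏ p : P, (Ideal.span {D p}) ^ (e p / N p) by
        simp only [G, ← Finset.prod_mul_distrib]
        refine Finset.prod_congr rfl fun p _ => ?_
        rw [← hND, ← pow_mul, ← pow_add, Nat.mod_add_div]]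
      refine (Sim.refl _).mul (Finset.prod_induction _ (fun I => Sim I 1) (fun I J hI hJ => ?_) (Sim.refl _) fun p _ => ?_)
      · simpa using hI.mul hJ
      · simpa [Ideal.top_pow] using (sim_span (hD p)).pow _
    simpa using h
  have hall : ∀ J : Ideal A, LP J → ∃ e, Sim J (G e) := by
    refine sim_induction hloc hf0 (motive := fun J => ∃ e, Sim J (G e)) ?_ ?_ ?_ ?_
    · exact ⟨0, by simp [G, Ideal.top_pow]; exact Sim.refl _⟩
    · rintro I J - - ⟨e, he⟩ ⟨e', he'⟩
      exact ⟨e + e', by simpa [G, pow_add, Finset.prod_mul_distrib] using he.mul he'⟩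
    · rintro I J - - hIJ ⟨e, he⟩
      refine ⟨fun p => e p * (N p - 1), ?_⟩
      have e2 : Sim (G e * G fun p => e p * (N p - 1)) 1 := by
        rw [show (G e * G fun p => e p * (N p - 1)) = ∏ p : P, (Ideal.span {D p}) ^ (e p) by
          simp only [G, ← Finset.prod_mul_distrib]
          refine Finset.prod_congr rfl fun p _ => ?_
          rw [← pow_add, ← hND, ← pow_mul]
          congr 1
          obtain ⟨l, hl⟩ := Nat.exists_eq_succ_of_ne_zero (hN p).ne'
          rw [hl, Nat.succ_sub_one, Nat.succ_eq_add_one]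
          ring]
        refine Finset.prod_induction _ (fun I => Sim I 1) (fun I J hI hJ => ?_) (Sim.refl _) fun p _ => ?_
        · simpa using hI.mul hJ
        · simpa [Ideal.top_pow] using (sim_span (hD p)).pow _
      have s1 : Sim J (J * (G e * G fun p => e p * (N p - 1))) := by simpa using (Sim.refl J).mul e2.symm
      have s2 : Sim (J * (G e * G fun p => e p * (N p - 1))) (J * (I * G fun p => e p * (N p - 1))) :=
        (Sim.refl J).mul (he.symm.mul (Sim.refl _))
      have s3 : Sim (J * (I * G fun p => e p * (N p - 1))) (G fun p => e p * (N p - 1)) := by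
        rw [← mul_assoc, mul_comm J I]
        simpa using hIJ.mul (Sim.refl (G fun p => e p * (N p - 1)))
      exact s1.trans (s2.trans s3)
    · intro p hp
      refine ⟨Pi.single ⟨p, hp⟩ 1, ?_⟩
      have : G (Pi.single (⟨p, hp⟩ : P) 1) = p := by
        show ∏ q : P, (q : Ideal A) ^ (Pi.single (⟨p, hp⟩ : P) 1 : P → ℕ) q = p
        rw [Finset.prod_eq_single (⟨p, hp⟩ : P) (fun q _ hq => by rw [Pi.single_eq_of_ne hq, pow_zero])
          (fun h => absurd (Finset.mem_univ _) h), Pi.single_eq_same, pow_one]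
      rw [this]
      exact Sim.refl _
  refine ⟨G '' {e | ∀ p, e p < N p}, ((Set.Finite.pi' fun p => Set.finite_Iio (N p))).image G, fun J hJ => ?_⟩
  obtain ⟨e, he⟩ := hall J hJ
  exact ⟨_, ⟨fun p => e p % N p, fun p => Nat.mod_lt _ (hN p), rfl⟩, he.trans (hred e)⟩

end Groth.Agent.AGFLib.TorsionHopf
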