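import Groth.Agent.Lib.RigDescent

/-!
Descent of an invertible module along a cover with an isomorphism of its two pullbacks, when units on the triple
overlap trivial on the two degeneracies are trivial.
-/

set_option autoImplicit false
set_option linter.unusedSectionVars false
set_option backward.isDefEq.respectTransparency false
set_option backward.isDefEq.respectTransparency.types false
set_option maxHeartbeats 800000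

universe u

open CategoryTheory CategoryTheory.Limits AlgebraicGeometry TopologicalSpace Opposite

noncomputable section

namespace Groth.Agent.AGFLib.TorsorPicDescent

open Groth.Agent.AModX Groth.Agent.InvX Groth.Agent.UnitDescent Groth.Agent.FramesTrans Groth.Agent.RigDatum

variable {P X Y : Scheme.{u}} {p₁ p₂ : P ⟶ X} {v : X ⟶ Y} (hP : IsPullback p₁ p₂ v v) {L : X.Modules} (F : Frames L)
  (φ : (Scheme.Modules.pullback p₁).obj L ≅ (Scheme.Modules.pullback p₂).obj L)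

/-- The matrix of the isomorphism in the frames. -/
def um (a b : X) : Γ(P, p₂ ⁻¹ᵁ F.U b ⊓ p₁ ⁻¹ᵁ F.U a)ˣ :=
  tr (isFrame_pullElt p₂ (F.he b)) ((isFrame_pullElt p₁ (F.he a)).map_iso φ)

/-- The raw cocycle at a pair of points. -/
def κ₀ {Z : Scheme.{u}} {x₁ x₂ : Z ⟶ X} (h : x₁ ≫ v = x₂ ≫ v) (a b : X)
    (hx : (⊤ : Z.Opens) ≤ x₁ ⁻¹ᵁ F.U a) (hy : (⊤ : Z.Opens) ≤ x₂ ⁻¹ᵁ F.U b) : Γ(Z, ⊤)ˣ :=
  ev (hP.lift x₁ x₂ h) (U := p₂ ⁻¹ᵁ F.U b ⊓ p₁ ⁻¹ᵁ F.U a)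
    (fun z _ => ⟨show (hP.lift x₁ x₂ h ≫ p₂) z ∈ F.U b by rw [hP.lift_snd]; exact hy trivial,
      show (hP.lift x₁ x₂ h ≫ p₁) z ∈ F.U a by rw [hP.lift_fst]; exact hx trivial⟩)
    (um F φ a b)

theorem κ₀_nat {Z W : Scheme.{u}} {x₁ x₂ : Z ⟶ X} (y : W ⟶ Z) (h : x₁ ≫ v = x₂ ≫ v) (a b : X)
    (hx : (⊤ : Z.Opens) ≤ x₁ ⁻¹ᵁ F.U a) (hy : (⊤ : Z.Opens) ≤ x₂ ⁻¹ᵁ F.U b) :
    uP y (κ₀ hP F φ h a b hx hy) = κ₀ hP F φ (x₁ := y ≫ x₁) (x₂ := y ≫ x₂)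
      (by rw [Category.assoc, Category.assoc, h]) a b (fun _ _ => hx trivial) (fun _ _ => hy trivial) := by
  unfold κ₀
  rw [uP_ev]
  refine ev_congr (hP.hom_ext ?_ ?_) _ _
  · rw [Category.assoc, hP.lift_fst, hP.lift_fst]
  · rw [Category.assoc, hP.lift_snd, hP.lift_snd]

theorem κ₀_change {Z : Scheme.{u}} {x₁ x₂ : Z ⟶ X} (h : x₁ ≫ v = x₂ ≫ v) (a a' b b' : X)
    (hx : (⊤ : Z.Opens) ≤ x₁ ⁻¹ᵁ F.U a) (hx' : (⊤ : Z.Opens) ≤ x₁ ⁻¹ᵁ F.U a')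
    (hy : (⊤ : Z.Opens) ≤ x₂ ⁻¹ᵁ F.U b) (hy' : (⊤ : Z.Opens) ≤ x₂ ⁻¹ᵁ F.U b') :
    κ₀ hP F φ h a' b' hx' hy' = τ F x₁ a a' hx hx' * κ₀ hP F φ h a b hx hy * τ F x₂ b' b hy' hy := by
  let l := hP.lift x₁ x₂ h
  let W : P.Opens := (p₂ ⁻¹ᵁ F.U b ⊓ p₁ ⁻¹ᵁ F.U a) ⊓ (p₂ ⁻¹ᵁ F.U b' ⊓ p₁ ⁻¹ᵁ F.U a')
  have wa : W ≤ p₁ ⁻¹ᵁ F.U a := inf_le_left.trans inf_le_right
  have wb : W ≤ p₂ ⁻¹ᵁ F.U b := inf_le_left.trans inf_le_left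
  have wa' : W ≤ p₁ ⁻¹ᵁ F.U a' := inf_le_right.trans inf_le_right
  have wb' : W ≤ p₂ ⁻¹ᵁ F.U b' := inf_le_right.trans inf_le_left
  have e1 : l ≫ p₁ = x₁ := hP.lift_fst _ _ _
  have e2 : l ≫ p₂ = x₂ := hP.lift_snd _ _ _
  have hW : (⊤ : Z.Opens) ≤ l ⁻¹ᵁ W := fun z _ =>
    ⟨⟨show (l ≫ p₂) z ∈ F.U b by rw [e2]; exact hy trivial,
      show (l ≫ p₁) z ∈ F.U a by rw [e1]; exact hx trivial⟩,
      show (l ≫ p₂) z ∈ F.U b' by rw [e2]; exact hy' trivial,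
      show (l ≫ p₁) z ∈ F.U a' by rw [e1]; exact hx' trivial⟩
  let u₀ : Γ(P, W)ˣ := Units.map (resR (le_inf wb wa)).toMonoidHom (um F φ a b)
  let u₁ : Γ(P, W)ˣ := Units.map (resR (le_inf wb' wa')).toMonoidHom (um F φ a' b')
  let g₁ : Γ(P, W)ˣ := Units.map (p₁.appLE (F.U a ⊓ F.U a') W (le_inf wa wa')).hom.toMonoidHom (tr (F.he a) (F.he a'))
  let g₂ : Γ(P, W)ˣ := Units.map (p₂.appLE (F.U b' ⊓ F.U b) W (le_inf wb' wb)).hom.toMonoidHom (tr (F.he b') (F.he b))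
  have key : u₁ = g₁ * u₀ * g₂ := Units.ext ((isFrame_pullElt p₂ (F.he b')).coord_unique wb' (by
    show resR (le_inf wb' wa') (um F φ a' b' : Γ(P, p₂ ⁻¹ᵁ F.U b' ⊓ p₁ ⁻¹ᵁ F.U a')) • _ = ((g₁ : Γ(P, W)) * (u₀ : Γ(P, W)) * (g₂ : Γ(P, W))) • _
    rw [show resR (le_inf wb' wa') (um F φ a' b' : Γ(P, p₂ ⁻¹ᵁ F.U b' ⊓ p₁ ⁻¹ᵁ F.U a')) •
        res _ wb' (pullElt p₂ (F.e b')) = _ from
        (tr_spec (isFrame_pullElt p₂ (F.he b')) ((isFrame_pullElt p₁ (F.he a')).map_iso φ) wb' wa').symm,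
      ← app_res, pull_tr F p₁ a a' wa wa', Scheme.Modules.Hom.app_smul, app_res,
      tr_spec (isFrame_pullElt p₂ (F.he b)) ((isFrame_pullElt p₁ (F.he a)).map_iso φ) wb wa,
      pull_tr F p₂ b' b wb' wb, smul_smul, smul_smul]
    rfl))
  have hev := congrArg (ev l hW) key
  rw [map_mul, map_mul, ev_eq l hW (le_inf wb wa) _ u₀ rfl,
    ev_eq l hW (le_inf wb' wa') _ u₁ rfl] at hev
  have hg : ∀ {p : P ⟶ X} {x : Z ⟶ X} (e : l ≫ p = x)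
      {V : X.Opens} (w : W ≤ p ⁻¹ᵁ V) (g : Γ(X, V)ˣ) (hV : (⊤ : Z.Opens) ≤ x ⁻¹ᵁ V),
      ev l hW (Units.map (p.appLE V W w).hom.toMonoidHom g) = ev x hV g := by
    intro p x e V w g hV
    subst e
    exact Units.ext (ConcreteCategory.congr_hom (Scheme.Hom.appLE_comp_appLE l p V W ⊤ w hW) (g : Γ(X, V)))
  rw [hg e1 (V := F.U a ⊓ F.U a') (le_inf wa wa') _ (fun _ _ => ⟨hx trivial, hx' trivial⟩),
    hg e2 (V := F.U b' ⊓ F.U b) (le_inf wb' wb) _ (fun _ _ => ⟨hy' trivial, hy trivial⟩)] at hev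
  exact hev

/-- The value of the raw cocycle on the diagonal is a global unit. -/
theorem exists_defect : ∃ d : Γ(X, ⊤)ˣ, ∀ {Z : Scheme.{u}} (x : Z ⟶ X) (a : X) (ha : (⊤ : Z.Opens) ≤ x ⁻¹ᵁ F.U a),
    κ₀ hP F φ (rfl : x ≫ v = x ≫ v) a a ha ha = uP x d := by
  obtain ⟨d, hd⟩ := UnitDescent.exists_unit (fun a => (F.U a).ι) (fun x => ⟨x, ⟨x, F.mem x⟩, rfl⟩)
    (fun a => κ₀ hP F φ (rfl : (F.U a).ι ≫ v = (F.U a).ι ≫ v) a a (ι_le _ le_rfl) (ι_le _ le_rfl))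
    fun a b W m m' e => by
      rw [κ₀_nat, κ₀_nat]
      simp only [e]
      have hb : (⊤ : W.Opens) ≤ (m' ≫ (F.U b).ι) ⁻¹ᵁ F.U b := fun z _ => (m' z).2
      have ha : (⊤ : W.Opens) ≤ (m' ≫ (F.U b).ι) ⁻¹ᵁ F.U a := fun z _ => by rw [← e]; exact (m z).2
      rw [κ₀_change hP F φ _ a b a b ha hb ha hb, τ_symm F _ b a hb ha, mul_assoc, mul_comm (κ₀ hP F φ _ a a ha ha),
        ← mul_assoc, inv_mul_cancel, one_mul]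
  refine ⟨d, fun {Z} x a ha => ?_⟩
  have h2 := congrArg (uP (lp (F.U a) x ha)) (hd a)
  rw [← uP_comp, lp_ι, κ₀_nat] at h2
  simp only [lp_ι] at h2
  exact h2.symm

variable (d : Γ(X, ⊤)ˣ)

/-- The normalised cocycle. -/
def κn {Z : Scheme.{u}} {x₁ x₂ : Z ⟶ X} (h : x₁ ≫ v = x₂ ≫ v) (a b : X)
    (hx : (⊤ : Z.Opens) ≤ x₁ ⁻¹ᵁ F.U a) (hy : (⊤ : Z.Opens) ≤ x₂ ⁻¹ᵁ F.U b) : Γ(Z, ⊤)ˣ :=
  κ₀ hP F φ h a b hx hy / uP x₁ d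

theorem κn_nat {Z W : Scheme.{u}} {x₁ x₂ : Z ⟶ X} (y : W ⟶ Z) (h : x₁ ≫ v = x₂ ≫ v) (a b : X)
    (hx : (⊤ : Z.Opens) ≤ x₁ ⁻¹ᵁ F.U a) (hy : (⊤ : Z.Opens) ≤ x₂ ⁻¹ᵁ F.U b) :
    uP y (κn hP F φ d h a b hx hy) = κn hP F φ d (x₁ := y ≫ x₁) (x₂ := y ≫ x₂)
      (by rw [Category.assoc, Category.assoc, h]) a b (fun _ _ => hx trivial) (fun _ _ => hy trivial) := by
  unfold κn
  rw [map_div, κ₀_nat, uP_comp y x₁]

theorem κn_change {Z : Scheme.{u}} {x₁ x₂ : Z ⟶ X} (h : x₁ ≫ v = x₂ ≫ v) (a a' b b' : X)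
    (hx : (⊤ : Z.Opens) ≤ x₁ ⁻¹ᵁ F.U a) (hx' : (⊤ : Z.Opens) ≤ x₁ ⁻¹ᵁ F.U a')
    (hy : (⊤ : Z.Opens) ≤ x₂ ⁻¹ᵁ F.U b) (hy' : (⊤ : Z.Opens) ≤ x₂ ⁻¹ᵁ F.U b') :
    κn hP F φ d h a' b' hx' hy' = τ F x₁ a a' hx hx' * κn hP F φ d h a b hx hy * τ F x₂ b' b hy' hy := by
  unfold κn
  rw [κ₀_change hP F φ h a a' b b' hx hx' hy hy', alg_change]

theorem κn_congr {Z : Scheme.{u}} {x₁ x₂ x₁' x₂' : Z ⟶ X} (h : x₁ ≫ v = x₂ ≫ v) (h' : x₁' ≫ v = x₂' ≫ v)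
    (e₁ : x₁ = x₁') (e₂ : x₂ = x₂') (a b : X)
    {hx : (⊤ : Z.Opens) ≤ x₁ ⁻¹ᵁ F.U a} {hy : (⊤ : Z.Opens) ≤ x₂ ⁻¹ᵁ F.U b}
    {hx' : (⊤ : Z.Opens) ≤ x₁' ⁻¹ᵁ F.U a} {hy' : (⊤ : Z.Opens) ≤ x₂' ⁻¹ᵁ F.U b} :
    κn hP F φ d h a b hx hy = κn hP F φ d h' a b hx' hy' := by
  subst e₁ e₂
  rfl

variable {d}
variable (hd : ∀ {Z : Scheme.{u}} (x : Z ⟶ X) (a : X) (ha : (⊤ : Z.Opens) ≤ x ⁻¹ᵁ F.U a),
    κ₀ hP F φ (rfl : x ≫ v = x ≫ v) a a ha ha = uP x d)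
include hd

theorem κn_diag {Z : Scheme.{u}} {x₁ x₂ : Z ⟶ X} (h : x₁ ≫ v = x₂ ≫ v) (e : x₁ = x₂) (a b : X)
    (hx : (⊤ : Z.Opens) ≤ x₁ ⁻¹ᵁ F.U a) (hy : (⊤ : Z.Opens) ≤ x₂ ⁻¹ᵁ F.U b) :
    κn hP F φ d h a b hx hy = τ F x₁ b a (e ▸ hy) hx := by
  subst e
  rw [κn_change hP F φ d h a a a b hx hx hx hy, τ_self, one_mul]
  unfold κn
  rw [hd, div_self', one_mul]

include hd in
/-- **Descent along a cover with rigid units on triple overlaps.** -/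
theorem exists_descent [Flat v] [LocallyOfFinitePresentation v] [Surjective v] {W : Scheme.{u}} {q₁ q₂ : W ⟶ P}
    (hW : IsPullback q₁ q₂ p₂ p₁)
    (hrig : ∀ D : Γ(W, ⊤)ˣ,
      (∀ (Z : Scheme.{u}) (m : Z ⟶ W), m ≫ q₁ ≫ p₁ = m ≫ q₁ ≫ p₂ → uP m D = 1) →
      (∀ (Z : Scheme.{u}) (m : Z ⟶ W), m ≫ q₂ ≫ p₁ = m ≫ q₂ ≫ p₂ → uP m D = 1) → D = 1) :
    ∃ M : Y.Modules, PicF.IsInvertible M ∧ Nonempty ((Scheme.Modules.pullback v).obj M ≅ L) := by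
  let y₁ := q₁ ≫ p₁
  let y₂ := q₁ ≫ p₂
  let y₃ := q₂ ≫ p₂
  have e₂ : q₂ ≫ p₁ = y₂ := hW.w.symm
  have h12 : y₁ ≫ v = y₂ ≫ v := by rw [Category.assoc, Category.assoc, hP.w]
  have h23 : y₂ ≫ v = y₃ ≫ v := by rw [← e₂, Category.assoc, Category.assoc, hP.w]
  have w12 : ∀ {Z : Scheme.{u}} (m : Z ⟶ W), (m ≫ y₁) ≫ v = (m ≫ y₂) ≫ v := fun m => by
    simp only [y₁, y₂, Category.assoc, hP.w]
  have w23 : ∀ {Z : Scheme.{u}} (m : Z ⟶ W), (m ≫ y₂) ≫ v = (m ≫ y₃) ≫ v := fun m => by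
    simp only [y₂, y₃, ← e₂, Category.assoc, hP.w]
  let O : X × X × X → W.Opens := fun i => y₁ ⁻¹ᵁ F.U i.1 ⊓ y₂ ⁻¹ᵁ F.U i.2.1 ⊓ y₃ ⁻¹ᵁ F.U i.2.2
  let δ : ∀ i, Γ((O i).toScheme, ⊤)ˣ := fun i =>
    κn hP F φ d (w12 (O i).ι) i.1 i.2.1 (fun z _ => z.2.1.1) (fun z _ => z.2.1.2) *
      κn hP F φ d (w23 (O i).ι) i.2.1 i.2.2 (fun z _ => z.2.1.2) (fun z _ => z.2.2) /
      κn hP F φ d ((w12 (O i).ι).trans (w23 (O i).ι)) i.1 i.2.2 (fun z _ => z.2.1.1) (fun z _ => z.2.2)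
  obtain ⟨D, hD⟩ := UnitDescent.exists_unit (fun i => (O i).ι)
    (fun p => ⟨(y₁ p, y₂ p, y₃ p), ⟨p, ⟨⟨F.mem _, F.mem _⟩, F.mem _⟩⟩, rfl⟩) δ fun i i' Z m m' e => by
      simp only [δ, map_div, map_mul, κn_nat]
      simp only [← Category.assoc, e]
      have k : ∀ {q : W ⟶ X} {O' : X.Opens}, O i' ≤ q ⁻¹ᵁ O' → (⊤ : Z.Opens) ≤ ((m' ≫ (O i').ι) ≫ q) ⁻¹ᵁ O' :=
        fun hq z _ => hq (m' z).2
      have k' : ∀ {q : W ⟶ X} {O' : X.Opens}, O i ≤ q ⁻¹ᵁ O' → (⊤ : Z.Opens) ≤ ((m' ≫ (O i').ι) ≫ q) ⁻¹ᵁ O' :=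
        fun hq z _ => by rw [← e]; exact hq (m z).2
      rw [κn_change hP F φ d _ i.1 i'.1 i.2.1 i'.2.1 (k' (inf_le_left.trans inf_le_left))
          (k (inf_le_left.trans inf_le_left)) (k' (inf_le_left.trans inf_le_right)) (k (inf_le_left.trans inf_le_right)),
        κn_change hP F φ d _ i.2.1 i'.2.1 i.2.2 i'.2.2 (k' (inf_le_left.trans inf_le_right))
          (k (inf_le_left.trans inf_le_right)) (k' inf_le_right) (k inf_le_right),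
        κn_change hP F φ d _ i.1 i'.1 i.2.2 i'.2.2 (k' (inf_le_left.trans inf_le_left))
          (k (inf_le_left.trans inf_le_left)) (k' inf_le_right) (k inf_le_right),
        τ_symm F _ i'.2.1 i.2.1 (k (inf_le_left.trans inf_le_right)) (k' (inf_le_left.trans inf_le_right))]
      exact (alg_triple _ _ _ _ _ _).symm
  have hone : D = 1 := by
    refine hrig D (fun Z m hm => ?_) (fun Z m hm => ?_) <;>
      refine UnitDescent.eq_of_uP (fun i => (m ⁻¹ᵁ O i).ι)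
        (fun z => ⟨(y₁ (m z), y₂ (m z), y₃ (m z)), ⟨z, ⟨⟨F.mem _, F.mem _⟩, F.mem _⟩⟩, rfl⟩) fun i => ?_
    all_goals
      have hl : (⊤ : (m ⁻¹ᵁ O i).toScheme.Opens) ≤ ((m ⁻¹ᵁ O i).ι ≫ m) ⁻¹ᵁ O i := fun z _ => z.2
      rw [map_one, ← uP_comp, ← lp_ι (O i) _ hl, uP_comp, hD i]
      simp only [δ, map_div, map_mul, κn_nat]
      simp only [← Category.assoc, lp_ι]
      set n := (m ⁻¹ᵁ O i).ι ≫ m
      have ha : (⊤ : (m ⁻¹ᵁ O i).toScheme.Opens) ≤ (n ≫ y₁) ⁻¹ᵁ F.U i.1 := fun z _ => z.2.1.1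
      have hb : (⊤ : (m ⁻¹ᵁ O i).toScheme.Opens) ≤ (n ≫ y₂) ⁻¹ᵁ F.U i.2.1 := fun z _ => z.2.1.2
      have hc : (⊤ : (m ⁻¹ᵁ O i).toScheme.Opens) ≤ (n ≫ y₃) ⁻¹ᵁ F.U i.2.2 := fun z _ => z.2.2
    · have e : n ≫ y₁ = n ≫ y₂ := by simp only [n, y₁, y₂, Category.assoc, hm]
      rw [κn_diag hP F φ hd _ e i.1 i.2.1 ha hb,
        κn_change hP F φ d _ i.1 i.2.1 i.2.2 i.2.2 (e ▸ ha) hb hc hc, τ_self, mul_one]
      simp only [e]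
      rw [← mul_assoc, τ_symm F _ i.1 i.2.1 (e ▸ ha) hb, inv_mul_cancel, one_mul]
      refine div_eq_one.2 ?_
      apply κn_congr <;> first | rfl | exact e | exact e.symm
    · have e : n ≫ y₂ = n ≫ y₃ := by
        simp only [n, y₂, y₃, ← e₂, Category.assoc, hm]
      rw [κn_diag hP F φ hd _ e i.2.1 i.2.2 hb hc]
      simp only [e]
      rw [κn_change hP F φ d _ i.1 i.1 i.2.1 i.2.2 ha ha (e ▸ hb) hc, τ_self, one_mul]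
      refine div_eq_one.2 (congrArg (· * _) ?_)
      apply κn_congr <;> first | rfl | exact e | exact e.symm
  refine RigDescent.exists_descent (F := F) ⟨fun x₁ x₂ h a b h1 h2 => κn hP F φ d h a b h1 h2,
    fun y x₁ x₂ h a b h1 h2 => κn_nat hP F φ d y h a b h1 h2, ?_, ?_⟩
  · intro Z x₁ x₂ x₃ h₁₂ h₂₃ a b c h1 h2 h3
    let m : Z ⟶ W := hW.lift (hP.lift x₁ x₂ h₁₂) (hP.lift x₂ x₃ h₂₃) (by rw [hP.lift_snd, hP.lift_fst])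
    have m1 : m ≫ y₁ = x₁ := by simp only [m, y₁, hW.lift_fst_assoc, hP.lift_fst]
    have m2 : m ≫ y₂ = x₂ := by simp only [m, y₂, hW.lift_fst_assoc, hP.lift_snd]
    have m3 : m ≫ y₃ = x₃ := by simp only [m, y₃, hW.lift_snd_assoc, hP.lift_snd]
    have hl : (⊤ : Z.Opens) ≤ m ⁻¹ᵁ O (a, b, c) := fun z _ =>
      ⟨⟨show (m ≫ y₁) z ∈ F.U a by rw [m1]; exact h1 trivial,
        show (m ≫ y₂) z ∈ F.U b by rw [m2]; exact h2 trivial⟩,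
        show (m ≫ y₃) z ∈ F.U c by rw [m3]; exact h3 trivial⟩
    have h := congrArg (uP (lp _ m hl)) (hD (a, b, c))
    rw [hone, map_one, map_one] at h
    simp only [δ, map_div, map_mul, κn_nat] at h
    simp only [← Category.assoc, lp_ι, m1, m2, m3] at h
    exact div_eq_one.1 h.symm
  · exact fun x a b h1 h2 => κn_diag hP F φ hd rfl rfl a b h1 h2

omit hd in
/-- Descent without a chosen normalisation. -/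
theorem exists_descent' (hP : IsPullback p₁ p₂ v v) (hL : PicF.IsInvertible L)
    (φ : (Scheme.Modules.pullback p₁).obj L ≅ (Scheme.Modules.pullback p₂).obj L)
    [Flat v] [LocallyOfFinitePresentation v] [Surjective v] {W : Scheme.{u}} {q₁ q₂ : W ⟶ P}
    (hW : IsPullback q₁ q₂ p₂ p₁)
    (hrig : ∀ D : Γ(W, ⊤)ˣ,
      (∀ (Z : Scheme.{u}) (m : Z ⟶ W), m ≫ q₁ ≫ p₁ = m ≫ q₁ ≫ p₂ → uP m D = 1) →
      (∀ (Z : Scheme.{u}) (m : Z ⟶ W), m ≫ q₂ ≫ p₁ = m ≫ q₂ ≫ p₂ → uP m D = 1) → D = 1) :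
    ∃ M : Y.Modules, PicF.IsInvertible M ∧ Nonempty ((Scheme.Modules.pullback v).obj M ≅ L) := by
  obtain ⟨F⟩ := nonempty_frames hL
  obtain ⟨d, hd⟩ := exists_defect hP F φ
  exact exists_descent hP F φ hd hW hrig

end Groth.Agent.AGFLib.TorsorPicDescent
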