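import Groth.Agent.AGFLib.TorsorPicDescent
import Groth.Agent.AGFLib.LinPicInv
import Groth.Agent.H23.EquidimFibres
import Groth.Agent.H23.MaxAbelian
import Groth.Agent.H23.RatExt

/-!
For a principal bundle under a connected linear group over an algebraically closed field, the classes on the total
space trivial on an orbit are exactly those coming from the base.
-/

set_option autoImplicit false
set_option backward.isDefEq.respectTransparency.types false
set_option linter.style.haveILetI false
set_option linter.unusedSectionVars false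
set_option maxHeartbeats 1000000

universe u

open CategoryTheory CategoryTheory.Limits MonoidalCategory CartesianMonoidalCategory MonObj AlgebraicGeometry

noncomputable section

namespace Groth.Agent.AGFLib.TorsorPicExact

open GrpSchLib.Kunneth H23.PicMul

variable {k : Type u} [Field k] [IsAlgClosed k]

local notation "PT" => 𝟙_ (Over (Spec (CommRingCat.of k)))

variable {G X Y : Over (Spec (CommRingCat.of k))} [GrpObj G] [IsAffine G.left] [Smooth G.hom] [ConnectedSpace ↥G.left]
  [IsIntegral X.left] [IsSeparated X.hom] [LocallyOfFiniteType X.hom] [QuasiCompact X.hom]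

omit [IsSeparated X.hom] in
theorem isIntegral_prod : IsIntegral (G ⊗ X).left := by
  haveI : IsIntegral G.left := GrpSchLib.Kunneth.isIntegral_grp G
  haveI := H23.EquidimFibres.geometricallyIntegral_of_isAlgClosed (V := G)
  haveI := H23.EquidimFibres.geometricallyIntegral_of_isAlgClosed (V := X)
  haveI := H23.RatExt.geometricallyIntegral_prod G X
  exact H23.MaxAbelian.isIntegral_of_geometricallyIntegral

/-- The point at the neutral element. -/
def unitSec (T : Over (Spec (CommRingCat.of k))) : T ⟶ G ⊗ T := lift (toUnit T ≫ η[G]) (𝟙 T)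

omit [IsAlgClosed k] [IsAffine G.left] [Smooth G.hom] [ConnectedSpace ↥G.left] [IsIntegral X.left]
  [IsSeparated X.hom] [LocallyOfFiniteType X.hom] [QuasiCompact X.hom] in
theorem unitSec_act (a : AlgGrp.Action G X) : unitSec (G := G) X ≫ a.act = 𝟙 X := by
  have h : unitSec (G := G) X = lift (toUnit X) (𝟙 X) ≫ (η[G] ▷ X) := by simp [unitSec]
  rw [h, Category.assoc, a.one_act]
  simp

/-- Functions on a double product which are trivial on both degeneracies are trivial. -/
theorem fn_rigid (D : Fn (G ⊗ (G ⊗ X))) (hD : IsUnit D) (h1 : ev (unitSec (G := G) (G ⊗ X)) D = 1)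
    (h2 : ev (G ◁ unitSec (G := G) X) D = 1) : D = 1 := by
  haveI : IsIntegral G.left := GrpSchLib.Kunneth.isIntegral_grp G
  haveI : IsIntegral (G ⊗ X).left := isIntegral_prod
  haveI : IsSeparated G.hom := GrpSchLib.AntiAffine.isSeparated_grp G
  haveI : LocallyOfFiniteType (G ⊗ X).hom := by
    show LocallyOfFiniteType (pullback.fst G.hom X.hom ≫ G.hom); infer_instance
  haveI : IsSeparated (G ⊗ X).hom := by
    show IsSeparated (pullback.fst G.hom X.hom ≫ G.hom); infer_instance
  haveI : QuasiCompact (G ⊗ X).hom := by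
    show QuasiCompact (pullback.fst G.hom X.hom ≫ G.hom); infer_instance
  obtain ⟨g, h, -, -, rfl⟩ := exists_units_mul hD
  rw [map_mul, ev_ev, ev_ev, unitSec, lift_fst, lift_snd, ev_id, one_fn_const] at h1
  have hh : h = algebraMap k _ (evPt η[G] g)⁻¹ := by
    have hne : evPt η[G] g ≠ 0 := fun h0 => by
      haveI := isDomain_fn (G ⊗ X)
      rw [h0, map_zero, zero_mul] at h1
      exact zero_ne_one h1
    calc h = algebraMap k _ (evPt η[G] g)⁻¹ * (algebraMap k _ (evPt η[G] g) * h) := by
          rw [← _root_.mul_assoc, ← map_mul, inv_mul_cancel₀ hne, map_one, _root_.one_mul]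
      _ = _ := by rw [h1, _root_.mul_one]
  rw [map_mul, ev_ev, ev_ev, whiskerLeft_fst, whiskerLeft_snd, hh, AlgHom.commutes] at h2
  have e : fst G X = lift (fst G X) (lift (toUnit (G ⊗ X) ≫ η[G]) (snd G X)) ≫ fst G (G ⊗ X) := by simp
  have h3 : ev (fst G X) g * algebraMap k _ (evPt η[G] g)⁻¹ = 1 := h2
  -- remove the spare factor through a rational point
  obtain ⟨x₀⟩ := exists_point X
  have h4 := congrArg (ev (lift (𝟙 G) (toUnit G ≫ x₀))) h3
  rw [map_mul, ev_ev, lift_fst, ev_id, AlgHom.commutes, map_one] at h4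
  rw [hh, AlgHom.commutes]
  have h5 := congrArg (ev (fst G (G ⊗ X))) h4
  rw [map_mul, AlgHom.commutes, map_one] at h5
  exact h5

omit [IsAlgClosed k] [IsAffine G.left] [Smooth G.hom] [ConnectedSpace ↥G.left] [IsIntegral X.left]
  [IsSeparated X.hom] [LocallyOfFiniteType X.hom] [QuasiCompact X.hom] in
theorem isPullback_whisker {A B : Over (Spec (CommRingCat.of k))} (f : A ⟶ B) :
    IsPullback (G ◁ f).left (snd G A).left (snd G B).left f.left := by
  have h : IsPullback (G ◁ f) (snd G A) (snd G B) f := by
    refine IsPullback.of_isLimit' ⟨whiskerLeft_snd _ _⟩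
      (PullbackCone.IsLimit.mk _ (fun s => lift (s.fst ≫ fst G B) s.snd) (fun s => ?_) (fun s => ?_) fun s m h1 h2 => ?_)
    · apply CartesianMonoidalCategory.hom_ext
      · simp
      · simpa using s.condition.symm
    · simp
    · apply CartesianMonoidalCategory.hom_ext
      · simp only [lift_fst, ← h1, Category.assoc, whiskerLeft_fst]
      · simpa using h2
  exact h.map (Over.forget _)

/-- **Descent of classes trivial on an orbit.** -/
theorem exists_descent_of_orbit (hX : Pi1.IsNormalScheme X.left) [IsSeparated Y.hom] [LocallyOfFiniteType Y.hom]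
    (a : AlgGrp.Action G X) (f : X ⟶ Y) [Flat f.left] [Surjective f.left]
    (hsq : IsPullback a.act.left (snd G X).left f.left f.left) (x : PT ⟶ X) {c : PicF.Cl X.left}
    (hc : PicF.IsInvertibleCl c) (hx : PicF.pullCl (a.orbitMap x).left c = 1) :
    ∃ d : PicF.Cl Y.left, PicF.IsInvertibleCl d ∧ PicF.pullCl f.left d = c := by
  obtain ⟨d₁, hd₁, hact⟩ := LinPicInv.exists_act_eq hX a hc
  have hd : d₁ = 1 := by
    have h := congrArg (PicF.pullCl (lift (𝟙 G) (toUnit G ≫ x)).left) hact
    rw [pullCl_mul, ← PicLoc.pullCl_comp, ← PicLoc.pullCl_comp, ← PicLoc.pullCl_comp, ← Over.comp_left,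
      ← Over.comp_left, ← Over.comp_left, lift_fst, lift_snd, Over.id_left, PicLoc.pullCl_id] at h
    rw [show (toUnit G ≫ x).left = (toUnit G).left ≫ x.left from rfl, PicLoc.pullCl_comp (toUnit G).left,
      RatPicProd.cl_trivial_of_field (PicLoc.isInvertibleCl_pullCl x.left hc), pullCl_one, _root_.mul_one] at h
    exact h.symm.trans hx
  rw [hd, pullCl_one, _root_.one_mul] at hact
  obtain ⟨L, rfl, hL⟩ := hc
  obtain ⟨φ⟩ : Nonempty ((Scheme.Modules.pullback a.act.left).obj L ≅ (Scheme.Modules.pullback (snd G X).left).obj L) :=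
    cl_eq_iff.1 hact
  haveI : IsLocallyNoetherian Y.left := LocallyOfFiniteType.isLocallyNoetherian Y.hom
  haveI : LocallyOfFiniteType f.left := by
    haveI : LocallyOfFiniteType (f.left ≫ Y.hom) := by rw [Over.w f]; infer_instance
    exact locallyOfFiniteType_of_comp f.left Y.hom
  haveI : LocallyOfFinitePresentation f.left := inferInstance
  have hW : IsPullback (G ◁ a.act).left (snd G (G ⊗ X)).left (snd G X).left a.act.left := isPullback_whisker a.act
  obtain ⟨M, hM, ⟨e⟩⟩ := TorsorPicDescent.exists_descent' hsq hL φ hW fun D h1 h2 => by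
    refine Units.ext (fn_rigid (D : Fn (G ⊗ (G ⊗ X))) D.isUnit ?_ ?_)
    · refine congrArg Units.val (h1 _ (unitSec (G := G) (G ⊗ X)).left ?_)
      simp only [← Over.comp_left]
      congr 1
      have e : unitSec (G := G) (G ⊗ X) ≫ (G ◁ a.act) = a.act ≫ unitSec (G := G) X := by
        apply CartesianMonoidalCategory.hom_ext <;> simp [unitSec]
      rw [reassoc_of% e, unitSec_act, reassoc_of% e, Category.comp_id]
      simp [unitSec]
    · refine congrArg Units.val (h2 _ (G ◁ unitSec (G := G) X).left ?_)
      simp only [← Over.comp_left]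
      congr 1
      have e : (G ◁ unitSec (G := G) X) ≫ snd G (G ⊗ X) = snd G X ≫ unitSec (G := G) X := whiskerLeft_snd _ _
      rw [reassoc_of% e, reassoc_of% e, unitSec_act, Category.comp_id]
      simp [unitSec]
  exact ⟨PicF.cl M, ⟨M, rfl, hM⟩, cl_eq_iff.2 ⟨e⟩⟩

omit [IsAffine G.left] [Smooth G.hom] [ConnectedSpace ↥G.left] in
/-- Classes from the base are trivial on orbits. -/
theorem pullCl_orbit_of_base (a : AlgGrp.Action G X) (f : X ⟶ Y)
    (hsq : IsPullback a.act.left (snd G X).left f.left f.left) (x : PT ⟶ X) {d : PicF.Cl Y.left}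
    (hd : PicF.IsInvertibleCl d) : PicF.pullCl (a.orbitMap x).left (PicF.pullCl f.left d) = 1 := by
  have h : a.orbitMap x ≫ f = toUnit G ≫ (x ≫ f) := by
    apply Over.OverMorphism.ext
    show ((lift (𝟙 G) (toUnit G ≫ x) ≫ a.act) ≫ f).left = _
    rw [Over.comp_left, Over.comp_left, Category.assoc, hsq.w, ← Category.assoc, ← Over.comp_left, lift_snd,
      Over.comp_left, Over.comp_left, Over.comp_left, Category.assoc]
  rw [← PicLoc.pullCl_comp, ← Over.comp_left, h, Over.comp_left, PicLoc.pullCl_comp,
    RatPicProd.cl_trivial_of_field (PicLoc.isInvertibleCl_pullCl (x ≫ f).left hd), pullCl_one]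

end Groth.Agent.AGFLib.TorsorPicExact
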