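import Groth.Agent.GrpSchLib.TorsorDevissage
import Groth.Agent.GrpSchLib.MultTypeBC
import Groth.Agent.GrpSchLib.HomSplitLocal
import Groth.Agent.GrpSchLib.RankOneBase
import Groth.Agent.HomRepLib.DiagHom
import Groth.Agent.MultTypeExt.Main

/-!
Zariski local Hilbert 90 under isomorphisms and for split tori, and the devissage step for torsors under a possibly
noncommutative extension of a commutative group with Hilbert 90.
-/

set_option autoImplicit false
set_option backward.isDefEq.respectTransparency.types false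
set_option linter.style.haveILetI false
set_option maxHeartbeats 1000000

universe u

open CategoryTheory CategoryTheory.Limits MonoidalCategory CartesianMonoidalCategory MonObj GrpObj AlgebraicGeometry
open scoped TensorProduct

namespace Groth.Agent.AGFLib.TorsorStep

open Groth.Agent.CechTorsorX Groth.Agent.CechTorsorX.ZariskiTriv Groth.Agent.SchTorsor
open Groth.Agent.GmH1Lib.Hilbert90 Groth.Agent.CechTorsorX.SchBoundary

variable {S : Scheme.{u}}

/-- Hilbert 90 is invariant under isomorphisms of groups. -/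
theorem localH90_of_iso {G H : Over S} [GrpObj G] [GrpObj H] (e : Grp.mk G ≅ Grp.mk H) (h : LocalH90 H) :
    LocalH90 G := by
  intro R A _ _ _ _ j g hc p
  let a : G ≅ H := (Grp.forget _).mapIso e
  haveI : IsMonHom a.hom := e.hom.hom.isMonHom_hom
  haveI : IsMonHom a.inv := e.inv.hom.isMonHom_hom
  obtain ⟨f, hf, b, hb⟩ := h R A j (g ≫ a.hom) (by
    rw [← Category.assoc, hc, MonObj.mul_comp, Category.assoc, Category.assoc]) p
  refine ⟨f, hf, b ≫ a.inv, ?_⟩
  rw [← Category.assoc, hb, MonObj.mul_comp]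
  simp only [Category.assoc, Iso.hom_inv_id, Category.comp_id]

section Refine

variable {R A : Type u} [CommRing R] [CommRing A] [Algebra R A]

/-- The map of localisations when `f` divides `f'`. -/
noncomputable def locMap {f f' : R} (h : f ∣ f') : Localization.Away f →ₐ[R] Localization.Away f' :=
  IsLocalization.liftAlgHom (M := Submonoid.powers f) (f := Algebra.ofId R (Localization.Away f')) fun y => by
    obtain ⟨n, hn⟩ := y.2
    rw [← hn, map_pow]
    exact IsUnit.pow n (isUnit_of_dvd_unit (map_dvd _ h) (IsLocalization.Away.algebraMap_isUnit f'))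

/-- Solutions of the cocycle equation restrict to smaller principal opens. -/
theorem exists_refine {G : Over S} [GrpObj G] {j : Spec (CommRingCat.of R) ⟶ S} (g : sp j (A ⊗[R] A) ⟶ G)
    {f f' : R} (h : f ∣ f') (b : sp j (CC R A f) ⟶ G)
    (hb : sh (B := CC R A f) (C := CC R A f ⊗[R] CC R A f) (cL R A f) ≫ b =
      (sh (B := A ⊗[R] A) (C := CC R A f ⊗[R] CC R A f) (Algebra.TensorProduct.map (cι R A f) (cι R A f)) ≫ g) *
        (sh (B := CC R A f) (C := CC R A f ⊗[R] CC R A f) (cR R A f) ≫ b)) :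
    ∃ b' : sp j (CC R A f') ⟶ G, sh (B := CC R A f') (C := CC R A f' ⊗[R] CC R A f') (cL R A f') ≫ b' =
      (sh (B := A ⊗[R] A) (C := CC R A f' ⊗[R] CC R A f') (Algebra.TensorProduct.map (cι R A f') (cι R A f')) ≫ g) *
        (sh (B := CC R A f') (C := CC R A f' ⊗[R] CC R A f') (cR R A f') ≫ b') := by
  let Φ : CC R A f →ₐ[R] CC R A f' := Algebra.TensorProduct.map (locMap h) (AlgHom.id R A)
  let Ψ : CC R A f ⊗[R] CC R A f →ₐ[R] CC R A f' ⊗[R] CC R A f' := Algebra.TensorProduct.map Φ Φ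
  refine ⟨sh Φ ≫ b, ?_⟩
  have e1 : Ψ.comp (cL R A f) = (cL R A f').comp Φ := by
    refine AlgHom.ext fun x => ?_
    show Φ x ⊗ₜ Φ 1 = Φ x ⊗ₜ 1
    rw [map_one]
  have e2 : Ψ.comp (cR R A f) = (cR R A f').comp Φ := by
    refine AlgHom.ext fun x => ?_
    show Φ 1 ⊗ₜ Φ x = 1 ⊗ₜ Φ x
    rw [map_one]
  have e3 : Ψ.comp (Algebra.TensorProduct.map (cι R A f) (cι R A f)) =
      Algebra.TensorProduct.map (cι R A f') (cι R A f') := by
    refine Algebra.TensorProduct.ext' fun x y => ?_
    simp [Ψ, Φ]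
  have := congrArg (sh (j := j) (B := CC R A f ⊗[R] CC R A f) (C := CC R A f' ⊗[R] CC R A f') Ψ ≫ ·) hb
  simp only [MonObj.comp_mul] at this
  rw [← Category.assoc, ← Category.assoc, ← Category.assoc, sh_comp, sh_comp, sh_comp, e1, e2, e3] at this
  rw [← Category.assoc, ← Category.assoc, sh_comp, sh_comp]
  exact this

end Refine

/-- Points of a split torus agree if their coordinates agree. -/
theorem ds_ext {r : ℕ} {X : Over S} {x y : X ⟶ Red.DS S (Fin r → ℤ)}
    (h : ∀ i, x ≫ Red.chi S (Pi.single i (1 : ℤ)) = y ≫ Red.chi S (Pi.single i (1 : ℤ))) : x = y := by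
  refine HomRepLib.ev_ext fun m => ?_
  let φ : ∀ z : X ⟶ Red.DS S (Fin r → ℤ), (Fin r → ℤ) →+ Additive Γ(X.left, ⊤) := fun z =>
    { toFun := fun m => Additive.ofMul (HomRepLib.ev z m)
      map_zero' := congrArg Additive.ofMul (HomRepLib.ev_zero z)
      map_add' := fun a b => congrArg Additive.ofMul (HomRepLib.ev_add z a b) }
  have key : φ x = φ y := AddMonoidHom.functions_ext' _ _ _ fun i => AddMonoidHom.ext_int (by
    show Additive.ofMul (HomRepLib.ev x (Pi.single i (1 : ℤ))) = Additive.ofMul (HomRepLib.ev y (Pi.single i (1 : ℤ)))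
    rw [← HomRepLib.gmFn_chi, ← HomRepLib.gmFn_chi, h i])
  exact congrArg Additive.toMul (DFunLike.congr_fun key m)

/-- A point of a split torus with prescribed coordinates. -/
theorem ds_exists {r : ℕ} {X : Over S} (b : Fin r → (X ⟶ Red.Gm S)) :
    ∃ x : X ⟶ Red.DS S (Fin r → ℤ), ∀ i, x ≫ Red.chi S (Pi.single i (1 : ℤ)) = b i := by
  classical
  let w : Fin r → Γ(X.left, ⊤)ˣ := fun i => (GmPts.isUnit_gmFn (b i)).unit
  let χ : Multiplicative (Fin r → ℤ) →* Γ(X.left, ⊤)ˣ :=
    { toFun := fun m => ∏ i, w i ^ Multiplicative.toAdd m i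
      map_one' := by simp
      map_mul' := fun a c => by simp [zpow_add, Finset.prod_mul_distrib] }
  obtain ⟨x, hx⟩ := HomRepLib.exists_ev (S := S) (X := X) ((Units.coeHom _).comp χ)
  refine ⟨x, fun i => GmPts.gmFn_injective ?_⟩
  beta_reduce
  rw [HomRepLib.gmFn_chi, hx]
  simp [χ, w, Pi.single_apply, Finset.prod_ite_eq']

/-- Hilbert 90 applied to the image of a cocycle. -/
theorem localH90_comp {R A : Type u} [CommRing R] [CommRing A] [Algebra R A] [Module.FaithfullyFlat R A]
    {j : Spec (CommRingCat.of R) ⟶ S} {G H : Over S} [GrpObj G] [GrpObj H] (h : LocalH90 H) (v : G ⟶ H) [IsMonHom v]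
    (g : sp j (A ⊗[R] A) ⟶ G)
    (hc : sh (p02 R A) ≫ g = (sh (p01 R A) ≫ g) * (sh (p12 R A) ≫ g)) (p : PrimeSpectrum R) :
    ∃ f : R, f ∉ p.asIdeal ∧ ∃ b : sp j (CC R A f) ⟶ H,
      sh (B := CC R A f) (C := CC R A f ⊗[R] CC R A f) (cL R A f) ≫ b =
        (sh (B := A ⊗[R] A) (C := CC R A f ⊗[R] CC R A f)
            (Algebra.TensorProduct.map (cι R A f) (cι R A f)) ≫ g ≫ v) *
          (sh (B := CC R A f) (C := CC R A f ⊗[R] CC R A f) (cR R A f) ≫ b) :=
  h R A j (g ≫ v) (by rw [← Category.assoc, hc, MonObj.mul_comp, Category.assoc, Category.assoc]) p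

/-- Hilbert 90 applied to a character of a cocycle. -/
theorem localH90_chi {R A : Type u} [CommRing R] [CommRing A] [Algebra R A] [Module.FaithfullyFlat R A]
    {j : Spec (CommRingCat.of R) ⟶ S} {M : Type} [AddCommGroup M] (m : M)
    (g : sp j (A ⊗[R] A) ⟶ Red.DS S M)
    (hc : sh (p02 R A) ≫ g = (sh (p01 R A) ≫ g) * (sh (p12 R A) ≫ g)) (p : PrimeSpectrum R) :
    ∃ f : R, f ∉ p.asIdeal ∧ ∃ b : sp j (CC R A f) ⟶ Red.Gm S,
      sh (B := CC R A f) (C := CC R A f ⊗[R] CC R A f) (cL R A f) ≫ b =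
        (sh (B := A ⊗[R] A) (C := CC R A f ⊗[R] CC R A f)
            (Algebra.TensorProduct.map (cι R A f) (cι R A f)) ≫ g ≫ Red.chi S m) *
          (sh (B := CC R A f) (C := CC R A f ⊗[R] CC R A f) (cR R A f) ≫ b) :=
  haveI := HomRepLib.isMonHom_chi (S := S) m
  localH90_comp (G := Red.DS S M) (H := Red.Gm S) GaGmH90.localH90_gm (Red.chi S m) g hc p

/-- Hilbert 90 for a diagonalisable group whose points are given by finitely many coordinates. -/
theorem localH90_coords {M : Type} [AddCommGroup M] {r : ℕ} (e : Fin r → M)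
    (hext : ∀ {X : Over S} {x y : X ⟶ Red.DS S M}, (∀ i, x ≫ Red.chi S (e i) = y ≫ Red.chi S (e i)) → x = y)
    (hex : ∀ {X : Over S} (b : Fin r → (X ⟶ Red.Gm S)), ∃ x : X ⟶ Red.DS S M, ∀ i, x ≫ Red.chi S (e i) = b i) :
    LocalH90 (Red.DS S M) := by
  intro R A _ _ _ _ j g hc p
  choose f hf b hb using fun i => localH90_chi (e i) g hc p
  choose b' hb' using fun i => exists_refine (g ≫ Red.chi S (e i))
    (Finset.dvd_prod_of_mem f (Finset.mem_univ i)) (b i) (hb i)
  obtain ⟨x, hx⟩ := hex b'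
  refine ⟨∏ i, f i, ?_, x, hext fun i => ?_⟩
  · intro hmem
    obtain ⟨i, -, hi⟩ := (Ideal.IsPrime.prod_mem_iff (hp := p.isPrime)).mp hmem
    exact hf i hi
  · rw [HomRepLib.chi_mul]
    simp only [Category.assoc]
    rw [hx i]
    exact hb' i

/-- Hilbert 90 for split tori. -/
theorem localH90_ds (r : ℕ) : LocalH90 (Red.DS S (Fin r → ℤ)) :=
  localH90_coords (M := Fin r → ℤ) (fun i => Pi.single i (1 : ℤ)) (fun h => ds_ext h) fun b => ds_exists b

/-- A torsor dying along `v` comes from the kernel; the middle group need not be commutative. -/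
theorem exists_kernel_torsor {S : Scheme.{u}} {G G' G'' : Over S} [GrpObj G] [GrpObj G'] [GrpObj G'']
    [IsCommMonObj G''] {u : G' ⟶ G} {v : G ⟶ G''} (hex : NonAbH1.IsExactSeq Scheme.fpqcPrecoverage u v)
    (P : NonAbH1.TorsorSch G Scheme.fpqcPrecoverage)
    (hP : NonAbH1.IsPushforwardAlongSch v P.act (NonAbH1.trivialAction G'')) :
    ∃ Q : NonAbH1.TorsorSch G' Scheme.fpqcPrecoverage, NonAbH1.IsPushforwardAlongSch u Q.act P.act := by
  haveI : IsMonHom u := hex.1
  haveI : IsMonHom v := hex.2.1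
  obtain ⟨ψ, hψ⟩ := hP
  have hpt : ∀ {T : Over S} (g : T ⟶ G) (p : T ⟶ P.X),
      (lift g p ≫ P.act.act) ≫ ψ = (g ≫ v) * (p ≫ ψ) := by
    intro T g p
    have h := congrArg (lift g p ≫ ·) hψ
    simp only [comp_lift_assoc, lift_fst_assoc, lift_snd_assoc] at h
    rw [act_trivial] at h
    rw [Category.assoc]; exact h
  let X := pullback ψ η[G'']
  let inc : X ⟶ P.X := pullback.fst ψ η[G'']
  have hinc : ∀ {T : Over S} (x : T ⟶ X), (x ≫ inc) ≫ ψ = 1 := fun x => by
    rw [Category.assoc, pullback.condition, Hom.one_def, ← Category.assoc]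
    congr 1
    exact toUnit_unique _ _
  have mono : ∀ {T : Over S} (x y : T ⟶ X), x ≫ inc = y ≫ inc → x = y := fun x y h =>
    pullback.hom_ext h (toUnit_unique _ _)
  let act : G' ⊗ X ⟶ X := pullback.lift (lift (fst G' X ≫ u) (snd G' X ≫ inc) ≫ P.act.act) (toUnit _) (by
    rw [hpt, u_v hex, hinc, _root_.mul_one, Hom.one_def])
  have hact : ∀ {T : Over S} (g : T ⟶ G') (x : T ⟶ X),
      (lift g x ≫ act) ≫ inc = lift (g ≫ u) (x ≫ inc) ≫ P.act.act := fun g x => by
    rw [Category.assoc, pullback.lift_fst, comp_lift_assoc, lift_fst_assoc, lift_snd_assoc]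
  let a : AlgGrp.Action G' X :=
    { act := act
      one_act := mono _ _ (by
        have e : η[G'] ▷ X = lift (1 : 𝟙_ (Over S) ⊗ X ⟶ G') (snd _ _) := by
          refine CartesianMonoidalCategory.hom_ext _ _ ?_ ?_
          · rw [whiskerRight_fst, lift_fst, Hom.one_def]
            congr 1
          · simp
        rw [e, hact, MonObj.one_comp, one_act_pt, leftUnitor_hom])
      mul_act := mono _ _ (by
        let g₁ : (G' ⊗ G') ⊗ X ⟶ G' := fst _ _ ≫ fst G' G'
        let g₂ : (G' ⊗ G') ⊗ X ⟶ G' := fst _ _ ≫ snd G' G'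
        let x : (G' ⊗ G') ⊗ X ⟶ X := snd _ _
        have e1 : μ[G'] ▷ X = lift (g₁ * g₂) x := by
          refine CartesianMonoidalCategory.hom_ext _ _ ?_ ?_
          · rw [whiskerRight_fst, lift_fst, Hom.mul_def, ← comp_lift, lift_fst_snd, Category.comp_id]
          · simp [x]
        have e2 : (α_ G' G' X).hom ≫ (G' ◁ act) = lift g₁ (lift g₂ x ≫ act) := by
          refine CartesianMonoidalCategory.hom_ext _ _ ?_ ?_
          · simp [g₁]
          · rw [Category.assoc, whiskerLeft_snd, lift_snd, ← Category.assoc]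
            congr 1
            refine CartesianMonoidalCategory.hom_ext _ _ ?_ ?_ <;> simp [g₂, x]
        rw [e1, ← Category.assoc (α_ G' G' X).hom, e2, hact, hact, hact, MonObj.mul_comp, act_assoc]) }
  have hdiv : ∀ {T : Over S} (x y : T ⟶ X), ∃ g : T ⟶ G', lift g y ≫ act = x := fun x y => by
    obtain ⟨h, hh⟩ := exists_div P.isTorsor.1 (x ≫ inc) (y ≫ inc)
    have hv1 : h ≫ v = 1 := by
      have := congrArg (· ≫ ψ) hh
      simp only [hpt, hinc, _root_.mul_one] at this
      exact this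
    obtain ⟨g, hg⟩ := exists_diff hex 1 h (by rw [MonObj.one_comp, hv1])
    rw [_root_.one_mul] at hg
    exact ⟨g, mono _ _ (by rw [hact, hg, hh])⟩
  have hfree : ∀ {T : Over S} (g h : T ⟶ G') (y : T ⟶ X), lift g y ≫ act = lift h y ≫ act → g = h :=
    fun g h y e => u_inj hex (act_free P.isTorsor.1 (by rw [← hact, ← hact, e]))
  have hps : NonAbH1.IsPseudoTorsorSch a := by
    obtain ⟨g, hg⟩ := hdiv (fst X X) (snd X X)
    refine ⟨lift g (snd X X), ?_, ?_⟩
    · refine CartesianMonoidalCategory.hom_ext _ _ ?_ ?_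
      · rw [Category.assoc, lift_fst, Category.id_comp]
        refine hfree _ _ (snd G' X) ?_
        have := congrArg (lift a.act (snd G' X) ≫ ·) hg
        simp only [comp_lift_assoc, lift_fst, lift_snd] at this
        rw [this, lift_fst_snd, Category.id_comp]
      · simp
    · refine CartesianMonoidalCategory.hom_ext _ _ ?_ ?_
      · rw [Category.assoc, lift_fst, hg, Category.id_comp]
      · simp
  have hlt : NonAbH1.IsLocallyTrivialFor Scheme.fpqcPrecoverage X := by
    refine isLocallyTrivial_lift P.isTorsor.2 v hex.2.2.2.2 ψ fun T p y hy => ?_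
    refine ⟨pullback.lift (lift y⁻¹ p ≫ P.act.act) (toUnit T) ?_⟩
    rw [hpt, GrpObj.inv_comp, hy, inv_mul_cancel, Hom.one_def]
  refine ⟨⟨X, a, hps, hlt⟩, inc, ?_⟩
  show act ≫ inc = _
  exact pullback.lift_fst _ _ _

variable {K : Type u} [Field K]

/-- Every fpqc torsor under `G` has a rational point. -/
def HasPt (G : Over (Spec (CommRingCat.of K))) [GrpObj G] : Prop :=
  ∀ P : NonAbH1.TorsorSch G Scheme.fpqcPrecoverage, Nonempty (𝟙_ (Over (Spec (CommRingCat.of K))) ⟶ P.X)

variable {k : Type u} [Field k] (σ : Spec (CommRingCat.of K) ⟶ Spec (CommRingCat.of k))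

/-- The devissage step after base change to a field. -/
theorem hasPt_step {N B Q : Over (Spec (CommRingCat.of k))} [GrpObj N] [GrpObj B] [GrpObj Q] [IsCommMonObj Q]
    [LocallyOfFiniteType B.hom] [LocallyOfFiniteType Q.hom] (i : N ⟶ B) [IsMonHom i] (v : B ⟶ Q) [IsMonHom v]
    [Surjective v.left] [Flat v.left] (hk : AlgGrp.IsKernel i v) (hQ : LocalH90 (Red.bc σ Q))
    (hN : HasPt (Red.bc σ N)) : HasPt (Red.bc σ B) := by
  intro P
  let i' : Red.bc σ N ⟶ Red.bc σ B := (Over.pullback σ).map i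
  let v' : Red.bc σ B ⟶ Red.bc σ Q := (Over.pullback σ).map v
  haveI : IsMonHom i' := (inferInstance : IsMonHom ((Over.pullback σ).map i))
  haveI : IsMonHom v' := (inferInstance : IsMonHom ((Over.pullback σ).map v))
  haveI : IsCommMonObj (Red.bc σ Q) := GrpSchLib.RankOne.isCommMonObj_bc σ Q
  haveI : Surjective v'.left :=
    MorphismProperty.of_isPullback (P := @Surjective) (GrpSchLib.HomSplitLocal.isPullback_map v σ) inferInstance
  haveI : Flat v'.left :=
    MorphismProperty.of_isPullback (P := @Flat) (GrpSchLib.HomSplitLocal.isPullback_map v σ) inferInstance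
  haveI : LocallyOfFiniteType (Red.bc σ B).hom := inferInstanceAs (LocallyOfFiniteType (pullback.snd _ _))
  haveI : LocallyOfFiniteType (Red.bc σ Q).hom := inferInstanceAs (LocallyOfFiniteType (pullback.snd _ _))
  have hex := GrpSchLib.TorsorDevissage.isExactSeq i' v' (MultTypeExt.isKernel_bc σ hk)
  obtain ⟨P', φ, -⟩ := exists_kernel_torsor hex P
    (GrpSchLib.TorsorDevissage.exists_equivariant hQ v' P.act P.isTorsor)
  obtain ⟨x⟩ := hN P'
  exact ⟨x ≫ φ⟩

/-- A trivial group. -/
theorem hasPt_trivial {G : Over (Spec (CommRingCat.of k))} [GrpObj G] (hG : Red.IsTrivialGrp G) :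
    HasPt (Red.bc σ G) := by
  refine GrpSchLib.TorsorDevissage.nonempty_of_trivial ?_
  haveI : IsIso G.hom := hG
  exact inferInstanceAs (IsIso (pullback.snd G.hom σ))

end Groth.Agent.AGFLib.TorsorStep
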